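import Cfsg.Agent.Lib.M24Nse65.Coord

/-!
Conjugation of the conjugates of `A` and elementary consequences of `Local` and `Orbits`.
-/

set_option autoImplicit false
set_option linter.unusedSectionVars false

namespace Cfsg.Agent.Lib.M24Nse65

universe u

variable {G : Type u} [Group G] {A : Subgroup G}

theorem mem_cj {g x : G} {H : Subgroup G} : x ∈ cj g H ↔ g⁻¹ * x * g ∈ H := by
  constructor
  · rintro ⟨y, hy, rfl⟩
    simpa [MulAut.conj_apply, mul_assoc] using hy
  · intro h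
    exact ⟨g⁻¹ * x * g, h, by simp [MulAut.conj_apply, mul_assoc]⟩

theorem cj_one (H : Subgroup G) : cj 1 H = H := by
  ext x; simp [mem_cj]

theorem cj_cj (g h : G) (H : Subgroup G) : cj g (cj h H) = cj (g * h) H := by
  ext x; simp [mem_cj, mul_assoc]

theorem cj_inj {g : G} {H K : Subgroup G} (h : cj g H = cj g K) : H = K := by
  have := congrArg (cj g⁻¹) h
  rwa [cj_cj, cj_cj, inv_mul_cancel, cj_one, cj_one] at this

theorem cj_inv_eq {g : G} {H K : Subgroup G} (h : cj g H = K) : cj g⁻¹ K = H := by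
  rw [← h, cj_cj, inv_mul_cancel, cj_one]

theorem mem_norm_iff {g : G} {H : Subgroup G} :
    g ∈ Subgroup.normalizer (H : Set G) ↔ cj g H = H := by
  constructor
  · intro h
    ext x
    rw [mem_cj]
    exact (Subgroup.mem_normalizer_iff''.1 h x).symm
  · intro h
    rw [Subgroup.mem_normalizer_iff'']
    intro x
    conv_rhs => rw [← mem_cj, h]

theorem mem_norm_cj {g x : G} {H : Subgroup G} :
    x ∈ Subgroup.normalizer (cj g H : Set G) ↔
      g⁻¹ * x * g ∈ Subgroup.normalizer (H : Set G) := by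
  rw [mem_norm_iff, mem_norm_iff, cj_cj]
  constructor
  · intro h
    have := congrArg (cj g⁻¹) h
    simpa [cj_cj, cj_one, mul_assoc] using this
  · intro h
    have := congrArg (cj g) h
    simpa [cj_cj, mul_assoc] using this

theorem cj_inf_norm (g : G) (H K : Subgroup G) :
    cj g H ⊓ Subgroup.normalizer (cj g K : Set G) = cj g (H ⊓ Subgroup.normalizer (K : Set G)) := by
  ext x
  simp only [Subgroup.mem_inf, mem_cj, mem_norm_cj]

theorem rk_cj (g : G) (H K : Subgroup G) : rk (cj g H) (cj g K) = rk H K := by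
  unfold rk
  rw [cj_inf_norm]
  exact Nat.card_congr ((H ⊓ Subgroup.normalizer (K : Set G)).equivMapOfInjective _
    (MulAut.conj g).injective).toEquiv.symm

theorem self_mem_conjs : A ∈ Conjs A := ⟨1, (cj_one A).symm⟩

theorem cj_mem_conjs {g : G} {B : Subgroup G} (hB : B ∈ Conjs A) : cj g B ∈ Conjs A := by
  obtain ⟨h, rfl⟩ := hB
  exact ⟨g * h, cj_cj g h A⟩

/-- The relation of rank `r` between two conjugates. -/
def Rel (A : Subgroup G) (r : ℕ) (P Q : Subgroup G) : Prop :=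
  P ∈ Conjs A ∧ Q ∈ Conjs A ∧ P ≠ Q ∧ rk P Q = r

theorem rel_cj {r : ℕ} {P Q : Subgroup G} (g : G) (h : Rel A r P Q) :
    Rel A r (cj g P) (cj g Q) :=
  ⟨cj_mem_conjs h.1, cj_mem_conjs h.2.1, fun e => h.2.2.1 (cj_inj e), (rk_cj g P Q).trans h.2.2.2⟩

theorem rel_to_base (O : Orbits A) {r : ℕ} {P Q : Subgroup G} (h : Rel A r P Q) :
    r = 1 ∨ r = 4 ∨ r = 8 := by
  obtain ⟨g, rfl⟩ := h.1
  have h' := rel_cj g⁻¹ h
  rw [cj_cj, inv_mul_cancel, cj_one] at h'
  have := O.rk_mem _ h'.2.1 (Ne.symm h'.2.2.1)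
  rw [h'.2.2.2] at this
  simpa using this

theorem rel_symm (O : Orbits A) {r : ℕ} {P Q : Subgroup G} (h : Rel A r P Q) :
    Rel A r Q P := by
  refine ⟨h.2.1, h.1, Ne.symm h.2.2.1, ?_⟩
  obtain ⟨g, rfl⟩ := h.1
  have h' := rel_cj g⁻¹ h
  rw [cj_cj, inv_mul_cancel, cj_one] at h'
  have := O.rk_symm _ h'.2.1 (Ne.symm h'.2.2.1)
  rw [← rk_cj g⁻¹, cj_cj, inv_mul_cancel, cj_one, this, h'.2.2.2]

theorem rel_A {r : ℕ} {B : Subgroup G} :
    Rel A r A B ↔ B ∈ Conjs A ∧ B ≠ A ∧ rk A B = r :=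
  ⟨fun h => ⟨h.2.1, Ne.symm h.2.2.1, h.2.2.2⟩, fun h => ⟨self_mem_conjs, h.1, Ne.symm h.2.1, h.2.2⟩⟩

theorem rel_unique {r s : ℕ} {P Q : Subgroup G} (h : Rel A r P Q) (h' : Rel A s P Q) : r = s :=
  h.2.2.2.symm.trans h'.2.2.2

theorem norm_cj_A {g : G} (hg : g ∈ Subgroup.normalizer (A : Set G)) : cj g A = A :=
  mem_norm_iff.1 hg

theorem norm_of_mem {a : G} (ha : a ∈ A) : a ∈ Subgroup.normalizer (A : Set G) :=
  Subgroup.le_normalizer ha

theorem comm_of_mem (L : Local A) {a b : G} (ha : a ∈ A) (hb : b ∈ A) : a * b = b * a := by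
  have h1 := L.sq _ (A.mul_mem ha hb)
  have h2 := L.sq _ ha
  have h3 := L.sq _ hb
  calc a * b = a * ((a * b) * (a * b)) * b := by rw [h1, mul_one]
    _ = (a * a) * (b * a) * (b * b) := by simp only [mul_assoc]
    _ = b * a := by rw [h2, h3, one_mul, mul_one]

theorem inv_of_mem (L : Local A) {a : G} (ha : a ∈ A) : a⁻¹ = a :=
  inv_eq_of_mul_eq_one_right (L.sq a ha)

/-- Distinct conjugates meet trivially. -/
theorem disjoint_conjs (L : Local A) {P Q : Subgroup G} (hP : P ∈ Conjs A) (hQ : Q ∈ Conjs A)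
    (hne : P ≠ Q) {x : G} (hxP : x ∈ P) (hxQ : x ∈ Q) : x = 1 := by
  by_contra hx
  obtain ⟨g, rfl⟩ := hP
  obtain ⟨h, rfl⟩ := hQ
  have hg := mem_cj.1 hxP
  have hh := mem_cj.1 hxQ
  have hn : h⁻¹ * g ∈ Subgroup.normalizer (A : Set G) := by
    refine L.ti (h⁻¹ * g) (g⁻¹ * x * g) hg ?_ ?_
    · simpa [mul_assoc] using hh
    · intro e
      apply hx
      calc x = g * (g⁻¹ * x * g) * g⁻¹ := by group
        _ = 1 := by rw [e]; group
  refine hne ?_
  have := congrArg (cj h) (norm_cj_A hn)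
  simpa [cj_cj] using this

/-- The subgroup of `A` fixing a conjugate. -/
def fixA (A B : Subgroup G) : Subgroup G := A ⊓ Subgroup.normalizer (B : Set G)

theorem mem_fixA {B : Subgroup G} {x : G} : x ∈ fixA A B ↔ x ∈ A ∧ cj x B = B := by
  rw [fixA, Subgroup.mem_inf, mem_norm_iff]

theorem fixA_cj {n : G} (hn : n ∈ Subgroup.normalizer (A : Set G)) (B : Subgroup G) :
    fixA A (cj n B) = cj n (fixA A B) := by
  rw [fixA, fixA, ← cj_inf_norm n A B, norm_cj_A hn]

variable (C : Coord A)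

theorem Coord.e_zero : C.e 0 = 1 := by
  have h := C.mul 0 0 (by norm_num) (by norm_num)
  exact left_eq_mul.1 h

theorem Coord.e_norm {v : ℕ} (hv : v < 16) : C.e v ∈ Subgroup.normalizer (A : Set G) :=
  norm_of_mem (C.mem v hv)

theorem Coord.gen_norm (j : ℕ) : C.gen j ∈ Subgroup.normalizer (A : Set G) := by
  unfold Coord.gen
  split_ifs
  · exact C.e_norm (by norm_num)
  · exact C.k_norm _ (by decide +kernel)
  · exact C.k_norm _ (by decide +kernel)

theorem Coord.cj_e_fix {v : ℕ} (hv : v < 16) {B : Subgroup G} :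
    cj (C.e v) B = B ↔ C.e v ∈ fixA A B := by
  rw [mem_fixA]
  exact ⟨fun h => ⟨C.mem v hv, h⟩, And.right⟩

/-- The element spelled by a word in the generators. -/
def Coord.ev : List ℕ → G
  | [] => 1
  | j :: w => C.gen j * Coord.ev w

theorem Coord.ev_nil : C.ev [] = 1 := by rw [Coord.ev.eq_1]

theorem Coord.ev_cons (j : ℕ) (w : List ℕ) : C.ev (j :: w) = C.gen j * C.ev w := by
  rw [Coord.ev.eq_2]

theorem Coord.ev_unfold (w : List ℕ) : C.ev w = C.ev w :=
  (Coord.ev.eq_def C w).trans (Coord.ev.eq_def C w).symm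

theorem Coord.ev_norm (w : List ℕ) : C.ev w ∈ Subgroup.normalizer (A : Set G) := by
  induction w with
  | nil => exact Subgroup.one_mem _
  | cons j w ih => exact Subgroup.mul_mem _ (C.gen_norm j) ih

theorem Coord.rel_gen {r : ℕ} {P Q : Subgroup G} (j : ℕ) (h : Rel A r P Q) :
    Rel A r (cj (C.gen j) P) (cj (C.gen j) Q) := rel_cj _ h

end Cfsg.Agent.Lib.M24Nse65
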