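import Mathlib
import Cfsg.Agent.Lib.M24Nse65.Global
import Cfsg.Agent.Lib.M24Nse65.GraphTables
import Cfsg.Agent.Lib.M24Nse65.AutBoundData

/-!
The automorphism group of the graph on 759 vertices has order at most 244823040, by a refinement
certificate along five base vertices. So a simple group of that order acting on the graph through
the conjugates of a subgroup is the whole automorphism group.
-/

set_option autoImplicit false
set_option maxRecDepth 20000

namespace Cfsg.Agent.Lib.M24Nse65

universe u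

/-- The automorphisms of the graph on 759 vertices. -/
def autGraph : Subgroup (Equiv.Perm (Fin 759)) where
  carrier := {p | ∀ i j : Fin 759, adj0 (p i : ℕ) (p j : ℕ) = adj0 (i : ℕ) (j : ℕ)}
  mul_mem' := by
    intro p q hp hq i j
    simp only [Equiv.Perm.mul_apply]
    rw [hp, hq]
  one_mem' := fun _ _ => rfl
  inv_mem' := by
    intro p hp i j
    have h := hp (p⁻¹ i) (p⁻¹ j)
    simpa using h.symm

theorem mem_autGraph {p : Equiv.Perm (Fin 759)} :
    p ∈ autGraph ↔ ∀ i j : Fin 759, adj0 (p i : ℕ) (p j : ℕ) = adj0 (i : ℕ) (j : ℕ) := Iff.rfl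

/-- A permutation maps the set with mask `m` to itself. -/
def MaskInv (p : Equiv.Perm (Fin 759)) (m : ℕ) : Prop :=
  ∀ v : Fin 759, m.testBit (p v : ℕ) = m.testBit (v : ℕ)

theorem maskInv_full (p : Equiv.Perm (Fin 759)) : MaskInv p (2 ^ 759 - 1) := fun v => by
  simp [Nat.testBit_two_pow_sub_one, (p v).isLt, v.isLt]

theorem maskInv_single (p : Equiv.Perm (Fin 759)) (x : Fin 759) (hx : p x = x) :
    MaskInv p (1 <<< (x : ℕ)) := by
  intro v
  rw [Nat.one_shiftLeft, Nat.testBit_two_pow, Nat.testBit_two_pow]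
  simp only [Fin.val_inj]
  congr 1
  exact propext ⟨fun h => p.injective (hx.trans h), fun h => by rw [← h, hx]⟩

theorem maskInv_zero (p : Equiv.Perm (Fin 759)) : MaskInv p 0 := fun v => by simp

/-- The new set made by one step from the sets found so far. -/
def stepVal (L : List ℕ) : ℕ × ℕ × ℕ × ℕ × ℕ → ℕ
  | (a, b, x, y, o) =>
    if o = 0 then L.getD a 0 &&& (nbMask x &&& nbMask y)
    else if o = 1 then L.getD a 0 &&& (nbMask x ^^^ nbMask y)
    else if o = 2 then L.getD a 0 ^^^ (L.getD a 0 &&& (nbMask x ||| nbMask y))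
    else L.getD a 0 ^^^ (L.getD a 0 &&& L.getD b 0)

/-- A step only refers to a set of two vertices found before. -/
def stepOK (L : List ℕ) : ℕ × ℕ × ℕ × ℕ × ℕ → Bool
  | (_, b, x, y, o) =>
    decide (3 ≤ o) ||
      (decide (x < 759) && decide (y < 759) && decide (L.getD b 0 = (1 <<< x ||| 1 <<< y)))

/-- All the sets made by a list of steps, or nothing if some step is not allowed. -/
def runSteps : List ℕ → List (ℕ × ℕ × ℕ × ℕ × ℕ) → List ℕ
  | L, [] => L
  | L, s :: r => if stepOK L s then runSteps (L ++ [stepVal L s]) r else []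

theorem getD_inv (p : Equiv.Perm (Fin 759)) {L : List ℕ} (hL : ∀ m ∈ L, MaskInv p m) (i : ℕ) :
    MaskInv p (L.getD i 0) := by
  by_cases h : i < L.length
  · rw [List.getD_eq_getElem _ _ h]
    exact hL _ (List.getElem_mem h)
  · rw [List.getD_eq_default _ _ (Nat.le_of_not_lt h)]
    exact maskInv_zero p

theorem stepVal_inv {p : Equiv.Perm (Fin 759)} (hp : p ∈ autGraph) {L : List ℕ}
    (hL : ∀ m ∈ L, MaskInv p m) (s : ℕ × ℕ × ℕ × ℕ × ℕ) (hs : stepOK L s = true) :
    MaskInv p (stepVal L s) := by
  obtain ⟨a, b, x, y, o⟩ := s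
  have ha := getD_inv p hL a
  by_cases ho : 3 ≤ o
  · intro v
    have hb := getD_inv p hL b
    simp only [stepVal]
    rw [if_neg (by omega), if_neg (by omega), if_neg (by omega)]
    simp only [Nat.testBit_xor, Nat.testBit_and, ha v, hb v]
  simp only [stepOK, decide_eq_false ho, Bool.false_or, Bool.and_eq_true, decide_eq_true_eq] at hs
  obtain ⟨⟨hx, hy⟩, hb0⟩ := hs
  have hb := getD_inv p hL b
  rw [hb0] at hb
  set X : Fin 759 := ⟨x, hx⟩ with hX
  set Y : Fin 759 := ⟨y, hy⟩ with hY
  have hset : ∀ v : Fin 759, (v = X ∨ v = Y) → (p v = X ∨ p v = Y) := by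
    intro v hv
    have h := hb v
    rw [Nat.testBit_or, Nat.testBit_or, Nat.one_shiftLeft, Nat.one_shiftLeft, Nat.testBit_two_pow,
      Nat.testBit_two_pow, Nat.testBit_two_pow, Nat.testBit_two_pow] at h
    have ht : (decide (x = (v : ℕ)) || decide (y = (v : ℕ))) = true := by
      rcases hv with rfl | rfl <;> simp [hX, hY]
    rw [ht] at h
    simp only [Bool.or_eq_true, decide_eq_true_eq] at h
    rcases h with h | h
    · exact Or.inl (Fin.ext h.symm)
    · exact Or.inr (Fin.ext h.symm)
  have hX' := hset X (Or.inl rfl)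
  have hY' := hset Y (Or.inr rfl)
  have hn : ∀ v : Fin 759, ((nbMask x).testBit (p v : ℕ) = (nbMask x).testBit (v : ℕ) ∧
      (nbMask y).testBit (p v : ℕ) = (nbMask y).testBit (v : ℕ)) ∨
      ((nbMask x).testBit (p v : ℕ) = (nbMask y).testBit (v : ℕ) ∧
      (nbMask y).testBit (p v : ℕ) = (nbMask x).testBit (v : ℕ)) := by
    intro v
    have h1 : adj0 (p X : ℕ) (p v : ℕ) = adj0 x (v : ℕ) := hp X v
    have h2 : adj0 (p Y : ℕ) (p v : ℕ) = adj0 y (v : ℕ) := hp Y v
    simp only [adj0] at h1 h2
    rcases hX' with e1 | e1 <;> rcases hY' with e2 | e2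
    · have hxy : X = Y := p.injective (e1.trans e2.symm)
      have hxy' : x = y := congrArg Fin.val hxy
      rw [e1] at h1
      left; subst hxy'; exact ⟨h1, h1⟩
    · rw [e1] at h1; rw [e2] at h2; exact Or.inl ⟨h1, h2⟩
    · rw [e1] at h1; rw [e2] at h2; exact Or.inr ⟨h2, h1⟩
    · have hxy : X = Y := p.injective (e1.trans e2.symm)
      have hxy' : x = y := congrArg Fin.val hxy
      rw [e1] at h1
      left; subst hxy'; exact ⟨h1, h1⟩
  intro v
  have hav := ha v
  simp only [stepVal]
  split_ifs
  all_goals first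
    | omega
    | (simp only [Nat.testBit_xor, Nat.testBit_and, Nat.testBit_or, hav]
       rcases hn v with ⟨e1, e2⟩ | ⟨e1, e2⟩ <;> rw [e1, e2] <;>
        cases (nbMask x).testBit (v : ℕ) <;> cases (nbMask y).testBit (v : ℕ) <;> rfl)

theorem runSteps_inv {p : Equiv.Perm (Fin 759)} (hp : p ∈ autGraph) :
    ∀ (S : List (ℕ × ℕ × ℕ × ℕ × ℕ)) (L : List ℕ), (∀ m ∈ L, MaskInv p m) →
      ∀ m ∈ runSteps L S, MaskInv p m
  | [], L, hL => hL
  | s :: r, L, hL => by
    intro m hm
    simp only [runSteps] at hm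
    split_ifs at hm with hs
    · exact runSteps_inv hp r _ (fun m' hm' => by
        rcases List.mem_append.1 hm' with h | h
        · exact hL m' h
        · rw [List.mem_singleton] at h
          rw [h]; exact stepVal_inv hp hL s hs) m hm
    · simp at hm

/-- The sets of departure: everything and the base vertices. -/
def initMasks (base : List ℕ) : List ℕ := (2 ^ 759 - 1) :: base.map (fun b => 1 <<< b)

/-- A permutation fixes the listed vertices. -/
def FixesList (p : Equiv.Perm (Fin 759)) (base : List ℕ) : Prop :=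
  ∀ v : Fin 759, (v : ℕ) ∈ base → p v = v

theorem sets_inv {p : Equiv.Perm (Fin 759)} (hp : p ∈ autGraph) {base : List ℕ}
    (hlt : ∀ b ∈ base, b < 759) (hb : FixesList p base)
    (S : List (ℕ × ℕ × ℕ × ℕ × ℕ)) (k : ℕ) :
    MaskInv p ((runSteps (initMasks base) S).getD k 0) := by
  refine getD_inv p (runSteps_inv hp S _ ?_) k
  intro m hm
  rcases List.mem_cons.1 hm with rfl | hm
  · exact maskInv_full p
  · obtain ⟨b, hb', rfl⟩ := List.mem_map.1 hm
    exact maskInv_single p ⟨b, hlt b hb'⟩ (hb ⟨b, hlt b hb'⟩ hb')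

/-- One packed entry: a vertex and three neighbours which determine it. -/
def closeStep (F : ℕ) (e : ℕ) : Option ℕ :=
  if F.testBit (tget e 10 1) && F.testBit (tget e 10 2) && F.testBit (tget e 10 3) &&
      decide (nbMask (tget e 10 1) &&& nbMask (tget e 10 2) &&& nbMask (tget e 10 3) =
        1 <<< tget e 10 0) then
    some (F ||| 1 <<< tget e 10 0)
  else none

/-- Close a set of fixed vertices by a packed list of entries. -/
def closeRun (T : ℕ) : List ℕ → ℕ → ℕ
  | [], F => F
  | i :: r, F =>
    match closeStep F (tget T 40 i) with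
    | some F' => closeRun T r F'
    | none => 0

/-- All vertices of the mask are fixed. -/
def MaskFix (p : Equiv.Perm (Fin 759)) (F : ℕ) : Prop :=
  ∀ v : Fin 759, F.testBit (v : ℕ) = true → p v = v

theorem closeStep_fix {p : Equiv.Perm (Fin 759)} (hp : p ∈ autGraph) {F e F' : ℕ}
    (hF : MaskFix p F) (hlt : ∀ i, F.testBit i = true → i < 759) (h : closeStep F e = some F') :
    MaskFix p F' ∧ ∀ i, F'.testBit i = true → i < 759 ∨ i = tget e 10 0 := by
  unfold closeStep at h
  split_ifs at h with hc
  simp only [Bool.and_eq_true, decide_eq_true_eq] at hc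
  obtain ⟨⟨⟨h1, h2⟩, h3⟩, h4⟩ := hc
  obtain rfl := Option.some.inj h
  refine ⟨?_, ?_⟩
  · intro v hv
    rw [Nat.testBit_or, Bool.or_eq_true] at hv
    rcases hv with hv | hv
    · exact hF v hv
    rw [Nat.one_shiftLeft, Nat.testBit_two_pow, decide_eq_true_eq] at hv
    have key : ∀ x : ℕ, F.testBit x = true → (nbMask x).testBit (p v : ℕ) = (nbMask x).testBit (v : ℕ) := by
      intro x hx
      have e := hp ⟨x, hlt x hx⟩ v
      rw [hF ⟨x, hlt x hx⟩ hx] at e
      exact e
    have hm : (1 <<< tget e 10 0).testBit (p v : ℕ) = (1 <<< tget e 10 0).testBit (v : ℕ) := by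
      rw [← h4]
      simp only [Nat.testBit_and, key _ h1, key _ h2, key _ h3]
    rw [Nat.one_shiftLeft, Nat.testBit_two_pow, Nat.testBit_two_pow, decide_eq_true hv,
      decide_eq_true_eq, hv] at hm
    exact (Fin.ext hm).symm
  · intro i hi
    rw [Nat.testBit_or, Bool.or_eq_true] at hi
    rcases hi with hi | hi
    · exact Or.inl (hlt i hi)
    rw [Nat.one_shiftLeft, Nat.testBit_two_pow, decide_eq_true_eq] at hi
    exact Or.inr hi.symm

theorem closeRun_fix {p : Equiv.Perm (Fin 759)} (hp : p ∈ autGraph) (T : ℕ) :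
    ∀ (l : List ℕ) (F : ℕ), (∀ i ∈ l, tget (tget T 40 i) 10 0 < 759) → MaskFix p F →
      (∀ i, F.testBit i = true → i < 759) → MaskFix p (closeRun T l F)
  | [], _, _, hF, _ => hF
  | i :: r, F, hl, hF, hlt => by
    simp only [closeRun]
    cases h : closeStep F (tget T 40 i) with
    | none => intro v hv; simp at hv
    | some F' =>
      obtain ⟨h1, h2⟩ := closeStep_fix hp hF hlt h
      refine closeRun_fix hp T r F' (fun j hj => hl j (List.mem_cons_of_mem _ hj)) h1 ?_
      intro j hj
      rcases h2 j hj with h' | rfl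
      · exact h'
      · exact hl i List.mem_cons_self

/-! ### The five stages -/

/-- The automorphisms fixing the listed vertices. -/
def fixGroup (base : List ℕ) : Subgroup (Equiv.Perm (Fin 759)) where
  carrier := {p | p ∈ autGraph ∧ FixesList p base}
  mul_mem' := by
    rintro p q ⟨hp, hp'⟩ ⟨hq, hq'⟩
    exact ⟨mul_mem hp hq, fun v hv => by rw [Equiv.Perm.mul_apply, hq' v hv, hp' v hv]⟩
  one_mem' := ⟨one_mem _, fun _ _ => rfl⟩
  inv_mem' := by
    rintro p ⟨hp, hp'⟩
    exact ⟨inv_mem hp, fun v hv => p.injective (by simp [hp' v hv])⟩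

theorem fixGroup_nil : fixGroup [] = autGraph := by
  ext p
  exact ⟨fun h => h.1, fun h => ⟨h, fun v hv => by simp at hv⟩⟩

/-- One stage: the next base vertex has at most `c` images. -/
theorem card_fixGroup_step (base : List ℕ) (b : Fin 759) (m c : ℕ)
    (hm : ∀ p ∈ fixGroup base, MaskInv p m) (hb : m.testBit (b : ℕ) = true)
    (hc : ((List.range 759).filter fun i => m.testBit i).length = c) :
    Nat.card ↥(fixGroup base) ≤ c * Nat.card ↥(fixGroup (base ++ [(b : ℕ)])) := by
  classical
  set H := fixGroup base with hH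
  have hsub : fixGroup (base ++ [(b : ℕ)]) ≤ H := fun p hp =>
    ⟨hp.1, fun v hv => hp.2 v (List.mem_append_left _ hv)⟩
  have hstab : (MulAction.stabilizer ↥H b) = (fixGroup (base ++ [(b : ℕ)])).subgroupOf H := by
    ext p
    rw [MulAction.mem_stabilizer_iff, Subgroup.mem_subgroupOf]
    change (p : Equiv.Perm (Fin 759)) b = b ↔ _
    refine ⟨fun h => ⟨p.2.1, fun v hv => ?_⟩, fun h => h.2 b (by simp)⟩
    rcases List.mem_append.1 hv with hv | hv
    · exact p.2.2 v hv
    · rw [List.mem_singleton] at hv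
      rw [Fin.ext hv]; exact h
  have hindex : (MulAction.stabilizer ↥H b).index ≤ c := by
    rw [MulAction.index_stabilizer]
    have horb : MulAction.orbit ↥H b ⊆ {v : Fin 759 | m.testBit (v : ℕ) = true} := by
      rintro v ⟨p, rfl⟩
      change m.testBit (((p : Equiv.Perm (Fin 759)) b : Fin 759) : ℕ) = true
      rw [hm _ p.2, hb]
    calc (MulAction.orbit ↥H b).ncard
        ≤ {v : Fin 759 | m.testBit (v : ℕ) = true}.ncard := Set.ncard_le_ncard horb (Set.toFinite _)
      _ = ((Fin.val '' {v : Fin 759 | m.testBit (v : ℕ) = true})).ncard :=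
          (Set.ncard_image_of_injective _ Fin.val_injective).symm
      _ ≤ (((List.range 759).filter fun i => m.testBit i).toFinset : Set ℕ).ncard := by
          refine Set.ncard_le_ncard ?_ (Set.toFinite _)
          rintro _ ⟨v, hv, rfl⟩
          simp only [Finset.mem_coe, List.mem_toFinset, List.mem_filter, List.mem_range]
          exact ⟨v.isLt, hv⟩
      _ ≤ c := by
          rw [Set.ncard_coe_finset, ← hc]
          exact List.toFinset_card_le _
  have hcard : Nat.card ↥(MulAction.stabilizer ↥H b) = Nat.card ↥(fixGroup (base ++ [(b : ℕ)])) := by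
    rw [hstab]
    exact Nat.card_congr (Subgroup.subgroupOfEquivOfLe hsub).toEquiv
  rw [← (MulAction.stabilizer ↥H b).index_mul_card, hcard]
  exact Nat.mul_le_mul_right _ hindex

/-- The check of one stage. -/
def stageCheck (base : List ℕ) (S : List (ℕ × ℕ × ℕ × ℕ × ℕ)) (k b c : ℕ) : Bool :=
  (base.all fun x => decide (x < 759)) && ((runSteps (initMasks base) S).getD k 0).testBit b &&
    decide (((List.range 759).filter fun i => ((runSteps (initMasks base) S).getD k 0).testBit i).length = c)

theorem card_stage {base : List ℕ} {S : List (ℕ × ℕ × ℕ × ℕ × ℕ)} {k c : ℕ} (b : Fin 759)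
    (h : stageCheck base S k (b : ℕ) c = true) :
    Nat.card ↥(fixGroup base) ≤ c * Nat.card ↥(fixGroup (base ++ [(b : ℕ)])) := by
  simp only [stageCheck, Bool.and_eq_true, decide_eq_true_eq, List.all_eq_true] at h
  obtain ⟨⟨h1, h2⟩, h3⟩ := h
  exact card_fixGroup_step base b _ c (fun p hp => sets_inv hp.1 h1 hp.2 S k) h2 h3

theorem check0 : stageCheck [0] autSteps0 3 1 30 = true := by decide +kernel
theorem check1 : stageCheck [0, 1] autSteps1 6 3 28 = true := by decide +kernel
theorem check2 : stageCheck [0, 1, 3] autSteps2 19 7 24 = true := by decide +kernel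
theorem check3 : stageCheck [0, 1, 3, 7] autSteps3 49 15 16 = true := by decide +kernel

theorem checkSeed :
    (runSteps (initMasks [0, 1, 3, 7, 15]) autSteps4).getD 93 0 = 1 <<< 740 := by decide +kernel

theorem checkEntries : ((List.range 753).all fun i =>
    decide (tget (tget autClose 40 i) 10 0 < 759)) = true := by decide +kernel

theorem checkClose : closeRun autClose (List.range 753)
    (1 <<< 0 ||| 1 <<< 1 ||| 1 <<< 3 ||| 1 <<< 7 ||| 1 <<< 15 ||| 1 <<< 740) = 2 ^ 759 - 1 := by
  decide +kernel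

theorem fixGroup_base : fixGroup [0, 1, 3, 7, 15] = ⊥ := by
  rw [eq_bot_iff]
  intro p hp
  rw [Subgroup.mem_bot]
  have hlt : ∀ b ∈ [0, 1, 3, 7, 15], b < 759 := by simp
  have hseed := sets_inv hp.1 hlt hp.2 autSteps4 93
  rw [checkSeed] at hseed
  set F0 : ℕ := 1 <<< 0 ||| 1 <<< 1 ||| 1 <<< 3 ||| 1 <<< 7 ||| 1 <<< 15 ||| 1 <<< 740 with hF0
  have hmem : ∀ i, F0.testBit i = true → i ∈ [0, 1, 3, 7, 15, 740] := by
    intro i hi
    simp only [hF0, Nat.testBit_or, Nat.one_shiftLeft, Nat.testBit_two_pow, Bool.or_eq_true,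
      decide_eq_true_eq] at hi
    simp only [List.mem_cons, List.not_mem_nil, or_false]
    omega
  have hfix : MaskFix p F0 := by
    intro v hv
    have hv' := hmem _ hv
    by_cases h740 : (v : ℕ) = 740
    · have h := hseed v
      rw [Nat.one_shiftLeft, Nat.testBit_two_pow, Nat.testBit_two_pow, decide_eq_true h740.symm,
        decide_eq_true_eq] at h
      exact Fin.ext (h.symm.trans h740.symm)
    · exact hp.2 v (by simpa [h740] using hv')
  have hall := closeRun_fix hp.1 autClose (List.range 753) F0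
    (fun i hi => by simpa using (List.all_eq_true.1 checkEntries) i hi) hfix
    (fun i hi => by
      have h := hmem i hi
      simp only [List.mem_cons, List.not_mem_nil, or_false] at h
      omega)
  rw [hF0, checkClose] at hall
  ext v
  exact congrArg Fin.val (hall v (by simp [Nat.testBit_two_pow_sub_one, v.isLt]))

theorem card_autGraph_le : Nat.card ↥autGraph ≤ 244823040 := by
  have h0 : Nat.card ↥(fixGroup []) ≤ 759 * Nat.card ↥(fixGroup [0]) := by
    refine card_fixGroup_step [] ⟨0, by norm_num⟩ (2 ^ 759 - 1) 759 (fun p _ => maskInv_full p)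
      (by simp [Nat.testBit_two_pow_sub_one]) ?_
    rw [List.filter_eq_self.2 (fun i hi => by
      rw [List.mem_range] at hi; simp [Nat.testBit_two_pow_sub_one, hi]), List.length_range]
  have h1 := card_stage (base := [0]) ⟨1, by norm_num⟩ check0
  have h2 := card_stage (base := [0, 1]) ⟨3, by norm_num⟩ check1
  have h3 := card_stage (base := [0, 1, 3]) ⟨7, by norm_num⟩ check2
  have h4 := card_stage (base := [0, 1, 3, 7]) ⟨15, by norm_num⟩ check3
  simp only [List.cons_append, List.nil_append] at h1 h2 h3 h4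
  have h5 : Nat.card ↥(fixGroup [0, 1, 3, 7, 15]) = 1 := by
    rw [fixGroup_base, Subgroup.card_bot]
  rw [fixGroup_nil] at h0
  rw [h5] at h4
  omega

/-! ### The conjugation action -/

theorem adj0_self_all : ((List.range 759).all fun i => !adj0 i i) = true := by decide +kernel

theorem nonempty_mulEquiv_autGraph {G : Type u} [Group G] [Finite G] (hs : IsSimpleGroup G)
    (hc : Nat.card G = 244823040) (A : Subgroup G) (lab : Fin 759 → Subgroup G)
    (hmem : ∀ i, lab i ∈ Conjs A) (hinj : Function.Injective lab)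
    (hsurj : ∀ B ∈ Conjs A, ∃ i, lab i = B)
    (hadj : ∀ i j, i ≠ j → (rk (lab i) (lab j) = 8 ↔ adj0 i j = true)) :
    Nonempty (G ≃* autGraph) := by
  classical
  have hcj : ∀ g i, cj g (lab i) ∈ Conjs A := by
    intro g i
    obtain ⟨h, hh⟩ := hmem i
    exact ⟨g * h, by rw [hh, cj_cj]⟩
  choose f hf using fun g i => hsurj _ (hcj g i)
  have hf1 : ∀ i, f 1 i = i := fun i => hinj (by rw [hf, cj_one])
  have hfm : ∀ g h i, f (g * h) i = f g (f h i) := fun g h i => hinj (by
    rw [hf, hf, hf, cj_cj])
  let π : G →* Equiv.Perm (Fin 759) :=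
    { toFun := fun g =>
        { toFun := f g
          invFun := f g⁻¹
          left_inv := fun i => by rw [← hfm, inv_mul_cancel, hf1]
          right_inv := fun i => by rw [← hfm, mul_inv_cancel, hf1] }
      map_one' := Equiv.ext hf1
      map_mul' := fun g h => Equiv.ext (hfm g h) }
  have hπ : ∀ g i, π g i = f g i := fun _ _ => rfl
  have hautmem : ∀ g, π g ∈ autGraph := by
    intro g i j
    rw [hπ, hπ]
    by_cases hij : i = j
    · subst hij
      have h1 := List.all_eq_true.1 adj0_self_all (f g i : ℕ) (List.mem_range.2 (f g i).isLt)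
      have h2 := List.all_eq_true.1 adj0_self_all (i : ℕ) (List.mem_range.2 i.isLt)
      simp only [Bool.not_eq_true'] at h1 h2
      rw [h1, h2]
    · have hne : f g i ≠ f g j := fun h => hij ((π g).injective h)
      rw [Bool.eq_iff_iff, ← hadj _ _ hne, ← hadj _ _ hij, hf, hf, rk_cj]
  let ψ : G →* autGraph := π.codRestrict autGraph hautmem
  have hψ : Function.Injective ψ := by
    rw [← MonoidHom.ker_eq_bot_iff]
    refine (hs.eq_bot_or_eq_top_of_normal ψ.ker inferInstance).resolve_right fun htop => ?_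
    have hall : ∀ g i, cj g (lab i) = lab i := by
      intro g i
      have h : g ∈ ψ.ker := htop ▸ Subgroup.mem_top g
      have h' : π g = 1 := congrArg Subtype.val (MonoidHom.mem_ker.1 h)
      rw [← hf, ← hπ, h']
      rfl
    obtain ⟨a, ha⟩ := hmem 0
    obtain ⟨b, hb⟩ := hmem 1
    have e : lab 0 = lab 1 := by
      rw [← hall (b * a⁻¹) 0, ha, hb, cj_cj, inv_mul_cancel_right]
    exact absurd (hinj e) (by decide)
  have hle : Nat.card ↥autGraph ≤ Nat.card G := hc ▸ card_autGraph_le
  have hbij : Function.Bijective ψ := hψ.bijective_of_nat_card_le hle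
  exact ⟨MulEquiv.ofBijective ψ hbij⟩

end Cfsg.Agent.Lib.M24Nse65
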