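import Cfsg.Agent.Lib.M24Nse65.SecondCode

/-!
The base vertex and its thirty neighbours: the neighbours form fifteen disjoint edges.
-/

set_option autoImplicit false
set_option linter.unusedSectionVars false
set_option maxRecDepth 100000

namespace Cfsg.Agent.Lib.M24Nse65

universe u

namespace Second

/-- The image of a vertex below 31 under a word. -/
def img30 : List ℕ → ℕ → ℕ
  | [], i => i
  | j :: w, i => vmap j (img30 w i)

theorem words30_checks : (List.range 30).all (fun i =>
    ((words30.getD i []).all fun j => decide (j < 3)) &&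
      decide (img30 (words30.getD i []) 1 = i + 1)) = true := by decide +kernel

theorem stab_one_checks : (List.range 28).all (fun i =>
    ((stabOneWords.getD i []).all fun j => decide (j < 3)) &&
      decide (img30 (stabOneWords.getD i []) 1 = 1) &&
      decide (img30 (stabOneWords.getD i []) 3 = i + 3)) = true := by decide +kernel

theorem low_closed : [0, 1, 2].all (fun j => (List.range 31).all fun i =>
    decide (vmap j i ≤ 30)) = true := by decide +kernel

variable {G : Type u} [Group G] [Finite G] {A : Subgroup G}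

theorem low_le {j i : ℕ} (hj : j < 3) (hi : i ≤ 30) : vmap j i ≤ 30 := by
  have h := low_closed
  simp only [List.all_eq_true, List.mem_range, decide_eq_true_eq] at h
  exact h j (by rcases (show j = 0 ∨ j = 1 ∨ j = 2 by omega) with rfl | rfl | rfl <;> simp) i
    (by omega)

theorem cj_ev {C : Coord A} {lab : ℕ → Subgroup G} (h : Lab30 C lab) :
    ∀ {w : List ℕ}, (w.all fun j => decide (j < 3)) = true → ∀ {i : ℕ}, i ≤ 30 →
      img30 w i ≤ 30 ∧ cj (C.ev w) (lab i) = lab (img30 w i)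
  | [], _, i, hi => ⟨hi, by rw [Coord.ev, cj_one]; rfl⟩
  | j :: w, hw, i, hi => by
    simp only [List.all_cons, Bool.and_eq_true, decide_eq_true_eq] at hw
    obtain ⟨h1, h2⟩ := cj_ev h hw.2 hi
    refine ⟨low_le hw.1 h1, ?_⟩
    rw [Coord.ev, ← cj_cj, h2, h.equiv j _ hw.1 h1]
    rfl

theorem nbrs_base (O : Orbits A) : Nat.card {Q : Subgroup G // Rel A 8 A Q} = 30 := by
  rw [← O.card_eight]
  exact Nat.card_congr (Equiv.subtypeEquivRight fun B => rel_A)

theorem deg (O : Orbits A) {P : Subgroup G} (hP : P ∈ Conjs A) :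
    Nat.card {Q : Subgroup G // Rel A 8 P Q} = 30 := by
  obtain ⟨g, rfl⟩ := hP
  rw [← nbrs_base O]
  refine Nat.card_congr
    { toFun := fun Q => ⟨cj g⁻¹ Q.1, by simpa [cj_cj, cj_one] using rel_cj g⁻¹ Q.2⟩
      invFun := fun Q => ⟨cj g Q.1, rel_cj g Q.2⟩
      left_inv := fun Q => Subtype.ext (by simp [cj_cj, cj_one])
      right_inv := fun Q => Subtype.ext (by simp [cj_cj, cj_one]) }

variable {B C' : Subgroup G} {y c : G} {Cd : Coord A} {lab : ℕ → Subgroup G}

theorem mate_adj (O : Orbits A) (T : Trio A B C' y c) (h : Lab30 Cd lab) {i : ℕ} (h1 : 1 ≤ i)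
    (h2 : i ≤ 30) : Rel A 8 (lab i) (lab (flip30 i)) := by
  have hC : C' ∈ Conjs A := T.cj_B ▸ cj_mem_conjs T.mem_B
  obtain ⟨b, b1, b2, hb⟩ := h.surj B (rel_A.2 ⟨T.mem_B, T.ne.1, T.rk_B⟩)
  obtain ⟨d, d1, d2, hd⟩ := h.surj C' (rel_A.2 ⟨hC, T.ne.2.1, T.rk_C⟩)
  have hp : pOf b = pOf d := by
    have hsep := Thirty.dot_sep
    simp only [List.all_eq_true, List.any_eq_true, List.mem_range, Bool.or_eq_true,
      decide_eq_true_eq] at hsep
    have r : 1 ≤ pOf b ∧ pOf b < 16 ∧ 1 ≤ pOf d ∧ pOf d < 16 := by unfold pOf; omega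
    rcases hsep (pOf b - 1) (by omega) (pOf d - 1) (by omega) with e | ⟨x, hx, e⟩
    · omega
    · exfalso
      rw [show pOf b - 1 + 1 = pOf b by omega, show pOf d - 1 + 1 = pOf d by omega] at e
      have u := h.fix b x b1 b2 hx
      have v := h.fix d x d1 d2 hx
      have s : fixA A B = fixA A C' := T.same
      rw [hb, s, ← hd, v] at u
      cases q1 : dot (pOf b) x <;> cases q2 : dot (pOf d) x <;> simp_all
  have hne : b ≠ d := fun e => T.ne.2.2 (by rw [← hb, ← hd, e])
  have hBC : Rel A 8 (lab b) (lab (flip30 b)) := by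
    have : flip30 b = d := by unfold flip30; unfold pOf at hp; split_ifs <;> omega
    rw [this, hb, hd]
    refine ⟨T.mem_B, hC, T.ne.2.2, ?_⟩
    rw [← T.cj_A, ← T.cj_B, rk_cj, T.rk_B]
  have closed : ∀ {j k : ℕ}, j < 3 → 1 ≤ k → k ≤ 30 → Rel A 8 (lab k) (lab (flip30 k)) →
      Rel A 8 (lab (vmap j k)) (lab (flip30 (vmap j k))) := by
    intro j k hj k1 k2 r
    have hf := Thirty.flip_checks
    simp only [List.all_eq_true, List.mem_range, Bool.and_eq_true, decide_eq_true_eq] at hf
    have q := (hf j (by rcases (show j = 0 ∨ j = 1 ∨ j = 2 by omega) with rfl | rfl | rfl <;> simp)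
      k (by omega)).1
    have := rel_cj (Cd.gen j) r
    rwa [h.equiv j k hj k2, h.equiv j _ hj (by unfold flip30; split_ifs <;> omega), q] at this
  have wclosed : ∀ {w : List ℕ}, (w.all fun j => decide (j < 3)) = true → ∀ {k : ℕ}, 1 ≤ k →
      k ≤ 30 → Rel A 8 (lab k) (lab (flip30 k)) →
      1 ≤ img30 w k ∧ img30 w k ≤ 30 ∧ Rel A 8 (lab (img30 w k)) (lab (flip30 (img30 w k))) := by
    intro w
    induction w with
    | nil => exact fun _ k k1 k2 r => ⟨k1, k2, r⟩
    | cons j w ih =>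
      intro hw k k1 k2 r
      simp only [List.all_cons, Bool.and_eq_true, decide_eq_true_eq] at hw
      obtain ⟨a1, a2, a3⟩ := ih hw.2 k1 k2 r
      have a4 := closed hw.1 a1 a2 a3
      refine ⟨?_, low_le hw.1 a2, a4⟩
      by_contra hz
      have e : vmap j (img30 w k) = 0 := by simp only [img30] at hz; omega
      have := h.equiv j _ hw.1 a2
      rw [e, h.base] at this
      have hA : cj (Cd.gen j) A = A := norm_cj_A (Cd.gen_norm j)
      exact (h.rel _ a1 a2).2.2.1 (cj_inj (hA.trans this.symm))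
  have hw := words30_checks
  simp only [List.all_eq_true, List.mem_range, Bool.and_eq_true, decide_eq_true_eq] at hw
  obtain ⟨wb, eb⟩ := hw (b - 1) (by omega)
  obtain ⟨wi, ei⟩ := hw (i - 1) (by omega)
  rw [show b - 1 + 1 = b by omega] at eb
  rw [show i - 1 + 1 = i by omega] at ei
  have wb' : ((words30.getD (b - 1) []).all fun j => decide (j < 3)) = true :=
    List.all_eq_true.2 fun x hx => decide_eq_true (wb x hx)
  have wi' : ((words30.getD (i - 1) []).all fun j => decide (j < 3)) = true :=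
    List.all_eq_true.2 fun x hx => decide_eq_true (wi x hx)
  obtain ⟨-, cb⟩ := cj_ev h wb' (i := 1) (by norm_num)
  have one : Rel A 8 (lab 1) (lab (flip30 1)) := by
    obtain ⟨-, cb2⟩ := cj_ev h wb' (i := 2) (by norm_num)
    have hr : Rel A 8 (cj (Cd.ev (words30.getD (b - 1) [])) (lab 1))
        (cj (Cd.ev (words30.getD (b - 1) [])) (lab 2)) := by
      rw [cb, cb2, eb]
      suffices img30 (words30.getD (b - 1) []) 2 = flip30 b by rw [this]; exact hBC
      have hcomm : ∀ w : List ℕ, (w.all fun j => decide (j < 3)) = true →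
          img30 w 2 = flip30 (img30 w 1) := by
        intro w
        induction w with
        | nil => intro _; rfl
        | cons j w ih =>
          intro hw
          simp only [List.all_cons, Bool.and_eq_true, decide_eq_true_eq] at hw
          have hf := Thirty.flip_checks
          simp only [List.all_eq_true, List.mem_range, Bool.and_eq_true, decide_eq_true_eq] at hf
          rw [img30, img30, ih hw.2]
          exact (hf j (by
            rcases (show j = 0 ∨ j = 1 ∨ j = 2 by omega) with rfl | rfl | rfl <;> simp) _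
            (by have := (cj_ev h hw.2 (i := 1) (by norm_num)).1; omega)).1
      rw [hcomm _ wb', eb]
    have := rel_cj (Cd.ev (words30.getD (b - 1) []))⁻¹ hr
    rwa [cj_cj, cj_cj, inv_mul_cancel, cj_one, cj_one] at this
  exact ei ▸ (wclosed wi' le_rfl (by norm_num) one).2.2

theorem only_mate (L : Local A) (O : Orbits A) (T : Trio A B C' y c) (h : Lab30 Cd lab) {i k : ℕ}
    (i1 : 1 ≤ i) (i2 : i ≤ 30) (k1 : 1 ≤ k) (k2 : k ≤ 30) (r : Rel A 8 (lab i) (lab k)) :
    k = flip30 i := by
  classical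
  by_contra hk
  have hw := words30_checks
  simp only [List.all_eq_true, List.mem_range, Bool.and_eq_true, decide_eq_true_eq] at hw
  obtain ⟨wi, ei⟩ := hw (i - 1) (by omega)
  rw [show i - 1 + 1 = i by omega] at ei
  have wi' : ((words30.getD (i - 1) []).all fun j => decide (j < 3)) = true :=
    List.all_eq_true.2 fun x hx => decide_eq_true (wi x hx)
  obtain ⟨-, ci⟩ := cj_ev h wi' (i := 1) (by norm_num)
  rw [ei] at ci
  set n := Cd.ev (words30.getD (i - 1) [])
  have hn : cj n⁻¹ A = A := norm_cj_A (Subgroup.inv_mem _ (Cd.ev_norm _))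
  have r1 : Rel A 8 (lab 1) (cj n⁻¹ (lab k)) := by
    have := rel_cj n⁻¹ r
    rwa [← ci, cj_cj, inv_mul_cancel, cj_one] at this
  have rA : Rel A 8 A (cj n⁻¹ (lab k)) := by
    have := rel_cj n⁻¹ (h.rel k k1 k2); rwa [hn] at this
  obtain ⟨m, m1, m2, hm⟩ := h.surj _ rA
  rw [← hm] at r1
  have hm1 : m ≠ 1 := fun e => r1.2.2.1 (by rw [e])
  have hm2 : m ≠ 2 := by
    intro e
    subst e
    apply hk
    have e2 : img30 (words30.getD (i - 1) []) 2 = k := by
      obtain ⟨a, c2⟩ := cj_ev h wi' (i := 2) (by norm_num)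
      refine h.inj _ _ a k2 ?_
      rw [← c2, hm, cj_cj, mul_inv_cancel, cj_one]
    have hcomm : ∀ w : List ℕ, (w.all fun j => decide (j < 3)) = true →
        img30 w 2 = flip30 (img30 w 1) := by
      intro w
      induction w with
      | nil => intro _; rfl
      | cons j w ih =>
        intro hw
        simp only [List.all_cons, Bool.and_eq_true, decide_eq_true_eq] at hw
        have hf := Thirty.flip_checks
        simp only [List.all_eq_true, List.mem_range, Bool.and_eq_true, decide_eq_true_eq] at hf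
        rw [img30, img30, ih hw.2]
        exact (hf j (by
          rcases (show j = 0 ∨ j = 1 ∨ j = 2 by omega) with rfl | rfl | rfl <;> simp) _
          (by have := (cj_ev h hw.2 (i := 1) (by norm_num)).1; omega)).1
    rw [← e2, hcomm _ wi', ei]
  have hs := stab_one_checks
  simp only [List.all_eq_true, List.mem_range, Bool.and_eq_true, decide_eq_true_eq] at hs
  have all1 : ∀ q, 3 ≤ q → q ≤ 30 → Rel A 8 (lab 1) (lab q) := by
    obtain ⟨⟨wm, em1⟩, em3⟩ := hs (m - 3) (by omega)
    rw [show m - 3 + 3 = m by omega] at em3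
    have wm' : ((stabOneWords.getD (m - 3) []).all fun j => decide (j < 3)) = true :=
      List.all_eq_true.2 fun x hx => decide_eq_true (wm x hx)
    have d1 := (cj_ev h wm' (i := 1) (by norm_num)).2
    have d3 := (cj_ev h wm' (i := 3) (by norm_num)).2
    rw [em1] at d1
    rw [em3] at d3
    have r3 : Rel A 8 (lab 1) (lab 3) := by
      have := rel_cj (Cd.ev (stabOneWords.getD (m - 3) []))⁻¹ r1
      rw [← d3, cj_cj, inv_mul_cancel, cj_one] at this
      rwa [← d1, cj_cj, inv_mul_cancel, cj_one] at this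
    intro q q1 q2
    obtain ⟨⟨wq, eq1⟩, eq3⟩ := hs (q - 3) (by omega)
    rw [show q - 3 + 3 = q by omega] at eq3
    have wq' : ((stabOneWords.getD (q - 3) []).all fun j => decide (j < 3)) = true :=
      List.all_eq_true.2 fun x hx => decide_eq_true (wq x hx)
    have := rel_cj (Cd.ev (stabOneWords.getD (q - 3) [])) r3
    rwa [(cj_ev h wq' (i := 1) (by norm_num)).2, (cj_ev h wq' (i := 3) (by norm_num)).2, eq1, eq3]
      at this
  have all30 : ∀ p q, 1 ≤ p → p ≤ 30 → 1 ≤ q → q ≤ 30 → p ≠ q → Rel A 8 (lab p) (lab q) := by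
    intro p q p1 p2 q1 q2 hpq
    obtain ⟨wp, ep⟩ := hw (p - 1) (by omega)
    rw [show p - 1 + 1 = p by omega] at ep
    have wp' : ((words30.getD (p - 1) []).all fun j => decide (j < 3)) = true :=
      List.all_eq_true.2 fun x hx => decide_eq_true (wp x hx)
    set n' := Cd.ev (words30.getD (p - 1) [])
    have c1 := (cj_ev h wp' (i := 1) (by norm_num)).2
    rw [ep] at c1
    have hn' : cj n'⁻¹ A = A := norm_cj_A (Subgroup.inv_mem _ (Cd.ev_norm _))
    have rq : Rel A 8 A (cj n'⁻¹ (lab q)) := by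
      have := rel_cj n'⁻¹ (h.rel q q1 q2); rwa [hn'] at this
    obtain ⟨s, s1, s2, hs'⟩ := h.surj _ rq
    have hs1 : s ≠ 1 := by
      rintro rfl
      apply hpq
      refine h.inj p q p2 q2 ?_
      rw [← c1, hs', cj_cj, mul_inv_cancel, cj_one]
    have r1s : Rel A 8 (lab 1) (lab s) := by
      rcases Nat.lt_or_ge s 3 with hlt | hge
      · obtain rfl : s = 2 := by omega
        exact mate_adj O T h le_rfl (by norm_num)
      · exact all1 s hge s2
    have := rel_cj n' r1s
    rwa [c1, hs', cj_cj, mul_inv_cancel, cj_one] at this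
  -- adjacency or equality is then an equivalence with classes of size 31
  have base_trans : ∀ P Q, Rel A 8 A P → Rel A 8 A Q → P = Q ∨ Rel A 8 P Q := by
    intro P Q hP hQ
    obtain ⟨p, p1, p2, rfl⟩ := h.surj P hP
    obtain ⟨q, q1, q2, rfl⟩ := h.surj Q hQ
    by_cases e : p = q
    · exact Or.inl (by rw [e])
    · exact Or.inr (all30 p q p1 p2 q1 q2 e)
  have trans' : ∀ P Q R, Rel A 8 P Q → Rel A 8 P R → Q = R ∨ Rel A 8 Q R := by
    intro P Q R a b
    obtain ⟨g, rfl⟩ := a.1
    have a' := rel_cj g⁻¹ a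
    have b' := rel_cj g⁻¹ b
    rw [cj_cj, inv_mul_cancel, cj_one] at a' b'
    rcases base_trans _ _ a' b' with e | e
    · exact Or.inl (cj_inj e)
    · exact Or.inr (by simpa [cj_cj, cj_one] using rel_cj g e)
  let V := {P : Subgroup G // P ∈ Conjs A}
  let st : Setoid V :=
    ⟨fun P Q => P.1 = Q.1 ∨ Rel A 8 P.1 Q.1, ⟨fun P => Or.inl rfl,
      fun {P Q} e => e.elim (fun e => Or.inl e.symm) (fun e => Or.inr (rel_symm O e)),
      fun {P Q R} e f => by
        rcases e with e | e <;> rcases f with f | f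
        · exact Or.inl (e.trans f)
        · exact Or.inr (e ▸ f)
        · exact Or.inr (f ▸ e)
        · exact trans' Q.1 P.1 R.1 (rel_symm O e) f⟩⟩
  have hsum : Nat.card V = Nat.card (Σ q : Quotient st, {P : V // Quotient.mk st P = q}) :=
    Nat.card_congr (Equiv.sigmaFiberEquiv (Quotient.mk st)).symm
  have hfib : ∀ q : Quotient st, Nat.card {P : V // Quotient.mk st P = q} = 31 := by
    intro q
    induction q using Quotient.inductionOn with
    | h P =>
      haveI : Fintype {Q : Subgroup G // Rel A 8 P.1 Q} := Fintype.ofFinite _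
      have e : {Q : V // Quotient.mk st Q = Quotient.mk st P} ≃
          Option {Q : Subgroup G // Rel A 8 P.1 Q} :=
        { toFun := fun Q => if e : Q.1.1 = P.1 then none else
            some ⟨Q.1.1, by
              rcases (Quotient.exact Q.2 : st.r Q.1 P) with f | f
              · exact absurd f e
              · exact rel_symm O f⟩
          invFun := fun o => o.elim ⟨P, rfl⟩
            fun Q => ⟨⟨Q.1, Q.2.2.1⟩, Quotient.sound (Or.inr (rel_symm O Q.2))⟩
          left_inv := fun Q => by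
            by_cases e : Q.1.1 = P.1
            · simp only [e, dif_pos, Option.elim]
              exact Subtype.ext (Subtype.ext e.symm)
            · simp [e]
          right_inv := fun o => by
            cases o with
            | none => simp
            | some Q => simp [Ne.symm Q.2.2.2.1] }
      rw [Nat.card_congr e, Finite.card_option, deg O P.2]
  have hV : Nat.card V = 759 := by
    rw [← O.card_conjs]
  haveI := Fintype.ofFinite (Quotient st)
  rw [hV, Nat.card_sigma, Finset.sum_congr rfl fun q _ => hfib q, Finset.sum_const,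
    smul_eq_mul] at hsum
  omega

theorem common_base (L : Local A) (O : Orbits A) (T : Trio A B C' y c) (h : Lab30 Cd lab) {i : ℕ}
    (i1 : 1 ≤ i) (i2 : i ≤ 30) {R : Subgroup G} (a : Rel A 8 A R) (b : Rel A 8 (lab i) R) :
    R = lab (flip30 i) := by
  obtain ⟨k, k1, k2, rfl⟩ := h.surj R a
  rw [only_mate L O T h i1 i2 k1 k2 b]

theorem uniq (L : Local A) (O : Orbits A) (T : Trio A B C' y c) (h : Lab30 Cd lab)
    (P Q R R' : Subgroup G) (hPQ : Rel A 8 P Q) (a : Rel A 8 P R) (b : Rel A 8 Q R)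
    (a' : Rel A 8 P R') (b' : Rel A 8 Q R') : R = R' := by
  obtain ⟨g, rfl⟩ := hPQ.1
  have q := rel_cj g⁻¹ hPQ
  have r := rel_cj g⁻¹ a
  have r' := rel_cj g⁻¹ a'
  rw [cj_cj, inv_mul_cancel, cj_one] at q r r'
  obtain ⟨i, i1, i2, hi⟩ := h.surj _ q
  refine cj_inj (g := g⁻¹) ?_
  rw [common_base L O T h i1 i2 r (hi ▸ rel_cj g⁻¹ b),
    common_base L O T h i1 i2 r' (hi ▸ rel_cj g⁻¹ b')]

theorem exists_common (O : Orbits A) (T : Trio A B C' y c) (h : Lab30 Cd lab)
    (P Q : Subgroup G) (hPQ : Rel A 8 P Q) : ∃ R, Rel A 8 P R ∧ Rel A 8 Q R := by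
  obtain ⟨g, rfl⟩ := hPQ.1
  have q := rel_cj g⁻¹ hPQ
  rw [cj_cj, inv_mul_cancel, cj_one] at q
  obtain ⟨i, i1, i2, hi⟩ := h.surj _ q
  have hf : 1 ≤ flip30 i ∧ flip30 i ≤ 30 := by unfold flip30; split_ifs <;> omega
  refine ⟨cj g (lab (flip30 i)), ?_, ?_⟩
  · simpa [cj_cj] using rel_cj g (h.rel _ hf.1 hf.2)
  · have := rel_cj g (mate_adj O T h i1 i2)
    rwa [hi, cj_cj, mul_inv_cancel, cj_one] at this

theorem double_count {α β : Type*} [Finite α] [Finite β] (R : α → β → Prop) {m n : ℕ}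
    (hα : ∀ a, Nat.card {b // R a b} = m) (hβ : ∀ b, Nat.card {a // R a b} = n) :
    Nat.card α * m = Nat.card β * n := by
  classical
  haveI := Fintype.ofFinite α
  haveI := Fintype.ofFinite β
  have e : (Σ a, {b // R a b}) ≃ (Σ b, {a // R a b}) :=
    { toFun := fun x => ⟨x.2.1, x.1, x.2.2⟩
      invFun := fun x => ⟨x.2.1, x.1, x.2.2⟩
      left_inv := fun _ => rfl
      right_inv := fun _ => rfl }
  have := Nat.card_congr e
  rw [Nat.card_sigma, Nat.card_sigma, Finset.sum_congr rfl fun a _ => hα a,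
    Finset.sum_congr rfl fun b _ => hβ b] at this
  simpa [Nat.card_eq_fintype_card] using this

theorem card_const (O : Orbits A) {r s : ℕ} {P P' : Subgroup G} (hP : Rel A r A P)
    (hP' : Rel A r A P') :
    Nat.card {Q // Rel A s A Q ∧ Rel A 8 P Q} = Nat.card {Q // Rel A s A Q ∧ Rel A 8 P' Q} := by
  obtain ⟨a1, a2, a3⟩ := rel_A.1 hP
  obtain ⟨b1, b2, b3⟩ := rel_A.1 hP'
  obtain ⟨n, hn, e⟩ := O.trans P a1 P' b1 a2 b2 (a3.trans b3.symm)
  have hi : cj n⁻¹ A = A := norm_cj_A (Subgroup.inv_mem _ hn)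
  refine Nat.card_congr
    { toFun := fun Q => ⟨cj n Q.1, by
        have := rel_cj n Q.2.1
        rwa [norm_cj_A hn] at this, e ▸ rel_cj n Q.2.2⟩
      invFun := fun Q => ⟨cj n⁻¹ Q.1, by
        have := rel_cj n⁻¹ Q.2.1
        rwa [hi] at this, cj_inv_eq e ▸ rel_cj n⁻¹ Q.2.2⟩
      left_inv := fun Q => Subtype.ext (by simp [cj_cj, cj_one])
      right_inv := fun Q => Subtype.ext (by simp [cj_cj, cj_one]) }

theorem split_deg (L : Local A) (O : Orbits A) (T : Trio A B C' y c) (h : Lab30 Cd lab) {i : ℕ}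
    (i1 : 1 ≤ i) (i2 : i ≤ 30) :
    Nat.card {Q // Rel A 4 A Q ∧ Rel A 8 (lab i) Q} +
      Nat.card {Q // Rel A 1 A Q ∧ Rel A 8 (lab i) Q} = 28 := by
  classical
  have hd := deg O (h.rel i i1 i2).2.1
  let U := {Q : Subgroup G // Rel A 8 (lab i) Q}
  let S : Finset (Subgroup G) := {A, lab (flip30 i)}
  have hAm : A ≠ lab (flip30 i) :=
    (h.rel _ (by unfold flip30; split_ifs <;> omega) (by unfold flip30; split_ifs <;> omega)).2.2.1
  haveI : Fintype U := Fintype.ofFinite _
  have e : U ≃ {Q // Rel A 4 A Q ∧ Rel A 8 (lab i) Q} ⊕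
      ({Q // Rel A 1 A Q ∧ Rel A 8 (lab i) Q} ⊕ {Q // Q ∈ S}) := by
    refine Equiv.ofBijective (fun Q =>
      if h4 : Rel A 4 A Q.1 then Sum.inl ⟨Q.1, h4, Q.2⟩
      else if h1 : Rel A 1 A Q.1 then Sum.inr (Sum.inl ⟨Q.1, h1, Q.2⟩)
      else Sum.inr (Sum.inr ⟨Q.1, ?_⟩)) ⟨?_, ?_⟩
    · by_cases hQA : Q.1 = A
      · simp [S, hQA]
      · have hr : Rel A (rk A Q.1) A Q.1 := rel_A.2 ⟨Q.2.2.1, hQA, rfl⟩
        rcases rel_to_base O hr with q | q | q
        · exact absurd (rel_A.2 ⟨Q.2.2.1, hQA, q⟩) h1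
        · exact absurd (rel_A.2 ⟨Q.2.2.1, hQA, q⟩) h4
        · simp only [S, Finset.mem_insert, Finset.mem_singleton]
          exact Or.inr (common_base L O T h i1 i2 (rel_A.2 ⟨Q.2.2.1, hQA, q⟩) Q.2)
    · intro P Q e
      by_cases p4 : Rel A 4 A P.1 <;> by_cases q4 : Rel A 4 A Q.1 <;>
        by_cases p1 : Rel A 1 A P.1 <;> by_cases q1 : Rel A 1 A Q.1 <;>
        simp [p4, q4, p1, q1, Subtype.ext_iff] at e <;> exact Subtype.ext e
    · rintro (⟨Q, q4, q8⟩ | ⟨Q, q1, q8⟩ | ⟨Q, hQ⟩)
      · exact ⟨⟨Q, q8⟩, by simp [q4]⟩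
      · have : ¬ Rel A 4 A Q := fun r => absurd (rel_unique r q1) (by norm_num)
        exact ⟨⟨Q, q8⟩, by simp [this, q1]⟩
      · simp only [S, Finset.mem_insert, Finset.mem_singleton] at hQ
        rcases hQ with rfl | rfl
        · have a : ∀ r, ¬ Rel Q r Q Q := fun r q => q.2.2.1 rfl
          exact ⟨⟨Q, rel_symm O (h.rel i i1 i2)⟩, by simp [a]⟩
        · have hm := h.rel _ (by unfold flip30; split_ifs <;> omega : 1 ≤ flip30 i)
            (by unfold flip30; split_ifs <;> omega)
          have a4 : ¬ Rel A 4 A (lab (flip30 i)) := fun r => absurd (rel_unique r hm) (by norm_num)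
          have a1 : ¬ Rel A 1 A (lab (flip30 i)) := fun r => absurd (rel_unique r hm) (by norm_num)
          exact ⟨⟨_, mate_adj O T h i1 i2⟩, by simp [a4, a1]⟩
  have hc := Nat.card_congr e
  have hS : Nat.card {Q // Q ∈ S} = 2 := by
    rw [Nat.card_eq_fintype_card, Fintype.card_coe, Finset.card_pair hAm]
  rw [Nat.card_sum, Nat.card_sum, hS] at hc
  change Nat.card U = 30 at hd
  omega

theorem near30 (L : Local A) (O : Orbits A) (T : Trio A B C' y c) (h : Lab30 Cd lab) :
    Near30 A lab := by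
  classical
  let X := {P : Subgroup G // Rel A 8 A P}
  have hX : Nat.card X = 30 := nbrs_base O
  have hlab : ∀ P : X, ∃ i, 1 ≤ i ∧ i ≤ 30 ∧ lab i = P.1 := fun P => h.surj _ P.2
  have key : ∀ s k, (s = 1 ∧ k = 448) ∨ (s = 4 ∧ k = 280) → ∃ l m,
      (∀ i, 1 ≤ i → i ≤ 30 → Nat.card {Q // Rel A s A Q ∧ Rel A 8 (lab i) Q} = l) ∧
      (∀ Q, Rel A s A Q → Nat.card {P // Rel A 8 A P ∧ Rel A 8 Q P} = m) ∧ 30 * l = k * m := by
    intro s k hs
    have hk : Nat.card {Q : Subgroup G // Rel A s A Q} = k := by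
      rcases hs with ⟨rfl, rfl⟩ | ⟨rfl, rfl⟩
      · rw [← O.card_one]; exact Nat.card_congr (Equiv.subtypeEquivRight fun B => rel_A)
      · rw [← O.card_four]; exact Nat.card_congr (Equiv.subtypeEquivRight fun B => rel_A)
    have hne : Nonempty {Q : Subgroup G // Rel A s A Q} :=
      (Nat.card_pos_iff.1 (by rcases hs with ⟨rfl, rfl⟩ | ⟨rfl, rfl⟩ <;> omega)).1
    obtain ⟨Q0⟩ := hne
    refine ⟨Nat.card {Q // Rel A s A Q ∧ Rel A 8 (lab 1) Q},
      Nat.card {P // Rel A 8 A P ∧ Rel A 8 Q0.1 P},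
      fun i a b => card_const O (h.rel i a b) (h.rel 1 le_rfl (by norm_num)),
      fun Q hQ => card_const O hQ Q0.2, ?_⟩
    have := double_count (fun (P : X) (Q : {Q : Subgroup G // Rel A s A Q}) => Rel A 8 P.1 Q.1)
      (m := Nat.card {Q // Rel A s A Q ∧ Rel A 8 (lab 1) Q})
      (n := Nat.card {P // Rel A 8 A P ∧ Rel A 8 Q0.1 P})
      (fun P => by
        obtain ⟨i, a, b, e⟩ := hlab P
        rw [← card_const O (h.rel i a b) (h.rel 1 le_rfl (by norm_num)), ← e]
        exact Nat.card_congr (Equiv.subtypeSubtypeEquivSubtypeInter (fun Q => Rel A s A Q)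
          (fun Q => Rel A 8 (lab i) Q)))
      (fun Q => by
        rw [← card_const O Q.2 Q0.2]
        refine (Nat.card_congr (Equiv.subtypeSubtypeEquivSubtypeInter (fun P => Rel A 8 A P)
          (fun P => Rel A 8 P Q.1))).trans ?_
        exact Nat.card_congr (Equiv.subtypeEquivRight fun P =>
          ⟨fun a => ⟨a.1, rel_symm O a.2⟩, fun a => ⟨a.1, rel_symm O a.2⟩⟩))
    rwa [hX, hk] at this
  obtain ⟨l1, m1, f1, -, e1⟩ := key 1 448 (Or.inl ⟨rfl, rfl⟩)
  obtain ⟨l4, m4, f4, g4, e4⟩ := key 4 280 (Or.inr ⟨rfl, rfl⟩)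
  have hsum := split_deg L O T h le_rfl (show 1 ≤ 30 by norm_num)
  rw [f1 1 le_rfl (by norm_num), f4 1 le_rfl (by norm_num)] at hsum
  have hl1 : l1 = 0 := by omega
  have hm4 : m4 = 3 := by omega
  refine ⟨fun P hP => deg O hP, fun i a b => mate_adj O T h a b,
    fun i k a b c d r => only_mate L O T h a b c d r, uniq L O T h, exists_common O T h,
    fun i Q a b hQ r => ?_, fun Q hQ => ?_⟩
  · have := f1 i a b
    rw [hl1, Nat.card_eq_zero] at this
    rcases this with q | q
    · exact q.false ⟨Q, hQ, r⟩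
    · exact q.not_finite inferInstance
  · rw [← hm4, ← g4 Q hQ]
    refine Nat.card_congr (Equiv.ofBijective
      (fun i => ⟨lab i.1.1, h.rel _ i.2.1 (by omega), rel_symm O i.2.2⟩) ⟨?_, ?_⟩)
    · intro i k e
      exact Subtype.ext (Fin.ext (h.inj _ _ (by omega) (by omega) (congrArg Subtype.val e)))
    · rintro ⟨P, a, b⟩
      obtain ⟨i, i1, i2, rfl⟩ := h.surj P a
      exact ⟨⟨⟨i, by omega⟩, i1, rel_symm O b⟩, rfl⟩

end Second

end Cfsg.Agent.Lib.M24Nse65
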