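import Mathlib

/-!
Packed tables and linear maps of a space with sixteen elements, written on the numbers below sixteen.
-/

set_option autoImplicit false

namespace Cfsg.Agent.Lib.M24Nse65

/-- Entry `i` of a table packed with width `w`. -/
def tget (T w i : ℕ) : ℕ := (T >>> (w * i)) &&& (2 ^ w - 1)

/-- The image of `v` under a packed table of sixteen entries. -/
def app (T v : ℕ) : ℕ := tget T 4 v

/-- The packed table of a function on the numbers below sixteen. -/
def packFn (f : ℕ → ℕ) : ℕ :=
  (List.range 16).foldr (fun v m => m ||| (f v <<< (4 * v))) 0

/-- The table of the identity. -/
def idT : ℕ := 18364758544493064720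

/-- The composition of two tables. -/
def comp (S T : ℕ) : ℕ := packFn fun v => app S (app T v)

/-- The table is that of a bijective additive map, in packed normal form. -/
def isLin (T : ℕ) : Bool :=
  decide (packFn (app T) = T) &&
    ((List.range 16).all fun v => (List.range 16).all fun w =>
      decide (app T (v ^^^ w) = app T v ^^^ app T w)) &&
    ((List.range 16).all fun w => (List.range 16).any fun v => decide (app T v = w))

/-- The pairing of two vectors. -/
def dot (p v : ℕ) : Bool :=
  ((p &&& v).testBit 0 != (p &&& v).testBit 1) != ((p &&& v).testBit 2 != (p &&& v).testBit 3)

/-- The first generator: the companion table of `x ^ 4 + x + 1`. -/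
def tA : ℕ := 16112567834934535200

/-- The second generator: a transvection. -/
def tB : ℕ := 16067887687066194480

end Cfsg.Agent.Lib.M24Nse65
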