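import Cfsg.Agent.Lib.M24Nse65.Facts
import Cfsg.Agent.Lib.M24Nse65.GraphDefs

/-!
Coordinates on a subgroup of order sixteen and on a complement in its normalizer, and the action
of the three generators of the normalizer.
-/

set_option autoImplicit false

namespace Cfsg.Agent.Lib.M24Nse65

universe u

/-- Coordinates: `e` numbers the elements of `A`, `k` lifts every linear table to the normalizer. -/
structure Coord {G : Type u} [Group G] (A : Subgroup G) where
  e : ℕ → G
  k : ℕ → G
  mem : ∀ v, v < 16 → e v ∈ A
  surj : ∀ a ∈ A, ∃ v, v < 16 ∧ e v = a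
  inj : ∀ v w, v < 16 → w < 16 → e v = e w → v = w
  mul : ∀ v w, v < 16 → w < 16 → e (v ^^^ w) = e v * e w
  k_norm : ∀ T, isLin T = true → k T ∈ Subgroup.normalizer (A : Set G)
  k_act : ∀ T v, isLin T = true → v < 16 → k T * e v * (k T)⁻¹ = e (app T v)
  k_one : k idT = 1
  k_mul : ∀ S T, isLin S = true → isLin T = true → isLin (comp S T) = true →
    k (comp S T) = k S * k T
  onto : ∀ n ∈ Subgroup.normalizer (A : Set G),
    ∃ T v, isLin T = true ∧ v < 16 ∧ n = e v * k T

/-- The three generators of the normalizer: a translation and two linear maps. -/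
def Coord.gen {G : Type u} [Group G] {A : Subgroup G} (C : Coord A) (j : ℕ) : G :=
  if j = 0 then C.e 1 else if j = 1 then C.k tA else C.k tB

end Cfsg.Agent.Lib.M24Nse65
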