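import Cfsg.Agent.Lib.M24Nse65.Coord

/-!
A complement of an octad subgroup in its normalizer is the whole linear group of sixteen
elements: coordinates for both exist.
-/

set_option autoImplicit false

open scoped Classical Pointwise

namespace Cfsg.Agent.Lib.M24Nse65

universe u

theorem testBit_fold (f : ℕ → ℕ) (l : List ℕ) (i : ℕ) :
    (l.foldr (fun v m => m ||| (f v <<< (4 * v))) 0).testBit i = true ↔
      ∃ v ∈ l, 4 * v ≤ i ∧ (f v).testBit (i - 4 * v) = true := by
  induction l with
  | nil => simp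
  | cons a l ih =>
    simp only [List.foldr_cons, Nat.testBit_or, Bool.or_eq_true, ih, Nat.testBit_shiftLeft,
      Bool.and_eq_true, decide_eq_true_eq, List.mem_cons, exists_eq_or_imp, ge_iff_le]
    exact or_comm

theorem app_packFn {f : ℕ → ℕ} (hf : ∀ v, v < 16 → f v < 16) {v : ℕ} (hv : v < 16) :
    app (packFn f) v = f v := by
  refine Nat.eq_of_testBit_eq fun j => ?_
  rw [app, tget, Nat.testBit_and, Nat.testBit_two_pow_sub_one, Nat.testBit_shiftRight]
  rcases Nat.lt_or_ge j 4 with hj | hj
  · rw [decide_eq_true hj, Bool.and_true, Bool.eq_iff_iff, packFn, testBit_fold]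
    constructor
    · rintro ⟨w, hw, hle, hb⟩
      have hlt : 4 * v + j - 4 * w < 4 := by
        by_contra h
        rw [Nat.testBit_lt_two_pow (lt_of_lt_of_le (hf w (List.mem_range.1 hw))
          (Nat.pow_le_pow_right (by norm_num) (le_of_not_gt h) : 2 ^ 4 ≤ _))] at hb
        exact Bool.false_ne_true hb
      obtain rfl : w = v := by omega
      rwa [Nat.add_sub_cancel_left] at hb
    · intro hb
      exact ⟨v, List.mem_range.2 hv, Nat.le_add_right _ _, by rwa [Nat.add_sub_cancel_left]⟩
  · rw [decide_eq_false (by omega), Bool.and_false]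
    exact (Nat.testBit_lt_two_pow (lt_of_lt_of_le (hf v hv)
      (Nat.pow_le_pow_right (by norm_num) hj : 2 ^ 4 ≤ _))).symm

theorem packFn_congr {f g : ℕ → ℕ} (h : ∀ v, v < 16 → f v = g v) : packFn f = packFn g := by
  have key : ∀ l : List ℕ, (∀ v ∈ l, v < 16) →
      l.foldr (fun v m => m ||| (f v <<< (4 * v))) 0 =
        l.foldr (fun v m => m ||| (g v <<< (4 * v))) 0 := by
    intro l
    induction l with
    | nil => simp
    | cons a l ih =>
      intro hl
      simp only [List.foldr_cons]
      rw [ih fun v hv => hl v (List.mem_cons_of_mem _ hv), h a (hl a List.mem_cons_self)]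
  exact key _ fun v hv => List.mem_range.1 hv

theorem packFn_id : packFn (fun v => v) = idT := by decide +kernel

private theorem app_lt (T v : ℕ) : app T v < 16 :=
  lt_of_le_of_lt Nat.and_le_right (by norm_num)

theorem isLin_iff {T : ℕ} :
    isLin T = true ↔ packFn (app T) = T ∧
      (∀ v, v < 16 → ∀ w, w < 16 → app T (v ^^^ w) = app T v ^^^ app T w) ∧
      ∀ w, w < 16 → ∃ v, v < 16 ∧ app T v = w := by
  simp only [isLin, Bool.and_eq_true, decide_eq_true_eq, List.all_eq_true, List.any_eq_true,
    List.mem_range, and_assoc]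

theorem app_injOn {T : ℕ} (hT : isLin T = true) :
    Set.InjOn (app T) (Finset.range 16 : Finset ℕ) := by
  refine Finset.injOn_of_surjOn_of_card_le (app T)
    (fun v _ => Finset.mem_range.2 (app_lt T v)) (fun w hw => ?_) le_rfl
  obtain ⟨v, hv, e⟩ := (isLin_iff.1 hT).2.2 w (Finset.mem_range.1 hw)
  exact ⟨v, Finset.mem_range.2 hv, e⟩

theorem split_check : ∀ n, n < 4 → ∀ v, v < 2 ^ (n + 1) →
    v < 2 ^ n ∨ ((v - 2 ^ n) ^^^ 2 ^ n = v ∧ v - 2 ^ n < 2 ^ n) := by
  decide +kernel

/-- There are at most 20160 linear tables. -/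
theorem card_lin_le (S : Finset ℕ) (hS : ∀ T ∈ S, isLin T = true) : S.card ≤ 20160 := by
  let Φ : ℕ → ℕ → List ℕ := fun n T => (List.range (2 ^ n)).map (app T)
  have hstep : ∀ n, n < 4 → (S.image (Φ (n + 1))).card ≤ (S.image (Φ n)).card * (16 - 2 ^ n) := by
    intro n hn
    have hpow : 2 ^ (n + 1) ≤ 16 :=
      (Nat.pow_le_pow_right (by norm_num) (by omega : n + 1 ≤ 4)).trans (by norm_num)
    have hpow' : 2 ^ n < 16 := lt_of_lt_of_le (Nat.pow_lt_pow_right (by norm_num) (by omega)) hpow
    refine Finset.card_le_mul_card_image_of_maps_to (f := List.take (2 ^ n))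
      (fun l hl => ?_) _ (fun l hl => ?_) |>.trans (le_of_eq (Nat.mul_comm _ _))
    · obtain ⟨T, hT, rfl⟩ := Finset.mem_image.1 hl
      refine Finset.mem_image.2 ⟨T, hT, ?_⟩
      simp only [Φ, ← List.map_take, List.take_range]
      rw [Nat.min_eq_left (Nat.pow_le_pow_right (by norm_num) (by omega))]
    · obtain ⟨T0, hT0, rfl⟩ := Finset.mem_image.1 hl
      set U := Finset.range 16 \ (Finset.range (2 ^ n)).image (app T0)
      have hU : U.card = 16 - 2 ^ n := by
        rw [Finset.card_sdiff_of_subset, Finset.card_range, Finset.card_image_of_injOn,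
          Finset.card_range]
        · exact (app_injOn (hS _ hT0)).mono (Finset.coe_subset.2 (Finset.range_mono hpow'.le))
        · intro w hw
          obtain ⟨v, -, rfl⟩ := Finset.mem_image.1 hw
          exact Finset.mem_range.2 (app_lt _ _)
      rw [← hU]
      have hmem : ∀ m ∈ (S.image (Φ (n + 1))).filter (fun m => m.take (2 ^ n) = Φ n T0),
          ∃ T ∈ S, m = Φ (n + 1) T ∧ (∀ v, v < 2 ^ n → app T v = app T0 v) := by
        intro m hm
        obtain ⟨h1, h2⟩ := Finset.mem_filter.1 hm
        obtain ⟨T, hT, rfl⟩ := Finset.mem_image.1 h1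
        refine ⟨T, hT, rfl, fun v hv => ?_⟩
        simp only [Φ, ← List.map_take, List.take_range,
          Nat.min_eq_left (Nat.pow_le_pow_right (by norm_num : 0 < 2) (by omega : n ≤ n + 1))] at h2
        exact List.map_inj_left.1 h2 v (List.mem_range.2 hv)
      refine Finset.card_le_card_of_injOn (fun m => m.getD (2 ^ n) 0) (fun m hm => ?_) ?_
      · obtain ⟨T, hT, rfl, hag⟩ := hmem m hm
        have hget : (Φ (n + 1) T).getD (2 ^ n) 0 = app T (2 ^ n) := by
          have : 2 ^ n < 2 ^ (n + 1) := Nat.pow_lt_pow_right (by norm_num) (by omega)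
          simp [Φ, this]
        show (Φ (n + 1) T).getD (2 ^ n) 0 ∈ U
        rw [hget]
        refine Finset.mem_sdiff.2 ⟨Finset.mem_range.2 (app_lt _ _), fun h => ?_⟩
        obtain ⟨v, hv, e⟩ := Finset.mem_image.1 h
        have hv' := Finset.mem_range.1 hv
        rw [← hag v hv'] at e
        have := app_injOn (hS _ hT) (Finset.mem_range.2 (lt_trans hv' hpow'))
          (Finset.mem_range.2 hpow') e
        omega
      · intro m hm m' hm' e
        obtain ⟨T, hT, rfl, hag⟩ := hmem m hm
        obtain ⟨T', hT', rfl, hag'⟩ := hmem m' hm'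
        have h2n : 2 ^ n < 2 ^ (n + 1) := Nat.pow_lt_pow_right (by norm_num) (by omega)
        have e' : app T (2 ^ n) = app T' (2 ^ n) := by simpa [Φ, h2n] using e
        refine List.map_inj_left.2 fun v hv => ?_
        have hv' := List.mem_range.1 hv
        rcases split_check n hn v hv' with h | ⟨h, hlt⟩
        · rw [hag v h, hag' v h]
        · rw [← h, (isLin_iff.1 (hS _ hT)).2.1 _ (lt_trans hlt hpow') _ hpow',
            (isLin_iff.1 (hS _ hT')).2.1 _ (lt_trans hlt hpow') _ hpow', hag _ hlt, hag' _ hlt, e']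
  have h0 : (S.image (Φ 0)).card ≤ 1 := Finset.card_le_one.2 fun l hl l' hl' => by
    obtain ⟨T, hT, rfl⟩ := Finset.mem_image.1 hl
    obtain ⟨T', hT', rfl⟩ := Finset.mem_image.1 hl'
    have h : ∀ T ∈ S, app T 0 = 0 := fun T hT => by
      have := (isLin_iff.1 (hS _ hT)).2.1 0 (by norm_num) 0 (by norm_num)
      simpa using this
    simp [Φ, h T hT, h T' hT']
  have h4 : (S.image (Φ 4)).card = S.card := Finset.card_image_of_injOn fun T hT T' hT' e => by
    rw [← (isLin_iff.1 (hS _ hT)).1, ← (isLin_iff.1 (hS _ hT')).1]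
    exact packFn_congr fun v hv => List.map_inj_left.1 e v (List.mem_range.2 hv)
  have s0 := hstep 0 (by norm_num)
  have s1 := hstep 1 (by norm_num)
  have s2 := hstep 2 (by norm_num)
  have s3 := hstep 3 (by norm_num)
  norm_num at s0 s1 s2 s3
  omega

variable {G : Type u} [Group G]

/-- Numbering the elements of a subgroup of exponent two. -/
theorem exists_numbering [Finite G] {A : Subgroup G} (hsq : ∀ a ∈ A, a * a = 1)
    (hA : Nat.card A = 16) : ∀ n, n ≤ 4 → ∃ e : ℕ → G, (∀ v, e v ∈ A) ∧
      (∀ v w, v < 2 ^ n → w < 2 ^ n → e (v ^^^ w) = e v * e w) ∧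
      ∀ v w, v < 2 ^ n → w < 2 ^ n → e v = e w → v = w := by
  have hcomm : ∀ a ∈ A, ∀ b ∈ A, a * b = b * a := fun a ha b hb => by
    have h := hsq _ (mul_mem ha hb)
    calc a * b = a * (a * b * (a * b)) * b := by rw [h, mul_one]
      _ = (a * a) * (b * a) * (b * b) := by group
      _ = b * a := by rw [hsq a ha, hsq b hb, one_mul, mul_one]
  intro n
  induction n with
  | zero =>
    intro _
    refine ⟨fun _ => 1, fun _ => one_mem A, fun v w _ _ => (one_mul 1).symm, fun v w hv hw _ => ?_⟩
    simp at hv hw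
    omega
  | succ n ih =>
    intro hn
    obtain ⟨e, hmem, hmul, hinj⟩ := ih (by omega)
    obtain ⟨b, hbA, hb⟩ : ∃ b ∈ A, ∀ v, v < 2 ^ n → e v ≠ b := by
      by_contra hcon
      push_neg at hcon
      have hle : Nat.card A ≤ Nat.card (Fin (2 ^ n)) := by
        choose v hv he using hcon
        refine Nat.card_le_card_of_injective (fun a => ⟨v a.1 a.2, hv a.1 a.2⟩) fun a b h => ?_
        have h' : v a.1 a.2 = v b.1 b.2 := congrArg Fin.val h
        exact Subtype.ext (by rw [← he a.1 a.2, ← he b.1 b.2, h'])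
      rw [hA, Nat.card_fin] at hle
      have := Nat.pow_le_pow_right (show 2 > 0 by norm_num) (show n ≤ 3 by omega)
      omega
    let β : Bool → G := fun c => if c then b else 1
    have hβ : ∀ c, β c ∈ A := fun c => by cases c <;> simp [β, hbA, one_mem]
    have hβmul : ∀ c d : Bool, β (c ^^ d) = β c * β d := fun c d => by
      cases c <;> cases d <;> simp [β, hsq b hbA]
    have hlt : ∀ v, v % 2 ^ n < 2 ^ n := fun v => Nat.mod_lt _ (by positivity)
    refine ⟨fun v => e (v % 2 ^ n) * β (v.testBit n), fun v => mul_mem (hmem _) (hβ _),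
      fun v w _ _ => ?_, fun v w hv hw h => ?_⟩
    · simp only [Nat.xor_mod_two_pow, Nat.testBit_xor]
      rw [hmul _ _ (hlt v) (hlt w), hβmul]
      calc e (v % 2 ^ n) * e (w % 2 ^ n) * (β (v.testBit n) * β (w.testBit n))
          = e (v % 2 ^ n) * (e (w % 2 ^ n) * β (v.testBit n)) * β (w.testBit n) := by group
        _ = e (v % 2 ^ n) * β (v.testBit n) * (e (w % 2 ^ n) * β (w.testBit n)) := by
            rw [hcomm _ (hmem _) _ (hβ _)]; group
    · have hbit : v.testBit n = w.testBit n := by
        by_contra hne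
        have h1 : b = e ((v % 2 ^ n) ^^^ (w % 2 ^ n)) := by
          rw [hmul _ _ (hlt v) (hlt w)]
          have hb2 : b = β (v.testBit n) * β (w.testBit n) := by
            rw [← hβmul]
            cases hv' : v.testBit n <;> cases hw' : w.testBit n <;> simp_all [β]
          have hv2 := hsq _ (hmem (v % 2 ^ n))
          have hw2 := hsq _ (hβ (w.testBit n))
          simp only at h
          rw [hb2]
          calc β (v.testBit n) * β (w.testBit n)
              = (e (v % 2 ^ n) * e (v % 2 ^ n)) * β (v.testBit n) * β (w.testBit n) := by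
                rw [hv2, one_mul]
            _ = e (v % 2 ^ n) * (e (v % 2 ^ n) * β (v.testBit n)) * β (w.testBit n) := by group
            _ = e (v % 2 ^ n) * e (w % 2 ^ n) * (β (w.testBit n) * β (w.testBit n)) := by
                rw [h]; group
            _ = _ := by rw [hw2, mul_one]
        exact hb _ (Nat.xor_lt_two_pow (hlt v) (hlt w)) h1.symm
      simp only [hbit] at h
      have hm := hinj _ _ (hlt v) (hlt w) (mul_right_cancel h)
      refine Nat.eq_of_testBit_eq fun i => ?_
      rcases Nat.lt_trichotomy i n with hi | rfl | hi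
      · have := congrArg (fun x => Nat.testBit x i) hm
        simpa [Nat.testBit_mod_two_pow, hi] using this
      · exact hbit
      · rw [Nat.testBit_lt_two_pow (lt_of_lt_of_le hv (Nat.pow_le_pow_right (by norm_num) hi)),
          Nat.testBit_lt_two_pow (lt_of_lt_of_le hw (Nat.pow_le_pow_right (by norm_num) hi))]

theorem exists_coord [Finite G] {A : Subgroup G} (L : Local A) (K : Subgroup G)
    (hK : K ≤ Subgroup.normalizer (A : Set G)) (hi : A ⊓ K = ⊥)
    (hs : A ⊔ K = Subgroup.normalizer (A : Set G)) : Nonempty (Coord A) := by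
  haveI := Fintype.ofFinite G
  obtain ⟨e, hmem, hmul, hinj⟩ := exists_numbering L.sq L.card 4 le_rfl
  norm_num at hmul hinj
  have hsurj : ∀ a ∈ A, ∃ v, v < 16 ∧ e v = a := by
    intro a ha
    have hbij : Function.Bijective fun v : Fin 16 => (⟨e v, hmem v⟩ : A) :=
      (Nat.bijective_iff_injective_and_card _).2
        ⟨fun v w h => Fin.ext (hinj v w v.2 w.2 (congrArg Subtype.val h)), by rw [Nat.card_fin, L.card]⟩
    obtain ⟨v, hv⟩ := hbij.2 ⟨a, ha⟩
    exact ⟨v, v.2, congrArg Subtype.val hv⟩
  -- the table of an element of the complement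
  have hf : ∀ k : K, ∀ v, ∃ w, w < 16 ∧ e w = (k : G) * e v * (k : G)⁻¹ := fun k v =>
    hsurj _ ((Subgroup.mem_normalizer_iff.1 (hK k.2) _).1 (hmem v))
  choose f hf16 hfe using hf
  let tab : K → ℕ := fun k => packFn (f k)
  have happ : ∀ (k : K) v, v < 16 → app (tab k) v = f k v := fun k v hv =>
    app_packFn (fun w _ => hf16 k w) hv
  have hact : ∀ (k : K) v, v < 16 → (k : G) * e v * (k : G)⁻¹ = e (app (tab k) v) := fun k v hv => by
    rw [happ k v hv, hfe]
  have hlin : ∀ k, isLin (tab k) = true := fun k => by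
    refine isLin_iff.2 ⟨packFn_congr fun v hv => happ k v hv, fun v hv w hw => ?_, fun w hw => ?_⟩
    · refine hinj _ _ (app_lt _ _) (Nat.xor_lt_two_pow (n := 4) (app_lt _ _) (app_lt _ _)) ?_
      rw [hmul _ _ (app_lt _ _) (app_lt _ _), ← hact k _ (Nat.xor_lt_two_pow (n := 4) hv hw),
        ← hact k v hv, ← hact k w hw, hmul v w hv hw]
      group
    · obtain ⟨v, hv, hv'⟩ := hsurj ((k : G)⁻¹ * e w * (k : G))
        (((Subgroup.mem_normalizer_iff''.1 (hK k.2)) _).1 (hmem w))
      refine ⟨v, hv, hinj _ _ (app_lt _ _) hw ?_⟩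
      rw [← hact k v hv, hv']
      group
  have htab_inj : Function.Injective tab := by
    intro k k' h
    have hc : (k : G)⁻¹ * k' ∈ A := L.cent <| Subgroup.mem_centralizer_iff.2 fun a ha => by
      obtain ⟨v, hv, rfl⟩ := hsurj a ha
      have h1 : (k : G) * e v * (k : G)⁻¹ = (k' : G) * e v * (k' : G)⁻¹ := by
        rw [hact k v hv, hact k' v hv, h]
      calc e v * ((k : G)⁻¹ * k') = (k : G)⁻¹ * ((k : G) * e v * (k : G)⁻¹) * k' := by group
        _ = (k : G)⁻¹ * ((k' : G) * e v * (k' : G)⁻¹) * k' := by rw [h1]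
        _ = (k : G)⁻¹ * k' * e v := by group
    have : (k : G)⁻¹ * k' ∈ A ⊓ K := ⟨hc, mul_mem (Subgroup.inv_mem K k.2) k'.2⟩
    rw [hi, Subgroup.mem_bot] at this
    exact Subtype.ext (inv_mul_eq_one.1 this)
  have hprod : ∀ n ∈ Subgroup.normalizer (A : Set G), ∃ a ∈ A, ∃ k ∈ K, n = a * k := by
    intro n hn
    rw [← hs] at hn
    have h := Subgroup.coe_mul_of_right_le_normalizer_left A K hK
    have hn' : n ∈ (A : Set G) * (K : Set G) := by
      rw [← h]; exact hn
    obtain ⟨a, ha, k, hk, rfl⟩ := Set.mem_mul.1 hn'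
    exact ⟨a, ha, k, hk, rfl⟩
  have hcardK : 20160 ≤ Nat.card K := by
    have hle : Nat.card (Subgroup.normalizer (A : Set G)) ≤ Nat.card (A × K) := by
      choose a ha k hk hn using hprod
      refine Nat.card_le_card_of_injective
        (fun n => ((⟨a n.1 n.2, ha n.1 n.2⟩ : A), (⟨k n.1 n.2, hk n.1 n.2⟩ : K))) fun n m h => ?_
      have h1 : a n.1 n.2 = a m.1 m.2 := congrArg (fun p => (p.1 : G)) h
      have h2 : k n.1 n.2 = k m.1 m.2 := congrArg (fun p => (p.2 : G)) h
      exact Subtype.ext (by rw [hn n.1 n.2, hn m.1 m.2, h1, h2])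
    rw [L.card_norm, Nat.card_prod, L.card] at hle
    omega
  have hall : ∀ T, isLin T = true → ∃ k : K, tab k = T := by
    intro T hT
    by_contra hcon
    push_neg at hcon
    have hc := card_lin_le (insert T (Finset.univ.image tab)) fun S hS => by
      rcases Finset.mem_insert.1 hS with rfl | h
      · exact hT
      · obtain ⟨k, -, rfl⟩ := Finset.mem_image.1 h
        exact hlin k
    rw [Finset.card_insert_of_notMem (by simpa using hcon),
      Finset.card_image_of_injective _ htab_inj, Finset.card_univ, ← Nat.card_eq_fintype_card] at hc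
    omega
  choose inv hinv using hall
  let kk : ℕ → G := fun T => if h : isLin T = true then (inv T h : G) else 1
  have hkk : ∀ T (h : isLin T = true), kk T = (inv T h : G) := fun T h => dif_pos h
  have htab_one : tab 1 = idT := by
    rw [← packFn_id]
    refine packFn_congr fun v hv => hinj _ _ (hf16 1 v) hv ?_
    rw [hfe]
    simp
  refine ⟨{
    e := e
    k := kk
    mem := fun v _ => hmem v
    surj := hsurj
    inj := hinj
    mul := hmul
    k_norm := fun T h => hkk T h ▸ hK (inv T h).2
    k_act := fun T v h hv => by rw [hkk T h, hact _ v hv, hinv T h]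
    k_one := ?_
    k_mul := fun S T hS hT hST => ?_
    onto := fun n hn => ?_ }⟩
  · have h : isLin idT = true := htab_one ▸ hlin 1
    rw [hkk _ h, htab_inj ((hinv _ h).trans htab_one.symm), OneMemClass.coe_one]
  · rw [hkk S hS, hkk T hT, hkk _ hST]
    refine congrArg Subtype.val (htab_inj (a₂ := inv S hS * inv T hT) ((hinv _ hST).trans ?_))
    refine packFn_congr fun v hv => hinj _ _ (app_lt _ _) (hf16 _ v) ?_
    rw [hfe, Subgroup.coe_mul]
    have h1 := hact (inv T hT) v hv
    have h2 := hact (inv S hS) (app T v) (app_lt _ _)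
    rw [hinv T hT] at h1
    rw [hinv S hS, ← h1] at h2
    rw [← h2]
    group
  · obtain ⟨a, ha, k, hk, rfl⟩ := hprod n hn
    obtain ⟨v, hv, rfl⟩ := hsurj a ha
    refine ⟨tab ⟨k, hk⟩, v, hlin _, hv, ?_⟩
    rw [hkk _ (hlin ⟨k, hk⟩), htab_inj (hinv _ (hlin ⟨k, hk⟩))]

end Cfsg.Agent.Lib.M24Nse65
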