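import Mathlib
import Cfsg.Agent.Lib.M24Nse2.Facts

/-!
Interfaces for the recognition of the Mathieu group of degree 24 by order and element counts:
the octad subgroups and the shape of the action of a normalizer on the other conjugates.
-/

set_option autoImplicit false

namespace Cfsg.Agent.Lib.M24Nse65

universe u

/-- A subgroup of order sixteen with the properties of the octad subgroups. -/
structure Local {G : Type u} [Group G] (A : Subgroup G) : Prop where
  card : Nat.card A = 16
  sq : ∀ a ∈ A, a * a = 1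
  cent : Subgroup.centralizer (A : Set G) ≤ A
  card_norm : Nat.card (Subgroup.normalizer (A : Set G)) = 322560
  cent_le : ∀ a ∈ A, a ≠ 1 → Subgroup.centralizer ({a} : Set G) ≤ Subgroup.normalizer (A : Set G)
  card_cent : ∀ a ∈ A, a ≠ 1 → Nat.card (Subgroup.centralizer ({a} : Set G)) = 21504
  trans : ∀ a ∈ A, ∀ b ∈ A, a ≠ 1 → b ≠ 1 →
    ∃ n ∈ Subgroup.normalizer (A : Set G), n * a * n⁻¹ = b
  ti : ∀ g : G, ∀ a ∈ A, g * a * g⁻¹ ∈ A → a ≠ 1 → g ∈ Subgroup.normalizer (A : Set G)

/-- The conjugate of `A` by `g`. -/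
abbrev cj {G : Type u} [Group G] (g : G) (A : Subgroup G) : Subgroup G :=
  A.map (MulAut.conj g).toMonoidHom

/-- The conjugates of `A`. -/
def Conjs {G : Type u} [Group G] (A : Subgroup G) : Set (Subgroup G) :=
  {B | ∃ g : G, B = cj g A}

/-- The order of the subgroup of `A` normalizing `B`. -/
noncomputable def rk {G : Type u} [Group G] (A B : Subgroup G) : ℕ :=
  Nat.card ↥(A ⊓ Subgroup.normalizer (B : Set G))

/-- The relations between the conjugates of `A`. -/
structure Orbits {G : Type u} [Group G] (A : Subgroup G) : Prop where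
  card_conjs : Nat.card ↥(Conjs A) = 759
  rk_mem : ∀ B ∈ Conjs A, B ≠ A → rk A B ∈ ({1, 4, 8} : Finset ℕ)
  rk_symm : ∀ B ∈ Conjs A, B ≠ A → rk B A = rk A B
  card_eight : Nat.card {B : Subgroup G // B ∈ Conjs A ∧ B ≠ A ∧ rk A B = 8} = 30
  card_four : Nat.card {B : Subgroup G // B ∈ Conjs A ∧ B ≠ A ∧ rk A B = 4} = 280
  card_one : Nat.card {B : Subgroup G // B ∈ Conjs A ∧ B ≠ A ∧ rk A B = 1} = 448
  trans : ∀ B ∈ Conjs A, ∀ C ∈ Conjs A, B ≠ A → C ≠ A → rk A B = rk A C →
    ∃ n ∈ Subgroup.normalizer (A : Set G), cj n B = C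

/-- Three pairwise disjoint octad subgroups cycled by an element of order three which commutes
with an element of order seven fixing all three. -/
structure Trio {G : Type u} [Group G] (A B C : Subgroup G) (y c : G) : Prop where
  order_y : orderOf y = 7
  order_c : orderOf c = 3
  comm : y * c = c * y
  mem_B : B ∈ Conjs A
  cj_A : cj c A = B
  cj_B : cj c B = C
  cj_C : cj c C = A
  ne : B ≠ A ∧ C ≠ A ∧ B ≠ C
  rk_B : rk A B = 8
  rk_C : rk A C = 8
  same : A ⊓ Subgroup.normalizer (B : Set G) = A ⊓ Subgroup.normalizer (C : Set G)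
  fix : cj y A = A ∧ cj y B = B ∧ cj y C = C

end Cfsg.Agent.Lib.M24Nse65
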