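import Cfsg.Agent.Lib.M24Nse65.FarClass

/-!
The edges between conjugates of rank one, the exclusion of the linear class, and the numbering of
all 759 conjugates with the adjacency of the graph.
-/

set_option autoImplicit false
set_option linter.unusedSectionVars false
set_option linter.unusedVariables false
set_option linter.style.haveILetI false

namespace Cfsg.Agent.Lib.M24Nse65.Far

universe u

variable {G : Type u} [Group G] [Finite G] {A : Subgroup G} {C : Coord A}
  {lab Zs : ℕ → Subgroup G} {c : Cls}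

/-- An edge between a conjugate of rank one and a second-layer vertex forces a third vertex of
rank one, fixed by every symmetry of the edge. -/
theorem forced (O : Orbits A) (h : Lab310 C lab) (hc : Good c) (N : Numb C c lab Zs)
    (ws : List (List ℕ)) (hws : ∀ w ∈ ws, (∀ j ∈ w, j < 3) ∧ wperm c.pm w 0 = 0) {e t0 : ℕ}
    (he : e ∈ c.row 0) (hfix : ∀ w ∈ ws, wperm vmap w e = e)
    (huniq : ∀ t, t < 448 → t ≠ 0 → e ∈ c.row t → (∀ w ∈ ws, wperm c.pm w t = t) → t = t0) :
    t0 < 448 ∧ e ∈ c.row t0 ∧ Rel A 8 (Zs 0) (Zs t0) := by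
  obtain ⟨e1, e2⟩ := hc.row_range (by norm_num) he
  have hZ := N.rel 0 (by norm_num)
  have h0e : Rel A 8 (lab e) (Zs 0) := (N.row 0 e (by norm_num) e1 e2).2 he
  obtain ⟨R, hR⟩ := cn_eight O h h0e
  have hRm : R ∈ CN A (lab e) (Zs 0) := by rw [hR]; exact rfl
  have hR1 : Rel A 1 A R := by
    rcases conj_cases O h hRm.1.2.1 with ⟨j, hj, rfl⟩ | hR1
    · exfalso
      rcases Nat.lt_or_ge j 31 with hlt | hge
      · exact one_not_adj O h hZ (by omega) (rel_symm O hRm.2)
      have hs := edge_check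
      simp only [List.all_eq_true, List.any_eq_true, List.mem_range, decide_eq_true_eq,
        Bool.or_eq_true, List.contains_iff_mem] at hs
      have hs' := hs (e - 31) (by omega) j (by
        rw [show e - 31 + 31 = e by omega]
        exact mem_lowNb.2 ⟨(adj_iff (by omega)).1 (adj_of_rel8 h e2 hj hRm.1), by omega⟩)
      rw [show e - 31 + 31 = e by omega] at hs'
      rcases hs' with hlt | ⟨x, hx, hx'⟩
      · omega
      rw [← x3_eq e1 e2] at hx
      rw [← x3_eq hge hj] at hx'
      obtain ⟨hx0, hx1, hx2⟩ := mem_x3.1 hx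
      obtain ⟨R', hR'⟩ := cn_eight O h hRm.1
      have a1 : Zs 0 ∈ CN A (lab e) (lab j) := ⟨h0e, rel_symm O hRm.2⟩
      have a2 : lab x ∈ CN A (lab e) (lab j) :=
        ⟨rel8_of_adj h e2 (by omega) (by omega) ((adj_iff (by omega)).2 hx0),
          rel8_of_adj h hj (by omega) (by omega) ((adj_iff (by omega)).2 (mem_x3.1 hx').1)⟩
      rw [hR', Set.mem_singleton_iff] at a1 a2
      exact not_one_lab h (i := x) (by omega) (by rw [a2, ← a1]; exact hZ)
    · exact hR1
  obtain ⟨t, ht, htR⟩ := N.surj R hR1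
  subst htR
  have het : e ∈ c.row t := (N.row t e ht e1 e2).1 hRm.1
  have htne : t ≠ 0 := by
    rintro rfl
    exact hRm.2.2.2.1 rfl
  have hfixt : ∀ w ∈ ws, wperm c.pm w t = t := by
    intro w hw
    obtain ⟨hj, hw0⟩ := hws w hw
    have m1 := rel_cj (C.ev w) hRm.1
    have m2 := rel_cj (C.ev w) hRm.2
    rw [cj_ev_lab h hj e2, hfix w hw, cj_ev_Zs hc N.equiv hj ht] at m1
    rw [cj_ev_Zs hc N.equiv hj (by norm_num), hw0, cj_ev_Zs hc N.equiv hj ht] at m2
    have hm : Zs (wperm c.pm w t) ∈ CN A (lab e) (Zs 0) := ⟨m1, m2⟩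
    rw [hR, Set.mem_singleton_iff] at hm
    exact N.inj _ _ (hc.wperm_lt hj ht) ht hm
  obtain rfl := huniq t ht htne het hfixt
  exact ⟨ht, het, hRm.2⟩

/-- The conjugates of rank one do not form the linear class. -/
theorem not_linear (O : Orbits A) (h : Lab310 C lab) (N : Numb C linC lab Zs) : False := by
  have hst := stab_check
  simp only [Bool.and_eq_true, List.all_eq_true, decide_eq_true_eq] at hst
  have hl := lin_edge
  simp only [Bool.and_eq_true, List.all_eq_true, List.any_eq_true, decide_eq_true_eq,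
    List.mem_range, Bool.or_eq_true, Bool.not_eq_true'] at hl
  obtain ⟨⟨he, hfix⟩, huniq⟩ := hl
  obtain ⟨ht, het, h8⟩ := forced O h good_lin N stabEdgeAWords
    (fun w hw => hst.2 w (by simp [hw])) he hfix (t0 := linThird) (fun t ht tne te tfix => by
      rcases huniq t ht with ((e | e) | e) | ⟨w, hw, e⟩
      · exact absurd e tne
      · exact e
      · rw [← List.contains_iff_mem, e] at te
        exact absurd te (by decide)
      · exact absurd (tfix w hw) e)
  obtain ⟨e1, e2⟩ := good_lin.row_range (by norm_num) he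
  have hw := lin_witness
  simp only [Bool.and_eq_true, List.all_eq_true, decide_eq_true_eq] at hw
  obtain ⟨⟨⟨⟨hj, a0⟩, a1⟩, b0⟩, b1⟩ := hw
  have j0 : ∀ j ∈ linWitness.getD 0 [], j < 3 := fun j hj' => hj _ (by simp [linWitness]) j hj'
  have j1 : ∀ j ∈ linWitness.getD 1 [], j < 3 := fun j hj' => hj _ (by simp [linWitness]) j hj'
  have w0 := rel_cj (C.ev (linWitness.getD 0 [])) h8
  have w1 := rel_cj (C.ev (linWitness.getD 1 [])) h8
  rw [cj_ev_Zs good_lin N.equiv j0 (by norm_num), cj_ev_Zs good_lin N.equiv j0 ht, a0, a1] at w0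
  rw [cj_ev_Zs good_lin N.equiv j1 (by norm_num), cj_ev_Zs good_lin N.equiv j1 ht, b0, b1] at w1
  obtain ⟨R, hR⟩ := cn_eight O h h8
  have c1 : lab linEdgeBase ∈ CN A (Zs 0) (Zs linThird) :=
    ⟨rel_symm O ((N.row 0 _ (by norm_num) e1 e2).2 he), rel_symm O ((N.row _ _ ht e1 e2).2 het)⟩
  have c2 : Zs 160 ∈ CN A (Zs 0) (Zs linThird) := ⟨w0, w1⟩
  rw [hR, Set.mem_singleton_iff] at c1 c2
  exact not_one_lab h e2 (by rw [c1, ← c2]; exact N.rel 160 (by norm_num))

theorem mem_farRow {z t : ℕ} : t ∈ farRow z ↔ 311 + t ∈ nbs (311 + z) := by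
  simp only [farRow, List.mem_map, List.mem_filter, decide_eq_true_eq]
  constructor
  · rintro ⟨j, ⟨hj, hj'⟩, rfl⟩
    rwa [show 311 + (j - 311) = j by omega]
  · exact fun ht => ⟨311 + t, ⟨ht, by omega⟩, by omega⟩

/-- Adjacency of two conjugates of rank one in the third layer. -/
theorem far_adj (O : Orbits A) (h : Lab310 C lab) (N : Numb C farC lab Zs) {z t : ℕ}
    (hz : z < 448) (ht : t < 448) :
    Rel A 8 (Zs z) (Zs t) ↔ t ∈ farRow z := by
  classical
  have hst := stab_check
  simp only [Bool.and_eq_true, List.all_eq_true, decide_eq_true_eq] at hst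
  have hl := far_edge
  simp only [Bool.and_eq_true, List.all_eq_true, List.any_eq_true, decide_eq_true_eq,
    List.mem_range, Bool.or_eq_true, Bool.not_eq_true'] at hl
  obtain ⟨⟨he, hfix⟩, huniq⟩ := hl
  obtain ⟨ht0, -, h8⟩ := forced O h good_far N stabEdgeWords
    (fun w hw => hst.1 w (by simp [hw])) he hfix (t0 := edgeThird - 311) (fun t ht tne te tfix => by
      rcases huniq t ht with ((e | e) | e) | ⟨w, hw, e⟩
      · exact absurd e tne
      · exact e
      · rw [← List.contains_iff_mem, e] at te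
        exact absurd te (by decide)
      · exact absurd (tfix w hw) e)
  have hff := far_far
  simp only [Bool.and_eq_true, List.all_eq_true, List.mem_range, decide_eq_true_eq,
    List.contains_iff_mem] at hff
  obtain ⟨hrow, hclose⟩ := hff
  have hzero : ∀ t ∈ farRow 0, Rel A 8 (Zs 0) (Zs t) := by
    have hall := closeN_spec (P := farC.pm) (ws := stabFarWords)
      (Q := fun t => t < 448 ∧ Rel A 8 (Zs 0) (Zs t))
      (fun w hw t ht => by
        obtain ⟨hj, hw0⟩ := hst.1 w (by simp [hw])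
        refine ⟨good_far.wperm_lt hj ht.1, ?_⟩
        have := rel_cj (C.ev w) ht.2
        rwa [cj_ev_Zs good_far N.equiv hj (by norm_num), cj_ev_Zs good_far N.equiv hj ht.1, hw0]
          at this) 6 [edgeThird - 311] (by simpa using And.intro ht0 h8)
    exact fun t ht => (hall t (hclose t ht)).2
  have hrows : ∀ z, z < 448 → ∀ t ∈ farRow z, Rel A 8 (Zs z) (Zs t) := by
    intro z hz
    refine (good_far.of_zero (Q := fun z => z < 448 ∧ ∀ t ∈ farRow z, Rel A 8 (Zs z) (Zs t))
      ?_ ⟨by norm_num, hzero⟩ hz).2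
    rintro j z hj - ⟨hz', hQ⟩
    refine ⟨good_far.pm_lt hj hz', fun t ht => ?_⟩
    have hm := ((hrow z hz').2 j (by interval_cases j <;> simp)).1
    obtain ⟨w, hw, rfl⟩ := List.mem_map.1 ((mem_of_maskOf_eq hm t).2 ht)
    have hw' : w < 448 := ((hrow z hz').1.2 w hw).1
    have := rel_cj (C.gen j) (hQ w hw)
    rwa [N.equiv j z hj hz', N.equiv j w hj hw'] at this
  refine ⟨fun hr => ?_, hrows z hz t⟩
  obtain ⟨⟨⟨hlen, hnd⟩, hlt⟩, -⟩ := hrow z hz
  set S := lab '' ((farC.row z).toFinset : Set ℕ) ∪ Zs '' ((farRow z).toFinset : Set ℕ) with hS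
  have hsub : S ⊆ {B | Rel A 8 (Zs z) B} := by
    rintro B (⟨y, hy, rfl⟩ | ⟨w, hw, rfl⟩)
    · simp only [List.coe_toFinset, Set.mem_ofPred_eq] at hy
      obtain ⟨y1, y2⟩ := good_far.row_range hz hy
      exact rel_symm O ((N.row z y hz y1 y2).2 hy)
    · simp only [List.coe_toFinset, Set.mem_ofPred_eq] at hw
      exact hrows z hz w hw
  have hdis : Disjoint (lab '' ((farC.row z).toFinset : Set ℕ))
      (Zs '' ((farRow z).toFinset : Set ℕ)) := by
    rw [Set.disjoint_left]
    rintro B ⟨y, hy, rfl⟩ ⟨w, hw, e⟩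
    simp only [List.coe_toFinset, Set.mem_ofPred_eq] at hy hw
    exact not_one_lab h (good_far.row_range hz hy).2 (e ▸ N.rel w (hlt w hw).1)
  have hcard : S.ncard = 30 := by
    rw [hS, Set.ncard_union_eq hdis, Set.InjOn.ncard_image, Set.InjOn.ncard_image,
      Set.ncard_coe_finset, Set.ncard_coe_finset, (good_far.row_card hz).2,
      List.toFinset_card_of_nodup hnd, hlen]
    · intro a ha b hb e
      simp only [List.coe_toFinset, Set.mem_ofPred_eq] at ha hb
      exact N.inj a b (hlt a ha).1 (hlt b hb).1 e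
    · intro a ha b hb e
      simp only [List.coe_toFinset, Set.mem_ofPred_eq] at ha hb
      exact h.inj a b (good_far.row_range hz ha).2 (good_far.row_range hz hb).2 e
  have heq := Set.eq_of_subset_of_ncard_le hsub (by rw [hcard, card_nbr O (N.rel z hz).2.1])
  have hm : Zs t ∈ S := by rw [heq]; exact hr
  rcases hm with ⟨y, hy, e⟩ | ⟨w, hw, e⟩
  · simp only [List.coe_toFinset, Set.mem_ofPred_eq] at hy
    exact absurd (e.symm ▸ N.rel t ht) (not_one_lab h (good_far.row_range hz hy).2)
  · simp only [List.coe_toFinset, Set.mem_ofPred_eq] at hw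
    rwa [← N.inj w t (hlt w hw).1 ht e]

/-- Adjacency between the first 311 vertices and the third layer. -/
theorem low_far_adj (O : Orbits A) (h : Lab310 C lab) (N : Numb C farC lab Zs) {i z : ℕ}
    (hi : i ≤ 310) (hz : z < 448) :
    Rel A 8 (lab i) (Zs z) ↔ adj0 i (311 + z) = true := by
  rw [adj_iff (by omega)]
  rcases Nat.lt_or_ge i 31 with hlt | hge
  · refine iff_of_false (one_not_adj O h (N.rel z hz) (by omega)) fun hm => ?_
    rcases Nat.eq_zero_or_pos i with rfl | hpos
    · have := (zero_facts _).1 hm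
      omega
    · have := (x_facts hpos (by omega)).1 _ hm
      omega
  · rw [N.row z i hz hge hi]
    show i ∈ lowNb (311 + z) ↔ _
    rw [mem_lowNb]
    exact ⟨fun hm => (nb_sym (by omega) hm.1).2, fun hm => ⟨(nb_sym (by omega) hm).2, by omega⟩⟩

end Cfsg.Agent.Lib.M24Nse65.Far

namespace Cfsg.Agent.Lib.M24Nse65

open Far

universe u

/-- The conjugates of `A` are numbered with the adjacency of the graph on 759 vertices. -/
theorem exists_lab759 {G : Type u} [Group G] [Finite G] {A : Subgroup G} (L : Local A)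
    (O : Orbits A) (C : Coord A) {lab : ℕ → Subgroup G} (h : Lab310 C lab) :
    ∃ lab' : Fin 759 → Subgroup G, (∀ i, lab' i ∈ Conjs A) ∧ Function.Injective lab' ∧
      (∀ B ∈ Conjs A, ∃ i, lab' i = B) ∧
      ∀ i j, i ≠ j → (rk (lab' i) (lab' j) = 8 ↔ adj0 i j = true) := by
  obtain ⟨c, lab2, Zs, hc, h2, N⟩ := exists_numb O h
  rcases hc with rfl | rfl
  swap
  · exact (not_linear O h2 N).elim
  set f : Fin 759 → Subgroup G := fun i => if i.1 < 311 then lab2 i.1 else Zs (i.1 - 311) with hf
  have flo : ∀ i : Fin 759, i.1 < 311 → f i = lab2 i.1 := fun i hi => by simp [hf, hi]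
  have fhi : ∀ i : Fin 759, ¬ i.1 < 311 → f i = Zs (i.1 - 311) := fun i hi => by simp [hf, hi]
  have hmem : ∀ i, f i ∈ Conjs A := by
    intro i
    by_cases hi : i.1 < 311
    · rw [flo i hi]; exact lab_mem h2 (by omega)
    · rw [fhi i hi]; exact (N.rel _ (by omega)).2.1
  have hinj : Function.Injective f := by
    intro i j e
    by_cases hi : i.1 < 311 <;> by_cases hj : j.1 < 311
    · rw [flo i hi, flo j hj] at e
      exact Fin.ext (h2.inj _ _ (by omega) (by omega) e)
    · rw [flo i hi, fhi j hj] at e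
      exact absurd (e ▸ N.rel _ (by omega)) (not_one_lab h2 (i := i.1) (by omega))
    · rw [fhi i hi, flo j hj] at e
      exact absurd (e ▸ N.rel _ (by omega)) (not_one_lab h2 (i := j.1) (by omega))
    · rw [fhi i hi, fhi j hj] at e
      have := N.inj _ _ (by omega) (by omega) e
      exact Fin.ext (by omega)
  refine ⟨f, hmem, hinj, fun B hB => ?_, fun i j hne => ?_⟩
  · rcases conj_cases O h2 hB with ⟨i, hi, e⟩ | h1
    · exact ⟨⟨i, by omega⟩, by rw [flo _ (by simp; omega), e]⟩
    · obtain ⟨z, hz, e⟩ := N.surj B h1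
      refine ⟨⟨311 + z, by omega⟩, ?_⟩
      rw [fhi _ (by simp), ← e]
      simp
  have hrk : rk (f i) (f j) = 8 ↔ Rel A 8 (f i) (f j) :=
    ⟨fun e => ⟨hmem i, hmem j, fun e' => hne (hinj e'), e⟩, fun e => e.2.2.2⟩
  rw [hrk]
  by_cases hi : i.1 < 311 <;> by_cases hj : j.1 < 311
  · rw [flo i hi, flo j hj]
    exact ⟨adj_of_rel8 h2 (by omega) (by omega),
      rel8_of_adj h2 (by omega) (by omega) fun e => hne (Fin.ext e)⟩
  · rw [flo i hi, fhi j hj, low_far_adj O h2 N (by omega) (by omega),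
      show 311 + (j.1 - 311) = j.1 by omega]
  · rw [fhi i hi, flo j hj]
    refine Iff.trans ⟨rel_symm O, rel_symm O⟩ ?_
    rw [low_far_adj O h2 N (by omega) (by omega), show 311 + (i.1 - 311) = i.1 by omega]
    exact ⟨adj_symm (by omega), adj_symm i.2⟩
  · rw [fhi i hi, fhi j hj, far_adj O h2 N (by omega) (by omega), mem_farRow,
      show 311 + (i.1 - 311) = i.1 by omega, show 311 + (j.1 - 311) = j.1 by omega, adj_iff i.2]

end Cfsg.Agent.Lib.M24Nse65
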