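import Cfsg.Agent.Lib.M24Nse65.FarDefs

/-!
Kernel checks on the first 311 vertices.
-/

set_option autoImplicit false
set_option maxRecDepth 100000

namespace Cfsg.Agent.Lib.M24Nse65.Far

theorem nb_mask_check : (List.range 759).all (fun i => decide (maskOf (nbs i) = nbMask i)) = true := by
  decide +kernel

theorem nb_sym_check : (List.range 759).all (fun i => (nbs i).all fun j =>
    decide (j < 759) && adj0 j i) = true := by
  decide +kernel

theorem base_check : (decide (nbs 0 = (List.range 30).map (fun k => k + 1))) = true := by
  decide +kernel

theorem x_check : (List.range 30).all (fun x' => let x := x' + 1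
    (nbs x).all (fun j => decide (j < 311)) && decide ((nbs x).Nodup) &&
      (nbs x).contains (flip30 x) && decide (x3 x = [flip30 x])) = true := by
  decide +kernel

theorem y_check : (List.range 280).all (fun y' => let y := y' + 31
    decide ((x3f y).length = 3) && decide ((x3f y).Nodup) && decide ((lowNb y).length = 6) &&
      decide ((lowNb y).Nodup) && decide ((nbs y).Nodup) &&
      (lowNb y).all (fun j => decide (1 ≤ j)) &&
      (x3f y).all (fun a => (x3f y).all fun b => decide (a = b) ||
        (decide (pOf a ≠ pOf b) && (x3f y).any fun x => decide (pOf x = pOf a ^^^ pOf b) &&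
          (decide (x % 2 = 0) == (decide (a % 2 = 0) != decide (b % 2 = 0))))) &&
      (x3f y).all (fun a => (x3f y).all fun b => (x3f y).all fun x =>
        decide (a = b) || decide (x = a) || decide (x = b) ||
          decide (pOf x = pOf a ^^^ pOf b))) = true := by
  decide +kernel

theorem edge_check : (List.range 280).all (fun y' => let y := y' + 31
    (lowNb y).all fun w => decide (w < 31) || (x3f y).any fun x => (x3f w).contains x) = true := by
  decide +kernel

theorem tri_check : (List.range 280).all (fun y' => let y := y' + 31
    (List.range 30).all fun x' => let x := x' + 1
      adj0 y x || adj0 y (flip30 x) || decide (nbMask x &&& nbMask y = 0)) = true := by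
  decide +kernel

theorem same_check : (List.range 280).all (fun y' => let y := y' + 31
    decide (31 ≤ flipT y) && decide (flipT y < 311) && decide (flipT y ≠ y) &&
      decide (flipT (flipT y) = y) && decide (x3f (flipT y) = x3f y) &&
      (nbs ((x3f y).headD 0)).all (fun w => decide (w < 31) || decide (310 < w) ||
        decide (w = y) || decide (w = flipT y) || (x3f y).any fun x => !(x3f w).contains x)) = true := by
  decide +kernel

theorem self_check : (List.range 280).all (fun y' => !adj0 (y' + 31) (y' + 31)) = true := by
  decide +kernel

theorem vmap_check : [0, 1, 2].all (fun j => (List.range 311).all fun i =>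
    decide (vmap j i < 311) && decide (flipT (vmap j i) = vmap j (flipT i))) = true := by
  decide +kernel

theorem flip_check : (List.range 311).all (fun i =>
    decide (flipT i < 311) && decide (flipT (flipT i) = i) && (decide (31 ≤ i) || decide (flipT i = i)) &&
      decide (maskOf ((lowNb i).map flipT) = maskOf (lowNb (flipT i)))) = true := by
  decide +kernel

theorem tr_zero_check : (List.range 311).all (fun i => decide (trB 0 i = vmap 0 i)) = true := by
  decide +kernel

theorem tr_step_check : (List.range 3).all (fun k => (List.range 311).all fun i =>
    decide (trB k i < 311) && decide (trB (k + 1) i < 311) &&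
      decide (trB (k + 1) (vmap 1 i) = vmap 1 (trB k i))) = true := by
  decide +kernel

theorem tA_check : ((List.range 3).all fun k => decide (app tA (2 ^ k) = 2 ^ (k + 1))) = true := by
  decide +kernel

theorem cycle_check : (List.range 311).all (fun i =>
    decide ((vmap 1)^[15] i = i)) = true := by
  decide +kernel

theorem x3f_check : (List.range 280).all (fun y' => decide (x3 (y' + 31) = x3f (y' + 31))) = true := by
  decide +kernel

theorem tr_line_check : (List.range 280).all (fun y' => let y := y' + 31
    (List.range 16).all fun v =>
      (decide (tr v y = y) == (x3f y).all fun x => !dot (pOf x) v) &&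
        ((x3f y).all fun x => dot (pOf x) v || decide (tr v y = y) || !adj0 (tr v y) y)) = true := by
  decide +kernel

end Cfsg.Agent.Lib.M24Nse65.Far
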