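import Cfsg.Agent.Lib.M24Nse65.Near
import Cfsg.Agent.Lib.M24Nse65.FarChecksBase

/-!
Consequences of a numbering of the first 311 vertices: common neighbours of any two conjugates,
the triangle lemma, and the action of the translations.
-/

set_option autoImplicit false
set_option linter.unusedSectionVars false
set_option linter.unusedVariables false

namespace Cfsg.Agent.Lib.M24Nse65.Far

theorem mem_maskOf {l : List ℕ} {j : ℕ} : (maskOf l).testBit j = true ↔ j ∈ l := by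
  induction l with
  | nil => simp [maskOf]
  | cons i l ih =>
    simp only [maskOf, Nat.testBit_or, Bool.or_eq_true, ih, List.mem_cons, Nat.one_shiftLeft,
      Nat.testBit_two_pow, decide_eq_true_eq]
    exact or_congr eq_comm Iff.rfl

theorem mem_of_maskOf_eq {l l' : List ℕ} (h : maskOf l = maskOf l') (j : ℕ) : j ∈ l ↔ j ∈ l' := by
  rw [← mem_maskOf, h, mem_maskOf]

theorem adj_iff {i j : ℕ} (hi : i < 759) : adj0 i j = true ↔ j ∈ nbs i := by
  have h := nb_mask_check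
  simp only [List.all_eq_true, List.mem_range, decide_eq_true_eq] at h
  rw [← mem_maskOf, h i hi, adj0]

theorem nb_sym {i j : ℕ} (hi : i < 759) (hj : j ∈ nbs i) : j < 759 ∧ i ∈ nbs j := by
  have h := nb_sym_check
  simp only [List.all_eq_true, List.mem_range, decide_eq_true_eq, Bool.and_eq_true] at h
  exact ⟨(h i hi j hj).1, (adj_iff (h i hi j hj).1).1 (h i hi j hj).2⟩

theorem adj_symm {i j : ℕ} (hi : i < 759) (h : adj0 i j = true) : adj0 j i = true := by
  obtain ⟨hj, hi'⟩ := nb_sym hi ((adj_iff hi).1 h)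
  exact (adj_iff hj).2 hi'

theorem mem_lowNb {i j : ℕ} : j ∈ lowNb i ↔ j ∈ nbs i ∧ j < 311 := by simp [lowNb]

theorem mem_x3 {y x : ℕ} : x ∈ x3 y ↔ x ∈ nbs y ∧ 1 ≤ x ∧ x ≤ 30 := by simp [x3]

theorem x_facts {x : ℕ} (h1 : 1 ≤ x) (h2 : x ≤ 30) :
    (∀ j ∈ nbs x, j < 311) ∧ (nbs x).Nodup ∧ flip30 x ∈ nbs x ∧ x3 x = [flip30 x] := by
  have h := x_check
  simp only [List.all_eq_true, List.mem_range, decide_eq_true_eq, Bool.and_eq_true,
    List.contains_iff_mem] at h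
  have h' := h (x - 1) (by omega)
  rw [show x - 1 + 1 = x by omega] at h'
  exact ⟨h'.1.1.1, h'.1.1.2, h'.1.2, h'.2⟩

theorem flip30_facts {x : ℕ} (h1 : 1 ≤ x) (h2 : x ≤ 30) :
    1 ≤ flip30 x ∧ flip30 x ≤ 30 ∧ flip30 x ≠ x ∧ pOf (flip30 x) = pOf x := by
  have hb : ∀ i, i < 31 → 1 ≤ i →
      1 ≤ flip30 i ∧ flip30 i ≤ 30 ∧ flip30 i ≠ i ∧ pOf (flip30 i) = pOf i := by decide +kernel
  exact hb x (by omega) h1

theorem not_mem_nbs_self {x : ℕ} (h1 : 1 ≤ x) (h2 : x ≤ 30) : x ∉ nbs x := by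
  intro h
  have : x ∈ x3 x := mem_x3.2 ⟨h, h1, h2⟩
  rw [(x_facts h1 h2).2.2.2, List.mem_singleton] at this
  exact (flip30_facts h1 h2).2.2.1 this.symm

theorem zero_facts : ∀ j, j ∈ nbs 0 ↔ 1 ≤ j ∧ j ≤ 30 := by
  intro j
  have h := base_check
  rw [decide_eq_true_eq] at h
  rw [h, List.mem_map]
  constructor
  · rintro ⟨k, hk, rfl⟩
    rw [List.mem_range] at hk; omega
  · exact fun hj => ⟨j - 1, List.mem_range.2 (by omega), by omega⟩

variable {G : Type*} [Group G] [Finite G] {A : Subgroup G}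

/-- The common neighbours of two conjugates. -/
def CN (A P Q : Subgroup G) : Set (Subgroup G) := {R | Rel A 8 P R ∧ Rel A 8 Q R}

theorem pre_eq (g : G) (H : Subgroup G) : H = cj g (cj g⁻¹ H) := by
  rw [cj_cj, mul_inv_cancel, cj_one]

theorem rel_cj_iff {r : ℕ} (g : G) {P Q : Subgroup G} :
    Rel A r (cj g P) (cj g Q) ↔ Rel A r P Q := by
  refine ⟨fun h => ?_, rel_cj g⟩
  have := rel_cj g⁻¹ h
  rwa [cj_cj, cj_cj, inv_mul_cancel, cj_one, cj_one] at this

theorem cn_cj (g : G) (P Q : Subgroup G) : CN A (cj g P) (cj g Q) = cj g '' CN A P Q := by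
  ext R
  constructor
  · rintro ⟨h1, h2⟩
    rw [pre_eq g R, rel_cj_iff] at h1 h2
    exact ⟨cj g⁻¹ R, ⟨h1, h2⟩, (pre_eq g R).symm⟩
  · rintro ⟨R, ⟨h1, h2⟩, rfl⟩
    exact ⟨rel_cj g h1, rel_cj g h2⟩

theorem ncard_cn_cj (g : G) (P Q : Subgroup G) :
    (CN A (cj g P) (cj g Q)).ncard = (CN A P Q).ncard := by
  rw [cn_cj]
  exact Set.ncard_image_of_injective _ fun _ _ => cj_inj

theorem cj_mem_iff {g : G} {H : Subgroup G} : cj g H ∈ Conjs A ↔ H ∈ Conjs A := by
  refine ⟨fun h => ?_, cj_mem_conjs⟩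
  have := cj_mem_conjs (g := g⁻¹) h
  rwa [cj_cj, inv_mul_cancel, cj_one] at this

theorem card_nbr (O : Orbits A) {P : Subgroup G} (hP : P ∈ Conjs A) :
    {B | Rel A 8 P B}.ncard = 30 := by
  obtain ⟨g, rfl⟩ := hP
  have h : {B | Rel A 8 (cj g A) B} = cj g '' {B | Rel A 8 A B} := by
    ext B
    constructor
    · intro hB
      rw [Set.mem_ofPred_eq, pre_eq g B, rel_cj_iff] at hB
      exact ⟨_, hB, (pre_eq g B).symm⟩
    · rintro ⟨B, hB, rfl⟩
      exact rel_cj g hB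
  rw [h, Set.ncard_image_of_injective _ fun _ _ => cj_inj, ← Nat.card_coe_set_eq, ← O.card_eight]
  exact Nat.card_congr (Equiv.subtypeEquivRight fun B => rel_A)

variable {C : Coord A} {lab : ℕ → Subgroup G}

theorem lab_mem (h : Lab310 C lab) {i : ℕ} (hi : i ≤ 310) : lab i ∈ Conjs A := by
  rcases Nat.eq_zero_or_pos i with rfl | h1
  · rw [h.l30.base]; exact self_mem_conjs
  rcases Nat.lt_or_ge i 31 with h2 | h2
  · exact (h.l30.rel i h1 (by omega)).2.1
  · exact (h.rel4 i h2 hi).2.1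

theorem rel8_of_adj (h : Lab310 C lab) {i j : ℕ} (hi : i ≤ 310) (hj : j ≤ 310) (hne : i ≠ j)
    (ha : adj0 i j = true) : Rel A 8 (lab i) (lab j) :=
  ⟨lab_mem h hi, lab_mem h hj, fun e => hne (h.inj i j hi hj e), (h.adj i j hi hj hne).2 ha⟩

theorem adj_of_rel8 (h : Lab310 C lab) {i j : ℕ} (hi : i ≤ 310) (hj : j ≤ 310)
    (hr : Rel A 8 (lab i) (lab j)) : adj0 i j = true :=
  (h.adj i j hi hj fun e => hr.2.2.1 (by rw [e])).1 hr.2.2.2

theorem conj_cases (O : Orbits A) (h : Lab310 C lab) {B : Subgroup G} (hB : B ∈ Conjs A) :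
    (∃ i, i ≤ 310 ∧ lab i = B) ∨ Rel A 1 A B := by
  by_cases e : B = A
  · exact Or.inl ⟨0, by omega, by rw [h.l30.base, e]⟩
  have hr := O.rk_mem B hB e
  simp only [Finset.mem_insert, Finset.mem_singleton] at hr
  rcases hr with hr | hr | hr
  · exact Or.inr (rel_A.2 ⟨hB, e, hr⟩)
  · obtain ⟨i, -, h2, h3⟩ := h.surj B (rel_A.2 ⟨hB, e, hr⟩)
    exact Or.inl ⟨i, h2, h3⟩
  · obtain ⟨i, -, h2, h3⟩ := h.l30.surj B (rel_A.2 ⟨hB, e, hr⟩)
    exact Or.inl ⟨i, by omega, h3⟩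

theorem not_one_lab (h : Lab310 C lab) {i : ℕ} (hi : i ≤ 310) : ¬ Rel A 1 A (lab i) := by
  intro hr
  rcases Nat.eq_zero_or_pos i with rfl | h1
  · exact hr.2.2.1 h.l30.base.symm
  rcases Nat.lt_or_ge i 31 with h2 | h2
  · exact absurd (rel_unique hr (h.l30.rel i h1 (by omega))) (by norm_num)
  · exact absurd (rel_unique hr (h.rel4 i h2 hi)) (by norm_num)

theorem nbr_x (O : Orbits A) (h : Lab310 C lab) {x : ℕ} (h1 : 1 ≤ x) (h2 : x ≤ 30)
    {B : Subgroup G} (hB : Rel A 8 (lab x) B) : ∃ j ∈ nbs x, lab j = B := by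
  classical
  obtain ⟨hlt, hnd, -, -⟩ := x_facts h1 h2
  have hinj : Set.InjOn lab {j | j ∈ nbs x} := fun a ha b hb e =>
    h.inj a b (by have := hlt a ha; omega) (by have := hlt b hb; omega) e
  have hsub : lab '' {j | j ∈ nbs x} ⊆ {B | Rel A 8 (lab x) B} := by
    rintro _ ⟨j, hj, rfl⟩
    have := hlt j hj
    refine rel8_of_adj h (by omega) (by omega) ?_ ((adj_iff (by omega)).2 hj)
    rintro rfl
    exact not_mem_nbs_self h1 h2 hj
  have hc : (lab '' {j | j ∈ nbs x}).ncard = 30 := by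
    rw [hinj.ncard_image]
    have : {j | j ∈ nbs x} = ((nbs x).toFinset : Set ℕ) := by ext; simp
    rw [this, Set.ncard_coe_finset, List.toFinset_card_of_nodup hnd]
    simp [nbs]
  have := Set.eq_of_subset_of_ncard_le hsub (by rw [hc, card_nbr O (lab_mem h (by omega))])
  have hB' : B ∈ lab '' {j | j ∈ nbs x} := by rw [this]; exact hB
  obtain ⟨j, hj, rfl⟩ := hB'
  exact ⟨j, hj, rfl⟩

theorem mem_cn_base (h : Lab310 C lab) {i : ℕ} (hi : i ≤ 310)
    {B : Subgroup G} : B ∈ CN A A (lab i) ↔ ∃ x ∈ x3 i, lab x = B := by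
  constructor
  · rintro ⟨h1, h2⟩
    obtain ⟨x, hx1, hx2, rfl⟩ := h.l30.surj B h1
    have ha := adj_of_rel8 h hi (by omega) h2
    exact ⟨x, mem_x3.2 ⟨(adj_iff (by omega)).1 ha, hx1, hx2⟩, rfl⟩
  · rintro ⟨x, hx, rfl⟩
    obtain ⟨hx0, hx1, hx2⟩ := mem_x3.1 hx
    refine ⟨h.l30.rel x hx1 hx2, rel8_of_adj h hi (by omega) ?_ ((adj_iff (by omega)).2 hx0)⟩
    rintro rfl
    exact not_mem_nbs_self hx1 hx2 hx0

theorem no_common_one (O : Orbits A) (h : Lab310 C lab) {P Q R : Subgroup G}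
    (h1 : Rel A 1 P Q) (hP : Rel A 8 P R) (hQ : Rel A 8 Q R) : False := by
  obtain ⟨g, rfl⟩ := h1.1
  rw [pre_eq g Q, rel_cj_iff] at h1
  rw [pre_eq g R, rel_cj_iff] at hP
  rw [pre_eq g R, pre_eq g Q, rel_cj_iff] at hQ
  obtain ⟨x, hx1, hx2, e⟩ := h.l30.surj _ hP
  rw [← e] at hQ
  obtain ⟨j, hj, e'⟩ := nbr_x O h hx1 hx2 (rel_symm O hQ)
  rw [← e'] at h1
  exact not_one_lab h (by have := (x_facts hx1 hx2).1 j hj; omega) h1

theorem cn_eight (O : Orbits A) (h : Lab310 C lab) {P Q : Subgroup G} (h8 : Rel A 8 P Q) :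
    ∃ R, CN A P Q = {R} := by
  obtain ⟨g, rfl⟩ := h8.1
  rw [pre_eq g Q] at h8 ⊢
  rw [rel_cj_iff] at h8
  obtain ⟨x, hx1, hx2, e⟩ := h.l30.surj _ h8
  refine ⟨cj g (lab (flip30 x)), ?_⟩
  rw [cn_cj, ← e]
  have : CN A A (lab x) = {lab (flip30 x)} := by
    ext B
    rw [mem_cn_base h (by omega), (x_facts hx1 hx2).2.2.2]
    simp [eq_comm]
  rw [this, Set.image_singleton]

theorem x3_eq {y : ℕ} (h1 : 31 ≤ y) (h2 : y ≤ 310) : x3 y = x3f y := by
  have h := x3f_check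
  simp only [List.all_eq_true, List.mem_range, decide_eq_true_eq] at h
  have := h (y - 31) (by omega)
  rwa [show y - 31 + 31 = y by omega] at this

theorem y_facts {y : ℕ} (h1 : 31 ≤ y) (h2 : y ≤ 310) :
    (x3 y).length = 3 ∧ (x3 y).Nodup ∧ (lowNb y).length = 6 ∧ (lowNb y).Nodup ∧ (nbs y).Nodup ∧
    (∀ j ∈ lowNb y, 1 ≤ j) ∧
    (∀ a ∈ x3 y, ∀ b ∈ x3 y, a ≠ b → pOf a ≠ pOf b ∧ ∃ x ∈ x3 y, pOf x = pOf a ^^^ pOf b ∧
      decide (x % 2 = 0) = (decide (a % 2 = 0) != decide (b % 2 = 0))) ∧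
    (∀ a ∈ x3 y, ∀ b ∈ x3 y, ∀ x ∈ x3 y, a ≠ b → x ≠ a → x ≠ b →
      pOf x = pOf a ^^^ pOf b) := by
  have h := y_check
  simp only [List.all_eq_true, List.any_eq_true, List.mem_range, decide_eq_true_eq,
    Bool.and_eq_true, Bool.or_eq_true, beq_iff_eq] at h
  obtain ⟨⟨⟨⟨⟨⟨⟨a1, a2⟩, a3⟩, a4⟩, a5⟩, a6⟩, a7⟩, a8⟩ := h (y - 31) (by omega)
  rw [show y - 31 + 31 = y by omega] at a1 a2 a3 a4 a5 a6 a7 a8
  rw [← x3_eq h1 h2] at a1 a2 a7 a8
  refine ⟨a1, a2, a3, a4, a5, a6, fun a ha b hb hne => ?_, fun a ha b hb x hx n1 n2 n3 => ?_⟩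
  · rcases a7 a ha b hb with e | ⟨e1, x, hx, e2, e3⟩
    · exact absurd e hne
    · exact ⟨e1, x, hx, e2, e3⟩
  · rcases a8 a ha b hb x hx with ((e | e) | e) | e
    · exact absurd e n1
    · exact absurd e n2
    · exact absurd e n3
    · exact e

theorem y_not_self {y : ℕ} (h1 : 31 ≤ y) (h2 : y ≤ 310) : y ∉ nbs y := by
  intro hy
  have hs := self_check
  simp only [List.all_eq_true, List.mem_range, Bool.not_eq_true'] at hs
  have := hs (y - 31) (by omega)
  rw [show y - 31 + 31 = y by omega, (adj_iff (by omega)).2 hy] at this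
  exact absurd this (by decide)

theorem cn_four (O : Orbits A) (h : Lab310 C lab) {P Q : Subgroup G} (h4 : Rel A 4 P Q) :
    (CN A P Q).ncard = 3 := by
  classical
  obtain ⟨g, rfl⟩ := h4.1
  rw [pre_eq g Q] at h4 ⊢
  rw [rel_cj_iff] at h4
  obtain ⟨y, hy1, hy2, e⟩ := h.surj _ h4
  rw [ncard_cn_cj, ← e]
  have heq : CN A A (lab y) = lab '' ((x3 y).toFinset : Set ℕ) := by
    ext B
    rw [mem_cn_base h hy2]
    simp
  rw [heq, Set.InjOn.ncard_image, Set.ncard_coe_finset,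
    List.toFinset_card_of_nodup (y_facts hy1 hy2).2.1, (y_facts hy1 hy2).1]
  intro a ha b hb e
  simp only [List.coe_toFinset, Set.mem_ofPred_eq, mem_x3] at ha hb
  exact h.inj a b (by omega) (by omega) e

theorem cn_le_three (O : Orbits A) (h : Lab310 C lab) {P Q : Subgroup G} (hP : P ∈ Conjs A)
    (hQ : Q ∈ Conjs A) (hne : P ≠ Q) : (CN A P Q).ncard ≤ 3 := by
  have hr : Rel A (rk P Q) P Q := ⟨hP, hQ, hne, rfl⟩
  rcases rel_to_base O hr with e | e | e <;> rw [e] at hr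
  · have : CN A P Q = ∅ :=
      Set.eq_empty_iff_forall_notMem.2 fun R hR => no_common_one O h hr hR.1 hR.2
    simp [this]
  · rw [cn_four O h hr]
  · obtain ⟨R, hR⟩ := cn_eight O h hr
    simp [hR]

/-- A conjugate at rank four from one corner of a triangle and adjacent to neither of the other
two is at rank one from them. -/
theorem triangle (O : Orbits A) (h : Lab310 C lab) {P Q Q' Z : Subgroup G} (hQ : Rel A 8 P Q)
    (hQ' : Rel A 8 P Q') (hQQ : Rel A 8 Q Q') (h4 : Rel A 4 P Z) (n1 : ¬ Rel A 8 Q Z)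
    (n2 : ¬ Rel A 8 Q' Z) : Rel A 1 Q Z := by
  obtain ⟨g, rfl⟩ := hQ.1
  rw [pre_eq g Q, rel_cj_iff] at hQ
  rw [pre_eq g Q', rel_cj_iff] at hQ'
  rw [pre_eq g Q, pre_eq g Q', rel_cj_iff] at hQQ
  rw [pre_eq g Z, rel_cj_iff] at h4
  rw [pre_eq g Q, pre_eq g Z, rel_cj_iff] at n1
  rw [pre_eq g Q', pre_eq g Z, rel_cj_iff] at n2
  rw [pre_eq g Q, pre_eq g Z, rel_cj_iff]
  obtain ⟨x, hx1, hx2, ex⟩ := h.l30.surj _ hQ
  obtain ⟨x', hx1', hx2', ex'⟩ := h.l30.surj _ hQ'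
  obtain ⟨y, hy1, hy2, ey⟩ := h.surj _ h4
  rw [← ex, ← ex'] at hQQ
  rw [← ex, ← ey] at n1 ⊢
  rw [← ex', ← ey] at n2
  have hf : x' = flip30 x := by
    have : x' ∈ x3 x := mem_x3.2
      ⟨(adj_iff (by omega)).1 (adj_of_rel8 h (by omega) (by omega) hQQ), hx1', hx2'⟩
    rwa [(x_facts hx1 hx2).2.2.2, List.mem_singleton] at this
  have hne : lab x ≠ lab y := fun e => by have := h.inj x y (by omega) hy2 e; omega
  have hr : Rel A (rk (lab x) (lab y)) (lab x) (lab y) :=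
    ⟨lab_mem h (by omega), lab_mem h hy2, hne, rfl⟩
  have ha : ∀ z, 1 ≤ z → z ≤ 30 → ¬ Rel A 8 (lab z) (lab y) → adj0 y z = false := by
    intro z hz1 hz2 hn
    by_contra e
    exact hn (rel_symm O (rel8_of_adj h hy2 (by omega) (by omega) (by simpa using e)))
  have ht := tri_check
  simp only [List.all_eq_true, List.mem_range, decide_eq_true_eq, Bool.or_eq_true] at ht
  have ht' := ht (y - 31) (by omega) (x - 1) (by omega)
  rw [show y - 31 + 31 = y by omega, show x - 1 + 1 = x by omega, ← hf,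
    ha x hx1 hx2 n1, ha x' hx1' hx2' n2] at ht'
  simp only [Bool.false_eq_true, false_or] at ht'
  rcases rel_to_base O hr with e | e | e
  · rwa [e] at hr
  · rw [e] at hr
    exfalso
    obtain ⟨B, hB⟩ : (CN A (lab x) (lab y)).Nonempty :=
      Set.nonempty_of_ncard_ne_zero (by rw [cn_four O h hr]; norm_num)
    obtain ⟨j, hj, rfl⟩ := nbr_x O h hx1 hx2 hB.1
    have hj' := adj_of_rel8 h hy2 (by have := (x_facts hx1 hx2).1 j hj; omega) hB.2
    have hbit : (nbMask x &&& nbMask y).testBit j = true := by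
      rw [Nat.testBit_and, Bool.and_eq_true]
      exact ⟨(adj_iff (by omega)).2 hj, hj'⟩
    rw [ht'] at hbit
    simp at hbit
  · rw [e] at hr
    exact absurd hr n1

theorem dot_sep {a b : ℕ} (ha : a < 16) (hb : b < 16) (h : ∀ v, v < 16 → dot a v = dot b v) :
    a = b := by
  have hd : ∀ a, a < 16 → ∀ b, b < 16 → (∀ v, v < 16 → dot a v = dot b v) → a = b := by
    decide +kernel
  exact hd a ha b hb h

theorem plane_pencil {a b p : ℕ} (ha : a < 16) (hb : b < 16) (hp : p < 16) (h1 : 1 ≤ a)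
    (h2 : 1 ≤ b) (h3 : 1 ≤ p) (hab : a ≠ b)
    (h : ∀ v, v < 16 → dot a v = false → dot b v = false → dot p v = false) :
    p = a ∨ p = b ∨ p = a ^^^ b := by
  have hd : (List.range 16).all (fun a => decide (a = 0) || (List.range 16).all fun b =>
      decide (b = 0) || decide (a = b) || (List.range 16).all fun p =>
        decide (p = 0) || decide (p = a) || decide (p = b) || decide (p = a ^^^ b) ||
          (List.range 16).any fun v => !dot a v && !dot b v && dot p v) = true := by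
    decide +kernel
  simp only [List.all_eq_true, List.any_eq_true, List.mem_range, decide_eq_true_eq,
    Bool.or_eq_true, Bool.and_eq_true, Bool.not_eq_true'] at hd
  rcases hd a ha with e | e
  · omega
  rcases e b hb with (e | e) | e
  · omega
  · exact absurd e hab
  rcases e p hp with (((e | e) | e) | e) | ⟨v, hv, ⟨va, vb⟩, vp⟩
  · omega
  · exact Or.inl e
  · exact Or.inr (Or.inl e)
  · exact Or.inr (Or.inr e)
  · rw [h v hv va vb] at vp
    exact absurd vp (by decide)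

theorem dot_xor_left {a b v : ℕ} (ha : a < 16) (hb : b < 16) (hv : v < 16) :
    dot (a ^^^ b) v = (dot a v != dot b v) := by
  have hd : ∀ a, a < 16 → ∀ b, b < 16 → ∀ v, v < 16 → dot (a ^^^ b) v = (dot a v != dot b v) := by
    decide +kernel
  exact hd a ha b hb v hv

/-- A symmetry of a rank-four pair fixing two common neighbours moves the third at most to a
neighbour of it. -/
theorem line_stab (O : Orbits A) (h : Lab310 C lab) {P Q R₁ R₂ R₃ : Subgroup G}
    (h4 : Rel A 4 P Q) (r1 : R₁ ∈ CN A P Q) (r2 : R₂ ∈ CN A P Q) (r3 : R₃ ∈ CN A P Q)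
    (d12 : R₁ ≠ R₂) (d31 : R₃ ≠ R₁) (d32 : R₃ ≠ R₂) {n : G} (hP : cj n P = P)
    (f1 : cj n R₁ = R₁) (f2 : cj n R₂ = R₂) : cj n R₃ = R₃ ∨ Rel A 8 (cj n R₃) R₃ := by
  obtain ⟨g, rfl⟩ := h4.1
  rw [pre_eq g Q, rel_cj_iff] at h4
  obtain ⟨y, hy1, hy2, ey⟩ := h.surj _ h4
  rw [pre_eq g Q, ← ey, cn_cj] at r1 r2 r3
  obtain ⟨_, r1, rfl⟩ := r1
  obtain ⟨_, r2, rfl⟩ := r2
  obtain ⟨_, r3, rfl⟩ := r3
  obtain ⟨a, ha, rfl⟩ := (mem_cn_base h hy2).1 r1
  obtain ⟨b, hb, rfl⟩ := (mem_cn_base h hy2).1 r2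
  obtain ⟨c, hc, rfl⟩ := (mem_cn_base h hy2).1 r3
  obtain ⟨-, ha1, ha2⟩ := mem_x3.1 ha
  obtain ⟨-, hb1, hb2⟩ := mem_x3.1 hb
  obtain ⟨-, hc1, hc2⟩ := mem_x3.1 hc
  have nab : a ≠ b := fun e => d12 (by rw [e])
  have nca : c ≠ a := fun e => d31 (by rw [e])
  have ncb : c ≠ b := fun e => d32 (by rw [e])
  obtain ⟨-, -, -, -, -, -, hpair, hthree⟩ := y_facts hy1 hy2
  have hpc := hthree a ha b hb c hc nab nca ncb
  -- work with the conjugate symmetry fixing the base vertex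
  set m : G := g⁻¹ * n * g with hm
  have hmc : ∀ B, cj n (cj g B) = cj g (cj m B) := fun B => by
    simp [hm, cj_cj, mul_assoc]
  rw [hmc] at hP f1 f2 ⊢
  have mA := cj_inj hP
  have ma := cj_inj f1
  have mb := cj_inj f2
  have hmn : m ∈ Subgroup.normalizer (A : Set G) := mem_norm_iff.2 mA
  obtain ⟨c', hc1', hc2', ec'⟩ := h.l30.surj (cj m (lab c)) (by
    have := rel_cj m (h.l30.rel c hc1 hc2); rwa [mA] at this)
  have hbd : ∀ x, 1 ≤ x → x ≤ 30 → 1 ≤ pOf x ∧ pOf x < 16 := fun x _ _ => by unfold pOf; omega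
  have key : ∀ v, v < 16 → dot (pOf a) v = false → dot (pOf b) v = false →
      dot (pOf c') v = false := by
    intro v hv hva hvb
    have ea := (h.l30.fix a v ha1 ha2 hv).2 hva
    have eb := (h.l30.fix b v hb1 hb2 hv).2 hvb
    rw [← ma, fixA_cj hmn, mem_cj] at ea
    rw [← mb, fixA_cj hmn, mem_cj] at eb
    obtain ⟨u, hu, eu⟩ := C.surj _ (show m⁻¹ * C.e v * m ∈ A from (Subgroup.mem_inf.1 ea).1)
    rw [← eu] at ea eb
    have ec : C.e u ∈ fixA A (lab c) := by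
      refine (h.l30.fix c u hc1 hc2 hu).2 ?_
      rw [hpc, dot_xor_left (hbd a ha1 ha2).2 (hbd b hb1 hb2).2 hu,
        (h.l30.fix a u ha1 ha2 hu).1 ea, (h.l30.fix b u hb1 hb2 hu).1 eb]
      rfl
    refine (h.l30.fix c' v hc1' hc2' hv).1 ?_
    rw [ec', fixA_cj hmn, mem_cj, ← eu]
    exact ec
  have hne : ∀ x, x ∈ x3 y → c ≠ x → cj m (lab x) = lab x → pOf c' ≠ pOf x := by
    intro x hx hcx hfx e
    obtain ⟨-, hx1, hx2⟩ := mem_x3.1 hx
    apply (hpair c hc x hx hcx).1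
    refine dot_sep (hbd c hc1 hc2).2 (hbd x hx1 hx2).2 fun v hv => ?_
    have hfix : fixA A (lab c) = fixA A (lab x) := by
      have : fixA A (lab c') = fixA A (lab x) := by
        ext z
        constructor
        · intro hz
          obtain ⟨u, hu, rfl⟩ := C.surj z (Subgroup.mem_inf.1 hz).1
          rw [h.l30.fix x u hx1 hx2 hu, ← e]
          exact (h.l30.fix c' u hc1' hc2' hu).1 hz
        · intro hz
          obtain ⟨u, hu, rfl⟩ := C.surj z (Subgroup.mem_inf.1 hz).1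
          rw [h.l30.fix c' u hc1' hc2' hu, e]
          exact (h.l30.fix x u hx1 hx2 hu).1 hz
      rw [ec', ← hfx, fixA_cj hmn, fixA_cj hmn] at this
      exact cj_inj this
    have i1 := h.l30.fix c v hc1 hc2 hv
    rw [hfix, h.l30.fix x v hx1 hx2 hv] at i1
    cases hd : dot (pOf c) v <;> cases hd' : dot (pOf x) v <;> simp_all
  have hp : pOf c' = pOf c := by
    rcases plane_pencil (hbd a ha1 ha2).2 (hbd b hb1 hb2).2 (hbd c' hc1' hc2').2
      (hbd a ha1 ha2).1 (hbd b hb1 hb2).1 (hbd c' hc1' hc2').1 (hpair a ha b hb nab).1 key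
      with e | e | e
    · exact absurd e (hne a ha nca ma)
    · exact absurd e (hne b hb ncb mb)
    · rw [e, hpc]
  rw [← ec']
  by_cases e : c' = c
  · exact Or.inl (by rw [e])
  · refine Or.inr (rel_cj g ?_)
    have hfl : c' = flip30 c := by
      unfold pOf at hp
      unfold flip30
      split_ifs <;> omega
    refine rel_symm O (rel8_of_adj h (by omega) (by omega) (Ne.symm e) ?_)
    rw [hfl, adj_iff (by omega)]
    exact (x_facts hc1 hc2).2.2.1

theorem trB_spec (h : Lab310 C lab) : ∀ k, k < 4 → ∀ i, i ≤ 310 →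
    cj (C.e (2 ^ k)) (lab i) = lab (trB k i) ∧ trB k i ≤ 310 := by
  have hv := vmap_check
  have hz := tr_zero_check
  have hs := tr_step_check
  have hc := cycle_check
  have ht := tA_check
  simp only [List.all_eq_true, List.mem_range, decide_eq_true_eq, Bool.and_eq_true] at hv hz hs hc ht
  intro k
  induction k with
  | zero =>
    intro _ i hi
    have h0 : C.e (2 ^ 0) = C.gen 0 := by simp [Coord.gen]
    rw [h0, h.equiv 0 i (by norm_num) hi, hz i (by omega)]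
    exact ⟨rfl, by have := (hv 0 (by simp) i (by omega)).1; omega⟩
  | succ k ih =>
    intro hk i hi
    set i' := (vmap 1)^[14] i
    have hi' : i' ≤ 310 := by
      have : ∀ m, (vmap 1)^[m] i ≤ 310 := by
        intro m
        induction m with
        | zero => simpa using hi
        | succ m ihm =>
          rw [Function.iterate_succ_apply']
          have := (hv 1 (by simp) ((vmap 1)^[m] i) (by omega)).1
          omega
      exact this 14
    have hii : vmap 1 i' = i := by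
      rw [← Function.iterate_succ_apply' (vmap 1) 14 i]
      exact hc i (by omega)
    obtain ⟨e, hle⟩ := ih (by omega) i' hi'
    obtain ⟨⟨b1, b2⟩, b3⟩ := hs k (by omega) i' (by omega)
    have hg : C.gen 1 = C.k tA := by simp [Coord.gen]
    have hk3 : k < 3 := by omega
    have he := C.k_act tA (2 ^ k) isLin_tA (by interval_cases k <;> norm_num)
    rw [ht k (by omega)] at he
    refine ⟨?_, by have := ((hs k (by omega) i (by omega)).1.2); omega⟩
    rw [← hii, b3, ← h.equiv 1 _ (by norm_num) hle, ← h.equiv 1 _ (by norm_num) hi', ← e, cj_cj,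
      cj_cj, ← he, hg, mul_assoc _ (C.k tA)⁻¹, inv_mul_cancel, mul_one]

theorem tr_spec (h : Lab310 C lab) {v i : ℕ} (hv : v < 16) (hi : i ≤ 310) :
    cj (C.e v) (lab i) = lab (tr v i) ∧ tr v i ≤ 310 := by
  have step : ∀ (k : ℕ) (b : Bool), k < 4 → ∀ i, i ≤ 310 →
      cj (C.e (if b then 2 ^ k else 0)) (lab i) = lab (if b then trB k i else i) ∧
        (if b then trB k i else i) ≤ 310 := by
    intro k b hk i hi
    cases b
    · simp [Coord.e_zero C, cj_one, hi]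
    · simpa using trB_spec h k hk i hi
  obtain ⟨e0, l0⟩ := step 0 (v.testBit 0) (by norm_num) i hi
  obtain ⟨e1, l1⟩ := step 1 (v.testBit 1) (by norm_num) _ l0
  obtain ⟨e2, l2⟩ := step 2 (v.testBit 2) (by norm_num) _ l1
  obtain ⟨e3, l3⟩ := step 3 (v.testBit 3) (by norm_num) _ l2
  refine ⟨?_, l3⟩
  have hx := Thirty.xor_bits
  simp only [List.all_eq_true, List.mem_range, decide_eq_true_eq] at hx
  have hh : ∀ (b : Bool) (n : ℕ), n < 16 → (if b then n else 0) < 16 := fun b n hn => by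
    cases b <;> simp [hn]
  have hv' : v = (if v.testBit 3 then 2 ^ 3 else 0) ^^^ ((if v.testBit 2 then 2 ^ 2 else 0) ^^^
      ((if v.testBit 1 then 2 ^ 1 else 0) ^^^ (if v.testBit 0 then 2 ^ 0 else 0))) := by
    have hd : ∀ v, v < 16 → v = (if v.testBit 3 then 2 ^ 3 else 0) ^^^
        ((if v.testBit 2 then 2 ^ 2 else 0) ^^^
          ((if v.testBit 1 then 2 ^ 1 else 0) ^^^ (if v.testBit 0 then 2 ^ 0 else 0))) := by
      decide +kernel
    exact hd v hv
  have m0 := hh (v.testBit 0) (2 ^ 0) (by norm_num)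
  have m1 := hh (v.testBit 1) (2 ^ 1) (by norm_num)
  have m2 := hh (v.testBit 2) (2 ^ 2) (by norm_num)
  have m3 := hh (v.testBit 3) (2 ^ 3) (by norm_num)
  conv_lhs => rw [hv', C.mul _ _ m3 (xor_lt16 m2 (xor_lt16 m1 m0)),
    C.mul _ _ m2 (xor_lt16 m1 m0), C.mul _ _ m1 m0, ← cj_cj, ← cj_cj, ← cj_cj, e0, e1, e2, e3]
  rfl

end Cfsg.Agent.Lib.M24Nse65.Far
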