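import Cfsg.Agent.Lib.M24Nse65.FarDefs

/-!
Kernel checks on the two classes of codes and on the classification of the codes.
-/

set_option autoImplicit false
set_option maxRecDepth 100000
set_option maxHeartbeats 2000000

namespace Cfsg.Agent.Lib.M24Nse65.Far

/-- The conditions on the permutations and the spanning trees of a class. -/
def treeOk (c : Cls) : Bool :=
  ((List.range 448).all fun z =>
    [0, 1, 2].all (fun j => decide (c.pm j z < 448)) &&
      decide (walk c.up 12 z = 0) && decide (walk c.down 12 z = 0) &&
      (decide (z = 0) ||
        (decide (tget c.up 11 z % 4 < 3) && decide (tget c.up 11 z / 4 < 448) &&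
          decide (c.pm (tget c.up 11 z % 4) (tget c.up 11 z / 4) = z) &&
          decide (tget c.down 11 z % 4 < 3) && decide (tget c.down 11 z / 4 < 448) &&
          decide (c.pm (tget c.down 11 z % 4) z = tget c.down 11 z / 4))))

/-- The conditions on the rows and codes of a class. -/
def rowOk (c : Cls) : Bool :=
  ((List.range 448).all fun z =>
    (c.row z).all (fun y => decide (31 ≤ y) && decide (y < 311)) &&
      decide ((c.row z).length = 15) &&
      (List.range 14).all (fun k => decide ((c.row z).getD k 0 < (c.row z).getD (k + 1) 0)) &&
      decide (maskOf (c.row z) &&& maskOf ((c.row z).map flipT) = 0))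

/-- The rows and codes are compatible with the generators. -/
def equivOk (c : Cls) : Bool :=
  [0, 1, 2].all (fun j => (List.range 448).all fun z =>
    decide (maskOf ((c.row z).map (vmap j)) = maskOf (c.row (c.pm j z))) &&
      decide (maskOf ((c.sec z).map (vmap j)) = maskOf (c.sec (c.pm j z))))

/-- The codes are distinct. -/
def ordOk (c : Cls) : Bool :=
  ((List.range 448).all fun z => decide (tget c.rank 9 z < 448) &&
    decide (tget c.ord 9 (tget c.rank 9 z) = z)) &&
  ((List.range 447).all fun k =>
    decide (maskOf (c.code (tget c.ord 9 k)) < maskOf (c.code (tget c.ord 9 (k + 1)))))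

theorem far_tree : treeOk farC = true := by decide +kernel

theorem lin_tree : treeOk linC = true := by decide +kernel

theorem far_row : rowOk farC = true := by decide +kernel

theorem lin_row : rowOk linC = true := by decide +kernel

theorem far_equiv : equivOk farC = true := by decide +kernel

theorem lin_equiv : equivOk linC = true := by decide +kernel

theorem far_ord : ordOk farC = true := by decide +kernel

theorem lin_ord : ordOk linC = true := by decide +kernel

/-- The rows of a code lie over its section and in lines isotropic for a polarity. -/
def codeOk (t : ℕ) : Bool :=
  (codeIdx.getD t []).all fun i => decide (i < 896) &&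
    ((clsOf i).row (i % 448)).all fun y =>
      (x3f y).all (fun x => (tget (clsOf i).fo 15 (i % 448)).testBit (pOf x - 1) ==
        decide (x % 2 = 0)) &&
      !dot (pOf (tget x3Tab 5 (3 * y + 1))) (app (piTables.getD t 0) (pOf (tget x3Tab 5 (3 * y))))

theorem code_check_low : (List.range 14).all codeOk = true := by decide +kernel

theorem code_check_high : (List.range 14).all (fun t => codeOk (t + 14)) = true := by decide +kernel

theorem sols_check : (List.range 28).all (fun t => (sols (piTables.getD t 0) 15).all fun l =>
    (codeIdx.getD t []).any fun i =>
      decide (tget (clsOf i).fo 15 (i % 448) = valOf l)) = true := by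
  decide +kernel

theorem pi_check : (List.range 16).all (fun a => dot 1 a || (List.range 16).all fun b =>
    dot 2 b || (dot 2 a != dot 1 b) || (List.range 16).all fun c =>
      dot 4 c || (dot 4 a != dot 1 c) || (dot 4 b != dot 2 c) || (List.range 16).all fun d =>
        dot 8 d || (dot 8 a != dot 1 d) || (dot 8 b != dot 2 d) || (dot 8 c != dot 4 d) ||
          let g := fun k : ℕ => (if k.testBit 0 then a else 0) ^^^
            ((if k.testBit 1 then b else 0) ^^^ ((if k.testBit 2 then c else 0) ^^^
              (if k.testBit 3 then d else 0)))
          ((List.range 15).any fun k => decide (g (k + 1) = 0)) ||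
            (List.range 28).any fun t => (List.range 16).all fun k =>
              decide (app (piTables.getD t 0) k = g k)) = true := by
  decide +kernel

theorem stab_check :
    (stabFarWords ++ stabEdgeWords).all (fun w => w.all (fun j => decide (j < 3)) &&
      decide (wperm farC.pm w 0 = 0)) &&
    (stabFarAWords ++ stabEdgeAWords).all (fun w => w.all (fun j => decide (j < 3)) &&
      decide (wperm linC.pm w 0 = 0)) = true := by
  decide +kernel

theorem far_close : let l := closeN vmap stabFarWords 6 [(farC.row 0).headD 0]
    ((farC.row 0).all fun y => l.contains y) = true := by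
  decide +kernel

theorem lin_close : let l := closeN vmap stabFarAWords 6 [(linC.row 0).headD 0]
    ((linC.row 0).all fun y => l.contains y) = true := by
  decide +kernel

theorem far_edge : (decide (edgeBase ∈ farC.row 0) &&
    stabEdgeWords.all (fun w => decide (wperm vmap w edgeBase = edgeBase)) &&
    (List.range 448).all fun t => decide (t = 0) || decide (t = edgeThird - 311) ||
      !(farC.row t).contains edgeBase ||
      stabEdgeWords.any fun w => decide (wperm farC.pm w t ≠ t)) = true := by
  decide +kernel

theorem lin_edge : (decide (linEdgeBase ∈ linC.row 0) &&
    stabEdgeAWords.all (fun w => decide (wperm vmap w linEdgeBase = linEdgeBase)) &&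
    (List.range 448).all fun t => decide (t = 0) || decide (t = linThird) ||
      !(linC.row t).contains linEdgeBase ||
      stabEdgeAWords.any fun w => decide (wperm linC.pm w t ≠ t)) = true := by
  decide +kernel

theorem lin_witness : (linWitness.all (fun w => w.all fun j => decide (j < 3)) &&
    decide (wperm linC.pm (linWitness.getD 0 []) 0 = 0) &&
    decide (wperm linC.pm (linWitness.getD 0 []) linThird = 160) &&
    decide (wperm linC.pm (linWitness.getD 1 []) 0 = linThird) &&
    decide (wperm linC.pm (linWitness.getD 1 []) linThird = 160)) = true := by
  decide +kernel

/-- The neighbours of a far vertex in the third layer, numbered from zero. -/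
def farRow (z : ℕ) : List ℕ :=
  ((nbs (311 + z)).filter fun j => decide (311 ≤ j)).map fun j => j - 311

theorem far_far : ((List.range 448).all fun z =>
      decide ((farRow z).length = 15) && decide ((farRow z).Nodup) &&
        (farRow z).all (fun t => decide (t < 448) && decide (t ≠ z)) &&
        [0, 1, 2].all (fun j =>
          decide (maskOf ((farRow z).map (farC.pm j)) = maskOf (farRow (farC.pm j z))) &&
          decide (311 ≤ vmap j (311 + z)))) &&
    (let l := closeN farC.pm stabFarWords 6 [edgeThird - 311];
      (farRow 0).all fun t => l.contains t) = true := by
  decide +kernel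

end Cfsg.Agent.Lib.M24Nse65.Far
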