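import Cfsg.Agent.Lib.M24Nse65.FarPolar

/-!
The conjugates of rank one are numbered by their codes; after exchanging, if necessary, the two
vertices over every triple, their second-layer neighbours are the rows of the class.
-/

set_option autoImplicit false
set_option linter.unusedSectionVars false
set_option linter.unusedVariables false
set_option linter.style.haveILetI false

namespace Cfsg.Agent.Lib.M24Nse65.Far

/-- The checked properties of a class. -/
structure Good (c : Cls) : Prop where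
  tree : treeOk c = true
  rows : rowOk c = true
  equiv : equivOk c = true
  order : ordOk c = true

theorem good_far : Good farC := ⟨far_tree, far_row, far_equiv, far_ord⟩

theorem good_lin : Good linC := ⟨lin_tree, lin_row, lin_equiv, lin_ord⟩

namespace Good

variable {c : Cls} (hc : Good c)
include hc

theorem pm_lt {j z : ℕ} (hj : j < 3) (hz : z < 448) : c.pm j z < 448 := by
  have h := hc.tree
  simp only [treeOk, List.all_eq_true, List.mem_range, Bool.and_eq_true, decide_eq_true_eq,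
    Bool.or_eq_true] at h
  exact (h z hz).1.1.1 j (by interval_cases j <;> simp)

theorem walk_zero {z : ℕ} (hz : z < 448) : walk c.up 12 z = 0 ∧ walk c.down 12 z = 0 := by
  have h := hc.tree
  simp only [treeOk, List.all_eq_true, List.mem_range, Bool.and_eq_true, decide_eq_true_eq,
    Bool.or_eq_true] at h
  exact ⟨(h z hz).1.1.2, (h z hz).1.2⟩

theorem step {z : ℕ} (hz : z < 448) (h0 : z ≠ 0) :
    (tget c.up 11 z % 4 < 3 ∧ tget c.up 11 z / 4 < 448 ∧
      c.pm (tget c.up 11 z % 4) (tget c.up 11 z / 4) = z) ∧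
    (tget c.down 11 z % 4 < 3 ∧ tget c.down 11 z / 4 < 448 ∧
      c.pm (tget c.down 11 z % 4) z = tget c.down 11 z / 4) := by
  have h := hc.tree
  simp only [treeOk, List.all_eq_true, List.mem_range, Bool.and_eq_true, decide_eq_true_eq,
    Bool.or_eq_true] at h
  rcases (h z hz).2 with e | ⟨⟨⟨⟨⟨a, b⟩, d⟩, a'⟩, b'⟩, d'⟩
  · exact absurd e h0
  · exact ⟨⟨a, b, d⟩, a', b', d'⟩

theorem row_range {z y : ℕ} (hz : z < 448) (hy : y ∈ c.row z) : 31 ≤ y ∧ y ≤ 310 := by
  have h := hc.rows
  simp only [rowOk, List.all_eq_true, List.mem_range, Bool.and_eq_true, decide_eq_true_eq] at h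
  have := (h z hz).1.1.1 y hy
  omega

theorem row_card {z : ℕ} (hz : z < 448) :
    (c.row z).length = 15 ∧ (c.row z).toFinset.card = 15 := by
  have h := hc.rows
  simp only [rowOk, List.all_eq_true, List.mem_range, Bool.and_eq_true, decide_eq_true_eq] at h
  have hn : (c.row z).Nodup :=
    (pairwise_of_chain fun k hk => (h z hz).1.2 k (by have := (h z hz).1.1.2; omega)).imp
      fun hab => Nat.ne_of_lt hab
  exact ⟨(h z hz).1.1.2, by rw [List.toFinset_card_of_nodup hn, (h z hz).1.1.2]⟩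

theorem mem_row_vmap {j z y : ℕ} (hj : j < 3) (hz : z < 448) :
    y ∈ c.row (c.pm j z) ↔ ∃ w ∈ c.row z, vmap j w = y := by
  have h := hc.equiv
  simp only [equivOk, List.all_eq_true, List.mem_range, Bool.and_eq_true, decide_eq_true_eq] at h
  rw [← mem_of_maskOf_eq (h j (by interval_cases j <;> simp) z hz).1 y, List.mem_map]

theorem code_vmap {j z : ℕ} (hj : j < 3) (hz : z < 448) :
    (c.code (c.pm j z)).toFinset = (c.code z).toFinset.image (vmap j) := by
  classical
  have h := hc.equiv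
  simp only [equivOk, List.all_eq_true, List.mem_range, Bool.and_eq_true, decide_eq_true_eq] at h
  have hv := vmap_check
  simp only [List.all_eq_true, List.mem_range, decide_eq_true_eq, Bool.and_eq_true] at hv
  have hj' : j ∈ [0, 1, 2] := by interval_cases j <;> simp
  have hsec := mem_of_maskOf_eq (h j hj' z hz).2
  have hrow := mem_of_maskOf_eq (h j hj' z hz).1
  have hfl : ∀ w ∈ c.row z, flipT (vmap j w) = vmap j (flipT w) := fun w hw =>
    (hv j hj' w (by have := (hc.row_range hz hw).2; omega)).2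
  ext x
  simp only [Cls.code, List.mem_toFinset, List.mem_append, Finset.mem_image]
  constructor
  · rintro ((hx | hx) | hx)
    · obtain ⟨w, hw, rfl⟩ := List.mem_map.1 ((hsec x).2 hx)
      exact ⟨w, Or.inl (Or.inl hw), rfl⟩
    · obtain ⟨w, hw, rfl⟩ := List.mem_map.1 ((hrow x).2 hx)
      exact ⟨w, Or.inl (Or.inr hw), rfl⟩
    · obtain ⟨u, hu, rfl⟩ := List.mem_map.1 hx
      obtain ⟨w, hw, rfl⟩ := List.mem_map.1 ((hrow u).2 hu)
      exact ⟨flipT w, Or.inr (List.mem_map.2 ⟨w, hw, rfl⟩), (hfl w hw).symm⟩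
  · rintro ⟨w, (hw | hw) | hw, rfl⟩
    · exact Or.inl (Or.inl ((hsec _).1 (List.mem_map.2 ⟨w, hw, rfl⟩)))
    · exact Or.inl (Or.inr ((hrow _).1 (List.mem_map.2 ⟨w, hw, rfl⟩)))
    · obtain ⟨u, hu, rfl⟩ := List.mem_map.1 hw
      exact Or.inr (List.mem_map.2
        ⟨vmap j u, (hrow _).1 (List.mem_map.2 ⟨u, hu, rfl⟩), hfl u hu⟩)

theorem code_inj {z z' : ℕ} (hz : z < 448) (hz' : z' < 448)
    (he : (c.code z).toFinset = (c.code z').toFinset) : z = z' := by
  have h := hc.order
  simp only [ordOk, List.all_eq_true, List.mem_range, Bool.and_eq_true, decide_eq_true_eq] at h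
  have hm : maskOf (c.code z) = maskOf (c.code z') := by
    apply Nat.eq_of_testBit_eq
    intro i
    rw [Bool.eq_iff_iff, mem_maskOf, mem_maskOf, ← List.mem_toFinset, he, List.mem_toFinset]
  have mono : ∀ b a, a < b → b < 448 →
      maskOf (c.code (tget c.ord 9 a)) < maskOf (c.code (tget c.ord 9 b)) := by
    intro b
    induction b with
    | zero => intro a ha; omega
    | succ b ih =>
      intro a ha hb
      have hs := h.2 b (by omega)
      rcases Nat.lt_or_ge a b with e | e
      · exact lt_trans (ih a e (by omega)) hs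
      · rwa [show a = b by omega]
  obtain ⟨r1, e1⟩ := h.1 z hz
  obtain ⟨r2, e2⟩ := h.1 z' hz'
  rcases Nat.lt_trichotomy (tget c.rank 9 z) (tget c.rank 9 z') with e | e | e
  · have := mono _ _ e r2
    rw [e1, e2, hm] at this
    exact absurd this (lt_irrefl _)
  · rw [← e1, ← e2, e]
  · have := mono _ _ e r1
    rw [e1, e2, hm] at this
    exact absurd this (lt_irrefl _)

/-- What holds at one code and passes along the generators holds at the code zero. -/
theorem to_zero {Q : ℕ → Prop} (hstep : ∀ j z, j < 3 → z < 448 → Q z → Q (c.pm j z)) {z : ℕ}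
    (hz : z < 448) (h : Q z) : Q 0 := by
  have aux : ∀ n z, z < 448 → walk c.down n z = 0 → Q z → Q 0 := by
    intro n
    induction n with
    | zero => intro z _ e q; rw [walk] at e; rwa [e] at q
    | succ n ih =>
      intro z hz e q
      by_cases z0 : z = 0
      · rwa [z0] at q
      rw [walk, if_neg z0] at e
      obtain ⟨-, a, b, d⟩ := hc.step hz z0
      exact ih _ b e (d ▸ hstep _ z a hz q)
  exact aux 12 z hz (hc.walk_zero hz).2 h

/-- What holds at the code zero and passes along the generators holds at every code. -/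
theorem of_zero {Q : ℕ → Prop} (hstep : ∀ j z, j < 3 → z < 448 → Q z → Q (c.pm j z)) (h : Q 0)
    {z : ℕ} (hz : z < 448) : Q z := by
  have aux : ∀ n z, z < 448 → walk c.up n z = 0 → Q z := by
    intro n
    induction n with
    | zero => intro z _ e; rw [walk] at e; rwa [e]
    | succ n ih =>
      intro z hz e
      by_cases z0 : z = 0
      · rwa [z0]
      rw [walk, if_neg z0] at e
      obtain ⟨⟨a, b, d⟩, -⟩ := hc.step hz z0
      exact d ▸ hstep _ _ a b (ih _ b e)
  exact aux 12 z hz (hc.walk_zero hz).1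

theorem wperm_lt : ∀ {w : List ℕ} {z : ℕ}, (∀ j ∈ w, j < 3) → z < 448 → wperm c.pm w z < 448
  | [], z, _, hz => hz
  | j :: w, z, hw, hz =>
    hc.pm_lt (hw j (by simp)) (wperm_lt (fun i hi => hw i (by simp [hi])) hz)

end Good

/-- A list closed under words satisfies whatever the seed does, when the words preserve it. -/
theorem closeN_spec {P : ℕ → ℕ → ℕ} {ws : List (List ℕ)} {Q : ℕ → Prop}
    (hws : ∀ w ∈ ws, ∀ i, Q i → Q (wperm P w i)) :
    ∀ (n : ℕ) (l : List ℕ), (∀ i ∈ l, Q i) → ∀ i ∈ closeN P ws n l, Q i := by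
  have hstep : ∀ l : List ℕ, (∀ i ∈ l, Q i) → ∀ i ∈ closeStep P ws l, Q i := by
    intro l hl
    have inner : ∀ w ∈ ws, ∀ l' acc : List ℕ, (∀ i ∈ l', Q i) → (∀ i ∈ acc, Q i) →
        ∀ i ∈ l'.foldl (fun acc' i =>
          let k := wperm P w i
          if acc'.contains k then acc' else k :: acc') acc, Q i := by
      intro w hw l'
      induction l' with
      | nil => intro acc _ ha; simpa using ha
      | cons a l' ih =>
        intro acc hl' ha
        rw [List.foldl_cons]
        refine ih _ (fun i hi => hl' i (by simp [hi])) ?_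
        intro i hi
        simp only at hi
        split_ifs at hi
        · exact ha i hi
        · rcases List.mem_cons.1 hi with e | e
          · rw [e]; exact hws w hw a (hl' a (by simp))
          · exact ha i e
    have outer : ∀ ws' : List (List ℕ), (∀ w ∈ ws', w ∈ ws) → ∀ acc : List ℕ, (∀ i ∈ acc, Q i) →
        ∀ i ∈ ws'.foldl (fun acc w => l.foldl (fun acc' i =>
          let k := wperm P w i
          if acc'.contains k then acc' else k :: acc') acc) acc, Q i := by
      intro ws'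
      induction ws' with
      | nil => intro _ acc ha; simpa using ha
      | cons w ws' ih =>
        intro hsub acc ha
        rw [List.foldl_cons]
        exact ih (fun v hv => hsub v (by simp [hv])) _ (inner w (hsub w (by simp)) l acc hl ha)
    exact outer ws (fun w hw => hw) l hl
  intro n
  induction n with
  | zero => intro l hl; simpa [closeN] using hl
  | succ n ih => intro l hl; rw [closeN]; exact ih _ (hstep l hl)

theorem flip_low {i : ℕ} (hi : i ≤ 310) :
    flipT i ≤ 310 ∧ flipT (flipT i) = i ∧ (i ≤ 30 → flipT i = i) := by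
  have h := flip_check
  simp only [List.all_eq_true, List.mem_range, decide_eq_true_eq, Bool.and_eq_true,
    Bool.or_eq_true] at h
  obtain ⟨⟨⟨a, b⟩, d⟩, -⟩ := h i (by omega)
  exact ⟨by omega, b, fun hi' => d.resolve_left (by omega)⟩

theorem adj_flip {i j : ℕ} (hi : i ≤ 310) (hj : j ≤ 310) :
    adj0 (flipT i) (flipT j) = true ↔ adj0 i j = true := by
  have h := flip_check
  simp only [List.all_eq_true, List.mem_range, decide_eq_true_eq, Bool.and_eq_true,
    Bool.or_eq_true] at h
  obtain ⟨a, b, -⟩ := flip_low hi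
  obtain ⟨a', b', -⟩ := flip_low hj
  rw [adj_iff (by omega), adj_iff (by omega)]
  have key := mem_of_maskOf_eq (h i (by omega)).2 (flipT j)
  constructor
  · intro hm
    obtain ⟨w, hw, e⟩ := List.mem_map.1 (key.2 (mem_lowNb.2 ⟨hm, by omega⟩))
    obtain ⟨hw1, hw2⟩ := mem_lowNb.1 hw
    have : w = j := by rw [← (flip_low (i := w) (by omega)).2.1, e, b']
    rwa [← this]
  · intro hm
    exact (mem_lowNb.1 (key.1 (List.mem_map.2 ⟨j, mem_lowNb.2 ⟨hm, by omega⟩, rfl⟩))).1

theorem vmap_low {j i : ℕ} (hj : j < 3) (hi : i ≤ 310) :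
    vmap j i ≤ 310 ∧ flipT (vmap j i) = vmap j (flipT i) := by
  have hv := vmap_check
  simp only [List.all_eq_true, List.mem_range, decide_eq_true_eq, Bool.and_eq_true] at hv
  obtain ⟨a, b⟩ := hv j (by interval_cases j <;> simp) i (by omega)
  exact ⟨by omega, b⟩

theorem wperm_low : ∀ {w : List ℕ} {i : ℕ}, (∀ j ∈ w, j < 3) → i ≤ 310 →
    wperm vmap w i ≤ 310 ∧ flipT (wperm vmap w i) = wperm vmap w (flipT i)
  | [], i, _, hi => ⟨hi, rfl⟩
  | j :: w, i, hw, hi => by
    obtain ⟨a, b⟩ := wperm_low (w := w) (fun k hk => hw k (by simp [hk])) hi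
    obtain ⟨a', b'⟩ := vmap_low (hw j (by simp)) a
    exact ⟨a', by rw [wperm, b', b, wperm]⟩

variable {G : Type*} [Group G] [Finite G] {A : Subgroup G} {C : Coord A} {lab : ℕ → Subgroup G}

/-- Exchanging the two vertices with the same three neighbours gives another numbering. -/
theorem lab_flip (h : Lab310 C lab) : Lab310 C (fun i => lab (flipT i)) := by
  have f30 : ∀ i, i ≤ 30 → lab (flipT i) = lab i := fun i hi => by
    rw [(flip_low (i := i) (by omega)).2.2 hi]
  have f31 : ∀ i, 31 ≤ i → i ≤ 310 → 31 ≤ flipT i := fun i h1 h2 => (flip_y h1 h2).1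
  refine ⟨⟨?_, ?_, ?_, ?_, ?_, ?_⟩, ?_, ?_, ?_, ?_, ?_⟩
  · simpa [f30 0 (by omega)] using h.l30.base
  · intro i h1 h2; simpa [f30 i h2] using h.l30.rel i h1 h2
  · intro i v h1 h2 hv; simpa [f30 i h2] using h.l30.fix i v h1 h2 hv
  · intro i j hi hj e
    exact h.l30.inj i j hi hj (by simpa [f30 i hi, f30 j hj] using e)
  · intro B hB
    obtain ⟨i, h1, h2, e⟩ := h.l30.surj B hB
    exact ⟨i, h1, h2, by simpa [f30 i h2] using e⟩
  · intro j i hj hi
    obtain ⟨a, b⟩ := vmap_low hj (i := i) (by omega)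
    show cj (C.gen j) (lab (flipT i)) = lab (flipT (vmap j i))
    rw [h.equiv j _ hj (flip_low (i := i) (by omega)).1, b]
  · intro i h1 h2
    exact h.rel4 _ (f31 i h1 h2) (flip_low h2).1
  · intro i j hi hj e
    have := h.inj _ _ (flip_low hi).1 (flip_low hj).1 e
    rw [← (flip_low hi).2.1, this, (flip_low hj).2.1]
  · intro B hB
    obtain ⟨i, h1, h2, e⟩ := h.surj B hB
    exact ⟨flipT i, f31 i h1 h2, (flip_low h2).1, by simp [(flip_low h2).2.1, e]⟩
  · intro j i hj hi
    obtain ⟨a, b⟩ := vmap_low hj hi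
    show cj (C.gen j) (lab (flipT i)) = lab (flipT (vmap j i))
    rw [h.equiv j _ hj (flip_low hi).1, b]
  · intro i j hi hj hne
    rw [h.adj _ _ (flip_low hi).1 (flip_low hj).1 (fun e => hne (by
      rw [← (flip_low hi).2.1, e, (flip_low hj).2.1])), adj_flip hi hj]

theorem one_cj {n : G} (hn : n ∈ Subgroup.normalizer (A : Set G)) {Z : Subgroup G}
    (hZ : Rel A 1 A Z) : Rel A 1 A (cj n Z) := by
  have := rel_cj n hZ
  rwa [norm_cj_A hn] at this

theorem cj_ev_lab (h : Lab310 C lab) : ∀ {w : List ℕ} {i : ℕ}, (∀ j ∈ w, j < 3) → i ≤ 310 →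
    cj (C.ev w) (lab i) = lab (wperm vmap w i)
  | [], i, _, _ => cj_one _
  | j :: w, i, hw, hi => by
    have hw' : ∀ k ∈ w, k < 3 := fun k hk => hw k (by simp [hk])
    rw [Coord.ev, ← cj_cj, cj_ev_lab h hw' hi, h.equiv j _ (hw j (by simp)) (wperm_low hw' hi).1]
    rfl

open Classical in
theorem RS_cj (O : Orbits A) (h : Lab310 C lab) {j : ℕ} (hj : j < 3) {Z : Subgroup G}
    (hZ : Rel A 1 A Z) : RS A lab (cj (C.gen j) Z) = (RS A lab Z).image (vmap j) := by
  refine (Finset.eq_of_subset_of_card_le ?_ ?_).symm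
  · intro x hx
    obtain ⟨y, hy, rfl⟩ := Finset.mem_image.1 hx
    obtain ⟨h1, h2, h3⟩ := mem_RS.1 hy
    have he := h.equiv j y hj h2
    refine mem_RS.2 ⟨?_, (vmap_low hj h2).1, by rw [← he]; exact rel_cj _ h3⟩
    by_contra hlt
    have h4 := rel_cj (C.gen j) (h.rel4 y h1 h2)
    rw [norm_cj_A (C.gen_norm j), he] at h4
    rcases Nat.eq_zero_or_pos (vmap j y) with e | e
    · rw [e, h.l30.base] at h4
      exact h4.2.2.1 rfl
    · exact absurd (rel_unique h4 (h.l30.rel _ e (by omega))) (by norm_num)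
  · rw [card_RS O h (one_cj (C.gen_norm j) hZ), Finset.card_image_of_injOn, card_RS O h hZ]
    intro a ha b hb e
    obtain ⟨-, a2, -⟩ := mem_RS.1 ha
    obtain ⟨-, b2, -⟩ := mem_RS.1 hb
    exact h.inj a b a2 b2 (cj_inj (g := C.gen j) (by rw [h.equiv j a hj a2, h.equiv j b hj b2, e]))

open Classical in
theorem PS_cj (O : Orbits A) (h : Lab310 C lab) {j : ℕ} (hj : j < 3) {Z : Subgroup G}
    (hZ : Rel A 1 A Z) : PS A lab (cj (C.gen j) Z) = (PS A lab Z).image (vmap j) := by
  refine (Finset.eq_of_subset_of_card_le ?_ ?_).symm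
  · intro x hx
    obtain ⟨y, hy, rfl⟩ := Finset.mem_image.1 hx
    obtain ⟨h1, h2, h3⟩ := mem_PS.1 hy
    have he := h.equiv j y hj (by omega)
    have hle := (vmap_low hj (i := y) (by omega)).1
    have h8 := rel_cj (C.gen j) (h.l30.rel y h1 h2)
    rw [norm_cj_A (C.gen_norm j), he] at h8
    refine mem_PS.2 ⟨?_, ?_, by rw [← he]; exact rel_cj _ h3⟩
    · by_contra hlt
      rw [show vmap j y = 0 by omega, h.l30.base] at h8
      exact h8.2.2.1 rfl
    · by_contra hlt
      exact absurd (rel_unique h8 (h.rel4 _ (by omega) hle)) (by norm_num)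
  · rw [card_PS O h (one_cj (C.gen_norm j) hZ), Finset.card_image_of_injOn, card_PS O h hZ]
    intro a ha b hb e
    obtain ⟨-, a2, -⟩ := mem_PS.1 ha
    obtain ⟨-, b2, -⟩ := mem_PS.1 hb
    exact h.inj a b (by omega) (by omega)
      (cj_inj (g := C.gen j) (by rw [h.equiv j a hj (by omega), h.equiv j b hj (by omega), e]))

theorem KS_cj (O : Orbits A) (h : Lab310 C lab) {j : ℕ} (hj : j < 3) {Z : Subgroup G}
    (hZ : Rel A 1 A Z) : KS A lab (cj (C.gen j) Z) = (KS A lab Z).image (vmap j) := by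
  classical
  rw [KS, KS, PS_cj O h hj hZ, RS_cj O h hj hZ, Finset.image_union, Finset.image_union]
  congr 1
  rw [Finset.image_image, Finset.image_image]
  refine Finset.image_congr fun y hy => ?_
  exact (vmap_low hj (mem_RS.1 hy).2.1).2

/-- A numbering of the conjugates of rank one along a class. -/
structure Numb {G : Type*} [Group G] {A : Subgroup G} (C : Coord A) (c : Cls)
    (lab Zs : ℕ → Subgroup G) : Prop where
  rel : ∀ z, z < 448 → Rel A 1 A (Zs z)
  inj : ∀ z w, z < 448 → w < 448 → Zs z = Zs w → z = w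
  surj : ∀ Z, Rel A 1 A Z → ∃ z, z < 448 ∧ Zs z = Z
  equiv : ∀ j z, j < 3 → z < 448 → cj (C.gen j) (Zs z) = Zs (c.pm j z)
  row : ∀ z y, z < 448 → 31 ≤ y → y ≤ 310 → (Rel A 8 (lab y) (Zs z) ↔ y ∈ c.row z)

theorem exists_coded (O : Orbits A) (h : Lab310 C lab) {c : Cls} (hc : Good c) {z0 : ℕ}
    (hz0 : z0 < 448) {Z0 : Subgroup G} (hZ0 : Rel A 1 A Z0)
    (hK : KS A lab Z0 = (c.code z0).toFinset) :
    ∃ Zs : ℕ → Subgroup G, (∀ z, z < 448 → Rel A 1 A (Zs z) ∧
      KS A lab (Zs z) = (c.code z).toFinset) ∧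
      (∀ z w, z < 448 → w < 448 → Zs z = Zs w → z = w) ∧
      (∀ Z, Rel A 1 A Z → ∃ z, z < 448 ∧ Zs z = Z) ∧
      ∀ j z, j < 3 → z < 448 → cj (C.gen j) (Zs z) = Zs (c.pm j z) := by
  classical
  let Q : ℕ → Prop := fun z => ∃ Z, Rel A 1 A Z ∧ KS A lab Z = (c.code z).toFinset
  have hstep : ∀ j z, j < 3 → z < 448 → Q z → Q (c.pm j z) := by
    rintro j z hj hz ⟨Z, hZ, hKZ⟩
    exact ⟨cj (C.gen j) Z, one_cj (C.gen_norm j) hZ,
      by rw [KS_cj O h hj hZ, hKZ, hc.code_vmap hj hz]⟩
  have hall : ∀ z, z < 448 → Q z := fun z hz =>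
    hc.of_zero hstep (hc.to_zero hstep hz0 ⟨Z0, hZ0, hK⟩) hz
  let Zs : ℕ → Subgroup G := fun z => if hz : z < 448 then (hall z hz).choose else A
  have hs : ∀ z, z < 448 → Rel A 1 A (Zs z) ∧ KS A lab (Zs z) = (c.code z).toFinset := by
    intro z hz
    simp only [Zs, dif_pos hz]
    exact (hall z hz).choose_spec
  have hinj : ∀ z w, z < 448 → w < 448 → Zs z = Zs w → z = w := fun z w hz hw e =>
    hc.code_inj hz hw (by rw [← (hs z hz).2, e, (hs w hw).2])
  have hsurj : ∀ Z, Rel A 1 A Z → ∃ z, z < 448 ∧ Zs z = Z := by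
    intro Z hZ
    have hsub : Zs '' Set.Iio 448 ⊆ {B | Rel A 1 A B} := by
      rintro _ ⟨z, hz, rfl⟩
      exact (hs z hz).1
    have hcard : {B | Rel A 1 A B}.ncard = 448 := by
      rw [← O.card_one, ← Nat.card_coe_set_eq]
      exact Nat.card_congr (Equiv.subtypeEquivRight fun B => rel_A)
    have himg : (Zs '' Set.Iio 448).ncard = 448 := by
      rw [Set.InjOn.ncard_image (s := Set.Iio 448) (fun a ha b hb e => hinj a b ha hb e), ← Finset.coe_Iio,
        Set.ncard_coe_finset, Nat.card_Iio]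
    have heq := Set.eq_of_subset_of_ncard_le hsub (by omega)
    have hm : Z ∈ Zs '' Set.Iio 448 := by rw [heq]; exact hZ
    obtain ⟨z, hz, rfl⟩ := hm
    exact ⟨z, hz, rfl⟩
  refine ⟨Zs, hs, hinj, hsurj, fun j z hj hz => ?_⟩
  have h1 := one_cj (C.gen_norm j) (hs z hz).1
  obtain ⟨w, hw, e⟩ := hsurj _ h1
  rw [← e]
  congr 1
  refine hc.code_inj hw (hc.pm_lt hj hz) ?_
  rw [← (hs w hw).2, e, KS_cj O h hj (hs z hz).1, (hs z hz).2, hc.code_vmap hj hz]

theorem cj_ev_Zs {c : Cls} (hc : Good c) {Zs : ℕ → Subgroup G}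
    (he : ∀ j z, j < 3 → z < 448 → cj (C.gen j) (Zs z) = Zs (c.pm j z)) :
    ∀ {w : List ℕ} {z : ℕ}, (∀ j ∈ w, j < 3) → z < 448 →
      cj (C.ev w) (Zs z) = Zs (wperm c.pm w z)
  | [], z, _, _ => cj_one _
  | j :: w, z, hw, hz => by
    have hw' : ∀ k ∈ w, k < 3 := fun k hk => hw k (by simp [hk])
    rw [Coord.ev, ← cj_cj, cj_ev_Zs hc he hw' hz, he j _ (hw j (by simp)) (hc.wperm_lt hw' hz)]
    rfl

/-- The rows of the class give the second-layer neighbours, for one of two numberings. -/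
theorem exists_numb_of_code (O : Orbits A) (h : Lab310 C lab) {c : Cls} (hc : Good c) {z0 : ℕ}
    (hz0 : z0 < 448) {Z0 : Subgroup G} (hZ0 : Rel A 1 A Z0)
    (hK : KS A lab Z0 = (c.code z0).toFinset) (ws : List (List ℕ))
    (hws : ∀ w ∈ ws, (∀ j ∈ w, j < 3) ∧ wperm c.pm w 0 = 0)
    (hclose : ∀ y ∈ c.row 0, y ∈ closeN vmap ws 6 [(c.row 0).headD 0]) :
    ∃ lab' Zs, Lab310 C lab' ∧ Numb C c lab' Zs := by
  classical
  obtain ⟨Zs, hs, hinj, hsurj, he⟩ := exists_coded O h hc hz0 hZ0 hK
  obtain ⟨hZ, hKZ⟩ := hs 0 (by norm_num)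
  set R := RS A lab (Zs 0) with hR
  have hlen := (hc.row_card (z := 0) (by norm_num))
  have hcand : ∀ y ∈ R, y ∈ c.row 0 ∨ flipT y ∈ c.row 0 := by
    intro y hy
    obtain ⟨y1, y2, -⟩ := mem_RS.1 hy
    have hm : y ∈ (c.code 0).toFinset := by
      rw [← hKZ]
      exact Finset.mem_union_left _ (Finset.mem_union_right _ hy)
    simp only [List.mem_toFinset, Cls.code, List.mem_append, List.mem_map] at hm
    rcases hm with (hm | hm) | ⟨u, hu, rfl⟩
    · rw [Cls.sec, secL, List.mem_map] at hm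
      obtain ⟨k, hk, e⟩ := hm
      rw [List.mem_range] at hk
      split_ifs at e <;> omega
    · exact Or.inl hm
    · exact Or.inr (by rw [(flip_low (hc.row_range (by norm_num) hu).2).2.1]; exact hu)
  have hnot : ∀ y ∈ R, flipT y ∉ R := by
    intro y hy hy'
    obtain ⟨y1, y2, -⟩ := mem_RS.1 hy
    obtain ⟨-, -, hne, -, hx, -⟩ := flip_y y1 y2
    exact hne (RS_unique O h hZ hy' hy (fun a ha => ⟨a, hx ▸ ha, rfl⟩))
  have hinv : ∀ w ∈ ws, ∀ y ∈ R, wperm vmap w y ∈ R := by
    intro w hw y hy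
    obtain ⟨hj, hw0⟩ := hws w hw
    obtain ⟨y1, y2, y3⟩ := mem_RS.1 hy
    have h3 := rel_cj (C.ev w) y3
    rw [cj_ev_lab h hj y2, cj_ev_Zs hc he hj (by norm_num), hw0] at h3
    refine mem_RS.2 ⟨?_, (wperm_low hj y2).1, h3⟩
    by_contra hlt
    have h4 := rel_cj (C.ev w) (h.rel4 y y1 y2)
    rw [norm_cj_A (C.ev_norm w), cj_ev_lab h hj y2] at h4
    exact one_not_adj O h hZ (by omega) h3
  obtain ⟨r, l, hrl⟩ := List.exists_cons_of_length_pos (l := c.row 0) (by omega)
  have hr : r ∈ c.row 0 := by simp [hrl]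
  have hhead : (c.row 0).headD 0 = r := by simp [hrl]
  rw [hhead] at hclose
  -- one vertex of the first pair is a neighbour
  have hpair : r ∈ R ∨ flipT r ∈ R := by
    by_contra hno
    push Not at hno
    let f : ℕ → ℕ := fun y => if y ∈ c.row 0 then y else flipT y
    have hmaps : ∀ y ∈ R, f y ∈ (c.row 0).toFinset.erase r := by
      intro y hy
      obtain ⟨y1, y2, -⟩ := mem_RS.1 hy
      simp only [f, Finset.mem_erase, List.mem_toFinset]
      split_ifs with hin
      · exact ⟨fun e => hno.1 (e ▸ hy), hin⟩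
      · refine ⟨fun e => hno.2 ?_, (hcand y hy).resolve_left hin⟩
        rw [← e, (flip_low y2).2.1]; exact hy
    have hfinj : Set.InjOn f ↑R := by
      intro a ha b hb e
      obtain ⟨-, a2, -⟩ := mem_RS.1 ha
      obtain ⟨-, b2, -⟩ := mem_RS.1 hb
      simp only [f] at e
      split_ifs at e
      · exact e
      · exact absurd (e ▸ ha) (hnot b hb)
      · exact absurd (e.symm ▸ hb) (hnot a ha)
      · rw [← (flip_low a2).2.1, e, (flip_low b2).2.1]
    have := Finset.card_le_card_of_injOn f hmaps hfinj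
    rw [Finset.card_erase_of_mem (List.mem_toFinset.2 hr), hlen.2, card_RS O h hZ] at this
    omega
  obtain ⟨s, hs1, hs2, hs3, hs4⟩ : ∃ s : ℕ → ℕ, (s = id ∨ s = flipT) ∧
      (∀ i, i ≤ 310 → s i ≤ 310 ∧ s (s i) = i) ∧
      (∀ j i, j < 3 → i ≤ 310 → s (vmap j i) = vmap j (s i)) ∧
      R = (c.row 0).toFinset.image s := by
    rcases hpair with e | e
    · refine ⟨id, Or.inl rfl, fun i hi => ⟨hi, rfl⟩, fun _ _ _ _ => rfl, ?_⟩
      have hall := closeN_spec (Q := fun y => y ∈ R) hinv 6 [r] (by simpa using e)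
      rw [Finset.image_id]
      refine (Finset.eq_of_subset_of_card_le (fun y hy => hall y (hclose y ?_)) ?_).symm
      · simpa using hy
      · rw [hlen.2, card_RS O h hZ]
    · refine ⟨flipT, Or.inr rfl, fun i hi => ⟨(flip_low hi).1, (flip_low hi).2.1⟩,
        fun j i hj hi => (vmap_low hj hi).2, ?_⟩
      have hall := closeN_spec (Q := fun y => y ≤ 310 ∧ flipT y ∈ R)
        (fun w hw y hy => by
          obtain ⟨a, b⟩ := wperm_low (hws w hw).1 hy.1
          exact ⟨a, by rw [b]; exact hinv w hw _ hy.2⟩) 6 [r]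
        (by simpa using And.intro (hc.row_range (by norm_num) hr).2 e)
      refine (Finset.eq_of_subset_of_card_le ?_ ?_).symm
      · intro y hy
        obtain ⟨u, hu, rfl⟩ := Finset.mem_image.1 hy
        exact (hall u (hclose u (by simpa using hu))).2
      · rw [card_RS O h hZ, Finset.card_image_of_injOn, hlen.2]
        intro a ha b hb e'
        simp only [List.coe_toFinset, Set.mem_ofPred_eq] at ha hb
        rw [← (flip_low (hc.row_range (by norm_num) ha).2).2.1, e',
          (flip_low (hc.row_range (by norm_num) hb).2).2.1]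
  have hrows : ∀ z, z < 448 → RS A lab (Zs z) = (c.row z).toFinset.image s := by
    intro z hz
    refine (hc.of_zero (Q := fun z => z < 448 ∧ RS A lab (Zs z) = (c.row z).toFinset.image s)
      ?_ ⟨by norm_num, hs4⟩ hz).2
    rintro j z hj - ⟨hz', hQ⟩
    refine ⟨hc.pm_lt hj hz', ?_⟩
    rw [← he j z hj hz', RS_cj O h hj (hs z hz').1, hQ, Finset.image_image]
    ext x
    simp only [Finset.mem_image, List.mem_toFinset, Function.comp_apply,
      hc.mem_row_vmap hj hz']
    constructor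
    · rintro ⟨u, hu, rfl⟩
      exact ⟨vmap j u, ⟨u, hu, rfl⟩, hs3 j u hj (hc.row_range hz' hu).2⟩
    · rintro ⟨_, ⟨u, hu, rfl⟩, rfl⟩
      exact ⟨u, hu, (hs3 j u hj (hc.row_range hz' hu).2).symm⟩
  refine ⟨fun i => lab (s i), Zs, ?_, fun z hz => (hs z hz).1, hinj, hsurj, he, ?_⟩
  · rcases hs1 with rfl | rfl
    · exact h
    · exact lab_flip h
  intro z y hz y1 y2
  obtain ⟨sy, ssy⟩ := hs2 y y2
  have sy1 : 31 ≤ s y := by
    rcases hs1 with rfl | rfl
    · exact y1
    · exact (flip_y y1 y2).1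
  constructor
  · intro hr'
    have hm : s y ∈ RS A lab (Zs z) := mem_RS.2 ⟨sy1, sy, hr'⟩
    rw [hrows z hz, Finset.mem_image] at hm
    obtain ⟨u, hu, e⟩ := hm
    rw [List.mem_toFinset] at hu
    have : u = y := by rw [← (hs2 u (hc.row_range hz hu).2).2, e, ssy]
    rwa [← this]
  · intro hy
    have hm : s y ∈ RS A lab (Zs z) := by
      rw [hrows z hz]
      exact Finset.mem_image.2 ⟨y, List.mem_toFinset.2 hy, rfl⟩
    exact (mem_RS.1 hm).2.2

/-- The conjugates of rank one are numbered along the third layer or along the linear class. -/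
theorem exists_numb (O : Orbits A) (h : Lab310 C lab) :
    ∃ (c : Cls) (lab' Zs : ℕ → Subgroup G),
      (c = farC ∨ c = linC) ∧ Lab310 C lab' ∧ Numb C c lab' Zs := by
  classical
  haveI : Nonempty {B : Subgroup G // B ∈ Conjs A ∧ B ≠ A ∧ rk A B = 1} :=
    (Nat.card_pos_iff.1 (by rw [O.card_one]; norm_num)).1
  obtain ⟨Z, hZ⟩ := ‹Nonempty {B : Subgroup G // B ∈ Conjs A ∧ B ≠ A ∧ rk A B = 1}›
  have hZ1 : Rel A 1 A Z := rel_A.2 hZ
  obtain ⟨i, hi, hcode⟩ := exists_code O h hZ1
  have hst := stab_check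
  simp only [Bool.and_eq_true, List.all_eq_true, decide_eq_true_eq] at hst
  have hz : i % 448 < 448 := Nat.mod_lt _ (by norm_num)
  by_cases hlt : i < 448
  · rw [clsOf, if_pos hlt] at hcode
    have hcl := far_close
    simp only [List.all_eq_true, List.contains_iff_mem] at hcl
    obtain ⟨l', Zs, a, b⟩ := exists_numb_of_code O h good_far hz hZ1 hcode.symm stabFarWords
      (fun w hw => hst.1 w (by simp [hw])) hcl
    exact ⟨farC, l', Zs, Or.inl rfl, a, b⟩
  · rw [clsOf, if_neg hlt] at hcode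
    have hcl := lin_close
    simp only [List.all_eq_true, List.contains_iff_mem] at hcl
    obtain ⟨l', Zs, a, b⟩ := exists_numb_of_code O h good_lin hz hZ1 hcode.symm stabFarAWords
      (fun w hw => hst.2 w (by simp [hw])) hcl
    exact ⟨linC, l', Zs, Or.inr rfl, a, b⟩

end Cfsg.Agent.Lib.M24Nse65.Far
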