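import Cfsg.Agent.Lib.M24Nse65.Thirty
import Cfsg.Agent.Lib.M24Nse65.FarTables
import Cfsg.Agent.Lib.M24Nse65.FarData

/-!
Readers for the tables of the second and third layers of the graph, and the two classes of codes
of a conjugate of rank one.
-/

set_option autoImplicit false

namespace Cfsg.Agent.Lib.M24Nse65.Far

/-- The thirty neighbours of a vertex. -/
def nbs (i : ℕ) : List ℕ :=
  (List.range 30).map (tget ((nbTab.getD (i / 32) []).getD (i % 32) 0) 10)

/-- The neighbours among the first 311 vertices. -/
def lowNb (i : ℕ) : List ℕ := (nbs i).filter fun j => decide (j < 311)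

/-- The neighbours among the thirty. -/
def x3 (y : ℕ) : List ℕ := (nbs y).filter fun x => decide (1 ≤ x) && decide (x ≤ 30)

/-- The exchange of the two vertices with the same neighbours among the thirty. -/
def flipT (i : ℕ) : ℕ := tget flipTable 9 i

/-- The translation by a basis vector. -/
def trB (k i : ℕ) : ℕ := tget (trTab.getD k 0) 9 i

/-- The translation by a vector. -/
def tr (v i : ℕ) : ℕ :=
  let i0 := if v.testBit 0 then trB 0 i else i
  let i1 := if v.testBit 1 then trB 1 i0 else i0
  let i2 := if v.testBit 2 then trB 2 i1 else i1
  if v.testBit 3 then trB 3 i2 else i2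

/-- The mask of a list of numbers. -/
def maskOf : List ℕ → ℕ
  | [] => 0
  | i :: l => (1 <<< i) ||| maskOf l

/-- The neighbours among the thirty, read from a table. -/
def x3f (y : ℕ) : List ℕ :=
  [tget x3Tab 5 (3 * y), tget x3Tab 5 (3 * y + 1), tget x3Tab 5 (3 * y + 2)]

/-- The number with given bits. -/
def valOf : List Bool → ℕ
  | [] => 0
  | b :: l => (if b then 1 else 0) + 2 * valOf l

/-- The fifteen vertices chosen by the bits of a number. -/
def secL (m : ℕ) : List ℕ :=
  (List.range 15).map fun k => if m.testBit k then 2 * k + 2 else 2 * k + 1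

/-- The data of a class of 448 codes. -/
structure Cls where
  /-- The action of the generators. -/
  pm : ℕ → ℕ → ℕ
  /-- The neighbours in the second layer. -/
  row : ℕ → List ℕ
  /-- The packed sections. -/
  fo : ℕ
  /-- The packed polarities. -/
  pio : ℕ
  /-- A spanning tree, upwards. -/
  up : ℕ
  /-- A spanning tree, downwards. -/
  down : ℕ
  /-- The codes in increasing order. -/
  ord : ℕ
  /-- The place of each code. -/
  rank : ℕ

/-- The section of a code. -/
def Cls.sec (c : Cls) (z : ℕ) : List ℕ := secL (tget c.fo 15 z)

/-- The code of a vertex of a class: section, second-layer neighbours, and their exchanges. -/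
def Cls.code (c : Cls) (z : ℕ) : List ℕ := c.sec z ++ c.row z ++ (c.row z).map flipT

/-- The third layer of the graph. -/
def farC : Cls :=
  { pm := fun j z => vmap j (311 + z) - 311
    row := fun z => lowNb (311 + z)
    fo := fOfFar, pio := piOfFar, up := farUp, down := farDown, ord := farOrd, rank := farRank }

/-- The linear class. -/
def linC : Cls :=
  { pm := fun j z => tget (if j = 0 then linPerm0 else if j = 1 then linPerm1 else linPerm2) 9 z
    row := fun z =>
      (List.range 15).map (tget ((linRowTab.getD (z / 32) []).getD (z % 32) 0) 9)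
    fo := fOfLin, pio := piOfLin, up := linUp, down := linDown, ord := linOrd, rank := linRank }

/-- The class of a code number. -/
def clsOf (i : ℕ) : Cls := if i < 448 then farC else linC

/-- Following a tree for a number of steps. -/
def walk (T : ℕ) : ℕ → ℕ → ℕ
  | 0, z => z
  | n + 1, z => if z = 0 then 0 else walk T n (tget T 11 z / 4)

/-- The action of a word. -/
def wperm (P : ℕ → ℕ → ℕ) : List ℕ → ℕ → ℕ
  | [], i => i
  | j :: w, i => P j (wperm P w i)

/-- One step of closing a list under words. -/
def closeStep (P : ℕ → ℕ → ℕ) (ws : List (List ℕ)) (l : List ℕ) : List ℕ :=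
  ws.foldl (fun acc w => l.foldl (fun acc' i =>
    let k := wperm P w i
    if acc'.contains k then acc' else k :: acc') acc) l

/-- Closing a list under words. -/
def closeN (P : ℕ → ℕ → ℕ) (ws : List (List ℕ)) : ℕ → List ℕ → List ℕ
  | 0, l => l
  | n + 1, l => closeN P ws n (closeStep P ws l)

/-- The condition on a new bit given by the isotropic lines. -/
def okBit (T n : ℕ) (l : List Bool) (b : Bool) : Bool :=
  (List.range n).all fun a' =>
    let a := a' + 1
    let c := (n + 1) ^^^ a
    decide (c = 0) || decide (n < c) || dot c (app T a) ||
      (b == (l.getD a' false != l.getD (c - 1) false))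

/-- The sections compatible with a polarity, cut to the first `n` bits. -/
def sols (T : ℕ) : ℕ → List (List Bool)
  | 0 => [[]]
  | n + 1 => (sols T n).flatMap fun l =>
      ([false, true].filter (okBit T n l)).map fun b => l ++ [b]

end Cfsg.Agent.Lib.M24Nse65.Far
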