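import Cfsg.Agent.Lib.M24Nse65.FarSection
import Cfsg.Agent.Lib.M24Nse65.FarChecksClass

/-!
The lines seen by a conjugate of rank one in each plane are concurrent; this gives a symplectic
polarity and puts the code of the conjugate in one of two classes of 448.
-/

set_option autoImplicit false
set_option linter.unusedSectionVars false
set_option linter.unusedVariables false
set_option linter.style.haveILetI false

namespace Cfsg.Agent.Lib.M24Nse65.Far

variable {G : Type*} [Group G] [Finite G] {A : Subgroup G} {C : Coord A} {lab : ℕ → Subgroup G}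

theorem pOf_range {x : ℕ} (h1 : 1 ≤ x) (h2 : x ≤ 30) : 1 ≤ pOf x ∧ pOf x < 16 := by
  unfold pOf; omega

theorem x3_range {y x : ℕ} (hx : x ∈ x3 y) : 1 ≤ pOf x ∧ pOf x < 16 :=
  pOf_range (mem_x3.1 hx).2.1 (mem_x3.1 hx).2.2

theorem tr_line {y v : ℕ} (h1 : 31 ≤ y) (h2 : y ≤ 310) (hv : v < 16) :
    (tr v y = y ↔ ∀ x ∈ x3 y, dot (pOf x) v = false) ∧
    (∀ x ∈ x3 y, dot (pOf x) v = false → tr v y ≠ y → adj0 (tr v y) y = false) := by
  have h := tr_line_check
  simp only [List.all_eq_true, List.mem_range, decide_eq_true_eq, Bool.and_eq_true,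
    Bool.or_eq_true, Bool.not_eq_true'] at h
  obtain ⟨a, b⟩ := h (y - 31) (by omega) v hv
  rw [show y - 31 + 31 = y by omega] at a b
  rw [← x3_eq h1 h2] at a b
  rw [beq_iff_eq] at a
  refine ⟨?_, fun x hx hd hne => ?_⟩
  · rw [← decide_eq_true_iff (p := tr v y = y), a, List.all_eq_true]
    simp
  · rcases b x hx with (e | e) | e
    · rw [hd] at e; exact absurd e (by decide)
    · exact absurd e hne
    · exact e

theorem common_zero : ∀ k, k < 16 → ∀ a, a < 16 → ∀ b, b < 16 →
    ∃ v, v < 16 ∧ 1 ≤ v ∧ dot k v = false ∧ dot a v = false ∧ dot b v = false := by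
  have h : (List.range 16).all (fun k => (List.range 16).all fun a => (List.range 16).all fun b =>
      (List.range 16).any fun v => decide (1 ≤ v) && !dot k v && !dot a v && !dot b v) = true := by
    decide +kernel
  simp only [List.all_eq_true, List.any_eq_true, List.mem_range, decide_eq_true_eq,
    Bool.and_eq_true, Bool.not_eq_true'] at h
  intro k hk a ha b hb
  obtain ⟨v, hv, ⟨⟨h1, h2⟩, h3⟩, h4⟩ := h k hk a ha b hb
  exact ⟨v, hv, h1, h2, h3, h4⟩

theorem six_zeros {k v : ℕ} (hk : k < 16) (hv : v < 16) (hk1 : 1 ≤ k) (hv1 : 1 ≤ v)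
    (hd : dot k v = false) :
    ((Finset.Icc 1 15).filter fun c => c ≠ k ∧ dot c v = false).card = 6 := by
  have h : (List.range 16).all (fun k => decide (k = 0) || (List.range 16).all fun v =>
      decide (v = 0) || dot k v ||
        decide (((Finset.Icc 1 15).filter fun c => c ≠ k ∧ dot c v = false).card = 6)) = true := by
    decide +kernel
  simp only [List.all_eq_true, List.mem_range, decide_eq_true_eq, Bool.or_eq_true] at h
  rcases h k hk with e | e
  · omega
  rcases e v hv with (e | e) | e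
  · omega
  · rw [hd] at e; exact absurd e (by decide)
  · exact e

/-- The dual vectors `k` and `c` lie in one of the lines seen by `Z`. -/
def Lam (A : Subgroup G) (lab : ℕ → Subgroup G) (Z : Subgroup G) (k c : ℕ) : Prop :=
  ∃ y ∈ RS A lab Z, (∃ a ∈ x3 y, pOf a = k) ∧ ∃ b ∈ x3 y, pOf b = c

theorem lam_symm {Z : Subgroup G} {k c : ℕ} (h : Lam A lab Z k c) : Lam A lab Z c k := by
  obtain ⟨y, hy, ha, hb⟩ := h
  exact ⟨y, hy, hb, ha⟩

theorem other_in_line {y x : ℕ} (h1 : 31 ≤ y) (h2 : y ≤ 310) (hx : x ∈ x3 y) :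
    ∃ a ∈ x3 y, a ≠ x := by
  obtain ⟨hlen, hnd, -⟩ := y_facts h1 h2
  by_contra hno
  push Not at hno
  have hc := List.toFinset_card_of_nodup hnd
  have hle : (x3 y).toFinset ⊆ {x} := fun a ha => by
    simp only [List.mem_toFinset] at ha
    simp [hno a ha]
  have := Finset.card_le_card hle
  rw [hc, hlen, Finset.card_singleton] at this
  omega

theorem span_zero {y a x c v : ℕ} (h1 : 31 ≤ y) (h2 : y ≤ 310) (hv : v < 16) (ha : a ∈ x3 y)
    (hx : x ∈ x3 y) (hc : c ∈ x3 y) (hne : a ≠ x) (da : dot (pOf a) v = false)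
    (dx : dot (pOf x) v = false) : dot (pOf c) v = false := by
  by_cases e1 : c = a
  · rw [e1]; exact da
  by_cases e2 : c = x
  · rw [e2]; exact dx
  rw [(y_facts h1 h2).2.2.2.2.2.2.2 a ha x hx c hc hne e1 e2,
    dot_xor_left (x3_range ha).2 (x3_range hx).2 hv, da, dx]
  rfl

/-- The three lines in a plane are concurrent. -/
theorem exists_pencil (O : Orbits A) (h : Lab310 C lab) {Z : Subgroup G} (hZ : Rel A 1 A Z) {k : ℕ}
    (hk : 1 ≤ k) (hk' : k < 16) :
    ∃ v, v < 16 ∧ 1 ≤ v ∧ dot k v = false ∧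
      ∀ c, 1 ≤ c → c < 16 → c ≠ k → (Lam A lab Z k c ↔ dot c v = false) := by
  classical
  obtain ⟨x, hx, rfl⟩ := PS_exists O h hZ hk hk'
  obtain ⟨hx1, hx2, hx4⟩ := mem_PS.1 hx
  set Y := (RS A lab Z).filter fun y => x ∈ x3 y with hY
  obtain ⟨y1, y2, y3, n12, n13, n23, hYe⟩ := Finset.card_eq_three.1 (three_lines O h hZ hx)
  have hYm : ∀ y ∈ Y, 31 ≤ y ∧ y ≤ 310 ∧ y ∈ RS A lab Z ∧ x ∈ x3 y := fun y hy => by
    obtain ⟨hyR, hxy⟩ := Finset.mem_filter.1 hy
    exact ⟨(mem_RS.1 hyR).1, (mem_RS.1 hyR).2.1, hyR, hxy⟩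
  have m1 := hYm y1 (by rw [hY, hYe]; simp)
  have m2 := hYm y2 (by rw [hY, hYe]; simp)
  have m3 := hYm y3 (by rw [hY, hYe]; simp)
  obtain ⟨a, ha, hax⟩ := other_in_line m1.1 m1.2.1 m1.2.2.2
  obtain ⟨b, hb, hbx⟩ := other_in_line m2.1 m2.2.1 m2.2.2.2
  obtain ⟨v, hv, hv1, vk, va, vb⟩ :=
    common_zero _ hk' _ (x3_range ha).2 _ (x3_range hb).2
  have z1 : ∀ c ∈ x3 y1, dot (pOf c) v = false := fun c hc =>
    span_zero m1.1 m1.2.1 hv ha m1.2.2.2 hc hax va vk
  have z2 : ∀ c ∈ x3 y2, dot (pOf c) v = false := fun c hc =>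
    span_zero m2.1 m2.2.1 hv hb m2.2.2.2 hc hbx vb vk
  have f1 : tr v y1 = y1 := (tr_line m1.1 m1.2.1 hv).1.2 z1
  have f2 : tr v y2 = y2 := (tr_line m2.1 m2.2.1 hv).1.2 z2
  have fx : cj (C.e v) (lab x) = lab x :=
    (C.cj_e_fix hv).2 ((h.l30.fix x v hx1 hx2 hv).2 vk)
  have hcn : ∀ y, y ∈ Y → lab y ∈ CN A (lab x) Z := fun y hy => by
    rw [cn_PS O h hZ hx]; exact ⟨y, hy, rfl⟩
  have hl : ∀ p q, p ≤ 310 → q ≤ 310 → p ≠ q → lab p ≠ lab q := fun p q hp hq hne e =>
    hne (h.inj p q hp hq e)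
  have hst := line_stab O h hx4 (hcn y1 (by rw [hY, hYe]; simp)) (hcn y2 (by rw [hY, hYe]; simp))
    (hcn y3 (by rw [hY, hYe]; simp)) (hl _ _ m1.2.1 m2.2.1 n12) (hl _ _ m3.2.1 m1.2.1 (Ne.symm n13))
    (hl _ _ m3.2.1 m2.2.1 (Ne.symm n23)) fx
    (by rw [(tr_spec h hv m1.2.1).1, f1]) (by rw [(tr_spec h hv m2.2.1).1, f2])
  obtain ⟨e3, l3⟩ := tr_spec h hv m3.2.1
  rw [e3] at hst
  have f3 : tr v y3 = y3 := by
    by_contra hne
    rcases hst with e | e
    · exact hne (h.inj _ _ l3 m3.2.1 e)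
    · have := adj_of_rel8 h l3 m3.2.1 e
      rw [(tr_line m3.1 m3.2.1 hv).2 x m3.2.2.2 vk hne] at this
      exact absurd this (by decide)
  have zero : ∀ y ∈ Y, ∀ c ∈ x3 y, dot (pOf c) v = false := by
    intro y hy
    rw [hY, hYe] at hy
    simp only [Finset.mem_insert, Finset.mem_singleton] at hy
    rcases hy with rfl | rfl | rfl
    · exact z1
    · exact z2
    · exact (tr_line m3.1 m3.2.1 hv).1.1 f3
  refine ⟨v, hv, hv1, vk, fun c hc hc' hck => ?_⟩
  -- six further dual vectors lie in the three lines, hence all of the plane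
  let S : Finset ℕ := Y.biUnion fun y => ((x3 y).toFinset.image pOf).erase (pOf x)
  let T := (Finset.Icc 1 15).filter fun c => c ≠ pOf x ∧ dot c v = false
  have hsub : S ⊆ T := by
    intro q hq
    simp only [S, Finset.mem_biUnion, Finset.mem_erase, Finset.mem_image, List.mem_toFinset] at hq
    obtain ⟨y, hy, hqx, d, hd, rfl⟩ := hq
    have hr := x3_range hd
    simp only [T, Finset.mem_filter, Finset.mem_Icc]
    exact ⟨⟨hr.1, by omega⟩, hqx, zero y hy d hd⟩
  have hcardS : S.card = 6 := by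
    rw [Finset.card_biUnion]
    · rw [Finset.sum_congr rfl (g := fun _ => 2), Finset.sum_const, hY,
        three_lines O h hZ hx]
      · rfl
      intro y hy
      obtain ⟨h1, h2, hyR, hxy⟩ := hYm y hy
      rw [Finset.card_erase_of_mem (Finset.mem_image.2 ⟨x, by simpa using hxy, rfl⟩),
        Finset.card_image_of_injOn, List.toFinset_card_of_nodup (y_facts h1 h2).2.1,
        (y_facts h1 h2).1]
      intro p hp q hq e
      simp only [List.coe_toFinset, Set.mem_ofPred_eq] at hp hq
      by_contra hne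
      exact ((y_facts h1 h2).2.2.2.2.2.2.1 p hp q hq hne).1 e
    · intro y hy y' hy' hne
      rw [Function.onFun, Finset.disjoint_left]
      intro q hq hq'
      simp only [Finset.mem_erase, Finset.mem_image, List.mem_toFinset] at hq hq'
      obtain ⟨hqx, d, hd, rfl⟩ := hq
      obtain ⟨-, d', hd', e⟩ := hq'
      obtain ⟨h1, h2, hyR, hxy⟩ := hYm y hy
      obtain ⟨h1', h2', hyR', hxy'⟩ := hYm y' hy'
      apply hne
      refine RS_unique O h hZ hyR hyR' fun p hp => ?_
      by_cases p1 : p = d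
      · exact ⟨d', hd', by rw [e, p1]⟩
      by_cases p2 : p = x
      · exact ⟨x, hxy', by rw [p2]⟩
      have hdx : d ≠ x := fun e => hqx (by rw [e])
      obtain ⟨r, hr, hre⟩ := ((y_facts h1' h2').2.2.2.2.2.2.1 d' hd' x hxy'
        (fun e' => hqx (by rw [← e, e']))).2
      exact ⟨r, hr, by rw [hre.1, e, (y_facts h1 h2).2.2.2.2.2.2.2 d hd x hxy p hp hdx p1 p2]⟩
  have hST : S = T := Finset.eq_of_subset_of_card_le hsub
    (by rw [hcardS, six_zeros hk' hv hk hv1 vk])
  constructor
  · rintro ⟨y, hy, ⟨p, hp, ep⟩, q, hq, rfl⟩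
    have hpx : p = x := PS_unique O h hZ (x3_in_PS O h hZ hy hp) hx ep
    exact zero y (Finset.mem_filter.2 ⟨hy, hpx ▸ hp⟩) q hq
  · intro hcv
    have hmem : c ∈ S := by
      rw [hST]
      simp only [T, Finset.mem_filter, Finset.mem_Icc]
      exact ⟨⟨hc, by omega⟩, hck, hcv⟩
    simp only [S, Finset.mem_biUnion, Finset.mem_erase, Finset.mem_image, List.mem_toFinset] at hmem
    obtain ⟨y, hy, -, d, hd, rfl⟩ := hmem
    exact ⟨y, (hYm y hy).2.2.1, ⟨x, (hYm y hy).2.2.2, rfl⟩, d, hd, rfl⟩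

theorem dot_comm' {a b : ℕ} : dot a b = dot b a := by rw [dot, dot, Nat.land_comm]

theorem linear_split : ∀ k, k < 16 → k = (if k.testBit 0 then 1 else 0) ^^^
    ((if k.testBit 1 then 2 else 0) ^^^ ((if k.testBit 2 then 4 else 0) ^^^
      (if k.testBit 3 then 8 else 0))) := by decide +kernel

/-- The polarity of a conjugate of rank one is one of the twenty-eight. -/
theorem exists_polarity (O : Orbits A) (h : Lab310 C lab) {Z : Subgroup G} (hZ : Rel A 1 A Z) :
    ∃ t, t < 28 ∧ ∀ k c, 1 ≤ k → k < 16 → 1 ≤ c → c < 16 → c ≠ k →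
      (Lam A lab Z k c ↔ dot c (app (piTables.getD t 0) k) = false) := by
  classical
  choose π hπ using fun k : Fin 15 => exists_pencil O h hZ (k := k.1 + 1) (by omega) (by omega)
  let g : ℕ → ℕ := fun k => if hk : 1 ≤ k ∧ k < 16 then π ⟨k - 1, by omega⟩ else 0
  have hg : ∀ k, 1 ≤ k → k < 16 → g k < 16 ∧ 1 ≤ g k ∧ dot k (g k) = false ∧
      ∀ c, 1 ≤ c → c < 16 → c ≠ k → (Lam A lab Z k c ↔ dot c (g k) = false) := by
    intro k h1 h2
    have := hπ ⟨k - 1, by omega⟩
    simp only [show k - 1 + 1 = k by omega] at this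
    simp only [g, dif_pos (show 1 ≤ k ∧ k < 16 from ⟨h1, h2⟩)]
    exact this
  have glt : ∀ k, g k < 16 := fun k => by
    by_cases hk : 1 ≤ k ∧ k < 16
    · exact (hg k hk.1 hk.2).1
    · simp [g, hk]
  have sym : ∀ k c, k < 16 → c < 16 → dot c (g k) = dot k (g c) := by
    intro k c hk hc
    rcases Nat.eq_zero_or_pos k with rfl | k1 <;> rcases Nat.eq_zero_or_pos c with rfl | c1
    · rfl
    · simp [g, dot]
    · simp [g, dot]
    by_cases e : c = k
    · rw [e]
    have i1 := (hg k k1 hk).2.2.2 c c1 hc e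
    have i2 := (hg c c1 hc).2.2.2 k k1 hk (Ne.symm e)
    have i3 : Lam A lab Z k c ↔ Lam A lab Z c k := ⟨lam_symm, lam_symm⟩
    rw [i1, i2] at i3
    cases hd : dot c (g k) <;> cases hd' : dot k (g c) <;> simp_all
  have add : ∀ a b, a < 16 → b < 16 → g (a ^^^ b) = g a ^^^ g b := by
    intro a b ha hb
    refine dot_sep (glt _) (xor_lt16 (glt _) (glt _)) fun v hv => ?_
    rw [dot_xor_left (glt a) (glt b) hv, dot_comm' (a := g (a ^^^ b)), dot_comm' (a := g a),
      dot_comm' (a := g b), sym (a ^^^ b) v (xor_lt16 ha hb) hv, sym a v ha hv, sym b v hb hv,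
      dot_xor_left ha hb (glt v)]
  have g0 : g 0 = 0 := by simp [g]
  have hform : ∀ k, k < 16 → g k = (if k.testBit 0 then g 1 else 0) ^^^
      ((if k.testBit 1 then g 2 else 0) ^^^ ((if k.testBit 2 then g 4 else 0) ^^^
        (if k.testBit 3 then g 8 else 0))) := by
    intro k hk
    have hh : ∀ (b : Bool) (n : ℕ), n < 16 → (if b then n else 0) < 16 := fun b n hn => by
      cases b <;> simp [hn]
    have hgi : ∀ (b : Bool) (n : ℕ), g (if b then n else 0) = if b then g n else 0 := fun b n => by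
      cases b <;> simp [g0]
    have l0 := hh (k.testBit 0) 1 (by norm_num)
    have l1 := hh (k.testBit 1) 2 (by norm_num)
    have l2 := hh (k.testBit 2) 4 (by norm_num)
    have l3 := hh (k.testBit 3) 8 (by norm_num)
    conv_lhs => rw [linear_split k hk]
    rw [add _ _ l0 (xor_lt16 l1 (xor_lt16 l2 l3)), add _ _ l1 (xor_lt16 l2 l3), add _ _ l2 l3,
      hgi, hgi, hgi, hgi]
  have hp := pi_check
  simp only [List.all_eq_true, List.any_eq_true, List.mem_range, decide_eq_true_eq,
    Bool.or_eq_true, bne_iff_ne] at hp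
  have dz : ∀ k, 1 ≤ k → k < 16 → dot k (g k) = false := fun k h1 h2 => (hg k h1 h2).2.2.1
  have key : ∀ {x : Bool}, x = true → x = false → False := fun e e' => by simp [e] at e'
  rcases hp (g 1) (glt 1) with e | e
  · exact (key e (dz 1 (by norm_num) (by norm_num))).elim
  rcases e (g 2) (glt 2) with (e | e) | e
  · exact (key e (dz 2 (by norm_num) (by norm_num))).elim
  · exact absurd (sym 1 2 (by norm_num) (by norm_num)) e
  rcases e (g 4) (glt 4) with ((e | e) | e) | e
  · exact (key e (dz 4 (by norm_num) (by norm_num))).elim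
  · exact absurd (sym 1 4 (by norm_num) (by norm_num)) e
  · exact absurd (sym 2 4 (by norm_num) (by norm_num)) e
  rcases e (g 8) (glt 8) with (((e | e) | e) | e) | ⟨k, hk, e⟩ | ⟨t, ht, e⟩
  · exact (key e (dz 8 (by norm_num) (by norm_num))).elim
  · exact absurd (sym 1 8 (by norm_num) (by norm_num)) e
  · exact absurd (sym 2 8 (by norm_num) (by norm_num)) e
  · exact absurd (sym 4 8 (by norm_num) (by norm_num)) e
  · rw [← hform (k + 1) (by omega)] at e
    have := (hg (k + 1) (by omega) (by omega)).2.1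
    omega
  · refine ⟨t, ht, fun k c k1 k2 c1 c2 hne => ?_⟩
    rw [e k k2, ← hform k k2]
    exact (hg k k1 k2).2.2.2 c c1 c2 hne

open Classical in
/-- The code of a conjugate. -/
noncomputable def KS (A : Subgroup G) (lab : ℕ → Subgroup G) (Z : Subgroup G) : Finset ℕ :=
  PS A lab Z ∪ RS A lab Z ∪ (RS A lab Z).image flipT

theorem flip_y {y : ℕ} (h1 : 31 ≤ y) (h2 : y ≤ 310) :
    31 ≤ flipT y ∧ flipT y ≤ 310 ∧ flipT y ≠ y ∧ flipT (flipT y) = y ∧ x3 (flipT y) = x3 y ∧
    ∀ w, 31 ≤ w → w ≤ 310 → (∀ x ∈ x3 y, x ∈ x3 w) → w = y ∨ w = flipT y := by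
  have h := same_check
  simp only [List.all_eq_true, List.any_eq_true, List.mem_range, decide_eq_true_eq,
    Bool.and_eq_true, Bool.or_eq_true, Bool.not_eq_true'] at h
  obtain ⟨⟨⟨⟨⟨a, b⟩, c⟩, d⟩, e⟩, f⟩ := h (y - 31) (by omega)
  rw [show y - 31 + 31 = y by omega] at a b c d e f
  rw [← x3_eq h1 h2] at e f
  rw [← x3_eq a (by omega)] at e
  refine ⟨a, by omega, c, d, e, fun w hw1 hw2 hsub => ?_⟩
  obtain ⟨p, l, hl⟩ := List.exists_cons_of_length_pos (l := x3 y) (by rw [(y_facts h1 h2).1]; norm_num)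
  have hpw : p ∈ x3 w := hsub p (by rw [hl]; simp)
  have hmem := (nb_sym (i := w) (by omega) (mem_x3.1 hpw).1).2
  rcases f w (by rw [hl]; exact hmem) with (((e' | e') | e') | e') | ⟨x, hx, e'⟩
  · omega
  · omega
  · exact Or.inl e'
  · exact Or.inr e'
  · have := hsub x hx
    rw [x3_eq hw1 hw2] at this
    rw [← List.contains_iff_mem, e'] at this
    exact absurd this (by decide)

theorem card_KS_le (O : Orbits A) (h : Lab310 C lab) {Z : Subgroup G} (hZ : Rel A 1 A Z) :
    (KS A lab Z).card ≤ 45 := by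
  classical
  have h1 := Finset.card_union_le (PS A lab Z ∪ RS A lab Z) ((RS A lab Z).image flipT)
  have h2 := Finset.card_union_le (PS A lab Z) (RS A lab Z)
  have h3 := Finset.card_image_le (f := flipT) (s := RS A lab Z)
  rw [card_PS O h hZ] at h2
  rw [card_RS O h hZ] at h2 h3
  have : (KS A lab Z).card = (PS A lab Z ∪ RS A lab Z ∪ (RS A lab Z).image flipT).card := rfl
  omega

theorem valOf_testBit : ∀ (l : List Bool) (k : ℕ), (valOf l).testBit k = l.getD k false
  | [], k => by simp [valOf]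
  | b :: l, 0 => by cases b <;> simp [valOf, Nat.testBit_zero]
  | b :: l, k + 1 => by
    have : (valOf (b :: l)) / 2 = valOf l := by cases b <;> simp [valOf] <;> omega
    rw [Nat.testBit_add_one, this, valOf_testBit l k]
    simp

open Classical in
/-- The bits of the section. -/
noncomputable def bits (A : Subgroup G) (lab : ℕ → Subgroup G) (Z : Subgroup G) (n : ℕ) :
    List Bool :=
  (List.range n).map fun k => decide (2 * (k + 1) ∈ PS A lab Z)

theorem bits_getD {Z : Subgroup G} {n k : ℕ} (hk : k < n) :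
    (bits A lab Z n).getD k false = true ↔ 2 * (k + 1) ∈ PS A lab Z := by
  simp [bits, List.getD_eq_getElem?_getD, List.getElem?_range hk]

theorem mem_PS_bits (O : Orbits A) (h : Lab310 C lab) {Z : Subgroup G} (hZ : Rel A 1 A Z) {k : ℕ}
    (hk : k < 15) :
    (if (valOf (bits A lab Z 15)).testBit k then 2 * k + 2 else 2 * k + 1) ∈ PS A lab Z := by
  obtain ⟨x, hx, e⟩ := PS_exists O h hZ (p := k + 1) (by omega) (by omega)
  have hb := bits_getD (A := A) (lab := lab) (Z := Z) (n := 15) (k := k) hk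
  rw [← valOf_testBit] at hb
  unfold pOf at e
  split_ifs with hd
  · exact hb.1 hd
  · rw [hb] at hd
    by_cases e' : x = 2 * (k + 1)
    · exact absurd (e' ▸ hx) hd
    · rwa [show 2 * k + 1 = x by omega]

theorem parity (O : Orbits A) (h : Lab310 C lab) {Z : Subgroup G} (hZ : Rel A 1 A Z) {k c d : ℕ}
    (hk : 1 ≤ k) (hk' : k < 16) (hc : 1 ≤ c) (hc' : c < 16) (hck : c ≠ k) (hl : Lam A lab Z k c)
    (hd : d = k ^^^ c) :
    decide (2 * d ∈ PS A lab Z) =
      (decide (2 * k ∈ PS A lab Z) != decide (2 * c ∈ PS A lab Z)) := by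
  classical
  obtain ⟨y, hy, ⟨a, ha, rfl⟩, b, hb, rfl⟩ := hl
  obtain ⟨h1, h2, -⟩ := mem_RS.1 hy
  have hab : a ≠ b := fun e => hck (by rw [e])
  obtain ⟨-, x, hx, ex, epar⟩ := (y_facts h1 h2).2.2.2.2.2.2.1 a ha b hb hab
  have key : ∀ z ∈ x3 y, decide (2 * pOf z ∈ PS A lab Z) = decide (z % 2 = 0) := by
    intro z hz
    have hzP := x3_in_PS O h hZ hy hz
    obtain ⟨-, hz1, hz2⟩ := mem_x3.1 hz
    rcases Nat.mod_two_eq_zero_or_one z with e | e
    · have : 2 * pOf z = z := by unfold pOf; omega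
      simp [this, hzP, e]
    · have hn : 2 * pOf z ∉ PS A lab Z := by
        intro hm
        have := PS_unique O h hZ hm hzP (by unfold pOf; omega)
        unfold pOf at this
        omega
      simp [hn, e]
  rw [hd, ← ex, key x hx, key a ha, key b hb, epar]

theorem pairwise_of_chain {l : List ℕ}
    (h : ∀ k, k + 1 < l.length → l.getD k 0 < l.getD (k + 1) 0) : l.Pairwise (· < ·) := by
  rw [← List.isChain_iff_pairwise, List.isChain_iff_getElem]
  intro k hk
  have := h k hk
  simpa [List.getD_eq_getElem?_getD, List.getElem?_eq_getElem hk,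
    List.getElem?_eq_getElem (show k < l.length by omega)] using this

/-- The forty-five vertices of a code are distinct. -/
theorem code_nodup (c : Cls) (hro : ∀ z < 448, (((∀ y ∈ c.row z, 31 ≤ y ∧ y < 311) ∧
      (c.row z).length = 15) ∧
      ∀ k < 14, (c.row z).getD k 0 < (c.row z).getD (k + 1) 0) ∧
      maskOf (c.row z) &&& maskOf ((c.row z).map flipT) = 0)
    (z : ℕ) (hz : z < 448) : (c.code z).Nodup := by
  obtain ⟨⟨⟨hrange, hlen⟩, hlt⟩, hdisj⟩ := hro z hz
  have hrn : (c.row z).Nodup :=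
    (pairwise_of_chain fun k hk => hlt k (by omega)).imp fun hab => Nat.ne_of_lt hab
  rw [Cls.code, List.nodup_append, List.nodup_append]
  refine ⟨⟨?_, hrn, ?_⟩, ?_, ?_⟩
  · rw [Cls.sec, secL]
    refine List.Nodup.map_on (fun a _ b _ e => ?_) List.nodup_range
    split_ifs at e <;> omega
  · intro a ha b hb e
    rw [Cls.sec, secL, List.mem_map] at ha
    obtain ⟨k, hk, rfl⟩ := ha
    rw [List.mem_range] at hk
    have := (hrange b hb).1
    split_ifs at e <;> omega
  · refine hrn.map_on fun a ha b hb e => ?_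
    have := congrArg flipT e
    rwa [(flip_y (hrange a ha).1 (by have := (hrange a ha).2; omega)).2.2.2.1,
      (flip_y (hrange b hb).1 (by have := (hrange b hb).2; omega)).2.2.2.1] at this
  · intro a ha b hb e
    subst e
    rw [List.mem_map] at hb
    obtain ⟨w, hw, rfl⟩ := hb
    rcases List.mem_append.1 ha with ha | ha
    · rw [Cls.sec, secL, List.mem_map] at ha
      obtain ⟨k, hk, e⟩ := ha
      rw [List.mem_range] at hk
      have := (flip_y (hrange w hw).1 (by have := (hrange w hw).2; omega)).1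
      split_ifs at e <;> omega
    · have : (maskOf (c.row z) &&& maskOf ((c.row z).map flipT)).testBit (flipT w) = true := by
        rw [Nat.testBit_and, Bool.and_eq_true]
        exact ⟨mem_maskOf.2 ha, mem_maskOf.2 (List.mem_map.2 ⟨w, hw, rfl⟩)⟩
      rw [hdisj] at this
      simp at this

/-- The code of a conjugate of rank one is the code of a vertex in one of the two classes. -/
theorem exists_code (O : Orbits A) (h : Lab310 C lab) {Z : Subgroup G} (hZ : Rel A 1 A Z) :
    ∃ i, i < 896 ∧ ((clsOf i).code (i % 448)).toFinset = KS A lab Z := by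
  classical
  obtain ⟨t, ht, hlam⟩ := exists_polarity O h hZ
  set T := piTables.getD t 0 with hT
  have hsol : ∀ n, n ≤ 15 → bits A lab Z n ∈ sols T n := by
    intro n
    induction n with
    | zero => intro _; simp [bits, sols]
    | succ n ih =>
      intro hn
      have hb : bits A lab Z (n + 1) =
          bits A lab Z n ++ [decide (2 * (n + 1) ∈ PS A lab Z)] := by
        simp [bits, List.range_succ]
      rw [hb, sols, List.mem_flatMap]
      refine ⟨bits A lab Z n, ih (by omega), List.mem_map.2 ⟨_, List.mem_filter.2 ⟨?_, ?_⟩, rfl⟩⟩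
      · cases decide (2 * (n + 1) ∈ PS A lab Z) <;> simp
      rw [okBit, List.all_eq_true]
      intro a' ha'
      rw [List.mem_range] at ha'
      simp only [Bool.or_eq_true, decide_eq_true_eq, beq_iff_eq]
      by_cases c0 : (n + 1) ^^^ (a' + 1) = 0
      · exact Or.inl (Or.inl (Or.inl c0))
      by_cases cn : n < (n + 1) ^^^ (a' + 1)
      · exact Or.inl (Or.inl (Or.inr cn))
      by_cases cd : dot ((n + 1) ^^^ (a' + 1)) (app T (a' + 1)) = true
      · exact Or.inl (Or.inr cd)
      right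
      set c := (n + 1) ^^^ (a' + 1) with hcdef
      have hne : c ≠ a' + 1 := by
        intro e
        have h1 : (n + 1) ^^^ (a' + 1) ^^^ (a' + 1) = (a' + 1) ^^^ (a' + 1) := by rw [← hcdef, e]
        rw [Nat.xor_assoc, Nat.xor_self, Nat.xor_zero] at h1
        omega
      have hl := (hlam (a' + 1) c (by omega) (by omega) (by omega) (by omega) hne).2 (by simpa using cd)
      rw [parity O h hZ (d := n + 1) (by omega) (by omega) (by omega) (by omega) hne hl
        (by rw [hcdef, Nat.xor_comm (n + 1), ← Nat.xor_assoc, Nat.xor_self, Nat.zero_xor])]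
      congr 1
      · rw [Bool.eq_iff_iff, decide_eq_true_iff, bits_getD ha']
      · rw [Bool.eq_iff_iff, decide_eq_true_iff, bits_getD (by omega),
          show c - 1 + 1 = c by omega]
  have hs := sols_check
  simp only [List.all_eq_true, List.any_eq_true, List.mem_range, decide_eq_true_eq] at hs
  obtain ⟨i, hi, hbits⟩ := hs t ht _ (hsol 15 le_rfl)
  have hc : codeOk t = true := by
    rcases Nat.lt_or_ge t 14 with h14 | h14
    · exact (List.all_eq_true.1 code_check_low) t (List.mem_range.2 h14)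
    · have := (List.all_eq_true.1 code_check_high) (t - 14) (List.mem_range.2 (by omega))
      rwa [show t - 14 + 14 = t by omega] at this
  simp only [codeOk, List.all_eq_true, Bool.and_eq_true, decide_eq_true_eq, beq_iff_eq,
    Bool.not_eq_true'] at hc
  obtain ⟨hi896, hrow⟩ := hc i hi
  refine ⟨i, hi896, ?_⟩
  set c := clsOf i with hcls
  set z := i % 448 with hzdef
  have hz : z < 448 := Nat.mod_lt _ (by norm_num)
  have hro : rowOk c = true := by
    rw [hcls, clsOf]; split_ifs
    · exact far_row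
    · exact lin_row
  simp only [rowOk, List.all_eq_true, List.mem_range, decide_eq_true_eq, Bool.and_eq_true] at hro
  obtain ⟨⟨⟨hrange, hlen⟩, hlt⟩, hdisj⟩ := hro z hz
  refine Finset.eq_of_subset_of_card_le ?_ ?_
  · have hsec : ∀ x ∈ c.sec z, x ∈ PS A lab Z := by
      intro x hx
      rw [Cls.sec, hbits, secL, List.mem_map] at hx
      obtain ⟨k, hk, rfl⟩ := hx
      rw [List.mem_range] at hk
      exact mem_PS_bits O h hZ hk
    have hy : ∀ y ∈ c.row z, y ∈ RS A lab Z ∪ (RS A lab Z).image flipT ∧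
        flipT y ∈ RS A lab Z ∪ (RS A lab Z).image flipT := by
      intro y hy
      obtain ⟨hy1, hy2⟩ := hrange y hy
      obtain ⟨hin0, hd⟩ := hrow y hy
      have hin : ∀ x ∈ x3 y, x ∈ c.sec z := by
        intro x hx
        obtain ⟨-, hx1, hx2⟩ := mem_x3.1 hx
        have hb := hin0 x (by rw [← x3_eq hy1 (by omega)]; exact hx)
        rw [Cls.sec, secL, List.mem_map]
        refine ⟨pOf x - 1, List.mem_range.2 (by unfold pOf; omega), ?_⟩
        rw [hb]
        unfold pOf
        split_ifs with he <;> simp only [decide_eq_true_eq] at he <;> omega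
      set a := tget x3Tab 5 (3 * y) with hadef
      set b := tget x3Tab 5 (3 * y + 1) with hbdef
      have ha : a ∈ x3 y := by rw [x3_eq hy1 (by omega), x3f]; simp [hadef]
      have hb : b ∈ x3 y := by rw [x3_eq hy1 (by omega), x3f]; simp [hbdef]
      have hab : pOf a ≠ pOf b := by
        have hnd := (y_facts hy1 (by omega : y ≤ 310)).2.1
        rw [x3_eq hy1 (by omega), x3f, ← hadef, ← hbdef] at hnd
        refine ((y_facts hy1 (by omega : y ≤ 310)).2.2.2.2.2.2.1 a ha b hb ?_).1
        intro e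
        simp [e] at hnd
      have hl := (hlam (pOf a) (pOf b) (x3_range ha).1 (x3_range ha).2 (x3_range hb).1
        (x3_range hb).2 (Ne.symm hab)).2 hd
      obtain ⟨y', hy', ⟨a', ha', ea⟩, b', hb', eb⟩ := hl
      obtain ⟨hy1', hy2', -⟩ := mem_RS.1 hy'
      obtain rfl : a' = a := PS_unique O h hZ (x3_in_PS O h hZ hy' ha') (hsec _ (hin a ha)) ea
      obtain rfl : b' = b := PS_unique O h hZ (x3_in_PS O h hZ hy' hb') (hsec _ (hin b hb)) eb
      have hne : a ≠ b := fun e => hab (by rw [e])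
      have hsame : ∀ x ∈ x3 y', x ∈ x3 y := by
        intro x hx
        by_cases e1 : x = a
        · rw [e1]; exact ha
        by_cases e2 : x = b
        · rw [e2]; exact hb
        obtain ⟨-, r, hr, er, -⟩ :=
          (y_facts hy1 (by omega)).2.2.2.2.2.2.1 a ha b hb hne
        have e3 := (y_facts hy1' hy2').2.2.2.2.2.2.2 a ha' b hb' x hx hne e1 e2
        have : x = r := PS_unique O h hZ (x3_in_PS O h hZ hy' hx) (hsec _ (hin r hr))
          (by rw [e3, er])
        rw [this]; exact hr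
      obtain ⟨-, -, -, hff, -, hsame'⟩ := flip_y hy1' hy2'
      simp only [Finset.mem_union, Finset.mem_image]
      rcases hsame' y hy1 (by omega) hsame with e | e
      · exact ⟨Or.inl (e ▸ hy'), Or.inr ⟨y', hy', by rw [e]⟩⟩
      · exact ⟨Or.inr ⟨y', hy', e.symm⟩, Or.inl (by rw [e, hff]; exact hy')⟩
    intro x hx
    simp only [List.mem_toFinset, Cls.code, List.mem_append, List.mem_map] at hx
    simp only [KS, Finset.mem_union]
    rcases hx with (hx | hx) | ⟨y, hy', rfl⟩
    · exact Or.inl (Or.inl (hsec x hx))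
    · rcases Finset.mem_union.1 (hy x hx).1 with e | e
      · exact Or.inl (Or.inr e)
      · exact Or.inr e
    · rcases Finset.mem_union.1 (hy y hy').2 with e | e
      · exact Or.inl (Or.inr e)
      · exact Or.inr e
  · rw [List.toFinset_card_of_nodup (code_nodup c hro z hz)]
    refine le_trans (card_KS_le O h hZ) ?_
    simp [Cls.code, Cls.sec, secL, hlen]

end Cfsg.Agent.Lib.M24Nse65.Far
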