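import Cfsg.Agent.Lib.M24Nse65.FarBase

/-!
A conjugate of rank one sees fifteen of the vertices at distance two and one of each pair of the
thirty: its second-layer neighbours and its section.
-/

set_option autoImplicit false
set_option linter.unusedSectionVars false
set_option linter.unusedVariables false
set_option linter.style.haveILetI false

namespace Cfsg.Agent.Lib.M24Nse65.Far

variable {G : Type*} [Group G] [Finite G] {A : Subgroup G} {C : Coord A} {lab : ℕ → Subgroup G}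

open Classical in
/-- The second-layer neighbours of a conjugate. -/
noncomputable def RS (A : Subgroup G) (lab : ℕ → Subgroup G) (Z : Subgroup G) : Finset ℕ :=
  (Finset.Icc 31 310).filter fun y => Rel A 8 (lab y) Z

open Classical in
/-- The vertices among the thirty at rank four from a conjugate. -/
noncomputable def PS (A : Subgroup G) (lab : ℕ → Subgroup G) (Z : Subgroup G) : Finset ℕ :=
  (Finset.Icc 1 30).filter fun x => Rel A 4 (lab x) Z

theorem mem_RS {Z : Subgroup G} {y : ℕ} :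
    y ∈ RS A lab Z ↔ 31 ≤ y ∧ y ≤ 310 ∧ Rel A 8 (lab y) Z := by
  simp [RS, and_assoc]

theorem mem_PS {Z : Subgroup G} {x : ℕ} :
    x ∈ PS A lab Z ↔ 1 ≤ x ∧ x ≤ 30 ∧ Rel A 4 (lab x) Z := by
  simp [PS, and_assoc]

/-- A conjugate of rank one is adjacent neither to the base vertex nor to one of the thirty. -/
theorem one_not_adj (O : Orbits A) (h : Lab310 C lab) {Z : Subgroup G} (hZ : Rel A 1 A Z) {x : ℕ}
    (hx : x ≤ 30) : ¬ Rel A 8 (lab x) Z := by
  intro hr
  rcases Nat.eq_zero_or_pos x with rfl | h1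
  · rw [h.l30.base] at hr
    exact absurd (rel_unique hr hZ) (by norm_num)
  · exact no_common_one O h hZ (h.l30.rel x h1 hx) (rel_symm O hr)

theorem rel_one_of_not_PS (O : Orbits A) (h : Lab310 C lab) {Z : Subgroup G} (hZ : Rel A 1 A Z)
    {x : ℕ} (h1 : 1 ≤ x) (h2 : x ≤ 30) (hx : x ∉ PS A lab Z) : Rel A 1 (lab x) Z := by
  have hne : lab x ≠ Z := fun e => not_one_lab h (i := x) (by omega) (e ▸ hZ)
  have hr : Rel A (rk (lab x) Z) (lab x) Z := ⟨lab_mem h (by omega), hZ.2.1, hne, rfl⟩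
  rcases rel_to_base O hr with e | e | e <;> rw [e] at hr
  · exact hr
  · exact absurd (mem_PS.2 ⟨h1, h2, hr⟩) hx
  · exact absurd hr (one_not_adj O h hZ h2)

theorem x3_in_PS (O : Orbits A) (h : Lab310 C lab) {Z : Subgroup G} (hZ : Rel A 1 A Z) {x y : ℕ}
    (hy : y ∈ RS A lab Z) (hx : x ∈ x3 y) : x ∈ PS A lab Z := by
  obtain ⟨hy1, hy2, hyZ⟩ := mem_RS.1 hy
  obtain ⟨hx0, hx1, hx2⟩ := mem_x3.1 hx
  by_contra hn
  exact no_common_one O h (rel_one_of_not_PS O h hZ hx1 hx2 hn)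
    (rel_symm O (rel8_of_adj h hy2 (by omega) (by omega) ((adj_iff (by omega)).2 hx0)))
    (rel_symm O hyZ)

theorem cn_PS (O : Orbits A) (h : Lab310 C lab) {Z : Subgroup G} (hZ : Rel A 1 A Z) {x : ℕ}
    (hx : x ∈ PS A lab Z) :
    CN A (lab x) Z = lab '' ↑((RS A lab Z).filter fun y => x ∈ x3 y) := by
  obtain ⟨hx1, hx2, hx4⟩ := mem_PS.1 hx
  ext B
  simp only [Set.mem_image, Finset.mem_coe, Finset.mem_filter]
  constructor
  · rintro ⟨h1, h2⟩
    obtain ⟨j, hj, rfl⟩ := nbr_x O h hx1 hx2 h1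
    have hj2 : j ≤ 310 := by have := (x_facts hx1 hx2).1 j hj; omega
    have hj1 : 31 ≤ j := by
      by_contra hlt
      exact one_not_adj O h hZ (by omega) (rel_symm O h2)
    exact ⟨j, ⟨mem_RS.2 ⟨hj1, hj2, rel_symm O h2⟩,
      mem_x3.2 ⟨(nb_sym (by omega) hj).2, hx1, hx2⟩⟩, rfl⟩
  · rintro ⟨y, ⟨hy, hxy⟩, rfl⟩
    obtain ⟨hy1, hy2, hyZ⟩ := mem_RS.1 hy
    exact ⟨rel_symm O (rel8_of_adj h hy2 (by omega) (by omega)
      ((adj_iff (by omega)).2 (mem_x3.1 hxy).1)), rel_symm O hyZ⟩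

theorem three_lines (O : Orbits A) (h : Lab310 C lab) {Z : Subgroup G} (hZ : Rel A 1 A Z) {x : ℕ}
    (hx : x ∈ PS A lab Z) : ((RS A lab Z).filter fun y => x ∈ x3 y).card = 3 := by
  have hc := cn_four O h (mem_PS.1 hx).2.2
  rwa [cn_PS O h hZ hx, Set.InjOn.ncard_image, Set.ncard_coe_finset] at hc
  intro a ha b hb e
  simp only [Finset.mem_coe, Finset.mem_filter, mem_RS] at ha hb
  exact h.inj a b ha.1.2.1 hb.1.2.1 e

theorem card_far_nbrs (O : Orbits A) (h : Lab310 C lab) {y : ℕ} (h1 : 31 ≤ y) (h2 : y ≤ 310) :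
    {Z | Rel A 1 A Z ∧ Rel A 8 (lab y) Z}.ncard = 24 := by
  classical
  obtain ⟨-, -, hlen, hnd, -, hpos, -, -⟩ := y_facts h1 h2
  have hs : {B | Rel A 8 (lab y) B} =
      lab '' ((lowNb y).toFinset : Set ℕ) ∪ {Z | Rel A 1 A Z ∧ Rel A 8 (lab y) Z} := by
    ext B
    simp only [Set.mem_union, Set.mem_image, Finset.mem_coe, List.mem_toFinset]
    constructor
    · intro hB
      rcases conj_cases O h hB.2.1 with ⟨i, hi, rfl⟩ | h1'
      · exact Or.inl ⟨i, mem_lowNb.2 ⟨(adj_iff (by omega)).1 (adj_of_rel8 h h2 hi hB), by omega⟩,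
          rfl⟩
      · exact Or.inr ⟨h1', hB⟩
    · rintro (⟨i, hi, rfl⟩ | hB)
      · obtain ⟨hi', hi3⟩ := mem_lowNb.1 hi
        refine rel8_of_adj h h2 (by omega) ?_ ((adj_iff (by omega)).2 hi')
        rintro rfl
        exact y_not_self h1 h2 hi'
      · exact hB.2
  have hd : Disjoint (lab '' ((lowNb y).toFinset : Set ℕ))
      {Z | Rel A 1 A Z ∧ Rel A 8 (lab y) Z} := by
    rw [Set.disjoint_left]
    rintro _ ⟨i, hi, rfl⟩ hB
    simp only [Finset.mem_coe, List.mem_toFinset, mem_lowNb] at hi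
    exact not_one_lab h (by omega) hB.1
  have hc := card_nbr O (lab_mem h h2)
  rw [hs, Set.ncard_union_eq hd, Set.InjOn.ncard_image, Set.ncard_coe_finset,
    List.toFinset_card_of_nodup hnd, hlen] at hc
  · omega
  intro a ha b hb e
  simp only [Finset.mem_coe, List.mem_toFinset, mem_lowNb] at ha hb
  exact h.inj a b (by omega) (by omega) e

theorem RS_ncard (h : Lab310 C lab) (Z : Subgroup G) :
    {B | Rel A 4 A B ∧ Rel A 8 B Z}.ncard = (RS A lab Z).card := by
  have : {B | Rel A 4 A B ∧ Rel A 8 B Z} = lab '' ↑(RS A lab Z) := by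
    ext B
    simp only [Set.mem_image, Finset.mem_coe, mem_RS]
    constructor
    · rintro ⟨h4, h8⟩
      obtain ⟨i, h1, h2, rfl⟩ := h.surj B h4
      exact ⟨i, ⟨h1, h2, h8⟩, rfl⟩
    · rintro ⟨i, ⟨h1, h2, h8⟩, rfl⟩
      exact ⟨h.rel4 i h1 h2, h8⟩
  rw [this, Set.InjOn.ncard_image, Set.ncard_coe_finset]
  intro a ha b hb e
  simp only [Finset.mem_coe, mem_RS] at ha hb
  exact h.inj a b ha.2.1 hb.2.1 e

theorem card_RS (O : Orbits A) (h : Lab310 C lab) {Z : Subgroup G} (hZ : Rel A 1 A Z) :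
    (RS A lab Z).card = 15 := by
  classical
  haveI := Fintype.ofFinite (Subgroup G)
  let S := Finset.univ.filter fun W : Subgroup G => Rel A 1 A W
  have hS : S.card = 448 := by
    rw [← O.card_one, ← Fintype.card_subtype, ← Nat.card_eq_fintype_card]
    exact Nat.card_congr (Equiv.subtypeEquivRight fun B => rel_A)
  have hconst : ∀ W ∈ S, (RS A lab W).card = (RS A lab Z).card := by
    intro W hW
    have hW' : Rel A 1 A W := (Finset.mem_filter.1 hW).2
    obtain ⟨n, hn, rfl⟩ := O.trans Z hZ.2.1 W hW'.2.1 (Ne.symm hZ.2.2.1) (Ne.symm hW'.2.2.1)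
      (by rw [hZ.2.2.2, hW'.2.2.2])
    rw [← RS_ncard h, ← RS_ncard h]
    have : {B | Rel A 4 A B ∧ Rel A 8 B (cj n Z)} = cj n '' {B | Rel A 4 A B ∧ Rel A 8 B Z} := by
      ext B
      constructor
      · rintro ⟨h4, h8⟩
        rw [pre_eq n B, rel_cj_iff] at h8
        have h4' := rel_cj n⁻¹ h4
        rw [norm_cj_A (inv_mem hn)] at h4'
        exact ⟨cj n⁻¹ B, ⟨h4', h8⟩, (pre_eq n B).symm⟩
      · rintro ⟨B, ⟨h4, h8⟩, rfl⟩
        refine ⟨?_, rel_cj n h8⟩
        have := rel_cj n h4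
        rwa [norm_cj_A hn] at this
    rw [this, Set.ncard_image_of_injective _ fun _ _ => cj_inj]
  have hdc := Finset.sum_card_bipartiteAbove_eq_sum_card_bipartiteBelow
    (s := S) (t := Finset.Icc 31 310) (fun W y => Rel A 8 (lab y) W)
  have hl : ∀ W ∈ S, ((Finset.Icc 31 310).bipartiteAbove (fun W y => Rel A 8 (lab y) W) W).card =
      (RS A lab Z).card := fun W hW => by
    rw [← hconst W hW]; congr 1
  have hr : ∀ y ∈ Finset.Icc 31 310, (S.bipartiteBelow (fun W y => Rel A 8 (lab y) W) y).card = 24 := by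
    intro y hy
    rw [Finset.mem_Icc] at hy
    rw [← card_far_nbrs O h hy.1 hy.2, ← Set.ncard_coe_finset]
    congr 1
    ext W
    simp [S, Finset.bipartiteBelow]
  rw [Finset.sum_congr rfl hl, Finset.sum_congr rfl hr, Finset.sum_const, Finset.sum_const, hS,
    Nat.card_Icc] at hdc
  simp only [smul_eq_mul] at hdc
  omega

theorem card_PS (O : Orbits A) (h : Lab310 C lab) {Z : Subgroup G} (hZ : Rel A 1 A Z) :
    (PS A lab Z).card = 15 := by
  classical
  have hdc := Finset.sum_card_bipartiteAbove_eq_sum_card_bipartiteBelow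
    (s := RS A lab Z) (t := PS A lab Z) (fun y x => x ∈ x3 y)
  have hl : ∀ y ∈ RS A lab Z, ((PS A lab Z).bipartiteAbove (fun y x => x ∈ x3 y) y).card = 3 := by
    intro y hy
    obtain ⟨hy1, hy2, -⟩ := mem_RS.1 hy
    rw [← (y_facts hy1 hy2).1, ← List.toFinset_card_of_nodup (y_facts hy1 hy2).2.1]
    congr 1
    ext x
    simp only [Finset.bipartiteAbove, Finset.mem_filter, List.mem_toFinset, and_iff_right_iff_imp]
    exact fun hx => x3_in_PS O h hZ hy hx
  have hr : ∀ x ∈ PS A lab Z, ((RS A lab Z).bipartiteBelow (fun y x => x ∈ x3 y) x).card = 3 :=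
    fun x hx => three_lines O h hZ hx
  rw [Finset.sum_congr rfl hl, Finset.sum_congr rfl hr, Finset.sum_const, Finset.sum_const,
    card_RS O h hZ] at hdc
  simp only [smul_eq_mul] at hdc
  omega

theorem PS_mate (O : Orbits A) (h : Lab310 C lab) {Z : Subgroup G} (hZ : Rel A 1 A Z) {x : ℕ}
    (hx : x ∈ PS A lab Z) : flip30 x ∉ PS A lab Z := by
  obtain ⟨hx1, hx2, hx4⟩ := mem_PS.1 hx
  obtain ⟨f1, f2, f3, -⟩ := flip30_facts hx1 hx2
  intro hf
  have hA := h.l30.rel x hx1 hx2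
  have hfA := h.l30.rel _ f1 f2
  have hadj : Rel A 8 (lab x) (lab (flip30 x)) :=
    rel8_of_adj h (by omega) (by omega) (Ne.symm f3) ((adj_iff (by omega)).2 (x_facts hx1 hx2).2.2.1)
  have h1 := triangle O h hadj (rel_symm O hA) (rel_symm O hfA) hx4 (one_not_adj O h hZ f2)
    (fun e => absurd (rel_unique e hZ) (by norm_num))
  exact absurd (rel_unique h1 (mem_PS.1 hf).2.2) (by norm_num)

theorem PS_unique (O : Orbits A) (h : Lab310 C lab) {Z : Subgroup G} (hZ : Rel A 1 A Z) {x x' : ℕ}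
    (hx : x ∈ PS A lab Z) (hx' : x' ∈ PS A lab Z) (hp : pOf x = pOf x') : x = x' := by
  obtain ⟨h1, h2, -⟩ := mem_PS.1 hx
  obtain ⟨h1', h2', -⟩ := mem_PS.1 hx'
  by_contra hne
  apply PS_mate O h hZ hx
  have : flip30 x = x' := by
    unfold pOf at hp
    unfold flip30
    split_ifs <;> omega
  rwa [this]

theorem PS_exists (O : Orbits A) (h : Lab310 C lab) {Z : Subgroup G} (hZ : Rel A 1 A Z) {p : ℕ}
    (hp : 1 ≤ p) (hp' : p < 16) : ∃ x ∈ PS A lab Z, pOf x = p := by
  classical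
  have himg : ((PS A lab Z).image pOf) = Finset.Icc 1 15 := by
    refine Finset.eq_of_subset_of_card_le ?_ ?_
    · intro q hq
      obtain ⟨x, hx, rfl⟩ := Finset.mem_image.1 hq
      have := mem_PS.1 hx
      simp only [Finset.mem_Icc, pOf]
      omega
    · rw [Finset.card_image_of_injOn fun a ha b hb e => PS_unique O h hZ ha hb e, card_PS O h hZ,
        Nat.card_Icc]
  have hm : p ∈ (PS A lab Z).image pOf := by rw [himg]; simp; omega
  obtain ⟨x, hx, e⟩ := Finset.mem_image.1 hm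
  exact ⟨x, hx, e⟩

/-- Two second-layer neighbours with the same dual vectors coincide. -/
theorem RS_unique (O : Orbits A) (h : Lab310 C lab) {Z : Subgroup G} (hZ : Rel A 1 A Z) {y y' : ℕ}
    (hy : y ∈ RS A lab Z) (hy' : y' ∈ RS A lab Z)
    (hsub : ∀ a ∈ x3 y, ∃ b ∈ x3 y', pOf b = pOf a) : y = y' := by
  classical
  obtain ⟨hy1, hy2, hyZ⟩ := mem_RS.1 hy
  obtain ⟨hy1', hy2', hyZ'⟩ := mem_RS.1 hy'
  by_contra hne
  have hc := cn_le_three O h (lab_mem h hy2) (lab_mem h hy2') fun e => hne (h.inj y y' hy2 hy2' e)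
  have hsubset : insert Z (lab '' ↑(x3 y).toFinset) ⊆ CN A (lab y) (lab y') := by
    intro B hB
    rcases hB with rfl | ⟨a, ha, rfl⟩
    · exact ⟨hyZ, hyZ'⟩
    simp only [List.coe_toFinset, Set.mem_ofPred_eq] at ha
    obtain ⟨ha0, ha1, ha2⟩ := mem_x3.1 ha
    obtain ⟨b, hb, e⟩ := hsub a ha
    obtain rfl := PS_unique O h hZ (x3_in_PS O h hZ hy' hb) (x3_in_PS O h hZ hy ha) e
    exact ⟨rel8_of_adj h hy2 (by omega) (by omega) ((adj_iff (by omega)).2 ha0),
      rel8_of_adj h hy2' (by omega) (by omega) ((adj_iff (by omega)).2 (mem_x3.1 hb).1)⟩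
  have := Set.ncard_le_ncard hsubset
  rw [Set.ncard_insert_of_notMem, Set.InjOn.ncard_image, Set.ncard_coe_finset,
    List.toFinset_card_of_nodup (y_facts hy1 hy2).2.1, (y_facts hy1 hy2).1] at this
  · omega
  · intro a ha b hb e
    simp only [List.coe_toFinset, Set.mem_ofPred_eq, mem_x3] at ha hb
    exact h.inj a b (by omega) (by omega) e
  · rintro ⟨a, ha, e⟩
    simp only [List.coe_toFinset, Set.mem_ofPred_eq, mem_x3] at ha
    exact not_one_lab h (i := a) (by omega) (e ▸ hZ)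

end Cfsg.Agent.Lib.M24Nse65.Far
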