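import Mathlib
import Cfsg.Agent.Lib.M24Nse2.Facts
import Cfsg.Agent.Lib.M23Nse.Hist
import Cfsg.Agent.Lib.SmallGroups.Conj
import Cfsg.Agent.Lib.SmallGroups.PrimeSylow
import Cfsg.Agent.Lib.M24Nse52.OfFacts

/-!
The classes of involutions of a group with the order and element counts of the Mathieu group of
degree 24: the involutions commuting with an element of order five form one class of size 31878,
those commuting with an element of order seven another one.
-/

set_option autoImplicit false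
set_option linter.unusedSectionVars false

namespace Cfsg.Agent.Lib.M24Nse65.InvCount

open Subgroup
open Cfsg.Agent.Lib.SmallGroups

universe u

variable {G : Type u} [Group G] [Finite G]

local notation "ords" =>
  ({1, 2, 3, 4, 5, 6, 7, 8, 10, 11, 12, 14, 15, 21, 23} : Finset ℕ)

/-- A Sylow subgroup for a prime dividing the order once. -/
theorem sylow_prime {p : ℕ} [hp : Fact p.Prime] (h1 : p ∣ Nat.card G)
    (h2 : ¬ p ^ 2 ∣ Nat.card G) (P : Sylow p G) : Nat.card (P : Subgroup G) = p := by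
  obtain ⟨k, hk⟩ := P.2.exists_card_eq
  have hd := card_subgroup_dvd_card (P : Subgroup G)
  have h0 : p ∣ Nat.card (P : Subgroup G) := P.dvd_card_of_dvd_card h1
  rw [hk] at hd h0 ⊢
  rcases Nat.lt_or_ge k 2 with hlt | hge
  · interval_cases k
    · exact absurd (by simpa using h0) hp.out.not_dvd_one
    · exact pow_one p
  · exact absurd ((pow_dvd_pow p hge).trans hd) h2

/-- Coprime orders of commuting elements multiply to an element order. -/
theorem mul_mem_ords (F : M24Nse2.Facts G) {a b : G} {m n : ℕ} (ha : orderOf a = m)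
    (hb : orderOf b = n) (hc : a * b = b * a) (hco : Nat.Coprime m n) : m * n ∈ ords := by
  have h := F.ord_mem (a * b)
  rwa [Commute.orderOf_mul_eq_mul_orderOf_of_coprime hc (by rw [ha, hb]; exact hco), ha, hb] at h

/-- What the counts say about an element of order five or seven. -/
def Good (G : Type u) [Group G] (p : ℕ) : Prop :=
  p.Prime ∧ p ∣ Nat.card G ∧ ¬ p ^ 2 ∣ Nat.card G ∧ p ≠ 2 ∧ p ≠ 3 ∧
    Nat.card {g : G // orderOf g = p * 2} = 3 * Nat.card {g : G // orderOf g = p} ∧
    0 < Nat.card {g : G // orderOf g = p} ∧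
    0 < Nat.card {g : G // orderOf g = p * 3} ∧ p * 6 ∉ ords

theorem good_five (F : M24Nse2.Facts G) : Good G 5 := by
  refine ⟨by norm_num, by rw [F.card]; norm_num, by rw [F.card]; norm_num, by norm_num, by norm_num,
    by rw [show 5 * 2 = 10 from rfl, F.c10, F.c5], by rw [F.c5]; norm_num,
    by rw [show 5 * 3 = 15 from rfl, F.c15]; norm_num, by decide⟩

theorem good_seven (F : M24Nse2.Facts G) : Good G 7 := by
  refine ⟨by norm_num, by rw [F.card]; norm_num, by rw [F.card]; norm_num, by norm_num, by norm_num,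
    by rw [show 7 * 2 = 14 from rfl, F.c14, F.c7], by rw [F.c7]; norm_num,
    by rw [show 7 * 3 = 21 from rfl, F.c21]; norm_num, by decide⟩

variable {p : ℕ}

/-- An element of order `p` commutes with exactly three involutions. -/
theorem card_twos (h : Good G p) {y : G} (hy : orderOf y = p) :
    Nat.card {u : G // orderOf u = 2 ∧ u * y = y * u} = 3 := by
  obtain ⟨hp, hd, hd2, hp2, -, h2, hpos, -, -⟩ := h
  haveI := Fact.mk hp
  obtain ⟨P⟩ : Nonempty (Sylow p G) := inferInstance
  have hk := M23Nse.Hist.cnt_mul_eq P (sylow_prime hd hd2 P)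
    ((Nat.coprime_primes hp Nat.prime_two).2 hp2) hy
  change Nat.card {g : G // orderOf g = p * 2} = Nat.card {g : G // orderOf g = p} *
    Nat.card {i : centralizer ({y} : Set G) // orderOf i = 2} at hk
  rw [h2, mul_comm 3] at hk
  rw [Nat.eq_of_mul_eq_mul_left hpos hk]
  exact Nat.card_congr
    { toFun := fun u => ⟨⟨u.1, mem_centralizer_singleton_iff.2 u.2.2⟩, by
        rw [← Subgroup.orderOf_coe]; exact u.2.1⟩
      invFun := fun i => ⟨i.1.1, by rw [Subgroup.orderOf_coe]; exact i.2,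
        mem_centralizer_singleton_iff.1 i.1.2⟩
      left_inv := fun u => rfl
      right_inv := fun i => rfl }

/-- An element of order `p` commutes with one of order three. -/
theorem exists_three (h : Good G p) {y : G} (hy : orderOf y = p) :
    ∃ z : G, orderOf z = 3 ∧ z * y = y * z := by
  obtain ⟨hp, hd, hd2, -, hp3, -, -, h3, -⟩ := h
  haveI := Fact.mk hp
  obtain ⟨P⟩ : Nonempty (Sylow p G) := inferInstance
  have hk := M23Nse.Hist.cnt_mul_eq P (sylow_prime hd hd2 P)
    ((Nat.coprime_primes hp Nat.prime_three).2 hp3) hy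
  change Nat.card {g : G // orderOf g = p * 3} = Nat.card {g : G // orderOf g = p} *
    Nat.card {i : centralizer ({y} : Set G) // orderOf i = 3} at hk
  rw [hk] at h3
  obtain ⟨⟨i, hi⟩⟩ := (Nat.card_pos_iff.1 (Nat.pos_of_mul_pos_left h3)).1
  exact ⟨i, by rw [Subgroup.orderOf_coe]; exact hi, mem_centralizer_singleton_iff.1 i.2⟩

/-- The involutions commuting with an element of order `p` are conjugate in its centralizer. -/
theorem trans_twos (F : M24Nse2.Facts G) (h : Good G p) {y u v : G} (hy : orderOf y = p)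
    (hu : orderOf u = 2) (huy : u * y = y * u) (hv : orderOf v = 2) (hvy : v * y = y * v) :
    ∃ g : G, g * y = y * g ∧ g * u * g⁻¹ = v := by
  classical
  obtain ⟨z, hz, hzy⟩ := exists_three h hy
  have hcard := card_twos h hy
  obtain ⟨hp, -, -, hp2, hp3, -, -, -, h6⟩ := h
  have hz3 : z ^ 3 = 1 := hz ▸ pow_orderOf_eq_one z
  have hfix : z * u ≠ u * z := fun hc => by
    refine h6 ?_
    have hyzu : Commute y (z * u) := (Commute.mul_right (show Commute y z from hzy.symm) huy.symm)
    refine mul_mem_ords F hy ?_ hyzu ?_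
    · rw [Commute.orderOf_mul_eq_mul_orderOf_of_coprime hc (by rw [hz, hu]; norm_num), hz, hu]
    · rw [show (6 : ℕ) = 2 * 3 from rfl]
      exact ((Nat.coprime_primes hp Nat.prime_two).2 hp2).mul_right
        ((Nat.coprime_primes hp Nat.prime_three).2 hp3)
  let S := {u : G // orderOf u = 2 ∧ u * y = y * u}
  have hmem : ∀ g : G, g * y = y * g → orderOf (g * u * g⁻¹) = 2 ∧
      (g * u * g⁻¹) * y = y * (g * u * g⁻¹) := by
    intro g hg
    refine ⟨by rw [← MulAut.conj_apply, MulEquiv.orderOf_eq]; exact hu, ?_⟩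
    have hgy : Commute y g := hg.symm
    exact ((hgy.mul_right huy.symm).mul_right hgy.inv_right).eq.symm
  have hz2 : (z * z) * y = y * (z * z) :=
    ((show Commute y z from hzy.symm).mul_right hzy.symm).eq.symm
  let f : Fin 3 → S := ![⟨u, hu, huy⟩, ⟨z * u * z⁻¹, hmem z hzy⟩,
    ⟨(z * z) * u * (z * z)⁻¹, hmem _ hz2⟩]
  have n1 : u ≠ z * u * z⁻¹ := fun e => hfix (by rw [eq_mul_inv_iff_mul_eq] at e; exact e.symm)
  have n2 : u ≠ (z * z) * u * (z * z)⁻¹ := fun e => hfix <| by
    rw [eq_mul_inv_iff_mul_eq] at e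
    have hc : Commute u (z * z) := e
    have : Commute u ((z * z) * (z * z)) := hc.mul_right hc
    rw [show z * z * (z * z) = z ^ 3 * z by simp [pow_succ, mul_assoc], hz3, one_mul] at this
    exact this.eq.symm
  have n3 : z * u * z⁻¹ ≠ (z * z) * u * (z * z)⁻¹ := fun e => n1 <| by
    rw [show (z * z) * u * (z * z)⁻¹ = z * (z * u * z⁻¹) * z⁻¹ by group] at e
    exact mul_left_cancel (mul_right_cancel e)
  have hinj : Function.Injective f := by
    intro i j hij
    have h' := congrArg Subtype.val hij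
    fin_cases i <;> fin_cases j <;> first
      | rfl
      | exact absurd h' n1 | exact absurd h'.symm n1
      | exact absurd h' n2 | exact absurd h'.symm n2
      | exact absurd h' n3 | exact absurd h'.symm n3
  haveI : Finite S := Subtype.finite
  have hbij : Function.Bijective f := (Nat.bijective_iff_injective_and_card f).2
    ⟨hinj, by rw [Nat.card_fin]; exact hcard.symm⟩
  obtain ⟨i, hi⟩ := hbij.2 ⟨v, hv, hvy⟩
  have hi' := congrArg Subtype.val hi
  fin_cases i
  · exact ⟨1, by simp, by simpa [f] using hi'⟩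
  · exact ⟨z, hzy, hi'⟩
  · exact ⟨z * z, hz2, hi'⟩

/-- All involutions commuting with some element of order `p` are conjugate. -/
theorem isConj_twos (F : M24Nse2.Facts G) (h : Good G p) {y y' u v : G} (hy : orderOf y = p)
    (hy' : orderOf y' = p) (hu : orderOf u = 2) (huy : u * y = y * u) (hv : orderOf v = 2)
    (hvy : v * y' = y' * v) : IsConj u v := by
  haveI := Fact.mk h.1
  obtain ⟨P⟩ : Nonempty (Sylow p G) := inferInstance
  have hP := sylow_prime h.2.1 h.2.2.1 P
  obtain ⟨Q, hQ, -⟩ := existsUnique_sylow_of_orderOf P hP hy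
  obtain ⟨R, hR, -⟩ := existsUnique_sylow_of_orderOf P hP hy'
  obtain ⟨g, hg⟩ := MulAction.exists_smul_eq G Q R
  have hmem : y' ∈ zpowers (g * y * g⁻¹) := by
    have h1 : y' ∈ (R : Subgroup G) := hR ▸ mem_zpowers y'
    rw [← hg, Sylow.coe_subgroup_smul, hQ] at h1
    obtain ⟨w, ⟨k, rfl⟩, rfl⟩ := h1
    exact ⟨k, by simp⟩
  have hc : Commute (g * u * g⁻¹) (g * y * g⁻¹) := by
    simpa [MulAut.conj_apply] using (show Commute u y from huy).map (MulAut.conj g).toMonoidHom
  obtain ⟨k, hk⟩ := hmem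
  have hcy : (g * u * g⁻¹) * y' = y' * (g * u * g⁻¹) := hk ▸ (hc.zpow_right k).eq
  obtain ⟨c, -, hcv⟩ := trans_twos F h hy' (u := g * u * g⁻¹)
    (by rw [← MulAut.conj_apply, MulEquiv.orderOf_eq]; exact hu) hcy hv hvy
  exact (isConj_iff.2 ⟨g, rfl⟩).trans (isConj_iff.2 ⟨c, hcv⟩)

/-- The size of the class of involutions commuting with elements of order `p`. -/
theorem class_size (F : M24Nse2.Facts G) (h : Good G p) {y u : G} (hy : orderOf y = p)
    (hu : orderOf u = 2) (huy : u * y = y * u) :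
    ∃ n : ℕ, n % p = 1 ∧
      Nat.card {v : G // IsConj u v} * (n * (p - 1)) = 3 * Nat.card {g : G // orderOf g = p} := by
  classical
  haveI := Fintype.ofFinite G
  haveI := Fact.mk h.1
  set C := centralizer ({u} : Set G) with hC
  have hpC : p ∣ Nat.card C := by
    have := orderOf_dvd_natCard (⟨y, mem_centralizer_singleton_iff.2 huy.symm⟩ : C)
    rwa [← Subgroup.orderOf_coe, hy] at this
  obtain ⟨P⟩ : Nonempty (Sylow p C) := inferInstance
  have hP := sylow_prime hpC (fun hd => h.2.2.1 (hd.trans (card_subgroup_dvd_card C))) P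
  refine ⟨Nat.card (Sylow p C), ?_, ?_⟩
  · exact Eq.trans (card_sylow_modEq_one p C) (Nat.mod_eq_of_lt h.1.one_lt)
  rw [← card_orderOf_eq_prime P hP]
  have hfib : ∀ v : {v : G // IsConj u v},
      Nat.card {x : G // orderOf x = p ∧ v.1 * x = x * v.1} = Nat.card {i : C // orderOf i = p} := by
    rintro ⟨v, hv⟩
    obtain ⟨g, rfl⟩ := isConj_iff.1 hv
    refine (Nat.card_congr (α := {i : C // orderOf i = p})
      (β := {x : G // orderOf x = p ∧ g * u * g⁻¹ * x = x * (g * u * g⁻¹)})
      { toFun := fun i => ⟨g * (i.1 : G) * g⁻¹, ⟨by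
            rw [← MulAut.conj_apply, MulEquiv.orderOf_eq, Subgroup.orderOf_coe]; exact i.2, by
            have := mem_centralizer_singleton_iff.1 i.1.2
            calc g * u * g⁻¹ * (g * ↑i.1 * g⁻¹) = g * (u * ↑i.1) * g⁻¹ := by group
              _ = g * (↑i.1 * u) * g⁻¹ := by rw [this]
              _ = g * ↑i.1 * g⁻¹ * (g * u * g⁻¹) := by group⟩⟩
        invFun := fun x => ⟨⟨g⁻¹ * x.1 * g, mem_centralizer_singleton_iff.2 (by
            calc g⁻¹ * x.1 * g * u = g⁻¹ * (x.1 * (g * u * g⁻¹)) * g := by group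
              _ = g⁻¹ * ((g * u * g⁻¹) * x.1) * g := by rw [x.2.2]
              _ = u * (g⁻¹ * x.1 * g) := by group)⟩, by
            rw [← Subgroup.orderOf_coe]
            show orderOf (g⁻¹ * x.1 * g) = p
            rw [← MulAut.conj_inv_apply, MulEquiv.orderOf_eq]; exact x.2.1⟩
        left_inv := fun i => Subtype.ext (Subtype.ext (by
          show g⁻¹ * (g * ↑i.1 * g⁻¹) * g = (i.1 : G); group))
        right_inv := fun x => Subtype.ext (by
          show g * (g⁻¹ * x.1 * g) * g⁻¹ = x.1; group) }).symm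
  let e : (Σ v : {v : G // IsConj u v}, {x : G // orderOf x = p ∧ v.1 * x = x * v.1}) ≃
      (Σ x : {x : G // orderOf x = p}, {v : G // orderOf v = 2 ∧ v * x.1 = x.1 * v}) :=
    { toFun := fun a => ⟨⟨a.2.1, a.2.2.1⟩, ⟨a.1.1, by
          obtain ⟨c, hc⟩ := isConj_iff.1 a.1.2
          rw [← hc, ← MulAut.conj_apply, MulEquiv.orderOf_eq]; exact hu, a.2.2.2⟩⟩
      invFun := fun a => ⟨⟨a.2.1, isConj_twos F h hy a.1.2 hu huy a.2.2.1 a.2.2.2⟩,
        ⟨a.1.1, a.1.2, a.2.2.2⟩⟩
      left_inv := fun a => rfl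
      right_inv := fun a => rfl }
  have hc := Nat.card_congr e
  rw [Nat.card_sigma, Nat.card_sigma, Finset.sum_congr rfl fun v _ => hfib v,
    Finset.sum_congr rfl fun x (_ : x ∈ Finset.univ) => card_twos h x.2,
    Finset.sum_const, Finset.sum_const, smul_eq_mul, smul_eq_mul, Finset.card_univ,
    Finset.card_univ, ← Nat.card_eq_fintype_card, ← Nat.card_eq_fintype_card] at hc
  rw [hc, mul_comm]

/-- An element of order `p` and an involution commuting with it. -/
theorem exists_pair (h : Good G p) :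
    ∃ y u : G, orderOf y = p ∧ orderOf u = 2 ∧ u * y = y * u := by
  obtain ⟨⟨y, hy⟩⟩ := (Nat.card_pos_iff.1 h.2.2.2.2.2.2.1).1
  have := card_twos h hy
  obtain ⟨⟨u, hu⟩⟩ := (Nat.card_pos_iff.1 (this ▸ Nat.succ_pos 2 :
    0 < Nat.card {u : G // orderOf u = 2 ∧ u * y = y * u})).1
  exact ⟨y, u, hy, hu⟩

/-- An element of order eleven is inverted by an involution commuting with one of order five. -/
theorem exists_inverter (F : M24Nse2.Facts G) {x : G} (hx : orderOf x = 11) :
    ∃ u : G, orderOf u = 2 ∧ u * x * u⁻¹ = x⁻¹ ∧ ∃ y : G, orderOf y = 5 ∧ u * y = y * u := by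
  haveI h11 : Fact (Nat.Prime 11) := ⟨by norm_num⟩
  obtain ⟨P⟩ : Nonempty (Sylow 11 G) := inferInstance
  have hP := sylow_prime (p := 11) (by rw [F.card]; norm_num) (by rw [F.card]; norm_num) P
  obtain ⟨R, hR, -⟩ := existsUnique_sylow_of_orderOf P hP hx
  set N := normalizer (zpowers x : Set G) with hNdef
  have hN : Nat.card N = 110 := by
    have hn := card_orderOf_eq_prime P hP
    rw [F.c11, R.card_eq_index_normalizer, ← Sylow.coe_coe R, hR] at hn
    have hm := Subgroup.index_mul_card N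
    rw [F.card] at hm
    have h : N.index = 2225664 := by rw [hNdef]; omega
    rw [h] at hm
    omega
  have hC : centralizer ({x} : Set G) = zpowers x := by
    refine (Subgroup.eq_of_le_of_card_ge (zpowers_le.2 (mem_centralizer_singleton_iff.2 rfl)) ?_).symm
    have h12 := (M24Nse52.local_of_facts F).cent11 x hx
    have hd : 11 ∣ Nat.card (centralizer ({x} : Set G)) := hx ▸
      orderOf_coe (⟨x, mem_centralizer_singleton_iff.2 rfl⟩ : centralizer ({x} : Set G)) ▸
        orderOf_dvd_natCard _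
    rw [Nat.card_zpowers, hx]
    have := Nat.card_pos (α := centralizer ({x} : Set G))
    omega
  have hact : ∀ g ∈ N, ∃ b : ℤ, g * x * g⁻¹ = x ^ b := fun g hg => by
    obtain ⟨b, hb⟩ := (mem_normalizer_iff.1 hg x).1 (mem_zpowers x)
    exact ⟨b, hb.symm⟩
  have hcast : ∀ {a b : ℤ}, x ^ a = x ^ b ↔ ((a : ZMod 11) = (b : ZMod 11)) := fun {a b} => by
    rw [zpow_eq_zpow_iff_modEq, hx, ZMod.intCast_eq_intCast_iff]
  haveI : Fact (Nat.Prime 2) := ⟨Nat.prime_two⟩
  obtain ⟨⟨u, huN⟩, hu⟩ := exists_prime_orderOf_dvd_card' (G := N) 2 (by rw [hN]; norm_num)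
  haveI : Fact (Nat.Prime 5) := ⟨by norm_num⟩
  obtain ⟨⟨f, hfN⟩, hf⟩ := exists_prime_orderOf_dvd_card' (G := N) 5 (by rw [hN]; norm_num)
  rw [← Subgroup.orderOf_coe] at hu hf
  change orderOf u = 2 at hu
  change orderOf f = 5 at hf
  have hnc : ∀ {g : G} {n : ℕ}, orderOf g = n → n = 2 ∨ n = 5 → ¬ g * x = x * g := fun hg hn hc => by
    have := mul_mem_ords F hg hx hc (by rcases hn with rfl | rfl <;> norm_num)
    revert this
    rcases hn with rfl | rfl <;> decide
  have hone : ∀ {g : G} {b : ℤ}, g * x * g⁻¹ = x ^ b → (b : ZMod 11) = 1 → g * x = x * g := by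
    intro g b hb h1
    rw [← mul_inv_eq_iff_eq_mul, hb, ← zpow_one x, ← zpow_mul, one_mul]
    exact hcast.2 (by simpa using h1)
  have hu2 : u * u = 1 := by rw [← pow_two, ← hu, pow_orderOf_eq_one]
  have hui : u⁻¹ = u := inv_eq_of_mul_eq_one_right hu2
  -- `u` inverts `x`
  obtain ⟨k, hk⟩ := hact u huN
  have hk2 : (k : ZMod 11) * k = 1 := by
    have h1 : x = x ^ (k * k) := by
      conv_lhs => rw [show x = u * (u * x * u⁻¹) * u⁻¹ by
        rw [hui, show u * (u * x * u) * u = (u * u) * x * (u * u) by group, hu2, one_mul, mul_one]]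
      rw [hk, ← conj_zpow, hk, ← zpow_mul]
    rw [show x = x ^ (1 : ℤ) from (zpow_one x).symm, ← zpow_mul, one_mul] at h1
    simpa using (hcast.1 h1).symm
  have hinv : u * x * u⁻¹ = x⁻¹ := by
    rcases mul_self_eq_one_iff.1 hk2 with h | h
    · exact absurd (hone hk h) (hnc hu (Or.inl rfl))
    · rw [hk, ← zpow_neg_one]
      exact hcast.2 (by simpa using h)
  -- the conjugate of `u` by `f` is another inverter
  obtain ⟨b, hb⟩ := hact f hfN
  have hb1 : (1 : ZMod 11) - (b : ZMod 11) ≠ 0 :=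
    sub_ne_zero.2 fun h => hnc hf (Or.inr rfl) (hone hb h.symm)
  have hinv' : ∀ n : ℤ, u * x ^ n * u⁻¹ = (x ^ n)⁻¹ := fun n => by
    rw [← conj_zpow, hinv, inv_zpow]
  obtain ⟨a, ha⟩ : ∃ a : ℤ, f * u * f⁻¹ = u * x ^ a := by
    have h1 : (f * u * f⁻¹) * x ^ b * (f * u * f⁻¹)⁻¹ = (x ^ b)⁻¹ := by
      calc (f * u * f⁻¹) * x ^ b * (f * u * f⁻¹)⁻¹
          = f * (u * (f⁻¹ * x ^ b * f) * u⁻¹) * f⁻¹ := by group
        _ = f * (u * x * u⁻¹) * f⁻¹ := by rw [← hb]; group
        _ = (f * x * f⁻¹)⁻¹ := by rw [hinv]; group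
        _ = (x ^ b)⁻¹ := by rw [hb]
    have h2 : u⁻¹ * (f * u * f⁻¹) ∈ centralizer ({x ^ b} : Set G) := by
      rw [mem_centralizer_singleton_iff, ← mul_inv_eq_iff_eq_mul]
      calc u⁻¹ * (f * u * f⁻¹) * x ^ b * (u⁻¹ * (f * u * f⁻¹))⁻¹
          = u⁻¹ * ((f * u * f⁻¹) * x ^ b * (f * u * f⁻¹)⁻¹) * u := by group
        _ = x ^ b := by rw [h1, ← hinv' b]; group
    have hcb : centralizer ({x ^ b} : Set G) ≤ centralizer ({x} : Set G) := by
      intro g hg
      rw [mem_centralizer_singleton_iff] at hg ⊢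
      obtain ⟨m, hm⟩ : ∃ m : ℤ, (x ^ b) ^ m = x := by
        have hb0 : (b : ZMod 11) ≠ 0 := fun h0 => by
          have : x ^ b = x ^ (0 : ℤ) := hcast.2 (by simpa using h0)
          rw [zpow_zero, ← hb, conj_eq_one_iff] at this
          rw [this, orderOf_one] at hx
          norm_num at hx
        refine ⟨(((b : ZMod 11))⁻¹.val : ℤ), ?_⟩
        rw [← zpow_mul]
        conv_rhs => rw [← zpow_one x]
        refine hcast.2 ?_
        rw [Int.cast_mul, Int.cast_natCast, ZMod.natCast_zmod_val, Int.cast_one, mul_inv_cancel₀ hb0]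
      rw [← hm]
      exact ((show Commute g (x ^ b) from hg).zpow_right m).eq
    have h3 := hcb h2
    rw [hC] at h3
    obtain ⟨a, ha⟩ := h3
    exact ⟨a, by rw [show x ^ a = u⁻¹ * (f * u * f⁻¹) from ha]; group⟩
  -- an inverter fixed by `f`
  obtain ⟨i, hi⟩ : ∃ i : ℤ, (a : ZMod 11) + b * i = i := by
    refine ⟨(((a : ZMod 11) * (1 - (b : ZMod 11))⁻¹).val : ℤ), ?_⟩
    rw [Int.cast_natCast, ZMod.natCast_zmod_val]
    field_simp
    ring
  refine ⟨u * x ^ i, orderOf_eq_prime ?_ fun h1 => ?_, ?_, f, hf, ?_⟩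
  · rw [pow_two, show u * x ^ i * (u * x ^ i) = (u * x ^ i * u⁻¹) * (u * u) * x ^ i by group,
      hinv', hu2, mul_one, inv_mul_cancel]
  · exact hnc hu (Or.inl rfl) ((eq_inv_of_mul_eq_one_left h1) ▸
      ((Commute.refl x).zpow_left i).inv_left.eq)
  · rw [show u * x ^ i * x * (u * x ^ i)⁻¹ = u * (x ^ i * x * (x ^ i)⁻¹) * u⁻¹ by group,
      ((Commute.refl x).zpow_left i).eq, mul_inv_cancel_right, hinv]
  · have h : f * (u * x ^ i) * f⁻¹ = u * x ^ i := by
      calc f * (u * x ^ i) * f⁻¹ = (f * u * f⁻¹) * (f * x ^ i * f⁻¹) := by group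
        _ = u * x ^ a * x ^ (b * i) := by rw [ha, ← conj_zpow, hb, zpow_mul]
        _ = u * x ^ i := by
          rw [mul_assoc, ← zpow_add, hcast.2 (show ((a + b * i : ℤ) : ZMod 11) = (i : ℤ) by
            push_cast; exact hi)]
    exact (mul_inv_eq_iff_eq_mul.1 h).symm

/-- The classes of involutions. -/
structure Classes (s t : G) : Prop where
  order_s : orderOf s = 2
  order_t : orderOf t = 2
  five : ∃ y : G, orderOf y = 5 ∧ s * y = y * s
  seven : ∃ y : G, orderOf y = 7 ∧ t * y = y * t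
  ne : ¬ IsConj s t
  five_all : ∀ u y : G, orderOf u = 2 → orderOf y = 5 → u * y = y * u → IsConj s u
  seven_all : ∀ u y : G, orderOf u = 2 → orderOf y = 7 → u * y = y * u → IsConj t u
  card_class_s : Nat.card {v : G // IsConj s v} = 31878
  card_s : Nat.card (centralizer ({s} : Set G)) = 7680
  cases : (Nat.card (centralizer ({t} : Set G)) = 21504 ∧
      ∀ u : G, orderOf u = 2 → IsConj s u ∨ IsConj t u) ∨
    (Nat.card (centralizer ({t} : Set G)) = 96768 ∧ ∃ w : G, orderOf w = 2 ∧
      Nat.card (centralizer ({w} : Set G)) = 27648 ∧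
      ∀ u : G, orderOf u = 2 → IsConj s u ∨ IsConj t u ∨ IsConj w u)

/-- A prime which cannot divide the order of the centralizer of an involution. -/
theorem not_dvd_cent (F : M24Nse2.Facts G) {u : G} (hu : orderOf u = 2) {r : ℕ} (hr : r.Prime)
    (hr2 : r ≠ 2) (hno : ∀ y : G, orderOf y = r → ¬ u * y = y * u) :
    ¬ r ∣ Nat.card (centralizer ({u} : Set G)) := fun h => by
  haveI := Fact.mk hr
  obtain ⟨a, ha⟩ := exists_prime_orderOf_dvd_card' r h
  exact hno a (by rw [Subgroup.orderOf_coe]; exact ha) (mem_centralizer_singleton_iff.1 a.2).symm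

theorem exists_classes (F : M24Nse2.Facts G) : ∃ s t : G, Classes s t := by
  classical
  haveI := Fintype.ofFinite G
  obtain ⟨y, s, hy, hs, hsy⟩ := exists_pair (good_five F)
  obtain ⟨y', t, hy', ht, hty⟩ := exists_pair (good_seven F)
  have five_all : ∀ u z : G, orderOf u = 2 → orderOf z = 5 → u * z = z * u → IsConj s u :=
    fun u z hu hz hc => isConj_twos F (good_five F) hy hz hs hsy hu hc
  have seven_all : ∀ u z : G, orderOf u = 2 → orderOf z = 7 → u * z = z * u → IsConj t u :=
    fun u z hu hz hc => isConj_twos F (good_seven F) hy' hz ht hty hu hc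
  have hord : ∀ {u : G} {r : ℕ}, orderOf u = 2 → r = 11 ∨ r = 23 →
      ∀ z : G, orderOf z = r → ¬ u * z = z * u := fun hu hr z hz hc => by
    have := mul_mem_ords F hu hz hc (by rcases hr with rfl | rfl <;> norm_num)
    revert this
    rcases hr with rfl | rfl <;> decide
  have hcent : ∀ {u : G}, orderOf u = 2 →
      Nat.card {v : G // IsConj u v} * Nat.card (centralizer ({u} : Set G)) = 244823040 ∧
      Nat.card (centralizer ({u} : Set G)) ∣ 967680 := fun {u} hu => by
    have h := card_isConj_mul_card_centralizer u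
    rw [F.card] at h
    refine ⟨h, Nat.Coprime.dvd_of_dvd_mul_right ?_ (show _ ∣ 967680 * 253 from Dvd.intro_left _ h)⟩
    rw [show 253 = 11 * 23 from rfl]
    exact ((Nat.Prime.coprime_iff_not_dvd (by norm_num)).2
      (not_dvd_cent F hu (by norm_num) (by norm_num) (hord hu (Or.inl rfl)))).symm.mul_right
        ((Nat.Prime.coprime_iff_not_dvd (by norm_num)).2
          (not_dvd_cent F hu (by norm_num) (by norm_num) (hord hu (Or.inr rfl)))).symm
  obtain ⟨n5, m5, e5⟩ := class_size F (good_five F) hy hs hsy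
  obtain ⟨n7, m7, e7⟩ := class_size F (good_seven F) hy' ht hty
  rw [F.c5] at e5
  rw [F.c7] at e7
  obtain ⟨hXs, dS⟩ := hcent hs
  obtain ⟨hXt, dT⟩ := hcent ht
  generalize hXsd : Nat.card {v : G // IsConj s v} = Xs at e5 hXs
  generalize hXtd : Nat.card {v : G // IsConj t v} = Xt at e7 hXt
  have cS : Nat.card (centralizer ({s} : Set G)) = 80 * n5 := by
    have h : Nat.card (centralizer ({s} : Set G)) * 12241152 = 244823040 * (n5 * 4) := by
      rw [show (12241152 : ℕ) = 3 * 4080384 from rfl, ← e5, ← hXs]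
      ring
    omega
  have cT : Nat.card (centralizer ({t} : Set G)) = 42 * n7 := by
    have h : Nat.card (centralizer ({t} : Set G)) * 34974720 = 244823040 * (n7 * 6) := by
      rw [show (34974720 : ℕ) = 3 * 11658240 from rfl, ← e7, ← hXt]
      ring
    omega
  -- the two classes are different
  have hne : ¬ IsConj s t := fun hc => by
    obtain ⟨g, hg⟩ := isConj_iff.1 hc
    have heq : {v : G // IsConj s v} ≃ {v : G // IsConj t v} :=
      Equiv.subtypeEquivRight fun v => ⟨fun h => hc.symm.trans h, fun h => hc.trans h⟩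
    have hX : Xs = Xt := by rw [← hXsd, ← hXtd]; exact Nat.card_congr heq
    subst hX
    have hk : 21 * n7 = 40 * n5 := by
      have : Xs * (80 * n5) = Xs * (42 * n7) := by rw [← cS, ← cT, hXs, hXt]
      have h0 : 0 < Xs := by
        rcases Nat.eq_zero_or_pos Xs with h | h
        · rw [h] at hXs; simp at hXs
        · exact h
      have := Nat.eq_of_mul_eq_mul_left h0 this
      omega
    obtain ⟨k, rfl⟩ : ∃ k, n5 = 21 * k := ⟨n5 / 21, by omega⟩
    have hkd : k ∈ Nat.divisors 576 := by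
      refine Nat.mem_divisors.2 ⟨?_, by norm_num⟩
      rw [cS, show 80 * (21 * k) = 1680 * k by ring,
        show (967680 : ℕ) = 1680 * 576 from rfl] at dS
      exact Nat.dvd_of_mul_dvd_mul_left (by norm_num) dS
    have hn7 : n7 = 40 * k := by omega
    subst hn7
    exact (show ∀ k ∈ Nat.divisors 576, ¬ (21 * k % 5 = 1 ∧ 40 * k % 7 = 1) by decide +kernel) k hkd
      ⟨m5, m7⟩
  -- the centralizers
  have dS' : n5 ∈ Nat.divisors 1728 := by
    refine Nat.mem_divisors.2 ⟨?_, by norm_num⟩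
    have h := Nat.Coprime.dvd_of_dvd_mul_right ?_ (show _ ∣ 138240 * 7 from dS)
    · rw [cS, show (138240 : ℕ) = 80 * 1728 from rfl] at h
      exact Nat.dvd_of_mul_dvd_mul_left (by norm_num) h
    · exact ((Nat.Prime.coprime_iff_not_dvd (by norm_num)).2 (not_dvd_cent F hs (by norm_num)
        (by norm_num) fun z hz hc => hne (seven_all s z hs hz hc).symm)).symm
  have dT' : n7 ∈ Nat.divisors 4608 := by
    refine Nat.mem_divisors.2 ⟨?_, by norm_num⟩
    have h := Nat.Coprime.dvd_of_dvd_mul_right ?_ (show _ ∣ 193536 * 5 from dT)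
    · rw [cT, show (193536 : ℕ) = 42 * 4608 from rfl] at h
      exact Nat.dvd_of_mul_dvd_mul_left (by norm_num) h
    · exact ((Nat.Prime.coprime_iff_not_dvd (by norm_num)).2 (not_dvd_cent F ht (by norm_num)
        (by norm_num) fun z hz hc => hne (five_all t z ht hz hc))).symm
  -- products of pairs of order eleven
  have hbig : 244823040 ≤ Xs * Xs := by
    choose f hf2 hfi hf5 using fun x : {x : G // orderOf x = 11} => exists_inverter F x.2
    have hS : ∀ (x : {x : G // orderOf x = 11}) (n : ℕ), IsConj s (f x * (x : G) ^ n) := by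
      intro x n
      obtain ⟨z, hz, hc⟩ := hf5 x
      refine (five_all (f x) z (hf2 x) hz hc).trans (isConj_iff.2 ⟨(x : G) ^ (5 * n), ?_⟩)
      have hx : (x : G) ^ 11 = 1 := orderOf_dvd_iff_pow_eq_one.1 x.2.dvd
      have h1 : (x : G) ^ (5 * n) * f x = f x * ((x : G) ^ (5 * n))⁻¹ := by
        rw [show ((x : G) ^ (5 * n))⁻¹ = f x * (x : G) ^ (5 * n) * (f x)⁻¹ by
          rw [← conj_pow, hfi, inv_pow]]
        have h2 : f x * f x = 1 := by rw [← pow_two, ← hf2 x, pow_orderOf_eq_one]
        rw [inv_eq_of_mul_eq_one_right h2, ← mul_assoc, ← mul_assoc, h2, one_mul]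
      rw [h1, mul_assoc, ← mul_inv_rev, ← pow_add]
      congr 1
      rw [inv_eq_iff_mul_eq_one, ← pow_add, show 5 * n + 5 * n + n = 11 * n by ring, pow_mul, hx,
        one_pow]
    have h := Nat.card_le_card_of_injective
      (fun a : {x : G // orderOf x = 11} × Fin 11 =>
        ((⟨f a.1 * (a.1 : G) ^ (a.2 : ℕ), hS _ _⟩ : {v : G // IsConj s v}),
          (⟨f a.1 * (a.1 : G) ^ ((a.2 : ℕ) + 1), hS _ _⟩ : {v : G // IsConj s v}))) ?_
    · rwa [Nat.card_prod, Nat.card_prod, Nat.card_fin, F.c11, hXsd] at h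
    · rintro ⟨x, i⟩ ⟨z, j⟩ h
      simp only [Prod.mk.injEq, Subtype.mk.injEq] at h
      obtain ⟨h1, h2⟩ := h
      rw [pow_succ, pow_succ, ← mul_assoc, ← mul_assoc, h1] at h2
      have hxz : x = z := Subtype.ext (mul_left_cancel h2)
      subst hxz
      have h3 := pow_inj_mod.1 (mul_left_cancel h1)
      rw [x.2, Nat.mod_eq_of_lt i.2, Nat.mod_eq_of_lt j.2] at h3
      exact Prod.ext rfl (Fin.ext h3)
  -- the involutions outside both classes
  set R := (Finset.univ.filter fun u : G => orderOf u = 2 ∧ ¬ IsConj s u ∧ ¬ IsConj t u) with hR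
  have hsum : Xs + Xt + R.card = 43263 := by
    rw [← F.c2, Nat.card_eq_fintype_card, Fintype.card_subtype, ← hXsd, ← hXtd,
      Nat.card_eq_fintype_card, Nat.card_eq_fintype_card, Fintype.card_subtype, Fintype.card_subtype,
      hR, ← Finset.card_union_of_disjoint, ← Finset.card_union_of_disjoint]
    · congr 1
      ext u
      simp only [Finset.mem_union, Finset.mem_filter, Finset.mem_univ, true_and]
      refine ⟨?_, fun hu => by tauto⟩
      rintro ((h | h) | ⟨h, -, -⟩)
      · obtain ⟨g, rfl⟩ := isConj_iff.1 h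
        rw [← MulAut.conj_apply, MulEquiv.orderOf_eq, hs]
      · obtain ⟨g, rfl⟩ := isConj_iff.1 h
        rw [← MulAut.conj_apply, MulEquiv.orderOf_eq, ht]
      · exact h
    · rw [Finset.disjoint_union_left]
      constructor <;>
        exact Finset.disjoint_left.2 fun a ha hb => by
          simp only [Finset.mem_filter, Finset.mem_univ, true_and] at ha hb
          tauto
    · exact Finset.disjoint_left.2 fun a ha hb => by
        simp only [Finset.mem_filter, Finset.mem_univ, true_and] at ha hb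
        exact hne (ha.trans hb.symm)
  have hrest : ∀ u ∈ R, 8855 ∣ Nat.card {v : G // IsConj u v} := by
    intro u hu
    simp only [hR, Finset.mem_filter, Finset.mem_univ, true_and] at hu
    obtain ⟨h, d⟩ := hcent hu.1
    obtain ⟨j, hj⟩ : Nat.card (centralizer ({u} : Set G)) ∣ 27648 := by
      refine Nat.Coprime.dvd_of_dvd_mul_right ?_ (show _ ∣ 27648 * 35 from d)
      rw [show 35 = 5 * 7 from rfl]
      exact ((Nat.Prime.coprime_iff_not_dvd (by norm_num)).2 (not_dvd_cent F hu.1 (by norm_num)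
        (by norm_num) fun z hz hc => hu.2.1 (five_all u z hu.1 hz hc))).symm.mul_right
          ((Nat.Prime.coprime_iff_not_dvd (by norm_num)).2 (not_dvd_cent F hu.1 (by norm_num)
            (by norm_num) fun z hz hc => hu.2.2 (seven_all u z hu.1 hz hc))).symm
    refine ⟨j, Nat.eq_of_mul_eq_mul_right Nat.card_pos (h.trans ?_)⟩
    rw [show (244823040 : ℕ) = 27648 * 8855 from rfl, hj]
    ring
  have hsub : ∀ u ∈ R, (Finset.univ.filter fun v : G => IsConj u v) ⊆ R := by
    intro u hu v hv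
    simp only [hR, Finset.mem_filter, Finset.mem_univ, true_and] at hu hv ⊢
    refine ⟨?_, fun h => hu.2.1 (h.trans hv.symm), fun h => hu.2.2 (h.trans hv.symm)⟩
    obtain ⟨g, rfl⟩ := isConj_iff.1 hv
    rw [← MulAut.conj_apply, MulEquiv.orderOf_eq, hu.1]
  have hclass : ∀ u : G, Nat.card {v : G // IsConj u v} =
      (Finset.univ.filter fun v : G => IsConj u v).card := fun u => by
    rw [Nat.card_eq_fintype_card, Fintype.card_subtype]
  have hR8 : 8855 ∣ R.card := by
    rw [Finset.card_eq_sum_card_fiberwise (f := ConjClasses.mk) (t := R.image ConjClasses.mk)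
      fun u hu => Finset.mem_image_of_mem _ hu]
    refine Finset.dvd_sum fun c hc => ?_
    obtain ⟨u, hu, rfl⟩ := Finset.mem_image.1 hc
    rw [show (R.filter fun v => ConjClasses.mk v = ConjClasses.mk u) =
      Finset.univ.filter fun v : G => IsConj u v by
        ext v
        simp only [Finset.mem_filter, Finset.mem_univ, true_and, ConjClasses.mk_eq_mk_iff_isConj]
        exact ⟨fun h => h.2.symm, fun h => ⟨hsub u hu (by simpa using h), h.symm⟩⟩, ← hclass]
    exact hrest u hu
  -- the arithmetic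
  have hn5 : n5 = 96 := by
    have hm : n5 = 1 ∨ n5 = 6 ∨ n5 = 16 ∨ n5 = 36 ∨ n5 = 96 ∨ n5 = 216 ∨ n5 = 576 :=
      (show ∀ n ∈ Nat.divisors 1728, n % 5 = 1 → n = 1 ∨ n = 6 ∨ n = 16 ∨ n = 36 ∨ n = 96 ∨
        n = 216 ∨ n = 576 by decide +kernel) n5 dS' m5
    by_contra hne'
    rcases hm with rfl | rfl | rfl | rfl | rfl | rfl | rfl
    all_goals first
      | exact hne' rfl
      | omega
      | (have hb : Xs ≤ 14168 := by omega
         have := Nat.mul_le_mul hb hb
         omega)
  subst hn5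
  have hXs' : Xs = 31878 := by omega
  have hn7 : n7 = 512 ∨ n7 = 2304 := by
    have hm : n7 = 1 ∨ n7 = 8 ∨ n7 = 36 ∨ n7 = 64 ∨ n7 = 288 ∨ n7 = 512 ∨ n7 = 2304 :=
      (show ∀ n ∈ Nat.divisors 4608, n % 7 = 1 → n = 1 ∨ n = 8 ∨ n = 36 ∨ n = 64 ∨ n = 288 ∨
        n = 512 ∨ n = 2304 by decide +kernel) n7 dT' m7
    rcases hm with rfl | rfl | rfl | rfl | rfl | rfl | rfl <;> omega
  refine ⟨s, t, hs, ht, ⟨y, hy, hsy⟩, ⟨y', hy', hty⟩, hne, five_all, seven_all, hXsd.trans hXs',
    by rw [cS], ?_⟩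
  obtain ⟨g, hg⟩ := hR8
  have hout : ∀ u : G, orderOf u = 2 → IsConj s u ∨ IsConj t u ∨ u ∈ R := fun u hu => by
    simp only [hR, Finset.mem_filter, Finset.mem_univ, true_and]
    tauto
  rcases hn7 with rfl | rfl
  · refine Or.inl ⟨cT, fun u hu => ?_⟩
    rcases hout u hu with h | h | h
    · exact Or.inl h
    · exact Or.inr h
    · exact absurd (Finset.card_pos.2 ⟨u, h⟩) (by omega)
  · have hcR : R.card = 8855 := by omega
    obtain ⟨w, hw⟩ := Finset.card_pos.1 (by omega : 0 < R.card)
    have hw2 : orderOf w = 2 := (Finset.mem_filter.1 hw).2.1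
    obtain ⟨j, hj⟩ := hrest w hw
    have hle := Finset.card_le_card (hsub w hw)
    rw [← hclass, hj, hcR] at hle
    obtain ⟨hmul, -⟩ := hcent hw2
    have hj1 : j = 1 := by
      rcases Nat.eq_zero_or_pos j with h | h
      · rw [hj, h] at hmul; simp at hmul
      · omega
    subst hj1
    refine Or.inr ⟨cT, w, hw2, by rw [hj] at hmul; omega, fun u hu => ?_⟩
    rcases hout u hu with h | h | h
    · exact Or.inl h
    · exact Or.inr (Or.inl h)
    · rw [← Finset.eq_of_subset_of_card_le (hsub w hw) (by rw [← hclass, hj, hcR])] at h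
      exact Or.inr (Or.inr (Finset.mem_filter.1 h).2)

end Cfsg.Agent.Lib.M24Nse65.InvCount
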