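import Mathlib
import Cfsg.Agent.Lib.SmallSimple1.RangeA
import Cfsg.Agent.Lib.SmallSimple1.RangeABlocks
import Cfsg.Agent.Lib.H66.SmallCofactor.Basic
import Cfsg.Agent.Lib.Chars.DefectZero
import Cfsg.Agent.Lib.GaloisChar.Basic

/-!
No simple group has order `2 ^ b * 3 ^ c * 7` for the pairs `(6, 1)`, `(9, 1)`, `(2, 3)`, `(5, 3)`,
`(8, 3)`, with the normalizer of a group of order seven of order twenty-one and, when `c = 3`, an
involution centralizing a Sylow 3-subgroup.
-/

set_option autoImplicit false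
set_option linter.unusedSectionVars false
set_option linter.style.haveILetI false

namespace Cfsg.Agent.Lib.M24Nse65.SimpleSeven

open Cfsg Cfsg.Agent.Lib Subgroup
open Cfsg.Agent.Lib.DefectOne Cfsg.Agent.Lib.BrauerReynolds Cfsg.Agent.Lib.BrauerTuan
open Cfsg.Agent.Lib.SmallGroups.PrimeChar (xp xp_one)

universe u

variable {L : Type u} [Group L] [Fintype L] [IsSimpleGroup L]

/-- The odd powers of a root of unity of two-power order add up to zero unless it is a sign. -/
theorem sum_odd_pow {μ : ℂ} {h : ℕ} (hμ : μ ^ (2 * h) = 1) :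
    ∑ j ∈ Finset.range h, μ ^ (2 * j + 1) =
      (h : ℂ) * (if μ = 1 then 1 else if μ = -1 then -1 else 0) := by
  by_cases h1 : μ = 1
  · subst h1
    simp
  by_cases h2 : μ = -1
  · subst h2
    rw [if_neg h1, if_pos rfl]
    simp [pow_succ, pow_mul]
  · have hsq : μ ^ 2 ≠ 1 := fun e => (sq_eq_one_iff.mp e).elim h1 h2
    rw [if_neg h1, if_neg h2, mul_zero]
    have e : ∀ j : ℕ, μ ^ (2 * j + 1) = μ * (μ ^ 2) ^ j := fun j => by
      rw [← pow_mul, ← pow_succ']
    rw [Finset.sum_congr rfl fun j _ => e j, ← Finset.mul_sum, geom_sum_eq hsq, ← pow_mul, hμ,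
      sub_self, zero_div, mul_zero]

/-- A value at a two-element which no field automorphism moves is an integer. -/
theorem exists_int_of_gal (χ : IrrCharacter L) {s : L} {a : ℕ} (hs : orderOf s = 2 ^ (a + 1))
    (hfix : ∀ σ : ℂ →+* ℂ, σ ((χ : L → ℂ) s) = (χ : L → ℂ) s) :
    ∃ z : ℤ, (χ : L → ℂ) s = z := by
  classical
  obtain ⟨n, ρ, hρ, hc⟩ := χ.2
  obtain ⟨ι, _, b, μ, hm, hb⟩ := Chars.exists_eigenbasis ρ s
  have hval : (χ : L → ℂ) s = ∑ i, μ i := by
    rw [← hc]
    exact Chars.trace_eq_sum_of_eigenbasis (ρ s) b μ hb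
  have hk : ∀ j : ℕ, ∑ i, μ i ^ (2 * j + 1) = (χ : L → ℂ) s := by
    intro j
    obtain ⟨σ, hσ⟩ := GaloisChar.exists_ringEquiv_pow (m := 2 ^ (a + 1)) (k := 2 * j + 1)
      (by positivity) (Nat.Coprime.pow_right _ (Nat.coprime_two_right.mpr (odd_two_mul_add_one j)))
    have h := hfix σ.toRingHom
    rw [RingEquiv.toRingHom_eq_coe, RingEquiv.coe_toRingHom, hval, map_sum] at h
    rw [hval, ← h]
    exact Finset.sum_congr rfl fun i _ => (hσ _ (by rw [← hs]; exact hm i)).symm
  refine ⟨∑ i, (if μ i = 1 then 1 else if μ i = -1 then -1 else 0), ?_⟩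
  have h0 : ((2 ^ a : ℕ) : ℂ) ≠ 0 := by exact_mod_cast pow_ne_zero a two_ne_zero
  refine mul_left_cancel₀ h0 ?_
  have hL : ((2 ^ a : ℕ) : ℂ) * (χ : L → ℂ) s =
      ∑ j ∈ Finset.range (2 ^ a), ∑ i, μ i ^ (2 * j + 1) := by
    rw [Finset.sum_congr rfl fun j _ => hk j, Finset.sum_const, Finset.card_range, nsmul_eq_mul]
  have hpow : ∀ i, μ i ^ (2 * 2 ^ a) = 1 := fun i => by
    rw [← pow_succ', ← hs]
    exact hm i
  rw [hL, Finset.sum_comm]
  push_cast
  rw [Finset.mul_sum]
  refine Finset.sum_congr rfl fun i _ => ?_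
  rw [sum_odd_pow (hpow i)]
  push_cast
  rfl

/-- The possible degrees at the prime seven. -/
def cand (N M : ℕ) : List ℕ :=
  (List.range 220).filter fun f =>
    decide (1 < f ∧ f ∣ N ∧ f * f < M ∧ (f % 7 = 1 ∨ f % 7 = 6))

/-- The signed degree. -/
def sg (f : ℕ) : ℤ := if f % 7 = 1 then (f : ℤ) else -f

/-- The arithmetical condition on a pair of degrees. -/
def okPair (N M f g : ℕ) : Bool :=
  let d := (1 + sg f + sg g).natAbs
  decide (d ∣ N → 1 + f * f + g * g + 2 * (d * d) ≤ M → 1 < d → d = 3 ∨ f = 27 ∨ g = 27)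

theorem table : ∀ p ∈ [(864, 6048), (6912, 48384)], ∀ f ∈ cand p.1 p.2, ∀ g ∈ cand p.1 p.2,
    okPair p.1 p.2 f g = true := by
  decide +kernel

/-- The principal block at seven has an exceptional degree three or a degree twenty-seven. -/
theorem degree_cases [Fact (Nat.Prime 7)] (D : Setting 7 L) (hR : Reduced 7 L) {N M : ℕ}
    (hp : (N, M) ∈ [(864, 6048), (6912, 48384)]) (hM : Nat.card L = M) (he : D.e = 3)
    (hN : D.e * (1 + D.n * 7) = N) :
    (∃ θ ∈ D.B, degOf θ = 3) ∨
      ∃ χ ∈ D.A, χ ≠ Chars.trivialIrr L ∧ degOf χ = 27 := by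
  classical
  set one := Chars.trivialIrr L with hone
  have ht : D.t = 2 := by
    have h := D.het
    rw [he] at h
    omega
  have h1A : one ∈ D.A := by
    rcases Finset.mem_union.mp D.triv_mem with h1 | h1
    · exact h1
    · exfalso
      have h2 := Int.modEq_iff_dvd.mp (D.congrB _ h1)
      rw [he, degOf_trivial] at h2
      rcases D.ε_unit with hε | hε <;> rw [hε] at h2 <;> omega
  have hδ1 : D.δ one = 1 := by
    have h := D.applyA one h1A 1 one_ne_zero
    rw [hone, Chars.trivialIrr_apply] at h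
    exact_mod_cast h.symm
  obtain ⟨χ, ψ, hne, hAe⟩ := Finset.card_eq_two.mp (show (D.A.erase one).card = 2 by
    rw [Finset.card_erase_of_mem h1A, D.cardA, he])
  obtain ⟨θ₁, θ₂, hne', hB⟩ := Finset.card_eq_two.mp (show D.B.card = 2 by rw [D.cardB, ht])
  have hmem : ∀ φ ∈ D.A.erase one, φ ∈ D.A ∧ φ ≠ one ∧ degOf φ ∈ cand N M ∧
      (D.δ φ : ℤ) * degOf φ = sg (degOf φ) := by
    intro φ hφ
    have hφA := Finset.mem_of_mem_erase hφ
    have hφ1 := Finset.ne_of_mem_erase hφ
    have hf1 : 1 < degOf φ := one_lt_degOf hR hφ1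
    have hd : degOf φ ∣ N := hN ▸ D.dvdA φ hφA
    have hsq : 1 + (degOf φ : ℤ) * degOf φ ≤ (M : ℤ) := by
      have h := SmallSimple1.sum_sq_lt (G := L) {φ} (by simpa using fun e => hφ1 e.symm)
      rwa [Finset.sum_singleton, hM] at h
    have hsq' : degOf φ * degOf φ < M := by
      have h : ((1 + degOf φ * degOf φ : ℕ) : ℤ) ≤ (M : ℤ) := by push_cast; linarith
      have := Int.ofNat_le.mp h
      omega
    have hlt : degOf φ < 220 := by
      by_contra hcon
      have h := Nat.mul_le_mul (not_lt.mp hcon) (not_lt.mp hcon)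
      simp only [List.mem_cons, Prod.mk.injEq, List.not_mem_nil, or_false] at hp
      rcases hp with ⟨-, rfl⟩ | ⟨-, rfl⟩ <;> omega
    have hc := Int.modEq_iff_dvd.mp (D.congrA φ hφA)
    refine ⟨hφA, hφ1, ?_, ?_⟩
    · simp only [cand, List.mem_filter, List.mem_range, decide_eq_true_eq]
      refine ⟨hlt, hf1, hd, hsq', ?_⟩
      rcases D.δ_unit φ hφA with h | h <;> rw [h] at hc <;> omega
    · rcases D.δ_unit φ hφA with h | h <;> rw [h] at hc ⊢ <;> unfold sg
      · rw [if_pos (by omega), one_mul]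
      · rw [if_neg (by omega), neg_one_mul]
  obtain ⟨hχA, hχ1, hχc, hχs⟩ := hmem χ (by rw [hAe]; simp)
  obtain ⟨hψA, hψ1, hψc, hψs⟩ := hmem ψ (by rw [hAe]; simp)
  set f := degOf χ
  set g := degOf ψ
  have hdegB : ∀ θ ∈ D.B, degOf θ = (1 + sg f + sg g).natAbs := by
    intro θ hθ
    have h0 := D.rel θ hθ 1 (by norm_num)
    rw [← Finset.add_sum_erase _ _ h1A, hAe, Finset.sum_pair hne, hδ1] at h0
    simp only [apply_one_eq_degOf, hone, degOf_trivial] at h0
    have h1 : (D.ε : ℤ) * degOf θ = 1 + sg f + sg g := by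
      rw [← hχs, ← hψs]
      apply Int.cast_injective (α := ℂ)
      push_cast at h0 ⊢
      linear_combination h0
    rw [← h1]
    rcases D.ε_unit with e | e <;> rw [e] <;> simp
  have hθ₁ : θ₁ ∈ D.B := by rw [hB]; simp
  have hθ₂ : θ₂ ∈ D.B := by rw [hB]; simp
  set d := (1 + sg f + sg g).natAbs
  have hd : d ∣ N := by rw [← hdegB θ₁ hθ₁, ← hN]; exact D.dvdB θ₁ hθ₁
  have hθne : θ₁ ≠ one := fun e => Finset.disjoint_left.mp D.disj h1A (e ▸ hθ₁)
  have hd1 : 1 < d := hdegB θ₁ hθ₁ ▸ one_lt_degOf hR hθne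
  have hdisj : Disjoint (D.A.erase one) D.B :=
    Finset.disjoint_of_subset_left (Finset.erase_subset _ _) D.disj
  have hsum := SmallSimple1.sum_sq_lt (G := L) (D.A.erase one ∪ D.B) (by
    rw [Finset.mem_union]
    rintro (h | h)
    · exact (Finset.mem_erase.mp h).1 rfl
    · exact Finset.disjoint_left.mp D.disj h1A h)
  rw [Finset.sum_union hdisj, hAe, hB, Finset.sum_pair hne, Finset.sum_pair hne',
    hdegB θ₁ hθ₁, hdegB θ₂ hθ₂, hM] at hsum
  have hsum' : 1 + f * f + g * g + 2 * (d * d) ≤ M := by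
    apply Int.ofNat_le.mp
    push_cast
    linarith
  have htab := table (N, M) hp f hχc g hψc
  simp only [okPair, decide_eq_true_eq] at htab
  rcases htab hd hsum' hd1 with h | h | h
  · exact Or.inl ⟨θ₁, hθ₁, (hdegB θ₁ hθ₁).trans h⟩
  · exact Or.inr ⟨χ, hχA, hχ1, h⟩
  · exact Or.inr ⟨ψ, hψA, hψ1, h⟩

/-- Field automorphisms do not move exceptional values at elements of order prime to seven. -/
theorem gal_fix [Fact (Nat.Prime 7)] (D : Setting 7 L) (K : Frame D) (he : D.e = 3) {θ : IrrCharacter L} (hθ : θ ∈ D.B)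
    (σ : ℂ →+* ℂ) {g : L} (hg : ¬ 7 ∣ orderOf g) : σ ((θ : L → ℂ) g) = (θ : L → ℂ) g := by
  classical
  set θ' := GaloisChar.galIrr σ θ with hθ'
  have hsum := congrArg σ (D.sum_profileB hθ)
  rw [map_sum, map_neg, map_mul, map_intCast, map_natCast, he] at hsum
  have hsum' : ∑ j ∈ (Finset.univ : Finset (ZMod 7)).erase 0, profile D.S θ' j =
      -((D.ε : ℂ) * 3) := by
    rw [Nat.cast_ofNat] at hsum
    rw [← hsum]
    exact Finset.sum_congr rfl fun j _ => by
      rw [K.profile_eq, K.profile_eq]; rfl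
  have hcard : ((Finset.univ : Finset (ZMod 7)).erase 0).card = 6 := by
    rw [Finset.card_erase_of_mem (Finset.mem_univ _), Finset.card_univ, ZMod.card]
  have hB' : θ' ∈ D.B := by
    by_contra hnB
    by_cases hA : θ' ∈ D.A
    · rw [Finset.sum_congr rfl fun j hj => D.profileA θ' hA j (Finset.ne_of_mem_erase hj),
        Finset.sum_const, hcard, nsmul_eq_mul] at hsum'
      have h : (6 : ℤ) * D.δ θ' = -(D.ε * 3) := by
        apply Int.cast_injective (α := ℂ)
        push_cast at hsum' ⊢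
        linear_combination hsum'
      rcases D.δ_unit θ' hA with a | a <;> rcases D.ε_unit with b | b <;> rw [a, b] at h <;> omega
    · rw [Finset.sum_congr rfl fun j hj => D.profile_rest θ' hA hnB j (Finset.ne_of_mem_erase hj),
        Finset.sum_const_zero] at hsum'
      have h : (0 : ℤ) = -(D.ε * 3) := by
        apply Int.cast_injective (α := ℂ)
        push_cast at hsum' ⊢
        linear_combination hsum'
      rcases D.ε_unit with b | b <;> rw [b] at h <;> omega
  have h1 := D.rel θ' hB' g hg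
  rw [← D.rel θ hθ g hg, hθ', GaloisChar.galIrr_apply] at h1
  have hε : (D.ε : ℂ) ≠ 0 := by
    rcases D.ε_unit with b | b <;> rw [b] <;> norm_num
  exact mul_left_cancel₀ hε h1

/-- An exceptional degree three bounds the Sylow 2-subgroup by eight. -/
theorem false_of_three [Fact (Nat.Prime 7)] (hna : ¬ IsMulCommutative L) (D : Setting 7 L) (K : Frame D) (he : D.e = 3)
    (h32 : 32 ∣ Nat.card L) {θ : IrrCharacter L} (hθ : θ ∈ D.B) (h3 : degOf θ = 3) : False := by
  classical
  haveI : Fact (Nat.Prime 2) := ⟨Nat.prime_two⟩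
  have hdeg : charDegree (θ : L → ℂ) = 3 := by
    have h := (Chars.charDegree_spec θ).2
    rw [apply_one_eq_degOf, h3] at h
    exact_mod_cast h.symm
  have hone : (θ : L → ℂ) ≠ fun _ => 1 := by
    intro h
    have h1 := (Chars.charDegree_spec θ).2
    rw [hdeg, h] at h1
    norm_num at h1
  obtain ⟨S⟩ := (inferInstance : Nonempty (Sylow 2 L))
  have hsq : IsCharacter L (fun g => (θ : L → ℂ) g * (θ : L → ℂ) g) :=
    Chars.isCharacter_mul (Chars.irr_isCharacter θ) (Chars.irr_isCharacter θ)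
  have hd := H66.SmallCofactor.card_dvd_of_const (S : Subgroup L) hsq (d := 9) (z := 1)
    (by rw [apply_one_eq_degOf, h3]; norm_num) (fun h hh h1 => by
      obtain ⟨k, hk⟩ := S.isPGroup'.exists_orderOf_eq_pow ⟨h, hh⟩
      rw [Subgroup.orderOf_mk] at hk
      obtain ⟨a, rfl⟩ : ∃ a, k = a + 1 := ⟨k - 1, by
        rcases k with _ | k
        · rw [pow_zero, orderOf_eq_one_iff] at hk; exact absurd hk h1
        · rfl⟩
      have h7 : ¬ 7 ∣ orderOf h := by
        rw [hk]
        intro hd
        have := (Nat.Prime.dvd_of_dvd_pow (by norm_num : Nat.Prime 7) hd)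
        norm_num at this
      obtain ⟨z, hz⟩ := exists_int_of_gal θ hk fun σ => gal_fix D K he hθ σ h7
      have hp := H66.SmallCofactor.dvd_sub_charDegree Nat.prime_two θ (k := a + 1)
        (by rw [← hk, pow_orderOf_eq_one]) hz
      have hl := H66.SmallCofactor.abs_lt_degree hna θ hone h1 hz
      rw [hdeg] at hp hl
      have : z = 1 ∨ z = -1 := by omega
      rcases this with rfl | rfl <;> rw [hz] <;> norm_num)
  have hS : 32 ∣ Nat.card (S : Subgroup L) :=
    S.pow_dvd_card_of_pow_dvd_card (n := 5) h32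
  have h8 : (Nat.card (S : Subgroup L) : ℤ) ∣ ((8 : ℕ) : ℤ) := by simpa using hd
  have := Nat.le_of_dvd (by norm_num) (hS.trans (Int.natCast_dvd_natCast.mp h8))
  omega

/-- A character of degree twenty-seven excludes an involution centralizing a Sylow 3-subgroup. -/
theorem false_of_twentySeven [Fact (Nat.Prime 3)] (hna : ¬ IsMulCommutative L) (h27 : 27 ∣ Nat.card L)
    (h81 : ¬ 81 ∣ Nat.card L) {χ : IrrCharacter L} (hd : degOf χ = 27) {v : L} (hv : orderOf v = 2)
    (P : Sylow 3 L) (hP : Nat.card (P : Subgroup L) = 27)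
    (hcomm : ∀ x ∈ (P : Subgroup L), Commute v x) : False := by
  classical
  have hdeg : charDegree (χ : L → ℂ) = 27 := by
    have h := (Chars.charDegree_spec χ).2
    rw [apply_one_eq_degOf, hd] at h
    exact_mod_cast h.symm
  have hone : (χ : L → ℂ) ≠ fun _ => 1 := by
    intro h
    have h1 := (Chars.charDegree_spec χ).2
    rw [hdeg, h] at h1
    norm_num at h1
  obtain ⟨z, hz⟩ := SmallGroups.PrimeChar.exists_int_apply_involution χ hv
  have hl := H66.SmallCofactor.abs_lt_degree hna χ hone (by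
    rintro rfl
    rw [orderOf_one] at hv
    omega) hz
  rw [hdeg] at hl
  obtain ⟨n, ρ, hρ, hc⟩ := χ.2
  haveI := hρ
  have hfin : Module.finrank ℂ (Fin n → ℂ) = 27 := by
    have h : (χ : L → ℂ) 1 = (n : ℂ) := by
      rw [← hc, Representation.char_one, Module.finrank_fin_fun]
    rw [apply_one_eq_degOf, hd] at h
    rw [Module.finrank_fin_fun]
    exact_mod_cast h.symm
  have hvan : ∀ x : L, 3 ∣ orderOf x → (χ : L → ℂ) x = 0 := fun x hx => by
    rw [← hc]
    exact Chars.char_eq_zero_of_defect_zero ρ Nat.prime_three (n := 3) (by norm_num; simpa [Nat.card_eq_fintype_card] using h27)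
      (by norm_num; simpa [Nat.card_eq_fintype_card] using h81) (by rw [hfin]; norm_num) x hx
  have hcm : ∀ (a : (P : Subgroup L)) (w : zpowers v), Commute ((P : Subgroup L).subtype a)
      ((zpowers v).subtype w) := by
    rintro ⟨a, ha⟩ ⟨w, hw⟩
    obtain ⟨k, rfl⟩ := Subgroup.mem_zpowers_iff.mp hw
    exact ((hcomm a ha).zpow_left k).symm
  let F : ↥(P : Subgroup L) × ↥(zpowers v) →* L :=
    MonoidHom.noncommCoprod (P : Subgroup L).subtype (zpowers v).subtype hcm
  obtain ⟨m, hm⟩ := H66.SmallCofactor.exists_nat_sum_hom F (Chars.irr_isCharacter χ)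
    (fun q => if q.1 = 1 then (if q.2 = 1 then 27 else z) else 0) (by
      rintro ⟨a, w⟩
      have hF : F (a, w) = (a : L) * (w : L) := rfl
      rw [hF]
      by_cases ha : a = 1
      · subst ha
        by_cases hw : w = 1
        · subst hw
          simp only [if_true, OneMemClass.coe_one, one_mul]
          rw [apply_one_eq_degOf, hd]
          norm_num
        · have hwv : (w : L) = v := by
            obtain ⟨w, hw'⟩ := w
            obtain ⟨k, rfl⟩ := Subgroup.mem_zpowers_iff.mp hw'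
            show v ^ k = v
            rcases Int.emod_two_eq_zero_or_one k with e | e
            · exfalso
              refine hw (Subtype.ext ?_)
              show v ^ k = 1
              rw [← zpow_mod_orderOf, hv]
              push_cast
              rw [e, zpow_zero]
            · rw [← zpow_mod_orderOf, hv]
              push_cast
              rw [e, zpow_one]
          simp only [if_true, if_neg hw, OneMemClass.coe_one, one_mul, hwv]
          exact hz
      · simp only [if_neg ha, Int.cast_zero]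
        refine hvan _ ?_
        have hc' : Commute (a : L) (w : L) := hcm a w
        obtain ⟨k, hk⟩ := P.isPGroup'.exists_orderOf_eq_pow a
        have hwd : orderOf (w : L) ∣ 2 := hv ▸ orderOf_dvd_of_mem_zpowers w.2
        have hk' : orderOf (a : L) = 3 ^ k := by rw [Subgroup.orderOf_coe, hk]
        have hcop : (orderOf (a : L)).Coprime (orderOf (w : L)) := by
          rw [hk']
          exact Nat.Coprime.coprime_dvd_right hwd (Nat.Coprime.pow_left _ (by norm_num))
        rw [hc'.orderOf_mul_eq_mul_orderOf_of_coprime hcop, hk']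
        rcases k with _ | k
        · rw [pow_zero, orderOf_eq_one_iff] at hk
          exact absurd hk ha
        · exact dvd_mul_of_dvd_left (dvd_pow_self 3 (Nat.succ_ne_zero k)) _)
  rw [Fintype.sum_prod_type, Finset.sum_eq_single (1 : (P : Subgroup L))
    (fun a _ ha => by simp [if_neg ha]) (by simp)] at hm
  simp only [if_true] at hm
  rw [← Finset.add_sum_erase _ _ (Finset.mem_univ (1 : zpowers v)), if_pos rfl,
    Finset.sum_congr rfl fun w hw => if_neg (Finset.ne_of_mem_erase hw), Finset.sum_const,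
    Finset.card_erase_of_mem (Finset.mem_univ _), Finset.card_univ, ← Nat.card_eq_fintype_card,
    Nat.card_prod, hP, Nat.card_zpowers, hv] at hm
  norm_num at hm
  omega

/-- Orders 6048 and 48384. -/
theorem false_of_cubed {b : ℕ} (hb : b = 5 ∨ b = 8) (hcard : Nat.card L = 2 ^ b * 3 ^ 3 * 7)
    {y : L} (hy : orderOf y = 7)
    (hN : Nat.card (normalizer ((zpowers y : Subgroup L) : Set L)) = 21)
    {v : L} (hv : orderOf v = 2) (P : Sylow 3 L) (hcomm : ∀ x ∈ (P : Subgroup L), Commute v x) :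
    False := by
  classical
  haveI : Fact (Nat.Prime 7) := ⟨by norm_num⟩
  haveI : Fact (Nat.Prime 3) := ⟨Nat.prime_three⟩
  have hna : ¬ IsMulCommutative L := SmallGroups.not_isMulCommutative_of_not_prime (by
    rw [hcard]; rcases hb with rfl | rfl <;> norm_num)
  have hm : ¬ 7 ∣ 2 ^ b * 3 ^ 3 := by rcases hb with rfl | rfl <;> norm_num
  obtain ⟨Q, hQ⟩ := (IsPGroup.of_card (n := 1) (by
    rw [Nat.card_zpowers, hy, pow_one] : Nat.card (zpowers y) = 7 ^ 1)).exists_le_sylow
  have hQ7 : Nat.card (Q : Subgroup L) = 7 := by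
    rw [SmallGroups.card_sylow_eq Q (k := 1) (m := 2 ^ b * 3 ^ 3) (by rw [hcard]; ring) hm, pow_one]
  have hQe : zpowers y = (Q : Subgroup L) :=
    Subgroup.eq_of_le_of_card_ge hQ (by rw [hQ7, Nat.card_zpowers, hy])
  have hmul := SmallGroups.card_normalizer_sylow_mul Q
  rw [← hQe, hN] at hmul
  obtain ⟨D, ⟨K⟩, hD, -⟩ := SmallSimple1.exists_setting_two_three hna (p := 7) (a := 3) (b := b)
    (by norm_num) (by rw [hcard]; ring)
  rw [D.card_sylow] at hmul
  have he : D.e = 3 := by
    have h0 : 0 < 7 * (1 + D.n * 7) := by positivity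
    refine Nat.eq_of_mul_eq_mul_left h0 ?_
    linarith
  have hR := reduced_of_simple hna (p := 7) (by rw [hcard]; exact dvd_mul_left _ _)
  have hp : (D.e * (1 + D.n * 7), Nat.card L) ∈ [(864, 6048), (6912, 48384)] := by
    have hN' : D.e * (1 + D.n * 7) = 2 ^ b * 3 ^ 3 := by
      refine Nat.eq_of_mul_eq_mul_left (show 0 < 7 by norm_num) ?_
      rw [hD, hcard]
      ring
    rw [hN', hcard]
    rcases hb with rfl | rfl <;> norm_num
  rcases degree_cases D hR hp rfl he rfl with ⟨θ, hθ, h3⟩ | ⟨χ, -, -, h27⟩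
  · refine false_of_three hna D K he ?_ hθ h3
    rw [hcard]
    rcases hb with rfl | rfl <;> norm_num
  · have hP : Nat.card (P : Subgroup L) = 27 := by
      rw [SmallGroups.card_sylow_eq P (k := 3) (m := 2 ^ b * 7) (by rw [hcard]; ring)
        (by rcases hb with rfl | rfl <;> norm_num)]
      norm_num
    refine false_of_twentySeven hna ?_ ?_ h27 hv P hP hcomm <;> rw [hcard] <;>
      rcases hb with rfl | rfl <;> norm_num

end Cfsg.Agent.Lib.M24Nse65.SimpleSeven

namespace Cfsg.Agent.Lib.M24Nse65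

universe w

/-- No simple group has one of these orders and a self-centralizing subgroup of order seven with
normalizer of order twenty-one, granted the involution when `c = 3`. -/
theorem false_of_seven {L : Type w} [Group L] [Finite L] [IsSimpleGroup L] (b c : ℕ)
    (hcard : Nat.card L = 2 ^ b * 3 ^ c * 7)
    (hbc : (b, c) ∈ [(6, 1), (9, 1), (2, 3), (5, 3), (8, 3)]) (y : L) (hy : orderOf y = 7)
    (_hC : Nat.card (Subgroup.centralizer ({y} : Set L)) = 7)
    (hN : Nat.card (Subgroup.normalizer ((Subgroup.zpowers y : Subgroup L) : Set L)) = 21)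
    (hv : c = 3 → ∃ v : L, orderOf v = 2 ∧
      ∃ P : Sylow 3 L, ∀ x ∈ (P : Subgroup L), Commute v x) : False := by
  cases nonempty_fintype L
  simp only [List.mem_cons, Prod.mk.injEq, List.not_mem_nil, or_false] at hbc
  have hna : ¬ IsMulCommutative L := SmallGroups.not_isMulCommutative_of_not_prime (by
    rw [hcard]
    rcases hbc with ⟨rfl, rfl⟩ | ⟨rfl, rfl⟩ | ⟨rfl, rfl⟩ | ⟨rfl, rfl⟩ | ⟨rfl, rfl⟩ <;> norm_num)
  rcases hbc with ⟨rfl, rfl⟩ | ⟨rfl, rfl⟩ | ⟨rfl, rfl⟩ | ⟨rfl, rfl⟩ | ⟨rfl, rfl⟩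
  · exact SmallSimple1.false_1344 hna (by rw [hcard]; norm_num)
  · refine SmallGroups.Below6232.false_of_simple_order hna 7 2 9 3 (by norm_num) Nat.prime_two
      (by norm_num) ?_ (by norm_num) ?_ ?_ <;> rw [hcard] <;> norm_num
  · exact SmallGroups.Below1092.card_ne_756 hna (by rw [hcard]; norm_num)
  · obtain ⟨v, hv2, P, hP⟩ := hv rfl
    exact SimpleSeven.false_of_cubed (Or.inl rfl) hcard hy hN hv2 P hP
  · obtain ⟨v, hv2, P, hP⟩ := hv rfl
    exact SimpleSeven.false_of_cubed (Or.inr rfl) hcard hy hN hv2 P hP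

end Cfsg.Agent.Lib.M24Nse65
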