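import Cfsg.Agent.Lib.M24Nse65.Seven
import Cfsg.Agent.Lib.Coprime.Quotient
import Cfsg.Agent.Lib.M24Nse65.SimpleSeven

/-!
No involution has a centralizer of order 96768: the centralizer modulo the involution would have
a simple quotient of order 756, 6048 or 48384 with self-centralizing elements of order seven.
-/

set_option autoImplicit false
set_option linter.unusedSectionVars false
set_option linter.style.haveILetI false

namespace Cfsg.Agent.Lib.M24Nse65

open Subgroup

universe u

namespace Ten

section Fpf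

variable {H : Type u} [Group H] [Finite H]

/-- Elements of order seven are self-centralizing with normalizer of order 21. -/
def SevenFree (H : Type u) [Group H] : Prop :=
  ∀ y : H, orderOf y = 7 → Nat.card (centralizer ({y} : Set H)) = 7 ∧
    Nat.card (normalizer (zpowers y : Set H)) = 21

theorem cent_eq (hs : SevenFree H) {y : H} (hy : orderOf y = 7) :
    centralizer ({y} : Set H) = zpowers y :=
  (Subgroup.eq_of_le_of_card_ge (zpowers_le.mpr (mem_centralizer_singleton_iff.mpr rfl))
    (by rw [Nat.card_zpowers, hy, (hs y hy).1])).symm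

/-- A subgroup normalized by an element of order seven and of order prime to seven has order one
modulo seven. -/
theorem card_mod_seven (hs : SevenFree H) {y : H} (hy : orderOf y = 7) (X : Subgroup H)
    (hX : y ∈ normalizer (X : Set H)) (h7 : ¬ 7 ∣ Nat.card X) : Nat.card X % 7 = 1 := by
  haveI : Fact (Nat.Prime 7) := ⟨by norm_num⟩
  classical
  haveI := Fintype.ofFinite X
  let f : Function.End X := fun a => ⟨y * a * y⁻¹, (mem_normalizer_iff.mp hX a).mp a.2⟩
  have hpow : ∀ n : ℕ, ∀ a, ((f ^ n) a : H) = y ^ n * a * (y ^ n)⁻¹ := by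
    intro n
    induction n with
    | zero => intro a; simp only [pow_zero, one_mul, inv_one, mul_one]; rfl
    | succ n ih =>
      intro a
      rw [pow_succ']
      change y * ((f ^ n) a : H) * y⁻¹ = _
      rw [ih, pow_succ']
      group
  have hf : f ^ 7 ^ 1 = 1 := by
    funext a
    apply Subtype.ext
    rw [hpow, pow_one, ← hy, pow_orderOf_eq_one, one_mul, inv_one, mul_one]
    rfl
  have hm := Equiv.Perm.card_fixedPoints_modEq (p := 7) (n := 1) hf
  have hfix : Fintype.card (Function.fixedPoints f) = 1 := by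
    rw [Fintype.card_eq_one_iff]
    refine ⟨⟨1, Subtype.ext (by simp [f])⟩, fun a => ?_⟩
    apply Subtype.ext
    apply Subtype.ext
    have h : y * (a.1 : H) * y⁻¹ = a.1 := congrArg Subtype.val a.2
    have hmem : (a.1 : H) ∈ centralizer ({y} : Set H) :=
      mem_centralizer_singleton_iff.mpr (mul_inv_eq_iff_eq_mul.mp h).symm
    rw [cent_eq hs hy] at hmem
    have hd : orderOf (a.1 : H) ∣ 7 := hy ▸ Nat.card_zpowers y ▸
      Subgroup.orderOf_dvd_natCard _ hmem
    rcases (Nat.dvd_prime (by norm_num)).mp hd with e | e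
    · exact orderOf_eq_one_iff.mp e
    · exact absurd (e ▸ Subgroup.orderOf_dvd_natCard X a.1.2) h7
  rw [hfix, ← Nat.card_eq_fintype_card] at hm
  exact hm

/-- The largest normal subgroup of order prime to seven is a two-group of order 1, 8 or 64. -/
theorem exists_radical (hs : SevenFree H) (hH : Nat.card H = 48384) :
    ∃ R : Subgroup H, R.Normal ∧ Nat.card R ∈ ({1, 8, 64} : Finset ℕ) ∧
      ∀ K : Subgroup H, K.Normal → ¬ 7 ∣ Nat.card K → K ≤ R := by
  haveI h7' : Fact (Nat.Prime 7) := ⟨by norm_num⟩
  haveI h3' : Fact (Nat.Prime 3) := ⟨Nat.prime_three⟩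
  classical
  haveI := Fintype.ofFinite (Subgroup H)
  set s : Finset (Subgroup H) := {K : Subgroup H | K.Normal ∧ ¬ 7 ∣ Nat.card K}
  have hne : s.Nonempty := ⟨⊥, by simp [s, (inferInstance : (⊥ : Subgroup H).Normal)]⟩
  obtain ⟨R, hR, hmax⟩ := s.exists_max_image (fun K => Nat.card K) hne
  simp only [s, Finset.mem_filter, Finset.mem_univ, true_and] at hR hmax
  obtain ⟨hRn, hR7⟩ := hR
  haveI := hRn
  have hle : ∀ K : Subgroup H, K.Normal → ¬ 7 ∣ Nat.card K → K ≤ R := by
    intro K hK hK7
    haveI := hK
    have hd : Nat.card (K ⊔ R : Subgroup H) ∣ Nat.card K * Nat.card R := by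
      have e1 := Subgroup.card_mul_index (R.subgroupOf (K ⊔ R))
      rw [Nat.card_congr (Subgroup.subgroupOfEquivOfLe (le_sup_right : R ≤ K ⊔ R)).toEquiv] at e1
      change Nat.card R * R.relIndex (K ⊔ R) = _ at e1
      rw [relIndex_sup_right] at e1
      rw [← e1, mul_comm]
      exact mul_dvd_mul_right (index_dvd_card _) _
    have h7 : ¬ 7 ∣ Nat.card (K ⊔ R : Subgroup H) := fun h =>
      ((h7'.out.dvd_mul).mp (h.trans hd)).elim hK7 hR7
    have := hmax (K ⊔ R) ⟨inferInstance, h7⟩
    exact le_sup_left.trans (Subgroup.eq_of_le_of_card_ge (le_sup_right : R ≤ K ⊔ R) this).ge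
  refine ⟨R, hRn, ?_, hle⟩
  have hd : Nat.card R ∣ 2 ^ 8 * 27 := by
    have := card_subgroup_dvd_card R
    rw [hH, show (48384 : ℕ) = 7 * (2 ^ 8 * 27) by norm_num] at this
    exact ((h7'.out.coprime_iff_not_dvd).mpr hR7).symm.dvd_of_dvd_mul_left this
  have h3 : ¬ 3 ∣ Nat.card R := by
    intro h
    obtain ⟨X⟩ : Nonempty (Sylow 3 R) := inferInstance
    set X' : Subgroup H := (X : Subgroup R).map R.subtype with hX'
    have hXc : Nat.card X' = Nat.card (X : Subgroup R) :=
      card_map_of_injective R.subtype_injective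
    obtain ⟨k, hk⟩ := X.2.exists_card_eq
    have hk3 : k ≤ 3 := by
      have hX27 : 3 ^ k ∣ 2 ^ 8 * 27 := hk ▸ (card_subgroup_dvd_card _).trans hd
      have h27 : 3 ^ k ∣ 3 ^ 3 :=
        ((show Nat.Coprime 3 (2 ^ 8) by norm_num).pow_left k).dvd_of_dvd_mul_left hX27
      exact (Nat.pow_dvd_pow_iff_le_right (by norm_num)).mp h27
    have hk1 : 1 ≤ k := by
      have := X.dvd_card_of_dvd_card h
      rcases Nat.eq_zero_or_pos k with e | e
      · rw [hk, e] at this; norm_num at this
      · exact e
    have hsup := Sylow.normalizer_sup_eq_top X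
    have h7N : 7 ∣ Nat.card (normalizer (X' : Set H)) := by
      have hidx : R.index ∣ Nat.card (normalizer (X' : Set H)) := by
        rw [← relIndex_top_right R, ← hsup, relIndex_sup_right]
        exact relIndex_dvd_card _ _
      refine dvd_trans ?_ hidx
      have := R.card_mul_index
      rw [hH] at this
      exact ((h7'.out.dvd_mul).mp ⟨2 ^ 8 * 27, by rw [this]; norm_num⟩).resolve_left hR7
    obtain ⟨z, hz⟩ := exists_prime_orderOf_dvd_card' 7 h7N
    have hz' : orderOf (z : H) = 7 := by rw [Subgroup.orderOf_coe, hz]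
    have hm := card_mod_seven hs hz' X' z.2 (by
      rw [hXc, hk]
      intro h7
      have := (Nat.prime_dvd_prime_iff_eq h7'.out Nat.prime_three).mp (h7'.out.dvd_of_dvd_pow h7)
      norm_num at this)
    rw [hXc, hk] at hm
    interval_cases k <;> norm_num at hm
  have hd2 : Nat.card R ∣ 2 ^ 8 :=
    (((Nat.prime_three.coprime_iff_not_dvd).mpr h3).symm.pow_right 3).dvd_of_dvd_mul_right hd
  obtain ⟨a, ha, hRa⟩ := (Nat.dvd_prime_pow Nat.prime_two).mp hd2
  obtain ⟨y, hy⟩ := exists_prime_orderOf_dvd_card' (G := H) 7 (by rw [hH]; norm_num)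
  have hm := card_mod_seven hs hy R (by rw [normalizer_eq_top_iff.mpr hRn]; trivial) hR7
  rw [hRa] at hm ⊢
  interval_cases a <;> simp_all

/-- The image of a Sylow normalizer. -/
theorem map_normalizer_sylow {K : Type u} [Group K] (f : H →* K) (hf : Function.Surjective f)
    {p : ℕ} [Fact p.Prime] (P : Sylow p H) :
    (normalizer ((P : Subgroup H) : Set H)).map f =
      normalizer (((P : Subgroup H).map f : Subgroup K) : Set K) := by
  refine le_antisymm (le_normalizer_map _) fun b hb => ?_
  obtain ⟨g, rfl⟩ := hf b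
  set L : Subgroup H := ((P : Subgroup H).map f).comap f with hL
  have h1 : (P : Subgroup H) ≤ L := le_comap_map _ _
  have h2 : ((g • P : Sylow p H) : Subgroup H) ≤ L := by
    intro x hx
    obtain ⟨y, hy, rfl⟩ := Subgroup.mem_map.mp
      (show x ∈ (P : Subgroup H).map (MulAut.conj g).toMonoidHom from hx)
    have := (mem_normalizer_iff.mp hb (f y)).mp (mem_map_of_mem f hy)
    simpa [hL, map_mul, map_inv] using this
  obtain ⟨h, hh⟩ := MulAction.exists_smul_eq L ((g • P).subtype h2) (P.subtype h1)
  have hh' : ((h : H) * g) • P = P := by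
    rw [mul_smul]
    exact Sylow.subtype_injective (hP := conj_smul_le_of_le h2 h) (hQ := h1)
      ((Sylow.smul_subtype h2 h).symm.trans hh)
  obtain ⟨x, hx, hfx⟩ := Subgroup.mem_map.mp (show f (h : H) ∈ (P : Subgroup H).map f from h.2)
  refine ⟨x⁻¹ * ((h : H) * g), mul_mem (inv_mem (le_normalizer hx))
    (Sylow.smul_eq_iff_mem_normalizer.mp hh'), ?_⟩
  rw [map_mul, map_mul, map_inv, hfx, inv_mul_cancel_left]

/-- An element of order seven lifts through a normal subgroup of order prime to seven. -/
theorem exists_lift_seven (R : Subgroup H) [R.Normal] (hR : ¬ 7 ∣ Nat.card R) {z : H ⧸ R}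
    (hz : orderOf z = 7) : ∃ y : H, orderOf y = 7 ∧ zpowers (y : H ⧸ R) = zpowers z := by
  obtain ⟨g, rfl⟩ := QuotientGroup.mk_surjective z
  have hd : 7 ∣ orderOf g := hz ▸ orderOf_map_dvd (QuotientGroup.mk' R) g
  obtain ⟨c, hc⟩ := hd
  have hc0 : 0 < c := Nat.pos_of_ne_zero fun h => (orderOf_pos g).ne' (by rw [hc, h, mul_zero])
  have hy : orderOf (g ^ c) = 7 := by
    rw [orderOf_pow, hc, Nat.gcd_mul_left_left, Nat.mul_div_cancel _ hc0]
  refine ⟨g ^ c, hy, ?_⟩
  refine Subgroup.eq_of_le_of_card_ge ?_ ?_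
  · rw [zpowers_le]
    exact ⟨(c : ℤ), by simp⟩
  · rw [Nat.card_zpowers, Nat.card_zpowers, hz]
    have h1 : orderOf ((g ^ c : H) : H ⧸ R) ∣ 7 := hy ▸ orderOf_map_dvd (QuotientGroup.mk' R) _
    rcases (Nat.dvd_prime (by norm_num)).mp h1 with e | e
    · exfalso
      have hmem : g ^ c ∈ R := (QuotientGroup.eq_one_iff _).mp (orderOf_eq_one_iff.mp e)
      exact hR (hy ▸ Subgroup.orderOf_dvd_natCard R hmem)
    · exact e.ge

theorem SevenFree.quotient (hs : SevenFree H) (hH : Nat.card H = 48384) (R : Subgroup H)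
    [R.Normal] (hR : ¬ 7 ∣ Nat.card R) : SevenFree (H ⧸ R) := by
  haveI : Fact (Nat.Prime 7) := ⟨by norm_num⟩
  intro z hz
  obtain ⟨y, hy, hyz⟩ := exists_lift_seven R hR hz
  set f := QuotientGroup.mk' R with hf
  have hcard : ∀ A : Subgroup H, (Nat.card R).Coprime (Nat.card A) →
      Nat.card (A.map f) = Nat.card A := by
    intro A hA
    have hinf : R ⊓ A = ⊥ := (Subgroup.disjoint_of_coprime_natCard hA).eq_bot
    refine Nat.card_congr (Equiv.ofBijective (fun a : A => (⟨f a, mem_map_of_mem f a.2⟩ : A.map f))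
      ⟨fun a b h => ?_, fun b => ?_⟩).symm
    · apply Subtype.ext
      have h1 : f (a : H) = f (b : H) := congrArg Subtype.val h
      have h2 : (a : H)⁻¹ * b ∈ R ⊓ A := ⟨(QuotientGroup.eq).mp h1, A.mul_mem (A.inv_mem a.2) b.2⟩
      rw [hinf, mem_bot, inv_mul_eq_one] at h2
      exact h2
    · obtain ⟨_, a, ha, rfl⟩ := b
      exact ⟨⟨a, ha⟩, rfl⟩
  have hmap : (zpowers y).map f = zpowers z := by rw [MonoidHom.map_zpowers, ← hyz]; rfl
  refine ⟨?_, ?_⟩
  · have hco : (Nat.card (zpowers y)).Coprime (Nat.card (f.ker ⊓ ⊤ : Subgroup H)) := by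
      rw [inf_top_eq, hf, QuotientGroup.ker_mk', Nat.card_zpowers, hy]
      exact (Nat.Prime.coprime_iff_not_dvd (by norm_num)).mpr hR
    have e := Coprime.map_inf_centralizer (A := zpowers y) (K := (⊤ : Subgroup H)) f
      (by rw [normalizer_eq_top_iff.mpr inferInstance]; exact le_top) hco (Or.inl inferInstance)
    rw [hmap, top_inf_eq, map_top_of_surjective f (QuotientGroup.mk'_surjective R), top_inf_eq]
      at e
    have h1 : centralizer (zpowers y : Set H) = zpowers y := by
      rw [zpowers_eq_closure, centralizer_closure, cent_eq hs hy, zpowers_eq_closure]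
    rw [h1, hmap] at e
    rw [show centralizer ({z} : Set (H ⧸ R)) = centralizer (zpowers z : Set (H ⧸ R)) by
      rw [zpowers_eq_closure, centralizer_closure], ← e, Nat.card_zpowers, hz]
  · obtain ⟨P⟩ : Nonempty (Sylow 7 H) := inferInstance
    have hP : Nat.card (P : Subgroup H) = 7 := by
      rw [SmallGroups.card_sylow_eq P (k := 1) (m := 6912) (by rw [hH]; norm_num) (by norm_num),
        pow_one]
    obtain ⟨Q, hQ, -⟩ := SmallGroups.existsUnique_sylow_of_orderOf P hP hy
    have e := map_normalizer_sylow f (QuotientGroup.mk'_surjective R) Q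
    rw [hQ, hmap] at e
    have hco : (Nat.card R).Coprime (Nat.card (normalizer (zpowers y : Set H))) := by
      rw [(hs y hy).2, show (21 : ℕ) = 3 * 7 from rfl]
      refine Nat.Coprime.mul_right ?_ ((Nat.Prime.coprime_iff_not_dvd (by norm_num)).mpr hR).symm
      -- a subgroup of order three of `R` would be normalized by an element of order seven
      have hm := card_mod_seven hs hy R (by rw [normalizer_eq_top_iff.mpr inferInstance]; trivial) hR
      obtain ⟨R₀, hR₀, hmem, hle⟩ := exists_radical hs hH
      have h1 : Nat.card R ∣ Nat.card R₀ := card_dvd_of_le (hle R inferInstance hR)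
      simp only [Finset.mem_insert, Finset.mem_singleton] at hmem
      refine Nat.Coprime.coprime_dvd_left h1 ?_
      rcases hmem with e | e | e <;> rw [e] <;> norm_num
    rw [← e, hcard _ hco, (hs y hy).2]

/-- Without nontrivial normal subgroups of order prime to seven the group is simple. -/
theorem isSimple_of_sevenFree (hs : SevenFree H) (h7 : 7 ∣ Nat.card H) (h49 : ¬ 49 ∣ Nat.card H)
    (hbig : 21 < Nat.card H) (hrad : ∀ K : Subgroup H, K.Normal → ¬ 7 ∣ Nat.card K → K = ⊥) :
    IsSimpleGroup H := by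
  haveI h7' : Fact (Nat.Prime 7) := ⟨by norm_num⟩
  haveI : Nontrivial H := Finite.one_lt_card_iff_nontrivial.mp (by omega)
  refine ⟨fun K hK => ?_⟩
  by_cases hb : K = ⊥
  · exact Or.inl hb
  right
  haveI := hK
  have hK7 : 7 ∣ Nat.card K := by
    by_contra h
    exact hb (hrad K hK h)
  obtain ⟨y, hy⟩ := exists_prime_orderOf_dvd_card' 7 hK7
  have hy' : orderOf (y : H) = 7 := by rw [Subgroup.orderOf_coe, hy]
  obtain ⟨P⟩ : Nonempty (Sylow 7 K) := inferInstance
  have hP : Nat.card (P : Subgroup K) = 7 := by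
    obtain ⟨m, hm⟩ := hK7
    rw [SmallGroups.card_sylow_eq P (k := 1) (m := m) (by rw [hm, pow_one]) (fun h => h49 (by
      obtain ⟨c, rfl⟩ := h
      exact ⟨c * K.index, by rw [← K.card_mul_index, hm]; ring⟩)), pow_one]
  obtain ⟨Q, hQ, -⟩ := SmallGroups.existsUnique_sylow_of_orderOf P hP hy
  have hsup := Sylow.normalizer_sup_eq_top Q
  rw [hQ, MonoidHom.map_zpowers, Subgroup.coe_subtype] at hsup
  set N := normalizer (zpowers (y : H) : Set H) with hN
  have hN21 : Nat.card N = 21 := (hs _ hy').2
  have hidx : K.index = K.relIndex N := by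
    rw [← relIndex_top_right K, ← hsup, relIndex_sup_right]
  have hyN : zpowers (y : H) ≤ K ⊓ N := le_inf (zpowers_le.mpr y.2) le_normalizer
  have h7d : 7 ∣ Nat.card (K ⊓ N : Subgroup H) := by
    have := card_dvd_of_le hyN
    rwa [Nat.card_zpowers, hy'] at this
  have hd : Nat.card (K ⊓ N : Subgroup H) ∣ 21 := hN21 ▸ card_dvd_of_le inf_le_right
  have hprod : Nat.card (K ⊓ N : Subgroup H) * K.index = 21 := by
    rw [hidx, ← inf_relIndex_right, ← hN21,
      ← Nat.card_congr (subgroupOfEquivOfLe (inf_le_right : K ⊓ N ≤ N)).toEquiv]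
    exact card_mul_index _
  rw [← index_eq_one]
  obtain ⟨c, hc⟩ := h7d
  rw [hc] at hd hprod
  have hc3 : c ∣ 3 := (Nat.mul_dvd_mul_iff_left (by norm_num : 0 < 7)).mp hd
  rcases (Nat.dvd_prime Nat.prime_three).mp hc3 with rfl | rfl
  · exfalso
    -- the Sylow subgroup of `K` is self-normalizing: Burnside
    have hNK : normalizer ((Q : Subgroup K) : Set K) ≤ centralizer ((Q : Subgroup K) : Set K) := by
      intro g hg
      have hgN : (g : H) ∈ N := by
        rw [hQ, mem_normalizer_iff] at hg
        rw [hN, mem_normalizer_iff]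
        intro a
        constructor
        · intro ha
          obtain ⟨k, rfl⟩ := mem_zpowers_iff.mp ha
          obtain ⟨j, hj⟩ := mem_zpowers_iff.mp ((hg (y ^ k)).mp ⟨k, rfl⟩)
          exact ⟨j, by simpa using congrArg Subtype.val hj⟩
        · intro ha
          have haK : a ∈ K := by
            have h1 : (g : H) * a * (g : H)⁻¹ ∈ K := (zpowers_le.mpr y.2) ha
            simpa [mul_assoc] using K.mul_mem (K.mul_mem (K.inv_mem g.2) h1) g.2
          obtain ⟨k, hk⟩ := mem_zpowers_iff.mp ha
          obtain ⟨j, hj⟩ := mem_zpowers_iff.mp ((hg ⟨a, haK⟩).mpr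
            ⟨k, Subtype.ext (by simpa using hk)⟩)
          exact ⟨j, by simpa using congrArg Subtype.val hj⟩
      have he : K ⊓ N = zpowers (y : H) :=
        (Subgroup.eq_of_le_of_card_ge hyN (by rw [Nat.card_zpowers, hy', hc])).symm
      have hgz : (g : H) ∈ zpowers (y : H) := he ▸ ⟨g.2, hgN⟩
      rw [mem_centralizer_iff]
      intro a ha
      rw [hQ] at ha
      obtain ⟨k, rfl⟩ := mem_zpowers_iff.mp ha
      obtain ⟨j, hj⟩ := mem_zpowers_iff.mp hgz
      apply Subtype.ext
      push_cast
      rw [← hj, ← zpow_add, ← zpow_add, add_comm]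
    have hP' : Nat.card (Q : Subgroup K) = 7 := by rw [hQ, Nat.card_zpowers, hy]
    set T := (MonoidHom.transferSylow Q hNK).ker with hT
    have hcompl : T.IsComplement' (Q : Subgroup K) :=
      MonoidHom.ker_transferSylow_isComplement' Q hNK
    have hT7 : ¬ 7 ∣ Nat.card T := MonoidHom.not_dvd_card_ker_transferSylow Q hNK
    have hTmem : ∀ g : K, g ∈ T ↔ ¬ 7 ∣ orderOf g := by
      intro g
      constructor
      · exact fun hg h => hT7 (h.trans (Subgroup.orderOf_dvd_natCard T hg))
      · intro h
        rw [← QuotientGroup.eq_one_iff, ← orderOf_eq_one_iff]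
        have h1 : orderOf (g : K ⧸ T) ∣ 7 := by
          have := _root_.orderOf_dvd_natCard (g : K ⧸ T)
          rw [← index_eq_card, hcompl.symm.index_eq_card] at this
          exact this.trans (dvd_of_eq hP')
        rcases (Nat.dvd_prime h7'.out).mp h1 with e | e
        · exact e
        · exact absurd (e ▸ orderOf_map_dvd (QuotientGroup.mk' T) g) h
    haveI hTn : (T.map K.subtype).Normal := by
      constructor
      rintro _ ⟨g, hg, rfl⟩ a
      refine ⟨⟨a * g * a⁻¹, hK.conj_mem _ g.2 a⟩, ?_, rfl⟩
      rw [SetLike.mem_coe, hTmem] at hg ⊢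
      rwa [← Subgroup.orderOf_coe, Subgroup.coe_mk, ← MulAut.conj_apply, MulEquiv.orderOf_eq,
        Subgroup.orderOf_coe]
    have hTb : T = ⊥ := by
      have := hrad _ hTn (by rwa [card_map_of_injective K.subtype_injective])
      rwa [map_eq_bot_iff_of_injective _ K.subtype_injective] at this
    have hKc : Nat.card K = 7 := by
      rw [← hcompl.card_mul_card, hTb, card_bot, hP', one_mul]
    have hle21 : Nat.card H ≤ 21 := by
      rw [← K.card_mul_index, hKc]
      omega
    omega
  · omega

end Fpf

section Group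

variable {G : Type u} [Group G] [Finite G]

/-- Inside the centralizer of the involution, an element of order seven has centralizer 14 and
normalizer 42. -/
theorem cards_in_cent (F : M24Nse2.Facts G) {t y : G} (ht : orderOf t = 2) (hy : orderOf y = 7)
    (hyt : Commute y t) :
    Nat.card (centralizer ({y} : Set G) ⊓ centralizer ({t} : Set G) : Subgroup G) = 14 ∧
      Nat.card (normalizer (zpowers y : Set G) ⊓ centralizer ({t} : Set G) : Subgroup G) = 42 := by
  obtain ⟨hC, hN⟩ := cent_seven F hy
  obtain ⟨t0, c, ht0, hc, hyt0, hyc, hinv, hall⟩ := seven_struct F hy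
  set A := centralizer ({y} : Set G) with hA
  set B := centralizer ({t} : Set G) with hB
  have hle : zpowers (y * t) ≤ A ⊓ B := by
    rw [zpowers_le]
    exact ⟨mem_centralizer_singleton_iff.mpr (((Commute.refl y).mul_left hyt.symm)).eq,
      mem_centralizer_singleton_iff.mpr ((hyt.mul_left (Commute.refl t))).eq⟩
  have h14 : 14 ∣ Nat.card (A ⊓ B : Subgroup G) := by
    have := card_dvd_of_le hle
    rwa [Nat.card_zpowers, hyt.orderOf_mul_eq_mul_orderOf_of_coprime (by rw [hy, ht]; norm_num),
      hy, ht] at this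
  have hne : A ⊓ B ≠ A := by
    intro e
    have hcA : c ∈ A ⊓ B := e.symm ▸ mem_centralizer_singleton_iff.mpr hyc.eq.symm
    exact not_commute_two_three F (Or.inr rfl) hy ht hc hyt hyc
      (mem_centralizer_singleton_iff.mp hcA.2 : c * t = t * c).symm
  have h1 : Nat.card (A ⊓ B : Subgroup G) = 14 := by
    have hd : Nat.card (A ⊓ B : Subgroup G) ∣ 42 := hC ▸ card_dvd_of_le inf_le_left
    obtain ⟨k, hk⟩ := h14
    rw [hk] at hd
    rcases (Nat.dvd_prime Nat.prime_three).mp
      ((Nat.mul_dvd_mul_iff_left (by norm_num : 0 < 14)).mp hd) with rfl | rfl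
    · rw [hk]
    · exfalso
      exact hne (Subgroup.eq_of_le_of_card_ge inf_le_left (by rw [hC, hk]))
  refine ⟨h1, ?_⟩
  set N := normalizer (zpowers y : Set G) with hNdef
  have hAN : A ≤ N := by
    rw [hA, show centralizer ({y} : Set G) = centralizer (zpowers y : Set G) by
      rw [zpowers_eq_closure, centralizer_closure]]
    exact centralizer_le_normalizer _
  have hsup : A ⊔ (N ⊓ B) = N := by
    refine le_antisymm (sup_le hAN inf_le_left) fun n hn => ?_
    have hyn : Commute y (n * t * n⁻¹) := by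
      obtain ⟨j, hj⟩ := mem_zpowers_iff.mp ((mem_normalizer_iff''.mp hn y).mp (mem_zpowers y))
      have h2 : Commute (n⁻¹ * y * n) t := hj ▸ hyt.zpow_left j
      calc y * (n * t * n⁻¹) = n * ((n⁻¹ * y * n) * t) * n⁻¹ := by group
        _ = n * (t * (n⁻¹ * y * n)) * n⁻¹ := by rw [h2.eq]
        _ = n * t * n⁻¹ * y := by group
    obtain ⟨i, hi⟩ := hall _ (by rw [← MulAut.conj_apply, MulEquiv.orderOf_eq, ht]) hyn
    obtain ⟨j, hj⟩ := hall t ht hyt
    set e := c ^ i * (c ^ j)⁻¹ with he
    have heA : e ∈ A := by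
      have hcA : c ∈ A := mem_centralizer_singleton_iff.mpr hyc.eq.symm
      exact mul_mem (pow_mem hcA i) (inv_mem (pow_mem hcA j))
    have hm : e⁻¹ * n ∈ N ⊓ B := by
      refine ⟨N.mul_mem (N.inv_mem (hAN heA)) hn, mem_centralizer_singleton_iff.mpr ?_⟩
      calc e⁻¹ * n * t = e⁻¹ * (n * t * n⁻¹) * n := by group
        _ = e⁻¹ * (c ^ i * t0 * (c ^ i)⁻¹) * n := by rw [hi]
        _ = c ^ j * t0 * (c ^ j)⁻¹ * e⁻¹ * n := by rw [he]; group
        _ = t * (e⁻¹ * n) := by rw [← hj, mul_assoc]
    have := mul_mem_sup (S := A) (T := N ⊓ B) heA hm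
    rwa [mul_inv_cancel_left] at this
  haveI : (A.subgroupOf N).Normal := by
    rw [hA, show centralizer ({y} : Set G) = centralizer (zpowers y : Set G) by
      rw [zpowers_eq_closure, centralizer_closure]]
    infer_instance
  have hrel : A.relIndex N = A.relIndex (N ⊓ B) := by
    have htop : A.subgroupOf N ⊔ (N ⊓ B).subgroupOf N = ⊤ := by
      rw [← subgroupOf_sup hAN inf_le_left, hsup, subgroupOf_self]
    rw [← relIndex_subgroupOf (inf_le_left : N ⊓ B ≤ N)]
    calc A.relIndex N = (A.subgroupOf N).relIndex ⊤ := (relIndex_top_right _).symm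
      _ = (A.subgroupOf N).relIndex ((N ⊓ B).subgroupOf N) := by rw [← htop, relIndex_sup_left]
  have hprod : ∀ U V : Subgroup G, U ≤ V → Nat.card U * U.relIndex V = Nat.card V := by
    intro U V h
    rw [← Nat.card_congr (subgroupOfEquivOfLe h).toEquiv]
    exact card_mul_index _
  have e1 : A.relIndex N = 3 := by
    have := hprod A N hAN
    rw [hC, hN] at this
    omega
  have e2 := hprod (A ⊓ (N ⊓ B)) (N ⊓ B) inf_le_right
  rw [inf_relIndex_right, ← hrel, e1, show A ⊓ (N ⊓ B) = A ⊓ B by
    rw [← inf_assoc, inf_eq_left.mpr hAN], h1] at e2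
  exact e2.symm

/-- The largest normal subgroup is not of order eight. -/
theorem not_radical_eight {H : Type u} [Group H] [Finite H] (hs : SevenFree H)
    (hH : Nat.card H = 48384) (R : Subgroup H) [R.Normal] (hR : Nat.card R = 8)
    (hle : ∀ K : Subgroup H, K.Normal → ¬ 7 ∣ Nat.card K → K ≤ R) : False := by
  classical
  haveI : Fact (Nat.Prime 7) := ⟨by norm_num⟩
  haveI := Fintype.ofFinite R
  let f : H →* MulAut R := MulAut.conjNormal
  have hK7 : ¬ 7 ∣ Nat.card f.ker := by
    intro h
    obtain ⟨y, hy⟩ := exists_prime_orderOf_dvd_card' 7 h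
    have hy' : orderOf (y : H) = 7 := by rw [Subgroup.orderOf_coe, hy]
    obtain ⟨r, hr⟩ : ∃ r : R, r ≠ 1 := by
      haveI : Nontrivial R := Finite.one_lt_card_iff_nontrivial.mp (by rw [hR]; norm_num)
      exact exists_ne 1
    have hfix : f (y : H) r = r := by rw [MonoidHom.mem_ker.mp y.2]; rfl
    have h1 : (y : H) * (r : H) * (y : H)⁻¹ = r :=
      (MulAut.conjNormal_apply (y : H) r).symm.trans (congrArg Subtype.val hfix)
    have hmem : (r : H) ∈ centralizer ({(y : H)} : Set H) :=
      mem_centralizer_singleton_iff.mpr (mul_inv_eq_iff_eq_mul.mp h1).symm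
    rw [cent_eq hs hy'] at hmem
    have hd : orderOf r ∣ 7 := by
      have := Subgroup.orderOf_dvd_natCard _ hmem
      rwa [Nat.card_zpowers, hy', Subgroup.orderOf_coe] at this
    have hd8 : orderOf r ∣ 8 := hR ▸ _root_.orderOf_dvd_natCard r
    exact hr (orderOf_eq_one_iff.mp (Nat.eq_one_of_dvd_coprimes (by norm_num) hd hd8))
  have hker : Nat.card f.ker ≤ 8 :=
    hR ▸ card_le_of_le (hle f.ker inferInstance hK7)
  have haut : Nat.card (MulAut R) ≤ 5040 := by
    let g : MulAut R → Equiv.Perm {r : R // r ≠ 1} := fun φ =>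
      φ.toEquiv.subtypeEquiv fun r => (EmbeddingLike.map_ne_one_iff (f := φ) (x := r)).symm
    have hg : Function.Injective g := by
      intro φ ψ h
      ext r
      by_cases hr : r = 1
      · simp [hr]
      · have := congrArg (fun e : Equiv.Perm {r : R // r ≠ 1} => ((e ⟨r, hr⟩ : _) : R)) h
        exact congrArg Subtype.val this
    refine (Nat.card_le_card_of_injective g hg).trans ?_
    rw [Nat.card_eq_fintype_card, Fintype.card_perm]
    have : Fintype.card {r : R // r ≠ 1} = 7 := by
      rw [Fintype.card_subtype_compl, Fintype.card_subtype_eq, ← Nat.card_eq_fintype_card, hR]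
    rw [this]
    rfl
  have e := f.ker.card_mul_index
  rw [index_ker, hH] at e
  have hrange : Nat.card f.range ≤ 5040 := (card_le_card_group _).trans haut
  have := Nat.mul_le_mul hker hrange
  omega

/-- An involution centralizing a Sylow three-subgroup of its own centralizer. -/
theorem exists_commuting (F : M24Nse2.Facts G) {t : G} (ht : orderOf t = 2) (P : Subgroup G)
    (hP : Nat.card P = 27) (htP : ∀ x ∈ P, Commute t x) :
    ∃ v : G, orderOf v = 2 ∧ v ≠ t ∧ Commute v t ∧ ∀ x ∈ P, Commute v x := by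
  classical
  haveI h2' : Fact (Nat.Prime 2) := ⟨Nat.prime_two⟩
  haveI h3' : Fact (Nat.Prime 3) := ⟨Nat.prime_three⟩
  have hPp : IsPGroup 3 P := IsPGroup.of_card (n := 3) (by rw [hP]; norm_num)
  -- a second fixed involution
  obtain ⟨w, hw, hwt, hwP⟩ : ∃ w : G, orderOf w = 2 ∧ w ≠ t ∧ ∀ x ∈ P, Commute w x := by
    letI : MulAction P {g : G // orderOf g = 2} :=
      { smul := fun x g => ⟨MulAut.conj (x : G) g.1, by rw [MulEquiv.orderOf_eq]; exact g.2⟩
        one_smul := fun g => Subtype.ext (show MulAut.conj ((1 : P) : G) g.1 = g.1 by simp)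
        mul_smul := fun x z g => Subtype.ext (show MulAut.conj ((x * z : P) : G) g.1 =
          MulAut.conj (x : G) (MulAut.conj (z : G) g.1) by simp [mul_assoc]) }
    have hm := hPp.card_modEq_card_fixedPoints {g : G // orderOf g = 2}
    rw [F.c2] at hm
    haveI := Fintype.ofFinite (MulAction.fixedPoints P {g : G // orderOf g = 2})
    have htf : (⟨t, ht⟩ : {g : G // orderOf g = 2}) ∈
        MulAction.fixedPoints P {g : G // orderOf g = 2} := fun x => Subtype.ext (by
      show (x : G) * t * (x : G)⁻¹ = t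
      rw [← (htP x x.2).eq, mul_inv_cancel_right])
    have hgt : 1 < Fintype.card (MulAction.fixedPoints P {g : G // orderOf g = 2}) := by
      have hpos : 0 < Fintype.card (MulAction.fixedPoints P {g : G // orderOf g = 2}) :=
        Fintype.card_pos_iff.mpr ⟨⟨_, htf⟩⟩
      rw [Nat.card_eq_fintype_card] at hm
      by_contra hle
      rw [show Fintype.card (MulAction.fixedPoints P {g : G // orderOf g = 2}) = 1 by omega] at hm
      exact absurd hm (by decide)
    obtain ⟨⟨⟨w, hw⟩, hwf⟩, hne⟩ := Fintype.exists_ne_of_one_lt_card hgt ⟨_, htf⟩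
    refine ⟨w, hw, fun e => hne (Subtype.ext (Subtype.ext e)), fun x hx => ?_⟩
    have h1 : x * w * x⁻¹ = w := congrArg Subtype.val (hwf ⟨x, hx⟩)
    exact (mul_inv_eq_iff_eq_mul.mp h1).symm
  set D := centralizer (P : Set G) with hD
  have hmemD : ∀ {g : G}, (∀ x ∈ P, Commute g x) → g ∈ D := fun h =>
    mem_centralizer_iff.mpr fun x hx => (h x hx).eq.symm
  -- elements of three-power order of `D` lie in the centre of `P`
  obtain ⟨P₀⟩ : Nonempty (Sylow 3 G) := inferInstance
  have hP₀ : Nat.card (P₀ : Subgroup G) = 27 := by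
    rw [SmallGroups.card_sylow_eq P₀ (k := 3) (m := 9067520) (by rw [F.card]; norm_num) (by norm_num)]
    norm_num
  have hthree : ∀ g ∈ D, ∀ k : ℕ, orderOf g = 3 ^ k → g ∈ P := by
    intro g hg k hk
    have hnorm : zpowers g ≤ normalizer (P : Set G) :=
      (zpowers_le.mpr hg).trans (centralizer_le_normalizer _)
    have hsup : IsPGroup 3 (zpowers g ⊔ P : Subgroup G) :=
      IsPGroup.to_sup_of_normal_right' (IsPGroup.of_card (n := k) (by rw [Nat.card_zpowers, hk]))
        hPp hnorm
    obtain ⟨Q, hQ⟩ := hsup.exists_le_sylow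
    have hQc : Nat.card (Q : Subgroup G) = 27 := by
      rw [Sylow.card_eq_multiplicity, ← Sylow.card_eq_multiplicity P₀, hP₀]
    have e : P = (Q : Subgroup G) :=
      Subgroup.eq_of_le_of_card_ge (le_sup_right.trans hQ) (by rw [hQc, hP])
    rw [e]
    exact hQ (le_sup_left (b := P) (mem_zpowers g))
  set Z : Subgroup G := P ⊓ D with hZ
  have hZD : Z ≤ D := inf_le_right
  have hZcomm : ∀ z ∈ Z, ∀ g ∈ D, Commute z g := fun z hz g hg =>
    mem_centralizer_iff.mp hg z hz.1
  -- the prime divisors of the order of `D`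
  have hprime : ∀ p : ℕ, p.Prime → p ∣ Nat.card D → p = 2 ∨ p = 3 := by
    intro p hp hpd
    haveI := Fact.mk hp
    obtain ⟨g, hg⟩ := exists_prime_orderOf_dvd_card' p hpd
    have hg' : orderOf (g : G) = p := by rw [Subgroup.orderOf_coe, hg]
    have hPC : P ≤ centralizer ({(g : G)} : Set G) := fun x hx =>
      mem_centralizer_singleton_iff.mpr (mem_centralizer_iff.mp g.2 x hx)
    have hlist := F.ord_mem (g : G)
    rw [hg'] at hlist
    simp only [Finset.mem_insert, Finset.mem_singleton] at hlist
    rcases hlist with e | e | e | e | e | e | e | e | e | e | e | e | e | e | e <;> subst e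
    all_goals first
      | exact Or.inl rfl
      | exact Or.inr rfl
      | (exfalso; revert hp; norm_num; done)
      | skip
    · have := card_dvd_of_le hPC
      rw [hP, (cent_five F hg').1] at this; norm_num at this
    · have := card_dvd_of_le hPC
      rw [hP, (cent_seven F hg').1] at this; norm_num at this
    all_goals
      obtain ⟨x, hx⟩ := exists_prime_orderOf_dvd_card' 3 (show 3 ∣ Nat.card P by rw [hP]; norm_num)
      have hx' : orderOf (x : G) = 3 := by rw [Subgroup.orderOf_coe, hx]
      have hc : Commute (x : G) (g : G) := mem_centralizer_iff.mp g.2 x x.2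
      have := F.ord_mem ((x : G) * (g : G))
      rw [hc.orderOf_mul_eq_mul_orderOf_of_coprime (by rw [hx', hg']; norm_num), hx', hg'] at this
      exfalso
      revert this
      decide
  obtain ⟨S⟩ : Nonempty (Sylow 2 D) := inferInstance
  obtain ⟨T⟩ : Nonempty (Sylow 3 D) := inferInstance
  have hSn : (S : Subgroup D).Normal := by
    rw [← normalizer_eq_top_iff, ← index_eq_one, Nat.eq_one_iff_not_exists_prime_dvd]
    intro p hp hpd
    haveI := Fact.mk hp
    rcases hprime p hp (hpd.trans (index_dvd_card _)) with rfl | rfl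
    · exact S.not_dvd_index (hpd.trans (index_dvd_of_le le_normalizer))
    · refine T.not_dvd_index (hpd.trans (index_dvd_of_le ?_))
      refine le_trans (fun a ha => ?_) (centralizer_le_normalizer _)
      obtain ⟨k, hk⟩ := IsPGroup.iff_orderOf.mp T.2 ⟨a, ha⟩
      rw [Subgroup.orderOf_mk] at hk
      have haZ : (a : G) ∈ Z := ⟨hthree a a.2 k (by rw [Subgroup.orderOf_coe, hk]), a.2⟩
      exact mem_centralizer_iff.mpr fun b _ => Subtype.ext (hZcomm _ haZ b b.2).eq.symm
  haveI := hSn
  have hinS : ∀ g : G, (∀ x ∈ P, Commute g x) → orderOf g = 2 →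
      ∃ h : g ∈ D, (⟨g, h⟩ : D) ∈ (S : Subgroup D) := by
    intro g hg hgo
    refine ⟨hmemD hg, ?_⟩
    have hp : IsPGroup 2 (zpowers (⟨g, hmemD hg⟩ : D)) :=
      IsPGroup.of_card (n := 1) (by rw [Nat.card_zpowers, Subgroup.orderOf_mk, hgo, pow_one])
    obtain ⟨R, hR⟩ := hp.exists_le_sylow
    obtain ⟨d, hd⟩ := MulAction.exists_smul_eq D S R
    rw [← hd, Sylow.smul_eq_of_normal] at hR
    exact hR (mem_zpowers _)
  obtain ⟨htD, htS⟩ := hinS t htP ht
  obtain ⟨hwD, hwS⟩ := hinS w hwP hw
  have htS1 : (⟨⟨t, htD⟩, htS⟩ : (S : Subgroup D)) ≠ 1 := fun e => by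
    have : t = 1 := congrArg (fun q : (S : Subgroup D) => ((q : D) : G)) e
    rw [this, orderOf_one] at ht; norm_num at ht
  haveI : Nontrivial (S : Subgroup D) := nontrivial_of_ne _ _ htS1
  haveI := S.2.center_nontrivial
  obtain ⟨z, hz⟩ := exists_prime_orderOf_dvd_card' 2 (G := Subgroup.center (S : Subgroup D)) (by
    obtain ⟨k, hk⟩ := (S.2.to_subgroup _ : IsPGroup 2 (Subgroup.center (S : Subgroup D))).exists_card_eq
    rw [hk]
    refine dvd_pow_self 2 fun e => ?_
    rw [e, pow_zero] at hk
    exact (Finite.one_lt_card_iff_nontrivial.mpr inferInstance).ne' hk)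
  set z' : G := (((z : (S : Subgroup D)) : D) : G) with hz'
  have hzo : orderOf z' = 2 := by
    rw [hz', Subgroup.orderOf_coe, Subgroup.orderOf_coe, Subgroup.orderOf_coe, hz]
  have hzcomm : ∀ q : (S : Subgroup D), Commute z' ((q : D) : G) := fun q => by
    have := congrArg (fun q : (S : Subgroup D) => ((q : D) : G)) (mem_center_iff.mp z.2 q)
    exact this.symm
  by_cases hzt : z' = t
  · exact ⟨w, hw, hwt, (hzt ▸ hzcomm ⟨⟨w, hwD⟩, hwS⟩).symm, hwP⟩
  · exact ⟨z', hzo, hzt, hzcomm ⟨⟨t, htD⟩, htS⟩, fun x hx =>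
      (mem_centralizer_iff.mp ((z : (S : Subgroup D)) : D).2 x hx).symm⟩

/-- No involution centralizer of order 96768, given that the two candidate simple quotients do
not exist. -/
theorem false_of_ten_of (F : M24Nse2.Facts G) {t : G} (ht : orderOf t = 2)
    (hC : Nat.card (centralizer ({t} : Set G)) = 96768)
    (hbig : ∀ (L : Type u) [Group L] [Finite L] [IsSimpleGroup L], Nat.card L = 48384 →
      SevenFree L → (∃ v : L, orderOf v = 2 ∧ ∃ P : Sylow 3 L, ∀ x ∈ P, Commute v x) → False)
    (hsmall : ∀ (L : Type u) [Group L] [Finite L] [IsSimpleGroup L], Nat.card L = 756 →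
      SevenFree L → False) : False := by
  classical
  haveI h2' : Fact (Nat.Prime 2) := ⟨Nat.prime_two⟩
  haveI h3' : Fact (Nat.Prime 3) := ⟨Nat.prime_three⟩
  haveI h7' : Fact (Nat.Prime 7) := ⟨by norm_num⟩
  set C := centralizer ({t} : Set G) with hCdef
  set t' : C := ⟨t, mem_centralizer_singleton_iff.mpr rfl⟩ with ht'
  have hcen : ∀ a : C, Commute a t' := fun a => Subtype.ext (mem_centralizer_singleton_iff.mp a.2)
  set T : Subgroup C := zpowers t' with hTdef
  have hto : orderOf t' = 2 := by rw [← Subgroup.orderOf_coe]; exact ht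
  have hT : Nat.card T = 2 := by rw [hTdef, Nat.card_zpowers, hto]
  haveI hTn : T.Normal := ⟨fun a ha g => by
    obtain ⟨k, rfl⟩ := mem_zpowers_iff.mp ha
    rw [((hcen g).zpow_right k).eq, mul_inv_cancel_right]
    exact zpow_mem (mem_zpowers _) k⟩
  set π := QuotientGroup.mk' T with hπ
  have hH : Nat.card (C ⧸ T) = 48384 := by
    have := T.card_mul_index
    rw [hT, hC, index_eq_card] at this
    omega
  have hmapcard : ∀ A : Subgroup C, T ≤ A → Nat.card (A.map π) * 2 = Nat.card A := by
    intro A hA
    have e1 : (A.map π).index = A.index :=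
      index_map_eq _ (QuotientGroup.mk'_surjective T) (by rwa [hπ, QuotientGroup.ker_mk'])
    have e2 := (A.map π).card_mul_index
    have e3 := A.card_mul_index
    rw [e1, hH] at e2
    rw [hC] at e3
    have hi : 0 < A.index := Nat.pos_of_ne_zero Subgroup.index_ne_zero_of_finite
    refine Nat.eq_of_mul_eq_mul_right hi ?_
    rw [e3, mul_right_comm, e2]; norm_num
  have hs : SevenFree (C ⧸ T) := by
    intro z hz
    obtain ⟨y, hy, hyz⟩ := exists_lift_seven T (by rw [hT]; norm_num) hz
    have hy' : orderOf (y : G) = 7 := by rw [Subgroup.orderOf_coe, hy]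
    have hyt : Commute (y : G) t := mem_centralizer_singleton_iff.mp y.2
    obtain ⟨h14, h42⟩ := cards_in_cent F ht hy' hyt
    have hmap : (zpowers y).map π = zpowers z := by rw [MonoidHom.map_zpowers, ← hyz]; rfl
    refine ⟨?_, ?_⟩
    · have hco : (Nat.card (zpowers y)).Coprime (Nat.card (π.ker ⊓ ⊤ : Subgroup C)) := by
        rw [inf_top_eq, hπ, QuotientGroup.ker_mk', Nat.card_zpowers, hy, hT]; norm_num
      have e := Coprime.map_inf_centralizer (A := zpowers y) (K := (⊤ : Subgroup C)) π
        (by rw [normalizer_eq_top_iff.mpr inferInstance]; exact le_top) hco (Or.inl inferInstance)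
      rw [hmap, top_inf_eq, map_top_of_surjective π (QuotientGroup.mk'_surjective T), top_inf_eq]
        at e
      have hc : Nat.card (centralizer (zpowers y : Set C)) = 14 := by
        rw [← h14, zpowers_eq_closure, centralizer_closure]
        refine Nat.card_congr
          ⟨fun a => ⟨(a.1 : G), mem_centralizer_singleton_iff.mpr
              (congrArg Subtype.val (mem_centralizer_singleton_iff.mp a.2)), a.1.2⟩,
            fun a => ⟨⟨a.1, a.2.2⟩, mem_centralizer_singleton_iff.mpr
              (Subtype.ext (mem_centralizer_singleton_iff.mp a.2.1))⟩,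
            fun a => rfl, fun a => rfl⟩
      have h := hmapcard (centralizer (zpowers y : Set C)) (by
        rw [zpowers_eq_closure (g := y), centralizer_closure, zpowers_le]
        exact mem_centralizer_singleton_iff.mpr (hcen y).eq.symm)
      rw [e, hc] at h
      rw [show centralizer ({z} : Set (C ⧸ T)) = centralizer (zpowers z : Set (C ⧸ T)) by
        rw [zpowers_eq_closure, centralizer_closure]]
      omega
    · obtain ⟨P⟩ : Nonempty (Sylow 7 C) := inferInstance
      have hP : Nat.card (P : Subgroup C) = 7 := by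
        rw [SmallGroups.card_sylow_eq P (k := 1) (m := 13824) (by rw [hC]; norm_num) (by norm_num),
          pow_one]
      obtain ⟨Q, hQ, -⟩ := SmallGroups.existsUnique_sylow_of_orderOf P hP hy
      have e := map_normalizer_sylow π (QuotientGroup.mk'_surjective T) Q
      rw [hQ, hmap] at e
      have hsub : zpowers y = (zpowers (y : G)).subgroupOf C := by
        apply Subgroup.map_injective C.subtype_injective
        rw [MonoidHom.map_zpowers, subgroupOf_map_subtype, inf_of_le_left (zpowers_le.mpr y.2)]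
        rfl
      have hn : Nat.card (normalizer (zpowers y : Set C)) = 42 := by
        rw [hsub, ← subgroupOf_normalizer_eq (zpowers_le.mpr y.2), ← inf_subgroupOf_right,
          Nat.card_congr (subgroupOfEquivOfLe inf_le_right).toEquiv, h42]
      have h := hmapcard (normalizer (zpowers y : Set C)) (by
        rw [zpowers_le]
        exact centralizer_le_normalizer _ (mem_centralizer_iff.mpr fun a ha => by
          obtain ⟨k, rfl⟩ := mem_zpowers_iff.mp ha
          exact ((hcen y).zpow_left k).eq))
      rw [e, hn] at h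
      omega
  obtain ⟨R, hRn, hRmem, hRle⟩ := exists_radical hs hH
  haveI := hRn
  simp only [Finset.mem_insert, Finset.mem_singleton] at hRmem
  rcases hRmem with hR | hR | hR
  · -- the quotient itself is simple
    have hrad : ∀ K : Subgroup (C ⧸ T), K.Normal → ¬ 7 ∣ Nat.card K → K = ⊥ := fun K hK h => by
      rw [← le_bot_iff, ← Subgroup.card_eq_one.mp hR]
      exact hRle K hK h
    haveI := isSimple_of_sevenFree hs (by rw [hH]; norm_num) (by rw [hH]; norm_num)
      (by rw [hH]; norm_num) hrad
    obtain ⟨P⟩ : Nonempty (Sylow 3 C) := inferInstance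
    have hP : Nat.card (P : Subgroup C) = 27 := by
      rw [SmallGroups.card_sylow_eq P (k := 3) (m := 3584) (by rw [hC]; norm_num) (by norm_num)]
      norm_num
    obtain ⟨v, hv, hvt, hvtc, hvP⟩ := exists_commuting F ht ((P : Subgroup C).map C.subtype)
      (by rw [card_map_of_injective C.subtype_injective, hP]) (by
        rintro _ ⟨x, -, rfl⟩
        exact (mem_centralizer_singleton_iff.mp x.2).symm)
    set v' : C := ⟨v, mem_centralizer_singleton_iff.mpr hvtc.eq⟩ with hv'
    refine hbig (C ⧸ T) hH hs ⟨π v', ?_, P.mapSurjective (QuotientGroup.mk'_surjective T), ?_⟩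
    · refine orderOf_eq_prime ?_ ?_
      · rw [← map_pow, show v' ^ 2 = 1 from Subtype.ext (by
          rw [Subgroup.coe_pow, OneMemClass.coe_one, ← hv]; exact pow_orderOf_eq_one v), map_one]
      · intro e
        obtain ⟨k, hk⟩ := (mem_powers_iff_mem_zpowers).mpr
          ((QuotientGroup.eq_one_iff v').mp e : v' ∈ zpowers t')
        change t' ^ k = v' at hk
        have hk' : t ^ k = v := congrArg Subtype.val hk
        rw [pow_eq_pow_mod k (ht ▸ pow_orderOf_eq_one t : t ^ 2 = 1)] at hk'
        rcases Nat.mod_two_eq_zero_or_one k with e2 | e2 <;> rw [e2] at hk'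
        · rw [pow_zero] at hk'; rw [← hk', orderOf_one] at hv; norm_num at hv
        · exact hvt (by rw [← hk', pow_one])
    · intro x hx
      obtain ⟨a, ha, rfl⟩ := hx
      exact Commute.map (show Commute v' a from
        Subtype.ext (hvP _ (mem_map_of_mem C.subtype ha)).eq) π
  · exact not_radical_eight hs hH R hR hRle
  · -- order 756
    have hq : Nat.card ((C ⧸ T) ⧸ R) = 756 := by
      have := R.card_mul_index
      rw [hR, hH, index_eq_card] at this
      omega
    have hR7 : ¬ 7 ∣ Nat.card R := by rw [hR]; norm_num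
    haveI := isSimple_of_sevenFree (hs.quotient hH R hR7) (by rw [hq]; norm_num)
      (by rw [hq]; norm_num) (by rw [hq]; norm_num) (fun K hK h => by
        haveI := hK
        set K' := K.comap (QuotientGroup.mk' R)
        have hK' : Nat.card K' = Nat.card R * Nat.card K := by
          have e1 : K'.index = K.index :=
            index_comap_of_surjective K (QuotientGroup.mk'_surjective R)
          have e2 := K'.card_mul_index
          have e3 := K.card_mul_index
          rw [e1, hH] at e2
          rw [hq] at e3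
          have hi : 0 < K.index := Nat.pos_of_ne_zero Subgroup.index_ne_zero_of_finite
          refine Nat.eq_of_mul_eq_mul_right hi ?_
          rw [e2, mul_assoc, e3, hR]; norm_num
        have hle := hRle K' inferInstance (by
          rw [hK']
          exact fun h' => ((h7'.out.dvd_mul).mp h').elim hR7 h)
        rw [← map_comap_eq_self_of_surjective (QuotientGroup.mk'_surjective R) K, eq_bot_iff]
        rintro _ ⟨a, ha, rfl⟩
        exact mem_bot.mpr ((QuotientGroup.eq_one_iff a).mpr (hle ha)))
    exact hsmall _ hq (hs.quotient hH R hR7)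

/-- No involution has a centralizer of order 96768. -/
theorem false_of_ten (F : M24Nse2.Facts G) {t : G} (ht : orderOf t = 2)
    (hC : Nat.card (centralizer ({t} : Set G)) = 96768) : False := by
  refine false_of_ten_of F ht hC (fun L _ _ _ hcard hs hv => ?_) (fun L _ _ _ hcard _ => ?_)
  · haveI : Fact (Nat.Prime 7) := ⟨by norm_num⟩
    obtain ⟨y, hy⟩ := exists_prime_orderOf_dvd_card' (G := L) 7 (by rw [hcard]; norm_num)
    exact false_of_seven 8 3 (by rw [hcard]; norm_num) (by simp) y hy (hs y hy).1 (hs y hy).2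
      (fun _ => hv)
  · exact SmallGroups.Below1092.card_ne_756
      (SmallGroups.not_isMulCommutative_of_not_prime (by rw [hcard]; norm_num)) hcard

end Group

end Ten

end Cfsg.Agent.Lib.M24Nse65
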