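import Cfsg.Agent.Lib.M24Nse65.Facts
import Cfsg.Agent.Lib.M23Nse.Hist
import Cfsg.Agent.Lib.SmallGroups.PrimeSylow

/-!
Elements of order five and seven: centralizers `5 × A₄` and `7 × S₃`, normalizers of orders
240 and 126, and conjugacy.
-/

set_option autoImplicit false
set_option linter.unusedSectionVars false
set_option linter.style.haveILetI false

namespace Cfsg.Agent.Lib.M24Nse65

open Subgroup
open M22Nse57.Hist (cnt cnt_eq_card cnt_one card_orderOf_mem exists_orderOf_of_cnt_pos)

universe u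

variable {G : Type u} [Group G] [Finite G]

namespace SevenFive

theorem prime_of_mem {p : ℕ} (hp : p = 5 ∨ p = 7) : p.Prime := by
  rcases hp with rfl | rfl <;> norm_num

theorem exists_sylow_prime (F : M24Nse2.Facts G) {p : ℕ} [Fact p.Prime] (hp : p = 5 ∨ p = 7) :
    ∃ P : Sylow p G, Nat.card (P : Subgroup G) = p := by
  obtain ⟨P⟩ : Nonempty (Sylow p G) := inferInstance
  refine ⟨P, ?_⟩
  rw [SmallGroups.card_sylow_eq P (k := 1) (m := 244823040 / p)
    (by rw [F.card]; rcases hp with rfl | rfl <;> norm_num)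
    (by rcases hp with rfl | rfl <;> norm_num), pow_one]

theorem card_norm_prime (F : M24Nse2.Facts G) {p : ℕ} (hp : p = 5 ∨ p = 7) {x : G}
    (hx : orderOf x = p) :
    Nat.card (normalizer (zpowers x : Set G)) = if p = 5 then 240 else 126 := by
  haveI := Fact.mk (prime_of_mem hp)
  obtain ⟨P, hP⟩ := exists_sylow_prime F hp
  obtain ⟨R, hR, -⟩ := SmallGroups.existsUnique_sylow_of_orderOf P hP hx
  have hn := SmallGroups.card_orderOf_eq_prime P hP
  have hm := SmallGroups.card_normalizer_sylow_mul R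
  rw [hR, F.card] at hm
  rcases hp with rfl | rfl
  · rw [F.c5] at hn
    rw [if_pos rfl]
    have h : Nat.card (Sylow 5 G) = 1020096 := by omega
    rw [h] at hm; omega
  · rw [F.c7] at hn
    rw [if_neg (by norm_num)]
    have h : Nat.card (Sylow 7 G) = 1943040 := by omega
    rw [h] at hm; omega

/-- The order of an element commuting with an element of order five or seven. -/
theorem orderOf_dvd_of_commute (F : M24Nse2.Facts G) {p : ℕ} (hp : p = 5 ∨ p = 7) {x g : G}
    (hx : orderOf x = p) (hg : Commute x g) :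
    orderOf g ∣ 6 * p ∧ orderOf g ≠ 4 ∧ orderOf g ≠ 6 ∧ orderOf g ≠ 6 * p := by
  have h1 := F.ord_mem g
  by_cases hd : p ∣ orderOf g
  · rcases hp with rfl | rfl
    · revert hd h1
      generalize orderOf g = o
      intro h1
      simp only [Finset.mem_insert, Finset.mem_singleton] at h1
      rcases h1 with h | h | h | h | h | h | h | h | h | h | h | h | h | h | h <;> subst h <;>
        decide
    · revert hd h1
      generalize orderOf g = o
      intro h1
      simp only [Finset.mem_insert, Finset.mem_singleton] at h1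
      rcases h1 with h | h | h | h | h | h | h | h | h | h | h | h | h | h | h <;> subst h <;>
        decide
  · have h2 := F.ord_mem (x * g)
    rw [hg.orderOf_mul_eq_mul_orderOf_of_coprime
      (by rw [hx]; exact (prime_of_mem hp).coprime_iff_not_dvd.mpr hd), hx] at h2
    revert h1 h2 hd
    generalize orderOf g = o
    intro h1
    simp only [Finset.mem_insert, Finset.mem_singleton] at h1
    rcases hp with rfl | rfl <;>
      rcases h1 with h | h | h | h | h | h | h | h | h | h | h | h | h | h | h <;> subst h <;>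
        decide

/-- The two numbers of elements in the centralizer. -/
theorem cnt_cent (F : M24Nse2.Facts G) {p : ℕ} (hp : p = 5 ∨ p = 7) {x : G} (hx : orderOf x = p) :
    cnt ↥(centralizer ({x} : Set G)) 2 = 3 ∧
      cnt ↥(centralizer ({x} : Set G)) 3 = if p = 5 then 8 else 2 := by
  haveI := Fact.mk (prime_of_mem hp)
  obtain ⟨P, hP⟩ := exists_sylow_prime F hp
  have h2 := M23Nse.Hist.cnt_mul_eq P hP (m := 2) (by rcases hp with rfl | rfl <;> norm_num) hx
  have h3 := M23Nse.Hist.cnt_mul_eq P hP (m := 3) (by rcases hp with rfl | rfl <;> norm_num) hx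
  have c5 : cnt G 5 = 4080384 := F.c5
  have c7 : cnt G 7 = 11658240 := F.c7
  have c10 : cnt G (5 * 2) = 12241152 := F.c10
  have c14 : cnt G (7 * 2) = 34974720 := F.c14
  have c15 : cnt G (5 * 3) = 32643072 := F.c15
  have c21 : cnt G (7 * 3) = 23316480 := F.c21
  rcases hp with rfl | rfl
  · rw [c5, c10] at h2; rw [c5, c15] at h3
    rw [if_pos rfl]; omega
  · rw [c7, c14] at h2; rw [c7, c21] at h3
    rw [if_neg (by norm_num)]; omega

theorem card_cent_prime (F : M24Nse2.Facts G) {p : ℕ} (hp : p = 5 ∨ p = 7) {x : G}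
    (hx : orderOf x = p) :
    Nat.card (centralizer ({x} : Set G)) = if p = 5 then 60 else 42 := by
  classical
  haveI := Fact.mk (prime_of_mem hp)
  haveI := Fintype.ofFinite G
  obtain ⟨P, hP⟩ := exists_sylow_prime F hp
  obtain ⟨R, hR, -⟩ := SmallGroups.existsUnique_sylow_of_orderOf P hP hx
  set C := centralizer ({x} : Set G) with hC
  have hxC : x ∈ C := mem_centralizer_singleton_iff.mpr rfl
  have hcomm : ∀ g : C, Commute x (g : G) := fun g =>
    (mem_centralizer_singleton_iff.mp g.2).symm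
  have hpp : (p * p) % 6 = 1 := by rcases hp with rfl | rfl <;> rfl
  have h6 : ∀ h : C, orderOf h ∈ ({1, 2, 3} : Finset ℕ) → (h : G) ^ 6 = 1 := by
    intro h hh
    rw [← orderOf_dvd_iff_pow_eq_one, Subgroup.orderOf_coe]
    simp only [Finset.mem_insert, Finset.mem_singleton] at hh
    rcases hh with e | e | e <;> rw [e] <;> norm_num
  have hroot : ∀ h : G, h ^ 6 = 1 → (h ^ p) ^ p = h := by
    intro h hh
    rw [← pow_mul, pow_eq_pow_mod (p * p) hh, hpp, pow_one]
  have hz : ∀ z ∈ zpowers x, z ^ p = 1 := by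
    rintro z ⟨k, rfl⟩
    show (x ^ k) ^ p = 1
    rw [← zpow_natCast, ← zpow_mul, mul_comm, zpow_mul, zpow_natCast, ← hx, pow_orderOf_eq_one,
      one_zpow]
  let f : {h : C // orderOf h ∈ ({1, 2, 3} : Finset ℕ)} × zpowers x → C := fun q =>
    q.1.1 * ⟨(q.2 : G), (zpowers_le.mpr hxC) q.2.2⟩
  have hfp : ∀ q, ((f q : C) : G) ^ p = (q.1.1 : G) ^ p := by
    intro q
    show ((q.1.1 : G) * (q.2 : G)) ^ p = _
    obtain ⟨k, hk⟩ := mem_zpowers_iff.mp q.2.2
    rw [← hk, ((hcomm q.1.1).symm.zpow_right k).mul_pow, hz _ (zpow_mem (mem_zpowers x) k), mul_one]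
  have hinj : Function.Injective f := by
    intro a b hab
    have h1 : (a.1.1 : G) ^ p = (b.1.1 : G) ^ p := by rw [← hfp a, ← hfp b, hab]
    have h2 : a.1.1 = b.1.1 := Subtype.ext (by
      rw [← hroot _ (h6 _ a.1.2), h1, hroot _ (h6 _ b.1.2)])
    have h3 : (a.1.1 : G) * (a.2 : G) = (b.1.1 : G) * (b.2 : G) := congrArg Subtype.val hab
    rw [h2] at h3
    exact Prod.ext (Subtype.ext h2) (Subtype.ext (mul_left_cancel h3))
  have hsurj : Function.Surjective f := by
    intro g
    obtain ⟨hd, h4, h6', -⟩ := orderOf_dvd_of_commute F hp hx (hcomm g)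
    have hg6 : (g : G) ^ (6 * p) = 1 := orderOf_dvd_iff_pow_eq_one.mp hd
    set h : C := g ^ (p * p) with hh
    have hh6 : (h : G) ^ 6 = 1 := by
      rw [hh, Subgroup.coe_pow, ← pow_mul, show p * p * 6 = 6 * p * p by ring, pow_mul, hg6,
        one_pow]
    have hord : orderOf h ∈ ({1, 2, 3} : Finset ℕ) := by
      have e6 : orderOf (h : G) ∣ 6 := orderOf_dvd_of_pow_eq_one hh6
      obtain ⟨-, -, hne6, -⟩ := orderOf_dvd_of_commute F hp hx (hcomm h)
      rw [← Subgroup.orderOf_coe]
      have := Nat.le_of_dvd (by norm_num) e6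
      revert e6 hne6 this
      generalize orderOf (h : G) = o
      intro e6 hne6 this
      interval_cases o <;> simp_all
    have hzp : ((h : G)⁻¹ * g) ^ p = 1 := by
      have hc : Commute ((h : G)⁻¹) (g : G) := by
        rw [hh, Subgroup.coe_pow]
        exact ((Commute.refl (g : G)).pow_left _).inv_left
      rw [hc.mul_pow, inv_pow, inv_mul_eq_one, hh, Subgroup.coe_pow, ← pow_mul]
      have : p * p * p % (6 * p) = p := by rcases hp with rfl | rfl <;> rfl
      rw [pow_eq_pow_mod (p * p * p) hg6, this]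
    have hzR : (h : G)⁻¹ * g ∈ zpowers x := by
      have hpg : IsPGroup p (zpowers ((h : G)⁻¹ * g)) := by
        rintro ⟨a, k, rfl⟩
        refine ⟨1, Subtype.ext ?_⟩
        rw [pow_one, Subgroup.coe_pow, OneMemClass.coe_one]
        show (((h : G)⁻¹ * g) ^ k) ^ p = 1
        rw [← zpow_natCast, ← zpow_mul, mul_comm, zpow_mul, zpow_natCast, hzp, one_zpow]
      have hn : zpowers ((h : G)⁻¹ * g) ≤ normalizer ((R : Subgroup G) : Set G) := by
        rw [zpowers_le, hR]
        have hmem : (h : G)⁻¹ * g ∈ centralizer (zpowers x : Set G) := by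
          rw [zpowers_eq_closure, centralizer_closure]
          exact (h⁻¹ * g).2
        exact SmallGroups.centralizer_le_normalizer' _ hmem
      have hle : zpowers ((h : G)⁻¹ * g) ⊓ (R : Subgroup G) = zpowers ((h : G)⁻¹ * g) := by
        rw [← hpg.inf_normalizer_sylow R]
        exact inf_eq_left.mpr hn
      rw [← hR]
      exact (inf_eq_left.mp hle) (mem_zpowers _)
    refine ⟨(⟨h, hord⟩, ⟨(h : G)⁻¹ * g, hzR⟩), Subtype.ext ?_⟩
    show (h : G) * ((h : G)⁻¹ * g) = g
    rw [mul_inv_cancel_left]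
  have hK : Nat.card {h : C // orderOf h ∈ ({1, 2, 3} : Finset ℕ)} =
      1 + cnt C 2 + cnt C 3 := by
    rw [Nat.card_eq_fintype_card, Fintype.card_subtype, card_orderOf_mem,
      Finset.sum_insert (by decide), Finset.sum_insert (by decide), Finset.sum_singleton, cnt_one,
      add_assoc]
  obtain ⟨h2, h3⟩ := cnt_cent F hp hx
  rw [← Nat.card_eq_of_bijective f ⟨hinj, hsurj⟩, Nat.card_prod, hK, h2, h3, Nat.card_zpowers, hx]
  rcases hp with rfl | rfl <;> norm_num

theorem conj_prime (F : M24Nse2.Facts G) {p : ℕ} (hp : p = 5 ∨ p = 7) {y z : G}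
    (hy : orderOf y = p) (hz : orderOf z = p) : ∃ g : G, ∃ k : ℕ, g * y * g⁻¹ = z ^ k := by
  haveI := Fact.mk (prime_of_mem hp)
  obtain ⟨P, hP⟩ := exists_sylow_prime F hp
  obtain ⟨R, hR, -⟩ := SmallGroups.existsUnique_sylow_of_orderOf P hP hy
  obtain ⟨Q, hQ, -⟩ := SmallGroups.existsUnique_sylow_of_orderOf P hP hz
  obtain ⟨g, hg⟩ := MulAction.exists_smul_eq G R Q
  have hmem : g * y * g⁻¹ ∈ zpowers z := by
    rw [← hQ, ← hg, Sylow.coe_subgroup_smul, hR]
    exact ⟨y, mem_zpowers _, rfl⟩
  obtain ⟨k, hk⟩ := (mem_powers_iff_mem_zpowers).mpr hmem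
  exact ⟨g, k, hk.symm⟩

end SevenFive

open SevenFive

/-- The centralizer and normalizer of an element of order seven. -/
theorem cent_seven (F : M24Nse2.Facts G) {y : G} (hy : orderOf y = 7) :
    Nat.card (centralizer ({y} : Set G)) = 42 ∧
      Nat.card (normalizer (zpowers y : Set G)) = 126 :=
  ⟨by simpa using card_cent_prime F (Or.inr rfl) hy,
    by simpa using card_norm_prime F (Or.inr rfl) hy⟩

/-- The centralizer and normalizer of an element of order five. -/
theorem cent_five (F : M24Nse2.Facts G) {x : G} (hx : orderOf x = 5) :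
    Nat.card (centralizer ({x} : Set G)) = 60 ∧
      Nat.card (normalizer (zpowers x : Set G)) = 240 :=
  ⟨by simpa using card_cent_prime F (Or.inl rfl) hx,
    by simpa using card_norm_prime F (Or.inl rfl) hx⟩

/-- The subgroups of order seven are conjugate. -/
theorem seven_conj (F : M24Nse2.Facts G) {y z : G} (hy : orderOf y = 7) (hz : orderOf z = 7) :
    ∃ g : G, ∃ k : ℕ, g * y * g⁻¹ = z ^ k := conj_prime F (Or.inr rfl) hy hz

/-- The subgroups of order five are conjugate. -/
theorem five_conj (F : M24Nse2.Facts G) {y z : G} (hy : orderOf y = 5) (hz : orderOf z = 5) :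
    ∃ g : G, ∃ k : ℕ, g * y * g⁻¹ = z ^ k := conj_prime F (Or.inl rfl) hy hz

/-- No product of commuting elements of orders two and three centralizes an element of order five
or seven. -/
theorem not_commute_two_three (F : M24Nse2.Facts G) {p : ℕ} (hp : p = 5 ∨ p = 7) {x t c : G}
    (hx : orderOf x = p) (ht : orderOf t = 2) (hc : orderOf c = 3) (hxt : Commute x t)
    (hxc : Commute x c) : ¬ Commute t c := fun h =>
  (orderOf_dvd_of_commute F hp hx (hxt.mul_right hxc)).2.2.1
    (by rw [h.orderOf_mul_eq_mul_orderOf_of_coprime (by rw [ht, hc]; norm_num), ht, hc])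

/-- The centralizer of an element of order seven is `7 × S₃`. -/
theorem seven_struct (F : M24Nse2.Facts G) {y : G} (hy : orderOf y = 7) :
    ∃ t c : G, orderOf t = 2 ∧ orderOf c = 3 ∧ Commute y t ∧ Commute y c ∧ t * c * t⁻¹ = c⁻¹ ∧
      ∀ s : G, orderOf s = 2 → Commute y s → ∃ i : ℕ, s = c ^ i * t * (c ^ i)⁻¹ := by
  classical
  haveI := Fintype.ofFinite G
  set C := centralizer ({y} : Set G) with hC
  obtain ⟨h2, h3⟩ := cnt_cent F (Or.inr rfl) hy
  rw [← hC] at h2 h3
  rw [if_neg (by norm_num)] at h3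
  obtain ⟨t, ht⟩ := exists_orderOf_of_cnt_pos (G := C) (n := 2) (by omega)
  obtain ⟨c, hc⟩ := exists_orderOf_of_cnt_pos (G := C) (n := 3) (by omega)
  have hcomm : ∀ g : C, Commute y (g : G) := fun g =>
    (mem_centralizer_singleton_iff.mp g.2).symm
  have hnc : ¬ Commute t c := fun h =>
    not_commute_two_three F (Or.inr rfl) hy (by rw [Subgroup.orderOf_coe, ht])
      (by rw [Subgroup.orderOf_coe, hc]) (hcomm t) (hcomm c) (h.map C.subtype)
  have hthree : ∀ d : C, orderOf d = 3 → d = c ∨ d = c⁻¹ := by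
    intro d hd
    have hsub : ({c, c⁻¹} : Finset C) = ({g : C | orderOf g = 3} : Finset C) := by
      refine Finset.eq_of_subset_of_card_le (fun g hg => ?_) ?_
      · simp only [Finset.mem_insert, Finset.mem_singleton] at hg
        rcases hg with rfl | rfl <;> simp [hc]
      · rw [← cnt_eq_card, h3, Finset.card_insert_of_notMem, Finset.card_singleton]
        rw [Finset.mem_singleton]
        intro e
        have : orderOf c ∣ 2 := orderOf_dvd_of_pow_eq_one (by
          rw [pow_two]; nth_rewrite 2 [e]; exact mul_inv_cancel c)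
        rw [hc] at this; norm_num at this
    have : d ∈ ({c, c⁻¹} : Finset C) := by rw [hsub]; simp [hd]
    simpa using this
  have hinv : t * c * t⁻¹ = c⁻¹ := by
    rcases hthree (t * c * t⁻¹) (by rw [← MulAut.conj_apply, MulEquiv.orderOf_eq, hc]) with e | e
    · exact absurd (mul_inv_eq_iff_eq_mul.mp e) hnc
    · exact e
  have hcp : ∀ i : ℕ, i < 3 → 0 < i → ¬ Commute t (c ^ i) := by
    intro i hi hi0 h
    interval_cases i
    · exact hnc (by simpa using h)
    · have := h.pow_right 2
      rw [← pow_mul, pow_eq_pow_mod (2 * 2) (hc ▸ pow_orderOf_eq_one c : c ^ 3 = 1)] at this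
      exact hnc (by simpa using this)
  refine ⟨t, c, by rw [Subgroup.orderOf_coe, ht], by rw [Subgroup.orderOf_coe, hc], hcomm t,
    hcomm c, congrArg Subtype.val hinv, fun s hs hys => ?_⟩
  let f : Fin 3 → C := fun i => c ^ (i : ℕ) * t * (c ^ (i : ℕ))⁻¹
  have hinj : Function.Injective f := by
    have key : ∀ i j : Fin 3, i < j → f i ≠ f j := by
      intro i j hij e
      refine hcp ((j : ℕ) - i) (by omega) (by omega) ?_
      have hj : c ^ (j : ℕ) = c ^ (i : ℕ) * c ^ ((j : ℕ) - i) := by
        rw [← pow_add]; congr 1; omega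
      simp only [f, hj] at e
      have e' : t = c ^ ((j : ℕ) - i) * t * (c ^ ((j : ℕ) - i))⁻¹ := by
        calc t = (c ^ (i : ℕ))⁻¹ * (c ^ (i : ℕ) * t * (c ^ (i : ℕ))⁻¹) * c ^ (i : ℕ) := by group
          _ = _ := by rw [e]; group
      exact mul_inv_eq_iff_eq_mul.mp e'.symm |>.symm
    intro i j e
    rcases lt_trichotomy i j with h | h | h
    · exact absurd e (key i j h)
    · exact h
    · exact absurd e.symm (key j i h)
  have himg : (Finset.univ.image f) = ({g : C | orderOf g = 2} : Finset C) := by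
    refine Finset.eq_of_subset_of_card_le (fun g hg => ?_) ?_
    · obtain ⟨i, -, rfl⟩ := Finset.mem_image.mp hg
      simp only [Finset.mem_filter, Finset.mem_univ, true_and, f]
      rw [← MulAut.conj_apply, MulEquiv.orderOf_eq, ht]
    · rw [← cnt_eq_card, h2, Finset.card_image_of_injective _ hinj, Finset.card_univ,
        Fintype.card_fin]
  have hsC : (⟨s, mem_centralizer_singleton_iff.mpr hys.eq.symm⟩ : C) ∈
      ({g : C | orderOf g = 2} : Finset C) := by
    simp [Subgroup.orderOf_mk, hs]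
  rw [← himg, Finset.mem_image] at hsC
  obtain ⟨i, -, hi⟩ := hsC
  refine ⟨i, ?_⟩
  simpa [f] using (congrArg Subtype.val hi).symm

/-- The involutions centralizing elements of order seven form one class. -/
theorem seven_twos (F : M24Nse2.Facts G) {y y' s s' : G} (hy : orderOf y = 7)
    (hy' : orderOf y' = 7) (hs : orderOf s = 2) (hs' : orderOf s' = 2) (hys : Commute y s)
    (hys' : Commute y' s') : ∃ g : G, g * s * g⁻¹ = s' := by
  obtain ⟨g, k, hk⟩ := seven_conj F hy hy'
  have hcop : Nat.Coprime k 7 := by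
    refine ((Nat.Prime.coprime_iff_not_dvd (by norm_num)).mpr fun h7 => ?_).symm
    obtain ⟨r, rfl⟩ := h7
    rw [pow_mul, ← hy', pow_orderOf_eq_one, one_pow, conj_eq_one_iff] at hk
    rw [hk, orderOf_one] at hy
    norm_num at hy
  obtain ⟨m, -, hm⟩ := Nat.exists_mul_mod_eq_one_of_coprime hcop (by norm_num)
  have hback : (y' ^ k) ^ m = y' := by
    rw [← pow_mul, pow_eq_pow_mod (k * m) (hy' ▸ pow_orderOf_eq_one y' : y' ^ 7 = 1), hm, pow_one]
  have h1 : Commute y' (g * s * g⁻¹) := by
    rw [← hback]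
    refine (Commute.pow_left ?_ m)
    rw [← hk]
    exact (commute_iff_eq _ _).mpr (by
      calc g * y * g⁻¹ * (g * s * g⁻¹) = g * (y * s) * g⁻¹ := by group
        _ = g * (s * y) * g⁻¹ := by rw [hys.eq]
        _ = _ := by group)
  obtain ⟨t, c, -, -, -, -, -, hall⟩ := seven_struct F hy'
  obtain ⟨i, hi⟩ := hall _ (by rw [← MulAut.conj_apply, MulEquiv.orderOf_eq, hs]) h1
  obtain ⟨j, hj⟩ := hall _ hs' hys'
  refine ⟨c ^ j * (c ^ i)⁻¹ * g, ?_⟩
  calc c ^ j * (c ^ i)⁻¹ * g * s * (c ^ j * (c ^ i)⁻¹ * g)⁻¹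
      = c ^ j * (c ^ i)⁻¹ * (g * s * g⁻¹) * (c ^ i) * (c ^ j)⁻¹ := by group
    _ = c ^ j * (c ^ i)⁻¹ * (c ^ i * t * (c ^ i)⁻¹) * (c ^ i) * (c ^ j)⁻¹ := by rw [hi]
    _ = s' := by rw [hj]; group

/-- The centralizer of an element of order five is `5 × A₄`: its three involutions commute and are
permuted cyclically. -/
theorem five_struct (F : M24Nse2.Facts G) {x : G} (hx : orderOf x = 5) :
    ∃ t c : G, orderOf t = 2 ∧ orderOf c = 3 ∧ Commute x t ∧ Commute x c ∧ c * t * c⁻¹ ≠ t ∧
      Commute t (c * t * c⁻¹) ∧ t * (c * t * c⁻¹) = c ^ 2 * t * (c ^ 2)⁻¹ ∧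
      ∀ s : G, orderOf s = 2 → Commute x s → ∃ i : ℕ, s = c ^ i * t * (c ^ i)⁻¹ := by
  classical
  haveI := Fintype.ofFinite G
  haveI : Fact (Nat.Prime 2) := ⟨Nat.prime_two⟩
  set C := centralizer ({x} : Set G) with hC
  obtain ⟨h2, h3⟩ := cnt_cent F (Or.inl rfl) hx
  rw [← hC] at h2 h3
  rw [if_pos rfl] at h3
  have hcard : Nat.card C = 60 := (cent_five F hx).1
  have hcomm : ∀ g : C, Commute x (g : G) := fun g =>
    (mem_centralizer_singleton_iff.mp g.2).symm
  obtain ⟨S⟩ : Nonempty (Sylow 2 C) := inferInstance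
  have hS : Nat.card (S : Subgroup C) = 4 := by
    rw [SmallGroups.card_sylow_eq S (k := 2) (m := 15) (by rw [hcard]; rfl) (by norm_num)]
    rfl
  have hsq : ∀ a ∈ (S : Subgroup C), a * a = 1 := by
    intro a ha
    have hd : orderOf a ∣ 4 := by
      have := orderOf_dvd_natCard (⟨a, ha⟩ : (S : Subgroup C))
      rwa [hS, Subgroup.orderOf_mk] at this
    have h4 := (orderOf_dvd_of_commute F (Or.inl rfl) hx (hcomm a)).2.1
    rw [Subgroup.orderOf_coe] at h4
    have : orderOf a ∣ 2 := by
      have hle := Nat.le_of_dvd (by norm_num) hd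
      revert hd h4 hle
      generalize orderOf a = o
      intro hd h4 hle
      interval_cases o <;> simp_all
    rw [← pow_two]
    exact orderOf_dvd_iff_pow_eq_one.mp this
  have hall : ∀ a : C, orderOf a = 2 → a ∈ (S : Subgroup C) := by
    intro a ha
    have heq : ((Finset.univ.filter fun g : C => g ∈ (S : Subgroup C)).erase 1) =
        ({g : C | orderOf g = 2} : Finset C) := by
      refine Finset.eq_of_subset_of_card_le (fun g hg => ?_) ?_
      · simp only [Finset.mem_erase, Finset.mem_filter, Finset.mem_univ, true_and] at hg ⊢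
        exact orderOf_eq_prime (by rw [pow_two]; exact hsq g hg.2) hg.1
      · rw [← cnt_eq_card, h2, Finset.card_erase_of_mem (by simp [one_mem])]
        have : (Finset.univ.filter fun g : C => g ∈ (S : Subgroup C)).card = 4 := by
          rw [← Fintype.card_subtype, ← Nat.card_eq_fintype_card]
          exact hS
        omega
    have : a ∈ ((Finset.univ.filter fun g : C => g ∈ (S : Subgroup C)).erase 1) := by
      rw [heq]; simp [ha]
    simpa using (Finset.mem_erase.mp this).2
  obtain ⟨t, ht⟩ := exists_orderOf_of_cnt_pos (G := C) (n := 2) (by omega)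
  obtain ⟨c, hc⟩ := exists_orderOf_of_cnt_pos (G := C) (n := 3) (by omega)
  have hnc : ¬ Commute t c := fun h =>
    not_commute_two_three F (Or.inl rfl) hx (by rw [Subgroup.orderOf_coe, ht])
      (by rw [Subgroup.orderOf_coe, hc]) (hcomm t) (hcomm c) (h.map C.subtype)
  have hc3 : c ^ 3 = 1 := hc ▸ pow_orderOf_eq_one c
  set t1 := c * t * c⁻¹ with ht1
  set t2 := c ^ 2 * t * (c ^ 2)⁻¹ with ht2
  have o1 : orderOf t1 = 2 := by rw [ht1, ← MulAut.conj_apply, MulEquiv.orderOf_eq, ht]
  have o2 : orderOf t2 = 2 := by rw [ht2, ← MulAut.conj_apply, MulEquiv.orderOf_eq, ht]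
  have n1 : t1 ≠ t := fun e => hnc (mul_inv_eq_iff_eq_mul.mp e).symm
  have n2 : t2 ≠ t := fun e => by
    have h : Commute (c ^ 2) t := mul_inv_eq_iff_eq_mul.mp e
    have h' := (h.pow_left 2).symm
    rw [← pow_mul, pow_eq_pow_mod (2 * 2) hc3] at h'
    exact hnc (by simpa using h')
  have n12 : t1 ≠ t2 := fun e => n1 (by
    have : t2 = c * t1 * c⁻¹ := by rw [ht1, ht2, pow_two]; group
    rw [← e] at this
    calc t1 = c⁻¹ * (c * t1 * c⁻¹) * c := by group
      _ = c⁻¹ * t1 * c := by rw [← this]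
      _ = t := by rw [ht1]; group)
  have hset : ({t, t1, t2} : Finset C) = ({g : C | orderOf g = 2} : Finset C) := by
    refine Finset.eq_of_subset_of_card_le (fun g hg => ?_) ?_
    · simp only [Finset.mem_insert, Finset.mem_singleton] at hg
      rcases hg with rfl | rfl | rfl <;> simp [ht, o1, o2]
    · rw [← cnt_eq_card, h2, Finset.card_insert_of_notMem (by simp [n1.symm, n2.symm]),
        Finset.card_insert_of_notMem (by simp [n12]), Finset.card_singleton]
  have hcases : ∀ s : C, orderOf s = 2 → s = t ∨ s = t1 ∨ s = t2 := by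
    intro s hs
    have : s ∈ ({t, t1, t2} : Finset C) := by rw [hset]; simp [hs]
    simpa using this
  have hmul : (t * t1) * (t * t1) = 1 :=
    hsq _ (mul_mem (hall t ht) (hall t1 o1))
  have hcm : Commute t t1 := by
    have e1 : t⁻¹ = t := inv_eq_of_mul_eq_one_right (hsq t (hall t ht))
    have e2 : t1⁻¹ = t1 := inv_eq_of_mul_eq_one_right (hsq t1 (hall t1 o1))
    show t * t1 = t1 * t
    calc t * t1 = (t * t1)⁻¹ := (inv_eq_of_mul_eq_one_right hmul).symm
      _ = t1 * t := by rw [mul_inv_rev, e1, e2]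
  have hne1 : t * t1 ≠ 1 := fun e => n1 (by
    rw [← inv_eq_of_mul_eq_one_right e]
    exact inv_eq_of_mul_eq_one_right (hsq t (hall t ht)))
  have hprod : t * t1 = t2 := by
    rcases hcases (t * t1) (orderOf_eq_prime (by rw [pow_two, hmul]) hne1) with e | e | e
    · have : t1 = 1 := mul_eq_left.mp e
      rw [this, orderOf_one] at o1; norm_num at o1
    · have : t = 1 := mul_eq_right.mp e
      rw [this, orderOf_one] at ht; norm_num at ht
    · exact e
  refine ⟨t, c, by rw [Subgroup.orderOf_coe, ht], by rw [Subgroup.orderOf_coe, hc], hcomm t,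
    hcomm c, fun e => n1 (Subtype.ext e), hcm.map C.subtype, congrArg Subtype.val hprod,
    fun s hs hxs => ?_⟩
  rcases hcases ⟨s, mem_centralizer_singleton_iff.mpr hxs.eq.symm⟩
    (by rw [Subgroup.orderOf_mk, hs]) with e | e | e
  · exact ⟨0, by simpa using congrArg Subtype.val e⟩
  · exact ⟨1, by simpa [ht1] using congrArg Subtype.val e⟩
  · exact ⟨2, by simpa [ht2] using congrArg Subtype.val e⟩

end Cfsg.Agent.Lib.M24Nse65
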