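import Mathlib
import Cfsg.Agent.Lib.M24Nse65.InvCount
import Cfsg.Agent.Lib.M24Nse65.Seven

/-!
When there are two classes of involutions, the centralizer of an involution commuting with an
element of order seven has a simple subgroup of order 168: the elements of order seven in the
centralizer of an element `b` of order three generate one, and the involution inverting `b`
centralizes all of them.
-/

set_option autoImplicit false
set_option linter.unusedSectionVars false

namespace Cfsg.Agent.Lib.M24Nse65.InvThree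

open Subgroup
open Cfsg.Agent.Lib.SmallGroups
open M22Nse57.Hist (cnt)

universe u

variable {G : Type u} [Group G] [Finite G]

/-- Conjugate to `a` or to its inverse. -/
def Rel (a c : G) : Prop := IsConj a c ∨ IsConj a⁻¹ c

theorem isConj_inv {a c : G} (h : IsConj a c) : IsConj a⁻¹ c⁻¹ := by
  obtain ⟨g, rfl⟩ := isConj_iff.1 h
  exact isConj_iff.2 ⟨g, by group⟩

theorem Rel.refl (a : G) : Rel a a := Or.inl (IsConj.refl a)

theorem Rel.symm {a c : G} : Rel a c → Rel c a := by
  rintro (h | h)
  · exact Or.inl h.symm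
  · exact Or.inr (by simpa using (isConj_inv h).symm)

theorem Rel.trans {a b c : G} : Rel a b → Rel b c → Rel a c := by
  rintro (h | h) (h' | h')
  · exact Or.inl (h.trans h')
  · exact Or.inr ((isConj_inv h).trans h')
  · exact Or.inr (h.trans h')
  · exact Or.inl (IsConj.trans (by simpa using isConj_inv h) h')

theorem Rel.order {a c : G} (h : Rel a c) : orderOf c = orderOf a := by
  rcases h with h | h <;> obtain ⟨g, rfl⟩ := isConj_iff.1 h <;>
    rw [← MulAut.conj_apply, MulEquiv.orderOf_eq]
  exact orderOf_inv a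

/-- Elements of order three of a group whose order is not divisible by nine. -/
theorem rel_three {H : Subgroup G} (h9 : ¬ 3 ^ 2 ∣ Nat.card H) {a c : G} (ha : orderOf a = 3)
    (hc : orderOf c = 3) (haH : a ∈ H) (hcH : c ∈ H) : Rel a c := by
  haveI : Fact (Nat.Prime 3) := ⟨Nat.prime_three⟩
  have hd : 3 ∣ Nat.card H := by
    have := orderOf_dvd_natCard (⟨a, haH⟩ : H)
    rwa [Subgroup.orderOf_mk, ha] at this
  obtain ⟨P⟩ : Nonempty (Sylow 3 H) := inferInstance
  have hP := InvCount.sylow_prime hd h9 P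
  obtain ⟨Q, hQ, -⟩ := existsUnique_sylow_of_orderOf P hP (y := (⟨a, haH⟩ : H))
    (by rw [Subgroup.orderOf_mk, ha])
  obtain ⟨R, hR, -⟩ := existsUnique_sylow_of_orderOf P hP (y := (⟨c, hcH⟩ : H))
    (by rw [Subgroup.orderOf_mk, hc])
  obtain ⟨g, hg⟩ := MulAction.exists_smul_eq H Q R
  have hmem : c ∈ zpowers ((g : G) * a * (g : G)⁻¹) := by
    have h1 : (⟨c, hcH⟩ : H) ∈ (R : Subgroup H) := hR ▸ mem_zpowers _
    rw [← hg, Sylow.coe_subgroup_smul, hQ] at h1
    obtain ⟨w, ⟨k, rfl⟩, hw⟩ := h1
    exact ⟨k, by simpa using congrArg Subtype.val hw⟩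
  obtain ⟨k, hk⟩ := mem_powers_iff_mem_zpowers.mpr hmem
  have ho : orderOf ((g : G) * a * (g : G)⁻¹) = 3 := by
    rw [← MulAut.conj_apply, MulEquiv.orderOf_eq, ha]
  simp only at hk
  rw [← pow_mod_orderOf, ho] at hk
  have hk3 : k % 3 < 3 := Nat.mod_lt _ (by norm_num)
  interval_cases hk' : k % 3
  · rw [pow_zero] at hk
    rw [← hk, orderOf_one] at hc
    norm_num at hc
  · exact Or.inl (isConj_iff.2 ⟨g, by simpa using hk⟩)
  · refine Or.inr (isConj_iff.2 ⟨g, ?_⟩)
    rw [← hk, ← conj_inv, inv_eq_iff_mul_eq_one, ← pow_succ']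
    simpa [ho] using pow_orderOf_eq_one ((g : G) * a * (g : G)⁻¹)

theorem card_isConj_inv (a : G) :
    Nat.card {c : G // IsConj a⁻¹ c} = Nat.card {c : G // IsConj a c} :=
  Nat.card_congr (Equiv.subtypeEquiv (Equiv.inv G) fun c =>
    ⟨fun h => by simpa using isConj_inv h, fun h => by simpa using isConj_inv h⟩)

theorem card_rel (a : G) :
    Nat.card {c : G // Rel a c} = Nat.card {c : G // IsConj a c} ∨
      Nat.card {c : G // Rel a c} = 2 * Nat.card {c : G // IsConj a c} := by
  classical
  haveI := Fintype.ofFinite G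
  by_cases h : IsConj a a⁻¹
  · exact Or.inl (Nat.card_congr (Equiv.subtypeEquivRight fun c =>
      ⟨fun hc => hc.elim id h.trans, Or.inl⟩))
  · right
    have hd : Disjoint (fun c => IsConj a c) (fun c => IsConj a⁻¹ c) := by
      refine Pi.disjoint_iff.2 fun c => Prop.disjoint_iff.2 ?_
      exact fun hc => h (hc.1.trans hc.2.symm)
    rw [two_mul]
    conv_rhs =>
      arg 2
      rw [← card_isConj_inv]
    simp only [Rel, Nat.card_eq_fintype_card]
    exact Fintype.card_subtype_or_disjoint _ _ hd

theorem card_rel_dvd (a : G) : Nat.card {c : G // Rel a c} ∣ 2 * Nat.card G := by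
  have h := card_isConj_mul_card_centralizer a
  rcases card_rel a with e | e <;> rw [e, ← h]
  · exact (dvd_mul_right _ _).mul_left 2
  · exact mul_dvd_mul_left 2 (dvd_mul_right _ _)

/-- The number of elements of order `p` commuting with `e`. -/
noncomputable def cm (p : ℕ) (e : G) : ℕ := Nat.card {x : G // orderOf x = p ∧ Commute e x}

theorem cm_eq (p : ℕ) (e : G) : cm p e = cnt ↥(centralizer ({e} : Set G)) p :=
  Nat.card_congr
    { toFun := fun x => ⟨⟨x.1, mem_centralizer_singleton_iff.2 x.2.2.eq.symm⟩, by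
        rw [← Subgroup.orderOf_coe]; exact x.2.1⟩
      invFun := fun i => ⟨i.1.1, by rw [Subgroup.orderOf_coe]; exact i.2,
        (mem_centralizer_singleton_iff.1 i.1.2).symm⟩
      left_inv := fun x => rfl
      right_inv := fun i => rfl }

theorem cm_rel {p : ℕ} {e c : G} (h : Rel e c) : cm p c = cm p e := by
  have key : ∀ e : G, IsConj e c → cm p c = cm p e := by
    intro e h
    obtain ⟨g, rfl⟩ := isConj_iff.1 h
    refine (Nat.card_congr (Equiv.subtypeEquiv (MulAut.conj g).toEquiv fun x => ?_)).symm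
    show _ ↔ orderOf (MulAut.conj g x) = p ∧ Commute (MulAut.conj g e) (MulAut.conj g x)
    refine and_congr (by rw [MulEquiv.orderOf_eq]) ?_
    show e * x = x * e ↔ _ * _ = _ * _
    rw [← map_mul, ← map_mul, (MulAut.conj g).injective.eq_iff]
  rcases h with h | h
  · exact key e h
  · rw [key _ h]
    exact Nat.card_congr (Equiv.subtypeEquivRight fun x => and_congr_right'
      Commute.inv_left_iff)

/-- Counting commuting pairs in two ways. -/
theorem pairs {p q a k : ℕ} {R S : G → Prop}
    (h : ∀ c x, Commute c x → ((R c ∧ orderOf x = p) ↔ (S x ∧ orderOf c = q)))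
    (ha : ∀ c, R c → cm p c = a) (hk : ∀ x, S x → cm q x = k) :
    Nat.card {c : G // R c} * a = Nat.card {x : G // S x} * k := by
  classical
  haveI := Fintype.ofFinite G
  have e : (Σ c : {c : G // R c}, {x : G // orderOf x = p ∧ Commute c.1 x}) ≃
      (Σ x : {x : G // S x}, {c : G // orderOf c = q ∧ Commute x.1 c}) :=
    { toFun := fun v => ⟨⟨v.2.1, ((h _ _ v.2.2.2).1 ⟨v.1.2, v.2.2.1⟩).1⟩,
        ⟨v.1.1, ((h _ _ v.2.2.2).1 ⟨v.1.2, v.2.2.1⟩).2, v.2.2.2.symm⟩⟩
      invFun := fun v => ⟨⟨v.2.1, ((h _ _ v.2.2.2.symm).2 ⟨v.1.2, v.2.2.1⟩).1⟩,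
        ⟨v.1.1, ((h _ _ v.2.2.2.symm).2 ⟨v.1.2, v.2.2.1⟩).2, v.2.2.2.symm⟩⟩
      left_inv := fun v => rfl
      right_inv := fun v => rfl }
  have hc := Nat.card_congr e
  have h1 : ∀ c : {c : G // R c}, Nat.card {x : G // orderOf x = p ∧ Commute c.1 x} = a :=
    fun c => ha c.1 c.2
  have h2 : ∀ x : {x : G // S x}, Nat.card {c : G // orderOf c = q ∧ Commute x.1 c} = k :=
    fun x => hk x.1 x.2
  rw [Nat.card_sigma, Nat.card_sigma, Finset.sum_congr rfl (fun c _ => h1 c),
    Finset.sum_congr rfl (fun x _ => h2 x), Finset.sum_const, Finset.sum_const, smul_eq_mul, smul_eq_mul, Finset.card_univ,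
    Finset.card_univ, ← Nat.card_eq_fintype_card, ← Nat.card_eq_fintype_card] at hc
  exact hc

theorem cm_prime (F : M24Nse2.Facts G) {p : ℕ} (hp : p = 5 ∨ p = 7) {e x : G}
    (hx : orderOf x = p) (hc : Commute e x) : ∃ n, n % p = 1 ∧ cm p e = n * (p - 1) := by
  have h : p.Prime ∧ ¬ p ^ 2 ∣ Nat.card G := by
    rcases hp with rfl | rfl <;> rw [F.card] <;> norm_num
  haveI := Fact.mk h.1
  set C := centralizer ({e} : Set G)
  have hd : p ∣ Nat.card C := by
    have := orderOf_dvd_natCard (⟨x, mem_centralizer_singleton_iff.2 hc.eq.symm⟩ : C)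
    rwa [Subgroup.orderOf_mk, hx] at this
  obtain ⟨P⟩ : Nonempty (Sylow p C) := inferInstance
  have hP := InvCount.sylow_prime hd (fun hh => h.2 (hh.trans (card_subgroup_dvd_card C))) P
  exact ⟨Nat.card (Sylow p C),
    Eq.trans (card_sylow_modEq_one p C) (Nat.mod_eq_of_lt h.1.one_lt),
    (cm_eq p e).trans (card_orderOf_eq_prime P hP)⟩

theorem cent_dvd (F : M24Nse2.Facts G) {c : G} (hc : orderOf c = 3) :
    Nat.card (centralizer ({c} : Set G)) ∣ 967680 := by
  have hno : ∀ r, r = 11 ∨ r = 23 → ¬ r ∣ Nat.card (centralizer ({c} : Set G)) := by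
    intro r hr hd
    haveI : Fact r.Prime := ⟨by rcases hr with rfl | rfl <;> norm_num⟩
    obtain ⟨z, hz⟩ := exists_prime_orderOf_dvd_card' r hd
    have := InvCount.mul_mem_ords F hc (show orderOf (z : G) = r by rw [Subgroup.orderOf_coe, hz])
      (mem_centralizer_singleton_iff.1 z.2).symm (by rcases hr with rfl | rfl <;> norm_num)
    revert this
    rcases hr with rfl | rfl <;> decide
  refine Nat.Coprime.dvd_of_dvd_mul_right ?_ (show _ ∣ 967680 * 253 by
    simpa [F.card] using card_subgroup_dvd_card (centralizer ({c} : Set G)))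
  rw [show 253 = 11 * 23 from rfl]
  exact ((Nat.Prime.coprime_iff_not_dvd (by norm_num)).2 (hno 11 (Or.inl rfl))).symm.mul_right
    ((Nat.Prime.coprime_iff_not_dvd (by norm_num)).2 (hno 23 (Or.inr rfl))).symm

/-- Every element of order three commutes with an involution. -/
theorem exists_two (F : M24Nse2.Facts G) {c : G} (hc : orderOf c = 3) :
    ∃ u : G, orderOf u = 2 ∧ Commute c u := by
  classical
  by_contra hno
  haveI h5 : Fact (Nat.Prime 5) := ⟨by norm_num⟩
  haveI : Fact (Nat.Prime 2) := ⟨Nat.prime_two⟩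
  set C := centralizer ({c} : Set G) with hC
  have hodd : ¬ 2 ∣ Nat.card C := fun hd => by
    obtain ⟨z, hz⟩ := exists_prime_orderOf_dvd_card' 2 hd
    exact hno ⟨z, by rw [Subgroup.orderOf_coe, hz],
      (mem_centralizer_singleton_iff.1 z.2).symm⟩
  have hd : Nat.card C ∣ 945 := by
    refine Nat.Coprime.dvd_of_dvd_mul_left (m := 2 ^ 10) ?_ (by simpa using cent_dvd F hc)
    exact (((Nat.Prime.coprime_iff_not_dvd Nat.prime_two).2 hodd).pow_left 10).symm
  have hcl : Nat.card {x : G // IsConj c x} ≤ 712448 := by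
    rw [← F.c3]
    refine Nat.card_le_card_of_injective (fun x => ⟨x.1, ?_⟩) fun x z h => ?_
    · exact (Rel.order (Or.inl x.2)).trans hc
    · simpa [Subtype.ext_iff] using h
  have hm := card_isConj_mul_card_centralizer c
  rw [F.card, ← hC] at hm
  have hcard : Nat.card C = 945 := by
    refine (show ∀ d ∈ Nat.divisors 945, 344 ≤ d → d = 945 by decide +kernel) _
      (Nat.mem_divisors.2 ⟨hd, by norm_num⟩) ?_
    by_contra hlt
    have := Nat.mul_le_mul hcl (show Nat.card C ≤ 343 by omega)
    omega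
  obtain ⟨Q⟩ : Nonempty (Sylow 5 C) := inferInstance
  have hQ := InvCount.sylow_prime (by rw [hcard]; norm_num) (by rw [hcard]; norm_num) Q
  have hQm : Nat.card ((Q : Subgroup C).map C.subtype) = 5 := by
    rw [← Nat.card_congr ((Q : Subgroup C).equivMapOfInjective _ C.subtype_injective).toEquiv, hQ]
  obtain ⟨⟨x, hxQ⟩, hx⟩ := exists_prime_orderOf_dvd_card'
    (G := ↥((Q : Subgroup C).map C.subtype)) 5 hQm.symm.dvd
  rw [Subgroup.orderOf_mk] at hx
  have hxz : zpowers x = (Q : Subgroup C).map C.subtype :=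
    zpowers_eq_of_prime hQm hxQ fun e => by rw [e, orderOf_one] at hx; norm_num at hx
  have hN : Nat.card (normalizer ((Q : Subgroup C) : Set C)) ∣ 240 := by
    have hle : (normalizer ((Q : Subgroup C) : Set C)).map C.subtype ≤
        normalizer (zpowers x : Set G) := hxz ▸ le_normalizer_map _
    rw [← (SevenFive.card_norm_prime F (Or.inl rfl) hx).trans (if_pos rfl),
      Nat.card_congr ((normalizer ((Q : Subgroup C) : Set C)).equivMapOfInjective _
        C.subtype_injective).toEquiv]
    exact card_dvd_of_le hle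
  have hN' : Nat.card (normalizer ((Q : Subgroup C) : Set C)) ∣ 15 := by
    have := Nat.dvd_gcd hN (hcard ▸ card_subgroup_dvd_card _ :
      Nat.card (normalizer ((Q : Subgroup C) : Set C)) ∣ 945)
    exact this
  have hmul := card_normalizer_sylow_mul Q
  rw [hcard] at hmul
  have hmod : Nat.card (Sylow 5 C) % 5 = 1 :=
    Eq.trans (card_sylow_modEq_one 5 C) (Nat.mod_eq_of_lt (by norm_num))
  have hle := Nat.le_of_dvd (by norm_num) hN'
  revert hN' hmul hle
  generalize Nat.card (normalizer ((Q : Subgroup C) : Set C)) = N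
  intro hN' hmul hle
  interval_cases N <;> omega

variable {s t : G}

/-- Among three elements of order three two are conjugate up to inversion. -/
theorem rel_pigeon (F : M24Nse2.Facts G) (h : InvCount.Classes s t)
    (hC : Nat.card (centralizer ({t} : Set G)) = 21504)
    (hall : ∀ u : G, orderOf u = 2 → IsConj s u ∨ IsConj t u) {a b c : G} (ha : orderOf a = 3)
    (hb : orderOf b = 3) (hc : orderOf c = 3) : Rel a b ∨ Rel a c ∨ Rel b c := by
  have same : ∀ {w u v a c : G}, ¬ 3 ^ 2 ∣ Nat.card (centralizer ({w} : Set G)) →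
      IsConj w u → IsConj w v → orderOf a = 3 → orderOf c = 3 → Commute a u → Commute c v →
      Rel a c := by
    intro w u v a c h9 hu hv ha hc hau hcv
    obtain ⟨g, hg⟩ := isConj_iff.1 hu.symm
    obtain ⟨k, hk⟩ := isConj_iff.1 hv.symm
    have m : ∀ {g a u : G}, g * u * g⁻¹ = w → Commute a u →
        MulAut.conj g a ∈ centralizer ({w} : Set G) := fun {g a u} e hc' => by
      rw [mem_centralizer_singleton_iff, ← e]
      exact (hc'.map (MulAut.conj g).toMonoidHom).eq
    have hr := rel_three h9 (a := MulAut.conj g a) (c := MulAut.conj k c)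
      (by rw [MulEquiv.orderOf_eq, ha]) (by rw [MulEquiv.orderOf_eq, hc]) (m hg hau) (m hk hcv)
    exact Rel.trans (Or.inl (isConj_iff.2 ⟨g, rfl⟩))
      (hr.trans (Rel.symm (Or.inl (isConj_iff.2 ⟨k, rfl⟩))))
  obtain ⟨u, hu, hau⟩ := exists_two F ha
  obtain ⟨v, hv, hbv⟩ := exists_two F hb
  obtain ⟨w, hw, hcw⟩ := exists_two F hc
  have hs : ¬ 3 ^ 2 ∣ Nat.card (centralizer ({s} : Set G)) := by rw [h.card_s]; norm_num
  have ht : ¬ 3 ^ 2 ∣ Nat.card (centralizer ({t} : Set G)) := by rw [hC]; norm_num
  rcases hall u hu with h1 | h1 <;> rcases hall v hv with h2 | h2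
  · exact Or.inl (same hs h1 h2 ha hb hau hbv)
  · rcases hall w hw with h3 | h3
    · exact Or.inr (Or.inl (same hs h1 h3 ha hc hau hcw))
    · exact Or.inr (Or.inr (same ht h2 h3 hb hc hbv hcw))
  · rcases hall w hw with h3 | h3
    · exact Or.inr (Or.inr (same hs h2 h3 hb hc hbv hcw))
    · exact Or.inr (Or.inl (same ht h1 h3 ha hc hau hcw))
  · exact Or.inl (same ht h1 h2 ha hb hau hbv)

/-- Elements of order three commuting with elements of order five, or seven, form one set. -/
theorem rel_prime (F : M24Nse2.Facts G) {p : ℕ} (hp : p = 5 ∨ p = 7) {c c' x x' : G}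
    (hc : orderOf c = 3) (hc' : orderOf c' = 3) (hx : orderOf x = p) (hx' : orderOf x' = p)
    (hcx : Commute c x) (hcx' : Commute c' x') : Rel c c' := by
  obtain ⟨g, k, hk⟩ := SevenFive.conj_prime F hp hx' hx
  have h1 : Commute (g⁻¹ * c * g) x' := by
    have := (hcx.pow_right k).map (MulAut.conj g⁻¹).toMonoidHom
    rw [← hk] at this
    simpa [mul_assoc] using this
  refine Rel.trans (Or.inl (isConj_iff.2 ⟨g⁻¹, rfl⟩)) ?_
  simp only [inv_inv]
  refine rel_three (H := centralizer ({x'} : Set G)) ?_ ?_ hc'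
    (mem_centralizer_singleton_iff.2 h1.eq) (mem_centralizer_singleton_iff.2 hcx'.eq)
  · rw [SevenFive.card_cent_prime F hp hx']
    rcases hp with rfl | rfl <;> norm_num
  · rw [← MulAut.conj_inv_apply, MulEquiv.orderOf_eq, hc]

/-- The number of pairs of commuting elements of orders three and five, or seven. -/
theorem count (F : M24Nse2.Facts G) {p : ℕ} (hp : p = 5 ∨ p = 7) {e x : G} (he : orderOf e = 3)
    (hx : orderOf x = p) (hc : Commute e x) :
    Nat.card {c : G // Rel e c} * cm p e =
      Nat.card {z : G // orderOf z = p} * (if p = 5 then 8 else 2) := by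
  refine pairs (p := p) (q := 3) (fun c z hcz => ⟨fun h => ⟨h.2, h.1.order.trans he⟩,
    fun h => ⟨rel_prime F hp he h.2 hx h.1 hc hcz, h.1⟩⟩) (fun c h => cm_rel h) fun z hz => ?_
  rw [cm_eq]
  exact (SevenFive.cnt_cent F hp hz).2

/-- The centralizer of an element of order three commuting with one of order seven. -/
theorem card_cent_three (F : M24Nse2.Facts G) (h : InvCount.Classes s t)
    (hC : Nat.card (centralizer ({t} : Set G)) = 21504)
    (hall : ∀ u : G, orderOf u = 2 → IsConj s u ∨ IsConj t u) {b y τ : G} (hb : orderOf b = 3)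
    (hy : orderOf y = 7) (hby : Commute b y) (hτ : τ * b * τ⁻¹ = b⁻¹) :
    Nat.card (centralizer ({b} : Set G)) = 504 ∧ Nat.card {c : G // Rel b c} = 485760 ∧
      cm 7 b = 48 ∧ ∃ a : G, orderOf a = 3 ∧ ¬ Rel a b ∧
        ∀ c : G, orderOf c = 3 → Rel a c ∨ Rel b c := by
  classical
  haveI := Fintype.ofFinite G
  obtain ⟨x, u, hx, -⟩ := InvCount.exists_pair (InvCount.good_five F)
  obtain ⟨a, ha, hax⟩ := InvCount.exists_three (InvCount.good_five F) hx
  have e5 := count F (Or.inl rfl) ha hx hax
  have e7 := count F (Or.inr rfl) hb hy hby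
  rw [if_pos rfl, F.c5] at e5
  rw [if_neg (by norm_num), F.c7] at e7
  obtain ⟨n5, m5, h5⟩ := cm_prime F (Or.inl rfl) hx (show Commute a x from hax)
  obtain ⟨n7, m7, h7⟩ := cm_prime F (Or.inr rfl) hy hby
  rw [h5] at e5
  rw [h7] at e7
  have hcl : Nat.card {c : G // Rel b c} = Nat.card {c : G // IsConj b c} :=
    Nat.card_congr (Equiv.subtypeEquivRight fun c =>
      ⟨fun hc => hc.elim id (IsConj.trans (isConj_iff.2 ⟨τ, hτ⟩)), Or.inl⟩)
  have hm := card_isConj_mul_card_centralizer b
  rw [F.card, ← hcl] at hm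
  generalize hBd : Nat.card {c : G // Rel b c} = B at e7 hm
  have hB0 : 0 < B := Nat.pos_of_ne_zero fun e => by simp [e] at hm
  have hX : Nat.card (centralizer ({b} : Set G)) = 63 * n7 := by
    refine Nat.eq_of_mul_eq_mul_left hB0 ?_
    rw [hm, show B * (63 * n7) = (B * n7) * 63 by ring]
    have : B * n7 * 6 = 23316480 := by rw [mul_assoc, e7]
    omega
  have hsum : ∀ {e : G}, orderOf e = 3 →
      Nat.card {c : G // Rel e c} + Nat.card {c : G // orderOf c = 3 ∧ ¬ Rel e c} = 712448 := by
    intro e he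
    rw [← F.c3, ← Nat.card_congr (Equiv.sumCompl fun c : {c : G // orderOf c = 3} => Rel e c.1),
      Nat.card_sum, Nat.card_congr (Equiv.subtypeSubtypeEquivSubtype
        (p := fun c : G => orderOf c = 3) (fun {c} (hc : Rel e c) => hc.order.trans he)),
      Nat.card_congr (Equiv.subtypeSubtypeEquivSubtypeInter (fun c : G => orderOf c = 3)
        fun c => ¬ Rel e c)]
  have hsB := hsum hb
  rw [hBd] at hsB
  have hne : ¬ Rel a b := by
    intro hab
    have hBa : Nat.card {c : G // Rel a c} = B := by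
      rw [← hBd]
      exact Nat.card_congr (Equiv.subtypeEquivRight fun c => ⟨hab.symm.trans, hab.trans⟩)
    rw [hBa] at e5
    have h1 : B * n5 = 8160768 := by
      have : B * n5 * 4 = 32643072 := by rw [mul_assoc]; exact e5
      omega
    have h2 : B * n7 = 3886080 := by
      have : B * n7 * 6 = 23316480 := by rw [mul_assoc]; exact e7
      omega
    have h3 : 10 * n5 = 21 * n7 := by
      refine Nat.eq_of_mul_eq_mul_left hB0 ?_
      rw [show B * (10 * n5) = 10 * (B * n5) by ring,
        show B * (21 * n7) = 21 * (B * n7) by ring, h1, h2]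
    obtain ⟨k, rfl⟩ : ∃ k, n7 = 10 * k := ⟨n7 / 10, by omega⟩
    obtain rfl : n5 = 21 * k := by omega
    have hk : k ∈ Nat.divisors 1536 := by
      refine Nat.mem_divisors.2 ⟨?_, by norm_num⟩
      have := cent_dvd F hb
      rw [hX, show 63 * (10 * k) = 630 * k by ring, show (967680 : ℕ) = 630 * 1536 from rfl] at this
      exact Nat.dvd_of_mul_dvd_mul_left (by norm_num) this
    have hk1 : k = 96 := (show ∀ k ∈ Nat.divisors 1536, 21 * k % 5 = 1 → 10 * k % 7 = 1 → k = 96
      by decide +kernel) k hk m5 m7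
    subst hk1
    have hB : B = 4048 := by omega
    have hQ : Nat.card {c : G // orderOf c = 3 ∧ ¬ Rel b c} = 708400 := by omega
    obtain ⟨⟨q, hq, hqb⟩⟩ := (Nat.card_pos_iff.1 (hQ ▸ (by norm_num : 0 < 708400) :
      0 < Nat.card {c : G // orderOf c = 3 ∧ ¬ Rel b c})).1
    have hcard : Nat.card {c : G // Rel q c} = 708400 := by
      rw [← hQ]
      refine Nat.card_congr (Equiv.subtypeEquivRight fun c => ⟨fun hc =>
        ⟨hc.order.trans hq, fun hbc => hqb (hbc.trans hc.symm)⟩, fun hc => ?_⟩)
      rcases rel_pigeon F h hC hall hb hq hc.1 with hr | hr | hr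
      · exact absurd hr hqb
      · exact absurd hr hc.2
      · exact hr
    have := card_rel_dvd q
    rw [hcard, F.card] at this
    norm_num at this
  have hcov : ∀ c : G, orderOf c = 3 → Rel a c ∨ Rel b c := fun c hc =>
    (rel_pigeon F h hC hall ha hb hc).resolve_left hne
  have hA : Nat.card {c : G // Rel a c} + B = 712448 := by
    rw [← hsB, add_comm]
    congr 1
    exact Nat.card_congr (Equiv.subtypeEquivRight fun c => ⟨fun hc =>
      ⟨hc.order.trans ha, fun hbc => hne (hc.trans hbc.symm)⟩,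
      fun hc => (hcov c hc.1).resolve_right hc.2⟩)
  generalize Nat.card {c : G // Rel a c} = A at e5 hA
  have h1 : A * n5 = 8160768 := by
    have : A * n5 * 4 = 32643072 := by rw [mul_assoc]; exact e5
    omega
  have h2 : B * n7 = 3886080 := by
    have : B * n7 * 6 = 23316480 := by rw [mul_assoc]; exact e7
    omega
  have hn7 : n7 = 8 := by
    by_contra hne7
    rcases Nat.lt_or_ge n7 15 with hlt | hge
    · have h1' : n7 = 1 := by omega
      subst h1'
      omega
    · have hB' : B * 15 ≤ B * n7 := Nat.mul_le_mul_left B hge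
      have hle : n5 ≤ 18 := by
        by_contra hgt
        have := Nat.mul_le_mul (show 453376 ≤ A by omega) (show 19 ≤ n5 by omega)
        omega
      have h11 : 11 < n5 := by
        by_contra hgt
        have := Nat.mul_le_mul (show A ≤ 712448 by omega) (show n5 ≤ 11 by omega)
        omega
      obtain rfl : n5 = 16 := by omega
      obtain rfl : B = 202400 := by omega
      omega
  subst hn7
  exact ⟨hX, by omega, by rw [h7], a, ha, hne, hcov⟩

/-- An element conjugating a generator of a subgroup of prime order into it normalizes it. -/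
theorem mem_norm {p : ℕ} [Fact p.Prime] {g z : G} (hz : orderOf z = p)
    (hg : g * z * g⁻¹ ∈ zpowers z) : g ∈ normalizer (zpowers z : Set G) := by
  have hne : g * z * g⁻¹ ≠ 1 := fun e => by
    rw [conj_eq_one_iff] at e
    rw [e, orderOf_one] at hz
    exact (Fact.out : p.Prime).ne_one hz.symm
  have he := zpowers_eq_of_prime (by rw [Nat.card_zpowers, hz]) hg hne
  rw [mem_normalizer_iff]
  intro w
  constructor
  · rintro ⟨k, rfl⟩
    rw [← he]
    exact ⟨k, by simp⟩
  · intro hw
    rw [← he] at hw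
    obtain ⟨k, hk⟩ := hw
    simp only [conj_zpow] at hk
    exact ⟨k, mul_left_cancel (mul_right_cancel hk)⟩

/-- No involution inverts an element of order seven. -/
theorem not_inverts (F : M24Nse2.Facts G) {z τ : G} (hz : orderOf z = 7) (hτ : orderOf τ = 2) :
    τ * z * τ⁻¹ ≠ z⁻¹ := by
  intro hinv
  haveI : Fact (Nat.Prime 7) := ⟨by norm_num⟩
  set N := normalizer (zpowers z : Set G) with hN
  set C := centralizer ({z} : Set G) with hC
  have hle : C ≤ N := by
    rw [hC, centralizer_eq_of_prime (by rw [Nat.card_zpowers, hz]) (mem_zpowers z)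
      (fun e => by rw [e, orderOf_one] at hz; norm_num at hz)]
    exact centralizer_le_normalizer' _
  obtain ⟨hcC, hcN⟩ := cent_seven F hz
  have hτN : τ ∈ N := mem_norm hz (hinv ▸ inv_mem (mem_zpowers z))
  haveI : (C.subgroupOf N).Normal := ⟨fun n hn g => by
    rw [mem_subgroupOf] at hn ⊢
    have hz' : (g : G)⁻¹ * z * g ∈ zpowers z := (mem_normalizer_iff''.1 g.2 z).1 (mem_zpowers z)
    obtain ⟨j, hj⟩ := hz'
    simp only at hj
    have hc : Commute (n : G) ((g : G)⁻¹ * z * g) :=
      hj ▸ (show Commute (n : G) z from mem_centralizer_singleton_iff.1 hn).zpow_right j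
    have := hc.map (MulAut.conj (g : G)).toMonoidHom
    rw [hC, mem_centralizer_singleton_iff]
    simpa [mul_assoc] using this.eq⟩
  have hidx : (C.subgroupOf N).index = 3 := by
    have := (C.subgroupOf N).card_mul_index
    rw [Nat.card_congr (subgroupOfEquivOfLe hle).toEquiv, hcC, hcN] at this
    omega
  have h3 := Subgroup.pow_index_mem (C.subgroupOf N) ⟨τ, hτN⟩
  rw [hidx, mem_subgroupOf] at h3
  simp only [Subgroup.coe_pow] at h3
  rw [pow_succ, ← hτ, pow_orderOf_eq_one, one_mul, hC, mem_centralizer_singleton_iff,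
    ← mul_inv_eq_iff_eq_mul, hinv, inv_eq_iff_mul_eq_one, ← pow_two] at h3
  have := orderOf_dvd_of_pow_eq_one h3
  rw [hz] at this
  norm_num at this

/-- A power of `y` normalizing another subgroup of order seven is trivial. -/
theorem no_norm (F : M24Nse2.Facts G) {y z : G} (hy : orderOf y = 7) (hz : orderOf z = 7)
    (hzy : z ∉ zpowers y) {m : ℕ} (h : y ^ m * z * (y ^ m)⁻¹ ∈ zpowers z) : 7 ∣ m := by
  haveI : Fact (Nat.Prime 7) := ⟨by norm_num⟩
  by_contra hm
  obtain ⟨P, hP⟩ := SevenFive.exists_sylow_prime F (p := 7) (Or.inr rfl)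
  obtain ⟨R, hR, -⟩ := existsUnique_sylow_of_orderOf P hP hz
  have hn := mem_norm hz h
  have ho : orderOf (y ^ m) = 7 := by
    refine orderOf_eq_prime (by rw [← pow_mul, mul_comm, pow_mul, ← hy, pow_orderOf_eq_one,
      one_pow]) fun e => hm ?_
    rw [← hy]
    exact orderOf_dvd_of_pow_eq_one e
  have hpg : IsPGroup 7 (zpowers (y ^ m)) :=
    IsPGroup.of_card (n := 1) (by rw [Nat.card_zpowers, ho, pow_one])
  have hle : zpowers (y ^ m) ⊓ (R : Subgroup G) = zpowers (y ^ m) := by
    rw [← hR] at hn
    rw [← hpg.inf_normalizer_sylow R]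
    exact inf_eq_left.mpr (zpowers_le.2 hn)
  have h1 : y ^ m ∈ zpowers z := hR ▸ (inf_eq_left.mp hle) (mem_zpowers _)
  have hne : y ^ m ≠ 1 := fun e => by rw [e, orderOf_one] at ho; norm_num at ho
  have e1 := zpowers_eq_of_prime (by rw [Nat.card_zpowers, hz]) h1 hne
  have e2 := zpowers_eq_of_prime (by rw [Nat.card_zpowers, hy]) (pow_mem (mem_zpowers y) m) hne
  exact hzy (e2 ▸ e1 ▸ mem_zpowers z)

/-- An involution centralizing `y` and normalizing a set of 48 elements of order seven, stable
under `y`, centralizes it. -/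
theorem commute_sevens (F : M24Nse2.Facts G) {b y τ z : G} (hy : orderOf y = 7)
    (hby : Commute b y) (h48 : cm 7 b = 48) (hτ : orderOf τ = 2) (hτy : Commute τ y)
    (hτb : τ * b * τ⁻¹ = b⁻¹) (hz : orderOf z = 7) (hbz : Commute b z) : Commute τ z := by
  classical
  by_cases hzy : z ∈ zpowers y
  · obtain ⟨k, rfl⟩ := hzy
    exact hτy.zpow_right k
  let S := {x : G // orderOf x = 7 ∧ Commute b x}
  have hpow : ∀ (w : G), orderOf w = 7 → ∀ k : Fin 6, orderOf (w ^ ((k : ℕ) + 1)) = 7 := by
    intro w hw k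
    rw [orderOf_pow' _ (by omega), hw, Nat.Coprime.gcd_eq_one, Nat.div_one]
    exact (Nat.Prime.coprime_iff_not_dvd (by norm_num)).2
      (Nat.not_dvd_of_pos_of_lt (by omega) (by omega))
  have hcz : ∀ (i : Fin 7) (k : Fin 6),
      orderOf (y ^ (i : ℕ) * z ^ ((k : ℕ) + 1) * (y ^ (i : ℕ))⁻¹) = 7 ∧
      Commute b (y ^ (i : ℕ) * z ^ ((k : ℕ) + 1) * (y ^ (i : ℕ))⁻¹) := fun i k =>
    ⟨by rw [← MulAut.conj_apply, MulEquiv.orderOf_eq]; exact hpow z hz k,
      ((hby.pow_right _).mul_right (hbz.pow_right _)).mul_right (hby.pow_right _).inv_right⟩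
  let f : Fin 7 × Fin 6 ⊕ Fin 6 → S := Sum.elim
    (fun v => ⟨_, hcz v.1 v.2⟩) (fun k => ⟨y ^ ((k : ℕ) + 1), hpow y hy k, hby.pow_right _⟩)
  have hzk : ∀ k : Fin 6, z ^ ((k : ℕ) + 1) ≠ 1 := fun k e => by
    have := hpow z hz k
    rw [e, orderOf_one] at this
    norm_num at this
  have hout : ∀ (i : Fin 7) (k : Fin 6),
      y ^ (i : ℕ) * z ^ ((k : ℕ) + 1) * (y ^ (i : ℕ))⁻¹ ∉ zpowers y := by
    intro i k hmem
    have hmem' : z ^ ((k : ℕ) + 1) ∈ zpowers y := by
      have := mul_mem (mul_mem (inv_mem (pow_mem (mem_zpowers y) (i : ℕ))) hmem)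
        (pow_mem (mem_zpowers y) (i : ℕ))
      simpa [mul_assoc] using this
    haveI : Fact (Nat.Prime 7) := ⟨by norm_num⟩
    have e1 := zpowers_eq_of_prime (by rw [Nat.card_zpowers, hy]) hmem' (hzk k)
    exact hzy (e1 ▸ (zpowers_eq_of_prime (p := 7) (by rw [Nat.card_zpowers, hz])
      (pow_mem (mem_zpowers z) _) (hzk k)).symm ▸ mem_zpowers z)
  have hinj : Function.Injective f := by
    refine Function.Injective.sumElim ?_ ?_ ?_
    · rintro ⟨i, k⟩ ⟨j, l⟩ e
      have e' := congrArg Subtype.val e
      have hij : i = j := by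
        have key : ∀ (i j : Fin 7) (k l : Fin 6), (j : ℕ) ≤ i →
            y ^ (i : ℕ) * z ^ ((k : ℕ) + 1) * (y ^ (i : ℕ))⁻¹ =
              y ^ (j : ℕ) * z ^ ((l : ℕ) + 1) * (y ^ (j : ℕ))⁻¹ → i = j := by
          intro i j k l hji e'
          rw [show (i : ℕ) = j + (i - j : ℕ) by omega, pow_add] at e'
          have e2 : y ^ ((i : ℕ) - j) * z ^ ((k : ℕ) + 1) * (y ^ ((i : ℕ) - j))⁻¹ =
              z ^ ((l : ℕ) + 1) := by
            refine mul_left_cancel (a := y ^ (j : ℕ)) (mul_right_cancel (b := (y ^ (j : ℕ))⁻¹) ?_)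
            rw [← e']
            simp only [mul_inv_rev, mul_assoc]
          haveI : Fact (Nat.Prime 7) := ⟨by norm_num⟩
          have hzz := zpowers_eq_of_prime (p := 7) (by rw [Nat.card_zpowers, hz])
            (pow_mem (mem_zpowers z) _) (hzk k)
          have hzy' : z ^ ((k : ℕ) + 1) ∉ zpowers y := fun hm => by
            have := hout 0 k
            simp [hm] at this
          have := no_norm F hy (hpow z hz k) hzy' (m := (i : ℕ) - j)
            (by rw [e2, hzz]; exact pow_mem (mem_zpowers z) _)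
          exact Fin.ext (by have := Nat.eq_zero_of_dvd_of_lt this (by omega); omega)
        rcases le_total (j : ℕ) i with hle | hle
        · exact key i j k l hle e'
        · exact (key j i l k hle e'.symm).symm
      subst hij
      have e3 := pow_inj_mod.1 (mul_left_cancel (mul_right_cancel e'))
      rw [hz, Nat.mod_eq_of_lt (by omega), Nat.mod_eq_of_lt (by omega)] at e3
      exact Prod.ext rfl (Fin.ext (by simpa using e3))
    · intro k l e
      have e3 := pow_inj_mod.1 (congrArg Subtype.val e)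
      rw [hy, Nat.mod_eq_of_lt (by omega), Nat.mod_eq_of_lt (by omega)] at e3
      exact Fin.ext (by simpa using e3)
    · rintro ⟨i, k⟩ l e
      refine hout i k ?_
      have e' := congrArg Subtype.val e
      simp only at e'
      rw [e']
      exact pow_mem (mem_zpowers y) _
  have hbij : Function.Bijective f := (Nat.bijective_iff_injective_and_card f).2
    ⟨hinj, by
      rw [Nat.card_sum, Nat.card_prod, Nat.card_fin, Nat.card_fin]
      exact h48.symm⟩
  have ht2 : τ * τ = 1 := by rw [← pow_two, ← hτ, pow_orderOf_eq_one]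
  have hti : τ⁻¹ = τ := inv_eq_of_mul_eq_one_right ht2
  have hw : Commute b (τ * z * τ⁻¹) := by
    have := hbz.map (MulAut.conj τ).toMonoidHom
    simp only [MulEquiv.toMonoidHom_eq_coe, MonoidHom.coe_coe, MulAut.conj_apply, hτb] at this
    exact Commute.inv_left_iff.1 this
  obtain ⟨v, hv⟩ := hbij.2 ⟨τ * z * τ⁻¹, by rw [← MulAut.conj_apply, MulEquiv.orderOf_eq, hz], hw⟩
  have hv' := congrArg Subtype.val hv
  rcases v with ⟨i, k⟩ | k
  · simp only [f, Sum.elim_inl] at hv'
    have h2 : z = y ^ (i + i : ℕ) * z ^ (((k : ℕ) + 1) * ((k : ℕ) + 1)) *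
        (y ^ (i + i : ℕ))⁻¹ := by
      have hc : τ * y ^ (i : ℕ) = y ^ (i : ℕ) * τ := (hτy.pow_right _).eq
      have hc' : (y ^ (i : ℕ))⁻¹ * τ⁻¹ = τ⁻¹ * (y ^ (i : ℕ))⁻¹ := by
        rw [← mul_inv_rev, ← mul_inv_rev, hc]
      calc z = τ * (τ * z * τ⁻¹) * τ⁻¹ := by rw [hti]; simp [← mul_assoc, ht2]; simp [mul_assoc, ht2]
        _ = (τ * y ^ (i : ℕ)) * z ^ ((k : ℕ) + 1) * ((y ^ (i : ℕ))⁻¹ * τ⁻¹) := by
          rw [← hv']; simp [mul_assoc]
        _ = y ^ (i : ℕ) * (τ * z * τ⁻¹) ^ ((k : ℕ) + 1) * (y ^ (i : ℕ))⁻¹ := by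
          rw [hc, hc', conj_pow]; simp [mul_assoc]
        _ = _ := by rw [← hv', conj_pow, ← pow_mul, pow_add]; simp [mul_assoc]
    have hzz : y ^ (i + i : ℕ) * z * (y ^ (i + i : ℕ))⁻¹ ∈ zpowers z := by
      have hk : (z ^ (((k : ℕ) + 1) * ((k : ℕ) + 1))) ≠ 1 := fun e => by
        rw [e, mul_one, mul_inv_cancel] at h2
        rw [h2, orderOf_one] at hz
        norm_num at hz
      haveI : Fact (Nat.Prime 7) := ⟨by norm_num⟩
      have hn : (y ^ (i + i : ℕ))⁻¹ ∈ normalizer (zpowers z : Set G) := by
        refine mem_norm hz ?_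
        rw [inv_inv]
        have e4 : (y ^ (i + i : ℕ))⁻¹ * z * y ^ (i + i : ℕ) =
            z ^ (((k : ℕ) + 1) * ((k : ℕ) + 1)) := by
          conv_lhs => rw [h2]
          simp [mul_assoc]
        rw [e4]
        exact pow_mem (mem_zpowers z) _
      exact (mem_normalizer_iff.1 (by simpa using inv_mem hn) z).1 (mem_zpowers z)
    have hi : (i : ℕ) = 0 := by
      have := no_norm F hy hz hzy hzz
      omega
    rw [hi, add_zero, pow_zero, one_mul, inv_one, mul_one] at h2
    rw [hi, pow_zero, one_mul, inv_one, mul_one] at hv'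
    have h3 := pow_inj_mod.1 ((pow_one z).trans h2)
    rw [hz] at h3
    have hk : (k : ℕ) = 0 ∨ (k : ℕ) = 5 := by
      revert h3
      fin_cases k <;> simp
    rcases hk with hk | hk
    · rw [hk, zero_add, pow_one] at hv'
      exact mul_inv_eq_iff_eq_mul.1 hv'.symm
    · refine absurd ?_ (not_inverts F hz hτ)
      rw [← hv', hk, eq_inv_iff_mul_eq_one, ← pow_succ]
      exact orderOf_dvd_iff_pow_eq_one.1 hz.dvd
  · refine absurd ?_ hzy
    simp only [f, Sum.elim_inr] at hv'
    have hc : Commute τ (y ^ ((k : ℕ) + 1)) := hτy.pow_right _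
    have : z = y ^ ((k : ℕ) + 1) := by
      calc z = τ⁻¹ * (τ * z * τ⁻¹) * τ := by group
        _ = τ⁻¹ * y ^ ((k : ℕ) + 1) * τ := by rw [← hv']
        _ = _ := by rw [mul_assoc, ← hc.eq, inv_mul_cancel_left]
    rw [this]
    exact pow_mem (mem_zpowers y) _

/-- An involution lies in every normal subgroup of odd index. -/
theorem mem_of_odd_index {K : Type u} [Group K] {H : Subgroup K} [H.Normal] (h : H.index % 2 = 1)
    {u : K} (hu : u ^ 2 = 1) : u ∈ H := by
  have := H.pow_index_mem u
  rwa [pow_eq_pow_mod H.index hu, h, pow_one] at this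

/-- A conjugate of `w` by a power of `y` is `w` only if they commute. -/
theorem conj_powers_injective {y w : G} (hy : orderOf y = 7) (hw : ¬ Commute y w) :
    Function.Injective fun j : Fin 7 => y ^ (j : ℕ) * w * (y ^ (j : ℕ))⁻¹ := by
  have key : ∀ i j : Fin 7, (j : ℕ) ≤ i →
      y ^ (i : ℕ) * w * (y ^ (i : ℕ))⁻¹ = y ^ (j : ℕ) * w * (y ^ (j : ℕ))⁻¹ → i = j := by
    intro i j hji e
    by_contra hne
    have hd : Commute (y ^ ((i : ℕ) - j)) w := by
      rw [show (i : ℕ) = j + (i - j : ℕ) by omega, pow_add] at e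
      refine mul_inv_eq_iff_eq_mul.1 ?_
      refine mul_left_cancel (a := y ^ (j : ℕ)) (mul_right_cancel (b := (y ^ (j : ℕ))⁻¹) ?_)
      rw [← e]
      simp only [mul_inv_rev, mul_assoc]
    have hne' : (i : ℕ) ≠ j := fun e' => hne (Fin.ext e')
    obtain ⟨l, -, hl⟩ := Nat.exists_mul_mod_eq_one_of_coprime (k := 7) (n := (i : ℕ) - j)
      ((Nat.Prime.coprime_iff_not_dvd (by norm_num)).2
        (Nat.not_dvd_of_pos_of_lt (by omega) (by omega))).symm (by norm_num)
    refine hw ?_
    have := hd.pow_left l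
    rwa [← pow_mul, pow_eq_pow_mod _ (hy ▸ pow_orderOf_eq_one y : y ^ 7 = 1), hl, pow_one] at this
  intro i j e
  rcases le_total (j : ℕ) i with hle | hle
  · exact key i j hle e
  · exact (key j i hle e.symm).symm

/-- The centralizer of an element of order three commuting with one of order seven has more than
seven involutions. -/
theorem many_twos (F : M24Nse2.Facts G) (h : InvCount.Classes s t)
    (hC : Nat.card (centralizer ({t} : Set G)) = 21504)
    (hall : ∀ u : G, orderOf u = 2 → IsConj s u ∨ IsConj t u) {a b y : G} (ha : orderOf a = 3)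
    (hb : orderOf b = 3) (hne : ¬ Rel a b) (hcov : ∀ c : G, orderOf c = 3 → Rel a c ∨ Rel b c)
    (hB : Nat.card {c : G // Rel b c} = 485760) (hy : orderOf y = 7) (hby : Commute b y) :
    7 < cm 2 b := by
  classical
  by_contra hle
  obtain ⟨u, hu, hbu⟩ := exists_two F hb
  obtain ⟨v, hv, hav⟩ := exists_two F ha
  -- conjugates under `y`
  have hnc : ¬ Commute y u := fun hyu => by
    have h14 : orderOf (y * u) = 14 := by
      rw [hyu.orderOf_mul_eq_mul_orderOf_of_coprime (by rw [hy, hu]; norm_num), hy, hu]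
    have := InvCount.mul_mem_ords F hb h14 (hby.mul_right hbu).eq (by norm_num)
    revert this
    decide
  have h7 : cm 2 b = 7 := by
    refine le_antisymm (Nat.le_of_not_lt hle) ?_
    rw [← Nat.card_fin 7]
    refine Nat.card_le_card_of_injective
      (fun j : Fin 7 => (⟨y ^ (j : ℕ) * u * (y ^ (j : ℕ))⁻¹,
        by rw [← MulAut.conj_apply, MulEquiv.orderOf_eq, hu],
        ((hby.pow_right _).mul_right hbu).mul_right (hby.pow_right _).inv_right⟩ :
          {x : G // orderOf x = 2 ∧ Commute b x})) fun i j e => ?_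
    exact conj_powers_injective hy hnc (congrArg Subtype.val e)
  have h9 : ∀ {w : G}, orderOf w = 2 → ¬ 3 ^ 2 ∣ Nat.card (centralizer ({w} : Set G)) := by
    intro w hw
    have hcc : ∀ {x : G}, IsConj x w →
        Nat.card (centralizer ({w} : Set G)) = Nat.card (centralizer ({x} : Set G)) := by
      intro x hx
      have h1 := card_isConj_mul_card_centralizer w
      have h2 := card_isConj_mul_card_centralizer x
      have he : Nat.card {z : G // IsConj w z} = Nat.card {z : G // IsConj x z} :=
        Nat.card_congr (Equiv.subtypeEquivRight fun z => ⟨hx.trans, hx.symm.trans⟩)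
      rw [he, ← h2] at h1
      refine Nat.eq_of_mul_eq_mul_left (Nat.pos_of_ne_zero fun e => ?_) h1
      rw [e, F.card] at h2
      simp at h2
    rcases hall w hw with hc | hc <;> rw [hcc hc]
    · rw [h.card_s]; norm_num
    · rw [hC]; norm_num
  have huv : ¬ IsConj u v := fun huv => by
    obtain ⟨g, hg⟩ := isConj_iff.1 huv
    refine hne (Rel.symm (Rel.trans (Or.inl (isConj_iff.2 ⟨g, rfl⟩)) ?_))
    refine rel_three (h9 hv) ?_ ha ?_ (mem_centralizer_singleton_iff.2 hav.eq)
    · rw [← MulAut.conj_apply, MulEquiv.orderOf_eq, hb]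
    · rw [mem_centralizer_singleton_iff, ← hg]
      exact (hbu.map (MulAut.conj g).toMonoidHom).eq
  have htwo : ∀ {w c : G}, orderOf w = 2 → orderOf c = 3 → Commute c w →
      (Rel b c ↔ IsConj u w) := by
    intro w c hw hc hcw
    have same : ∀ {x e : G}, orderOf x = 2 → orderOf e = 3 → Commute e x → IsConj x w → Rel e c := by
      intro x e hx he hex hxw
      obtain ⟨g, hg⟩ := isConj_iff.1 hxw
      refine Rel.trans (Or.inl (isConj_iff.2 ⟨g, rfl⟩)) (rel_three (h9 hw) ?_ hc ?_
        (mem_centralizer_singleton_iff.2 hcw.eq))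
      · rw [← MulAut.conj_apply, MulEquiv.orderOf_eq, he]
      · rw [mem_centralizer_singleton_iff, ← hg]
        exact (hex.map (MulAut.conj g).toMonoidHom).eq
    refine ⟨fun hbc => ?_, same hu hb hbu⟩
    by_contra hn
    have : IsConj v w := by
      rcases hall u hu with a1 | a1 <;> rcases hall v hv with a2 | a2 <;>
        rcases hall w hw with a3 | a3
      all_goals first
        | exact a2.symm.trans a3
        | exact absurd (a1.symm.trans a2) huv
        | exact absurd (a1.symm.trans a3) hn
    exact hne ((same hv ha hav this).trans hbc.symm)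
  have hp := pairs (p := 2) (q := 3) (R := Rel b) (S := IsConj u) (a := 7) (k := cm 3 u)
    (fun c x hcx => ⟨fun hh => ⟨(htwo hh.2 (hh.1.order.trans hb) hcx).1 hh.1, hh.1.order.trans hb⟩,
      fun hh => by
        have hx : orderOf x = 2 := (Rel.order (Or.inl hh.1)).trans hu
        exact ⟨(htwo hx hh.2 hcx).2 hh.1, hx⟩⟩)
    (fun c hc => (cm_rel hc).trans h7) (fun x hx => cm_rel (Or.inl hx))
  rw [hB] at hp
  rcases hall u hu with hsu | htu
  · have hcl : Nat.card {x : G // IsConj u x} = 31878 := by
      rw [← h.card_class_s]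
      exact Nat.card_congr (Equiv.subtypeEquivRight fun x => ⟨hsu.trans, hsu.symm.trans⟩)
    rw [hcl] at hp
    omega
  · have hcl : Nat.card {x : G // IsConj u x} = 11385 := by
      have h2 := card_isConj_mul_card_centralizer t
      rw [hC, F.card] at h2
      have : Nat.card {x : G // IsConj t x} = 11385 := by omega
      rw [← this]
      exact Nat.card_congr (Equiv.subtypeEquivRight fun x => ⟨htu.trans, htu.symm.trans⟩)
    rw [hcl] at hp
    omega

/-- The centralizer of an involution commuting with an element of order seven has a simple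
subgroup of order 168. -/
theorem exists_simple_le (F : M24Nse2.Facts G) (h : InvCount.Classes s t)
    (hC : Nat.card (centralizer ({t} : Set G)) = 21504)
    (hall : ∀ u : G, orderOf u = 2 → IsConj s u ∨ IsConj t u) :
    ∃ D : Subgroup G, D ≤ centralizer ({t} : Set G) ∧ Nat.card D = 168 ∧ IsSimpleGroup D := by
  classical
  haveI := Fintype.ofFinite G
  haveI h7p : Fact (Nat.Prime 7) := ⟨by norm_num⟩
  obtain ⟨⟨y, hy⟩⟩ := (Nat.card_pos_iff.1 (show 0 < Nat.card {g : G // orderOf g = 7} by
    rw [F.c7]; norm_num)).1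
  obtain ⟨τ, b, hτ, hb, hyτ, hyb, hτb, -⟩ := seven_struct F hy
  obtain ⟨hX, hB, h48, a, ha, hne, hcov⟩ := card_cent_three F h hC hall hb hy hyb.symm hτb
  have hmany := many_twos F h hC hall ha hb hne hcov hB hy hyb.symm
  set X := centralizer ({b} : Set G) with hXd
  set T : Set G := {z | orderOf z = 7 ∧ Commute b z} with hT
  set D := closure T with hD
  have hmemX : ∀ {g : G}, g ∈ X ↔ Commute g b := fun {g} => mem_centralizer_singleton_iff
  have hDX : D ≤ X := (closure_le _).2 fun z hz => hmemX.2 hz.2.symm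
  have hDτ : D ≤ centralizer ({τ} : Set G) := (closure_le _).2 fun z hz =>
    mem_centralizer_singleton_iff.2
      (commute_sevens F hy hyb.symm h48 hτ hyτ.symm hτb hz.1 hz.2).eq.symm
  have hyD : y ∈ D := subset_closure ⟨hy, hyb.symm⟩
  -- the order divides 168
  have hd168 : Nat.card D ∣ 168 := by
    have hcomm : ∀ (d : D) (e : zpowers b), Commute (e : G) (d : G) := fun d e => by
      obtain ⟨k, hk⟩ := e.2
      simp only at hk
      rw [← hk]
      exact (hmemX.1 (hDX d.2)).symm.zpow_left k
    let f : D × zpowers b →* X :=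
      { toFun := fun p => ⟨(p.1 : G) * p.2, mul_mem (hDX p.1.2)
          (zpowers_le.2 (hmemX.2 (Commute.refl b)) p.2.2)⟩
        map_one' := Subtype.ext (by simp)
        map_mul' := fun p q => Subtype.ext <| by
          show ((p.1 : G) * q.1) * (p.2 * q.2) = (p.1 * p.2) * (q.1 * q.2)
          rw [mul_assoc (p.1 : G), mul_assoc (p.1 : G), ← mul_assoc (q.1 : G),
            ← (hcomm q.1 p.2).eq, mul_assoc] }
    have hf : Function.Injective f := by
      rw [injective_iff_map_eq_one]
      rintro ⟨d, e⟩ he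
      have he' : (d : G) * e = 1 := congrArg Subtype.val he
      have hed : (e : G) ∈ D := by
        rw [eq_inv_of_mul_eq_one_right he']
        exact inv_mem d.2
      have he1 : (e : G) = 1 := by
        by_contra hne1
        haveI : Fact (Nat.Prime 3) := ⟨Nat.prime_three⟩
        have := zpowers_eq_of_prime (by rw [Nat.card_zpowers, hb]) e.2 hne1
        have hbD : b ∈ D := by
          have hbe : b ∈ zpowers (e : G) := by rw [this]; exact mem_zpowers b
          exact zpowers_le.2 hed hbe
        have hc : τ * b * τ⁻¹ = b :=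
          mul_inv_eq_iff_eq_mul.2 (mem_centralizer_singleton_iff.1 (hDτ hbD)).symm
        rw [hτb, inv_eq_iff_mul_eq_one, ← pow_two] at hc
        have := orderOf_dvd_of_pow_eq_one hc
        rw [hb] at this
        norm_num at this
      rw [he1, mul_one] at he'
      exact Prod.ext (Subtype.ext he') (Subtype.ext he1)
    have := card_dvd_of_injective f hf
    rw [Nat.card_prod, Nat.card_zpowers, hb, hX] at this
    exact Nat.dvd_of_mul_dvd_mul_right (by norm_num : 0 < 3)
      (show Nat.card D * 3 ∣ 168 * 3 from this)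
  -- the elements of order seven
  have hsev : Nat.card {d : D // orderOf d = 7} = 48 := by
    rw [← h48]
    exact Nat.card_congr
      { toFun := fun d => ⟨d.1.1, by rw [Subgroup.orderOf_coe]; exact d.2,
          (hmemX.1 (hDX d.1.2)).symm⟩
        invFun := fun z => ⟨⟨z.1, subset_closure z.2⟩, by rw [Subgroup.orderOf_mk]; exact z.2.1⟩
        left_inv := fun d => rfl
        right_inv := fun z => rfl }
  obtain ⟨P⟩ : Nonempty (Sylow 7 D) := inferInstance
  have hP : Nat.card (P : Subgroup D) = 7 := InvCount.sylow_prime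
    (by
      have := orderOf_dvd_natCard (⟨y, hyD⟩ : D)
      rwa [Subgroup.orderOf_mk, hy] at this)
    (fun hh => by have := hh.trans hd168; norm_num at this) P
  have hn8 : Nat.card (Sylow 7 D) = 8 := by
    have := card_orderOf_eq_prime P hP
    omega
  -- involutions of the centralizer
  have hnormal : ∀ g ∈ X, ∀ d ∈ D, g * d * g⁻¹ ∈ D := by
    intro g hg d hd
    have hle : D ≤ D.comap (MulAut.conj g).toMonoidHom := by
      refine (closure_le (D.comap (MulAut.conj g).toMonoidHom)).2 fun z hz => subset_closure ?_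
      refine ⟨by simpa [← MulAut.conj_apply] using hz.1, ?_⟩
      show Commute b (g * z * g⁻¹)
      exact ((hmemX.1 hg).symm.mul_right hz.2).mul_right (hmemX.1 hg).symm.inv_right
    exact hle hd
  haveI hDn : (D.subgroupOf X).Normal := ⟨fun d hd g => hnormal g.1 g.2 d.1 hd⟩
  have htwoD : Nat.card D ∣ 168 → 8 ∣ Nat.card D → ∀ u : G, orderOf u = 2 → Commute b u → u ∈ D := by
    intro h1 h2 u hu hbu
    have hidx : (D.subgroupOf X).index % 2 = 1 := by
      have := (D.subgroupOf X).card_mul_index
      rw [Nat.card_congr (subgroupOfEquivOfLe hDX).toEquiv, hX] at this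
      have hd8 : (D.subgroupOf X).index ∣ 63 := by
        obtain ⟨k, hk⟩ := h2
        rw [hk, mul_assoc] at this
        exact Dvd.intro_left k (by omega)
      exact Nat.odd_iff.1 (Odd.of_dvd_nat (by decide) hd8)
    have := mem_of_odd_index hidx (u := (⟨u, hmemX.2 hbu.symm⟩ : X))
      (Subtype.ext (by simp [← hu, pow_orderOf_eq_one]))
    exact this
  have h8D : 8 ∣ Nat.card D := ⟨_, (card_normalizer_sylow_mul P).symm.trans (by rw [hn8, mul_comm])⟩
  have htwos : cm 2 b = Nat.card {d : D // orderOf d = 2} :=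
    Nat.card_congr
      { toFun := fun u => ⟨⟨u.1, htwoD hd168 h8D u.1 u.2.1 u.2.2⟩, by
          rw [Subgroup.orderOf_mk]; exact u.2.1⟩
        invFun := fun d => ⟨d.1.1, by rw [Subgroup.orderOf_coe]; exact d.2,
          (hmemX.1 (hDX d.1.2)).symm⟩
        left_inv := fun u => rfl
        right_inv := fun d => rfl }
  have hsplit : 48 + cm 2 b + 1 ≤ Nat.card D := by
    rw [htwos, ← hsev, Nat.card_eq_fintype_card (α := D), Nat.card_eq_fintype_card,
      Nat.card_eq_fintype_card, Fintype.card_subtype, Fintype.card_subtype,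
      ← Finset.card_singleton (1 : D), ← Finset.card_union_of_disjoint,
      ← Finset.card_union_of_disjoint]
    · exact Finset.card_le_univ _
    · rw [Finset.disjoint_union_left]
      constructor <;>
        exact Finset.disjoint_left.2 fun d hd hd' => by
          simp only [Finset.mem_filter, Finset.mem_univ, true_and, Finset.mem_singleton] at hd hd'
          rw [hd', orderOf_one] at hd
          norm_num at hd
    · exact Finset.disjoint_left.2 fun d hd hd' => by
        simp only [Finset.mem_filter, Finset.mem_univ, true_and] at hd hd'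
        omega
  have hD168 : Nat.card D = 168 := by
    obtain ⟨k, hk⟩ := h8D
    have hk7 : 7 ∣ k := by
      have : 7 ∣ Nat.card D := hP ▸ card_subgroup_dvd_card (P : Subgroup D)
      rw [hk] at this
      omega
    have hk21 : k ∣ 21 := by
      rw [hk, show (168 : ℕ) = 8 * 21 from rfl] at hd168
      exact Nat.dvd_of_mul_dvd_mul_left (by norm_num) hd168
    have := Nat.le_of_dvd (by norm_num) hk21
    interval_cases k <;> omega
  -- simplicity
  have hsimple : IsSimpleGroup D := by
    haveI : Nontrivial D := Finite.one_lt_card_iff_nontrivial.1 (by rw [hD168]; norm_num)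
    refine ⟨fun N hN => ?_⟩
    by_cases h7 : 7 ∣ Nat.card N
    · right
      obtain ⟨⟨z, hzN⟩, hz⟩ := exists_prime_orderOf_dvd_card' 7 h7
      rw [Subgroup.orderOf_mk] at hz
      obtain ⟨Q, hQ, -⟩ := existsUnique_sylow_of_orderOf P hP hz
      rw [eq_top_iff, ← closure_closure_coe_preimage (k := T)]
      refine (closure_le _).2 fun d hd => ?_
      have hd7 : orderOf d = 7 := by rw [← Subgroup.orderOf_coe]; exact hd.1
      obtain ⟨R, hR, -⟩ := existsUnique_sylow_of_orderOf P hP hd7
      obtain ⟨g, hg⟩ := MulAction.exists_smul_eq D Q R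
      have h1 : d ∈ (R : Subgroup D) := hR ▸ mem_zpowers d
      rw [← hg, Sylow.coe_subgroup_smul, hQ] at h1
      obtain ⟨w, ⟨k, rfl⟩, rfl⟩ := h1
      exact hN.conj_mem _ (zpow_mem hzN k) g
    · left
      rw [eq_bot_iff_forall]
      intro d hd
      by_contra hd1
      obtain ⟨Y, hY, -⟩ := existsUnique_sylow_of_orderOf P hP (y := (⟨y, hyD⟩ : D))
        (by rw [Subgroup.orderOf_mk, hy])
      -- trivial centralizer of `y` in `N`
      have hfix : ∀ e ∈ N, Commute (⟨y, hyD⟩ : D) e → e = 1 := by
        intro e heN hc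
        by_contra he1
        have hce : Commute y (e : G) := hc.map D.subtype
        obtain ⟨h42, h4, h6, h42'⟩ := SevenFive.orderOf_dvd_of_commute F (Or.inr rfl) hy hce
        have heo : orderOf (e : G) ∣ 24 := by
          rw [Subgroup.orderOf_coe]
          have hN24 : Nat.card N ∣ 24 := Nat.Coprime.dvd_of_dvd_mul_left
            ((Nat.Prime.coprime_iff_not_dvd (by norm_num)).2 h7).symm
            (by have := card_subgroup_dvd_card N; rw [hD168] at this; exact this)
          have := orderOf_dvd_natCard (⟨e, heN⟩ : N)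
          rw [Subgroup.orderOf_mk] at this
          exact this.trans hN24
        have hbe : Commute b (e : G) := (hmemX.1 (hDX e.2)).symm
        have he6 : orderOf (e : G) ∣ 6 := Nat.dvd_gcd h42 heo
        have hne1 : orderOf (e : G) ≠ 1 := fun h1 =>
          he1 (Subtype.ext (orderOf_eq_one_iff.1 h1))
        have hle := Nat.le_of_dvd (by norm_num) he6
        have hcases : orderOf (e : G) = 2 ∨ orderOf (e : G) = 3 := by
          revert he6 hne1 hle h6
          generalize orderOf (e : G) = o
          intro he6 hne1 hle h6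
          interval_cases o <;> omega
        rcases hcases with ho | ho
        · exact not_commute_two_three F (Or.inr rfl) hy ho hb hce hyb hbe.symm
        · exact not_commute_two_three F (Or.inr rfl) hy hτ ho hyτ hce
            (mem_centralizer_singleton_iff.1 (hDτ e.2)).symm
      have hinjS : Function.Injective fun e : N => (e : D) • Y := by
        intro e e' hee
        have hmem : (e' : D)⁻¹ * (e : D) ∈ normalizer (zpowers (⟨y, hyD⟩ : D) : Set D) := by
          have hsm : ((e' : D)⁻¹ * (e : D)) • Y = Y := by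
            rw [mul_smul, inv_smul_eq_iff]
            exact hee
          rw [← hY]
          exact Sylow.smul_eq_iff_mem_normalizer.1 hsm
        have hw : (e' : D)⁻¹ * (e : D) ∈ N := mul_mem (inv_mem e'.2) e.2
        set w := (e' : D)⁻¹ * (e : D)
        set y' : D := ⟨y, hyD⟩
        have h1 : w * y' * w⁻¹ * y'⁻¹ ∈ N := by
          rw [show w * y' * w⁻¹ * y'⁻¹ = w * (y' * w⁻¹ * y'⁻¹) by group]
          exact mul_mem hw (hN.conj_mem _ (inv_mem hw) y')
        have h2 : w * y' * w⁻¹ * y'⁻¹ ∈ zpowers y' :=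
          mul_mem ((mem_normalizer_iff.1 hmem y').1 (mem_zpowers y')) (inv_mem (mem_zpowers y'))
        have h3 : w * y' * w⁻¹ * y'⁻¹ = 1 := by
          by_contra hne3
          have h71 := orderOf_eq_of_prime (p := 7) (P := zpowers y')
            (by rw [Nat.card_zpowers, Subgroup.orderOf_mk, hy]) h2 hne3
          have := orderOf_dvd_natCard (⟨_, h1⟩ : N)
          rw [Subgroup.orderOf_mk, h71] at this
          exact h7 this
        have h4 : Commute y' w := (mul_inv_eq_iff_eq_mul.1 (mul_inv_eq_one.1 h3)).symm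
        exact Subtype.ext (inv_mul_eq_one.1 (hfix w hw h4)).symm
      have hN8 : Nat.card N ≤ 8 := hn8 ▸ Nat.card_le_card_of_injective _ hinjS
      have hnc : ¬ Commute (⟨y, hyD⟩ : D) d := fun hc => hd1 (hfix d hd hc)
      let f : Option (Fin 7) → N := fun o => o.elim 1 fun j =>
        ⟨(⟨y, hyD⟩ : D) ^ (j : ℕ) * d * ((⟨y, hyD⟩ : D) ^ (j : ℕ))⁻¹, hN.conj_mem _ hd _⟩
      have hf : Function.Injective f := by
        rintro (_ | i) (_ | j) e
        · rfl
        · exact absurd (conj_eq_one_iff.1 (congrArg Subtype.val e).symm) hd1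
        · exact absurd (conj_eq_one_iff.1 (congrArg Subtype.val e)) hd1
        · exact congrArg some (conj_powers_injective (by rw [Subgroup.orderOf_mk, hy]) hnc
            (congrArg Subtype.val e))
      have hN8' : 8 ≤ Nat.card N := by simpa using Nat.card_le_card_of_injective f hf
      have hidx : N.index % 2 = 1 := by
        have := N.card_mul_index
        rw [hD168] at this
        have h8 : Nat.card N = 8 := le_antisymm hN8 hN8'
        rw [h8] at this
        omega
      have hle : Nat.card {d : D // orderOf d = 2} ≤ Nat.card {d : N // d ≠ 1} := by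
        refine Nat.card_le_card_of_injective (fun u => ⟨⟨u.1, mem_of_odd_index hidx
          (orderOf_dvd_iff_pow_eq_one.1 u.2.dvd)⟩, fun e => ?_⟩) fun u v e => ?_
        · have h1 : (u.1 : D) = 1 := congrArg Subtype.val e
          have := u.2
          rw [h1, orderOf_one] at this
          norm_num at this
        · exact Subtype.ext (congrArg (fun z => (z.1.1 : D)) e)
      rw [← htwos, Nat.card_eq_fintype_card (α := {d : N // d ≠ 1}),
        Fintype.card_subtype_compl, Fintype.card_subtype_eq, ← Nat.card_eq_fintype_card] at hle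
      omega
  -- move it to `t`
  obtain ⟨g, hg⟩ := isConj_iff.1 (h.seven_all τ y hτ hy hyτ.eq.symm).symm
  let φ := (MulAut.conj g).toMonoidHom
  let e := D.equivMapOfInjective φ (MulAut.conj g).injective
  refine ⟨D.map φ, ?_, ?_, ?_⟩
  · rintro _ ⟨d, hd, rfl⟩
    rw [mem_centralizer_singleton_iff, ← hg]
    exact ((show Commute d τ from mem_centralizer_singleton_iff.1 (hDτ hd)).map φ).eq
  · rw [← Nat.card_congr e.toEquiv, hD168]
  · haveI := hsimple
    exact e.symm.isSimpleGroup

end Cfsg.Agent.Lib.M24Nse65.InvThree
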