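import Cfsg.Agent.Lib.M24Nse65.Global

/-!
Soundness of the linear tables and their products inside the normalizer.
-/

set_option autoImplicit false
set_option linter.unusedSectionVars false

namespace Cfsg.Agent.Lib.M24Nse65

universe u

variable {G : Type u} [Group G] {A : Subgroup G}

theorem tget_lt (T w i : ℕ) : tget T w i < 2 ^ w := by
  unfold tget
  have h : (T >>> (w * i)) &&& (2 ^ w - 1) ≤ 2 ^ w - 1 := Nat.and_le_right
  have : 0 < 2 ^ w := Nat.two_pow_pos w
  omega

theorem app_lt (T v : ℕ) : app T v < 16 := tget_lt T 4 v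

theorem xor_lt16 {v w : ℕ} (hv : v < 16) (hw : w < 16) : v ^^^ w < 16 :=
  Nat.xor_lt_two_pow (n := 4) hv hw

theorem isLin_surj {T : ℕ} (hT : isLin T = true) {w : ℕ} (hw : w < 16) :
    ∃ v, v < 16 ∧ app T v = w := by
  simp only [isLin, Bool.and_eq_true, List.all_eq_true, List.any_eq_true, List.mem_range,
    decide_eq_true_eq] at hT
  exact hT.2 w hw

theorem isLin_add {T : ℕ} (hT : isLin T = true) {v w : ℕ} (hv : v < 16) (hw : w < 16) :
    app T (v ^^^ w) = app T v ^^^ app T w := by
  simp only [isLin, Bool.and_eq_true, List.all_eq_true, List.any_eq_true, List.mem_range,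
    decide_eq_true_eq] at hT
  exact hT.1.2 v hv w hw

theorem isLin_idT : isLin idT = true := by decide +kernel

theorem isLin_tA : isLin tA = true := by decide +kernel

theorem isLin_tB : isLin tB = true := by decide +kernel

/-- The product of a list of tables. -/
def foldT : List ℕ → ℕ
  | [] => idT
  | t :: ts => comp t (foldT ts)

/-- All tables of the list and all partial products are linear. -/
def okT : List ℕ → Bool
  | [] => true
  | t :: ts => isLin t && okT ts && isLin (comp t (foldT ts))

theorem okT_lin : ∀ {ts : List ℕ}, okT ts = true → isLin (foldT ts) = true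
  | [], _ => isLin_idT
  | t :: ts, h => by
    simp only [okT, Bool.and_eq_true] at h
    exact h.2

theorem Coord.k_prod (C : Coord A) : ∀ {ts : List ℕ}, okT ts = true →
    (ts.map C.k).prod = C.k (foldT ts)
  | [], _ => by simp [foldT, C.k_one]
  | t :: ts, h => by
    have h' := h
    simp only [okT, Bool.and_eq_true] at h'
    rw [List.map_cons, List.prod_cons, C.k_prod h'.1.2]
    exact (C.k_mul t _ h'.1.1 (okT_lin h'.1.2) h'.2).symm

theorem Coord.k_pow (C : Coord A) {T : ℕ} (n : ℕ) (h : okT (List.replicate n T) = true)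
    (h1 : foldT (List.replicate n T) = idT) : C.k T ^ n = 1 := by
  have := C.k_prod h
  rwa [h1, C.k_one, List.map_replicate, List.prod_replicate] at this

theorem Coord.k_comp_inv (C : Coord A) {S T : ℕ} (hS : isLin S = true) (hT : isLin T = true)
    (h : comp S T = idT) : (C.k S)⁻¹ = C.k T := by
  apply inv_eq_of_mul_eq_one_right
  rw [← C.k_mul S T hS hT (by rw [h]; exact isLin_idT), h, C.k_one]

/-- Two vectors commute in `A`. -/
theorem Coord.e_swap (C : Coord A) (L : Local A) {v w : ℕ} (hv : v < 16) (hw : w < 16) :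
    C.e v * C.e w = C.e w * C.e v := comm_of_mem L (C.mem v hv) (C.mem w hw)

theorem cj_A_fix (L : Local A) {a : G} (ha : a ∈ A) {H : Subgroup G} (hH : H ≤ A) :
    cj a H = H := by
  ext x
  rw [mem_cj]
  constructor
  · intro h
    have e := comm_of_mem L (hH h) ha
    have : x = a * (a⁻¹ * x * a) * a⁻¹ := by group
    rw [this, ← e, mul_assoc (a⁻¹ * x * a), mul_inv_cancel, mul_one]
    exact h
  · intro h
    rw [mul_assoc, comm_of_mem L (hH h) ha, ← mul_assoc, inv_mul_cancel, one_mul]
    exact h

end Cfsg.Agent.Lib.M24Nse65
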