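import Mathlib

/-! Facts about the alternating group of degree six checked by computation. -/

set_option autoImplicit false
set_option maxRecDepth 100000
set_option synthInstance.maxSize 1024

namespace Cfsg.Agent.Lib.M24Nse65.LocalA81Types

/-- The alternating group of degree six. -/
abbrev A6 : Type := ↥(alternatingGroup (Fin 6))

theorem alt_three_count :
    (Finset.univ.filter fun h : A6 => h ≠ 1 ∧ h * h * h = 1).card = 80 := by decide +kernel

theorem alt_cent_two : ∀ u : A6, u ≠ 1 → u * u = 1 →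
    (Finset.univ.filter fun v : A6 => v * u = u * v).card = 8 := by decide +kernel

theorem alt_cent_noncomm : ∀ u : A6, u ≠ 1 → u * u = 1 →
    ∃ v : A6, v * u = u * v ∧ v * v * (v * v) = 1 ∧
      ∃ w : A6, w * u = u * w ∧ w * w * (w * w) = 1 ∧ v * w ≠ w * v := by decide +kernel

/-- A fixed involution. -/
def altTwo : A6 := ⟨Equiv.swap 0 1 * Equiv.swap 2 3, by
  rw [Equiv.Perm.mem_alternatingGroup]; decide⟩

theorem alt_conj_two : ∀ u : A6, u ≠ 1 → u * u = 1 → ∃ g : A6, g * altTwo = u * g := by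
  decide +kernel

theorem alt_three_four : ∀ d : A6, d ≠ 1 → d * d * d = 1 →
    ∃ u : A6, u ≠ 1 ∧ u * u = 1 ∧ u * (d * u * d⁻¹) * (d * (d * u * d⁻¹) * d⁻¹) = 1 := by
  decide +kernel

end Cfsg.Agent.Lib.M24Nse65.LocalA81Types
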