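import Mathlib
import Cfsg.Agent.Lib.SmallGroups.PrimeSylow
import Cfsg.Agent.S0497

/-!
A group of order 1080 with a central element of order three in which elements of order five have
centralizers of order 15 maps onto the alternating group of degree six.
-/

set_option autoImplicit false
set_option linter.unusedSectionVars false

namespace Cfsg.Agent.Lib.M24Nse65.LocalA81Types

open Subgroup
open Cfsg.Agent.Lib.SmallGroups

universe u

/-- Few conjugates bound a subgroup by their number times the centralizer. -/
theorem card_le_of_conj {K : Type u} [Group K] [Finite K] (N : Subgroup K) (z : K) {T : Finset K}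
    (h : ∀ n ∈ N, n * z * n⁻¹ ∈ T) :
    Nat.card N ≤ T.card * Nat.card (centralizer ({z} : Set K)) := by
  classical
  let img : N → T := fun n => ⟨(n : K) * z * (n : K)⁻¹, h n n.2⟩
  let sec : T → K := fun v => if hv : ∃ n : N, img n = v then (hv.choose : K) else 1
  have hsec : ∀ n : N, sec (img n) * z * (sec (img n))⁻¹ = (n : K) * z * (n : K)⁻¹ := by
    intro n
    have hv : ∃ m : N, img m = img n := ⟨n, rfl⟩
    have := congrArg Subtype.val hv.choose_spec
    simp only [sec, dif_pos hv]
    exact this
  let f : N → T × centralizer ({z} : Set K) := fun n =>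
    (img n, ⟨(sec (img n))⁻¹ * n, mem_centralizer_singleton_iff.2 <| by
      calc (sec (img n))⁻¹ * n * z = (sec (img n))⁻¹ * ((n : K) * z * (n : K)⁻¹) * n := by group
        _ = (sec (img n))⁻¹ * (sec (img n) * z * (sec (img n))⁻¹) * n := by rw [hsec n]
        _ = z * ((sec (img n))⁻¹ * n) := by group⟩)
  have hf : Function.Injective f := by
    intro a b e
    have e1 : img a = img b := congrArg Prod.fst e
    have e2 : (sec (img a))⁻¹ * (a : K) = (sec (img b))⁻¹ * b :=
      congrArg Subtype.val (congrArg Prod.snd e)
    rw [e1] at e2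
    exact Subtype.ext (mul_left_cancel e2)
  have := Nat.card_le_card_of_injective f hf
  rwa [Nat.card_prod, Nat.card_eq_fintype_card (α := T), Fintype.card_coe] at this

variable {K : Type u} [Group K] [Finite K] {x : K}

theorem norm_five (hcard : Nat.card K = 1080) (h15 : ∀ z : K, orderOf z = 5 →
    Nat.card (centralizer ({z} : Set K)) = 15) [Fact (Nat.Prime 5)] (P : Sylow 5 K) :
    Nat.card (normalizer ((P : Subgroup K) : Set K)) = 30 ∧
      Nat.card {g : K // orderOf g = 5} = 144 := by
  classical
  have hP : Nat.card (P : Subgroup K) = 5 := by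
    rw [SmallGroups.card_sylow_eq P (k := 1) (m := 216) (by rw [hcard]; norm_num) (by norm_num),
      pow_one]
  obtain ⟨w, hw⟩ := exists_prime_orderOf_dvd_card' 5 (dvd_of_eq hP.symm)
  have hwK : orderOf (w : K) = 5 := by rw [Subgroup.orderOf_coe, hw]
  have hPw : zpowers (w : K) = (P : Subgroup K) :=
    Subgroup.eq_of_le_of_card_ge (zpowers_le.2 w.2) (by rw [hP, Nat.card_zpowers, hwK])
  set N := normalizer ((P : Subgroup K) : Set K) with hN
  have hCN : centralizer ({(w : K)} : Set K) ≤ N := by
    intro g hg
    have h := SmallGroups.centralizer_le_normalizer' (zpowers (w : K))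
      (show g ∈ centralizer ((zpowers (w : K) : Subgroup K) : Set K) by
        rwa [zpowers_eq_closure, centralizer_closure])
    rwa [hPw] at h
  have h1 := card_dvd_of_le hCN
  rw [h15 _ hwK] at h1
  let T : Finset K := (Finset.Icc 1 4).image fun k => (w : K) ^ k
  have hle : Nat.card N ≤ 60 := by
    refine (card_le_of_conj N (w : K) (T := T) fun n hn => ?_).trans ?_
    · have hmem : n * (w : K) * n⁻¹ ∈ (P : Subgroup K) := (mem_normalizer_iff.1 hn _).1 w.2
      replace hmem : n * (w : K) * n⁻¹ ∈ zpowers (w : K) := (SetLike.ext_iff.1 hPw _).2 hmem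
      obtain ⟨k, hk⟩ := (mem_powers_iff_mem_zpowers).2 hmem
      refine Finset.mem_image.2 ⟨k % 5, Finset.mem_Icc.2 ⟨?_, by omega⟩, ?_⟩
      · by_contra h0
        have hk0 : k % 5 = 0 := by omega
        have e1 : (w : K) ^ k = n * w * n⁻¹ := hk
        rw [← pow_mod_orderOf, hwK, hk0, pow_zero, eq_comm, conj_eq_one_iff] at e1
        rw [e1, orderOf_one] at hwK
        norm_num at hwK
      · rw [show k % 5 = k % orderOf (w : K) by rw [hwK], pow_mod_orderOf]
        exact hk
    · rw [h15 _ hwK]
      calc T.card * 15 ≤ (Finset.Icc 1 4).card * 15 := Nat.mul_le_mul_right _ Finset.card_image_le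
        _ = 60 := by simp
  have hn5 := card_normalizer_sylow_mul P
  have hmod := card_sylow_modEq_one 5 K
  have he := card_orderOf_eq_prime P hP
  rw [← hN, hcard] at hn5
  unfold Nat.ModEq at hmod
  obtain ⟨j, hj⟩ := h1
  rw [hj] at hn5 hle ⊢
  have hj4 : j ≤ 4 := by omega
  interval_cases j <;> omega

/-- The quotient by the central element is simple. -/
theorem eq_of_normal (hcard : Nat.card K = 1080) (hx : orderOf x = 3)
    (hc : ∀ a : K, Commute x a)
    (h15 : ∀ z : K, orderOf z = 5 → Nat.card (centralizer ({z} : Set K)) = 15)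
    (M : Subgroup K) [M.Normal] (hxM : x ∈ M) : M = ⊤ ∨ Nat.card M = 3 := by
  classical
  haveI h5 : Fact (Nat.Prime 5) := ⟨by norm_num⟩
  haveI : Fintype K := Fintype.ofFinite K
  -- a normal subgroup of order prime to five
  have small : ∀ (L : Subgroup K) [L.Normal], x ∈ L → ¬ 5 ∣ Nat.card L → Nat.card L = 3 := by
    intro L _ hxL h5L
    have hd : Nat.card L ∣ 216 := by
      have hd := L.card_subgroup_dvd_card
      rw [hcard, show (1080 : ℕ) = 5 * 216 from rfl] at hd
      exact (((Nat.Prime.coprime_iff_not_dvd (by norm_num)).2 h5L).symm).dvd_of_dvd_mul_left hd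
    have part : ∀ (p : ℕ) [Fact p.Prime], p = 2 ∨ p = 3 → ∀ Q : Sylow p L,
        Nat.card (Q : Subgroup L) = if p = 2 then 1 else 3 := by
      intro p _ hp Q
      have hp5 : Nat.Coprime p 5 := by rcases hp with rfl | rfl <;> norm_num
      set R : Subgroup K := (Q : Subgroup L).map L.subtype with hR
      have hsup : normalizer (R : Set K) ⊔ L = ⊤ := Sylow.normalizer_sup_eq_top Q
      have hd5 : 5 ∣ Nat.card (normalizer (R : Set K)) := by
        have h1 : Nat.card K ∣ Nat.card (normalizer (R : Set K)) * Nat.card L := by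
          have h2 := Subgroup.relIndex_mul_relIndex (⊥ : Subgroup K) L ⊤ bot_le le_top
          have h3 : L.relIndex ⊤ = L.relIndex (normalizer (R : Set K)) := by
            rw [← hsup, Subgroup.relIndex_sup_right]
          rw [Subgroup.relIndex_bot_left, Subgroup.relIndex_bot_left, h3, Subgroup.card_top] at h2
          rw [← h2, mul_comm (Nat.card (normalizer (R : Set K)))]
          exact Nat.mul_dvd_mul_left _ (by
            exact (L.subgroupOf (normalizer (R : Set K))).index_dvd_card)
        rw [hcard] at h1
        exact (((Nat.Prime.coprime_iff_not_dvd (by norm_num)).2 h5L)).dvd_of_dvd_mul_right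
          ((show (5 : ℕ) ∣ 1080 by norm_num).trans h1)
      obtain ⟨z, hz⟩ := exists_prime_orderOf_dvd_card' 5 hd5
      have hzK : orderOf (z : K) = 5 := by rw [Subgroup.orderOf_coe, hz]
      -- the fixed points of `z` on `R`
      have hRQ : Nat.card R = Nat.card (Q : Subgroup L) := by
        rw [hR, Subgroup.card_map_of_injective L.subtype_injective]
      have hpz : IsPGroup 5 (zpowers z) :=
        IsPGroup.of_card (n := 1) (by rw [Nat.card_zpowers, hz, pow_one])
      let act : MulAction (zpowers z) R :=
        { smul := fun a r => ⟨((a : normalizer (R : Set K)) : K) * r * ((a : normalizer (R : Set K)) : K)⁻¹,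
            (mem_normalizer_iff.1 (a : normalizer (R : Set K)).2 _).1 r.2⟩
          one_smul := fun r => Subtype.ext (by
            show ((1 : normalizer (R : Set K)) : K) * r * ((1 : normalizer (R : Set K)) : K)⁻¹ = r
            simp)
          mul_smul := fun a b r => Subtype.ext (by
            show (((a : normalizer (R : Set K)) * b : normalizer (R : Set K)) : K) * r *
              (((a : normalizer (R : Set K)) * b : normalizer (R : Set K)) : K)⁻¹ = _
            rw [Subgroup.coe_mul]
            show _ = ((a : normalizer (R : Set K)) : K) * (((b : normalizer (R : Set K)) : K) * r *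
              ((b : normalizer (R : Set K)) : K)⁻¹) * ((a : normalizer (R : Set K)) : K)⁻¹
            group) }
      have hmod := @IsPGroup.card_modEq_card_fixedPoints 5 _ _ hpz h5 R act inferInstance
      set F : Subgroup K := R ⊓ centralizer ({(z : K)} : Set K) with hF
      have hfix : Nat.card (@MulAction.fixedPoints (zpowers z) R _ act) = Nat.card F := by
        refine Nat.card_congr
          { toFun := fun r => ⟨(r.1 : K), r.1.2, mem_centralizer_singleton_iff.2 ?_⟩
            invFun := fun r => ⟨⟨r.1, r.2.1⟩, fun a => ?_⟩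
            left_inv := fun r => rfl
            right_inv := fun r => rfl }
        · have := congrArg Subtype.val (r.2 ⟨z, mem_zpowers z⟩)
          exact (mul_inv_eq_iff_eq_mul.1 this).symm
        · refine Subtype.ext ?_
          obtain ⟨⟨a, ha⟩, hr⟩ := a, r.2.2
          obtain ⟨k, rfl⟩ := ha
          show ((z ^ k : normalizer (R : Set K)) : K) * r.1 * ((z ^ k : normalizer (R : Set K)) : K)⁻¹ = r.1
          rw [Subgroup.coe_zpow, mul_inv_eq_iff_eq_mul]
          exact ((show Commute r.1 (z : K) from mem_centralizer_singleton_iff.1 hr).zpow_right k).eq.symm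
      rw [hfix] at hmod
      obtain ⟨k, hk⟩ := Q.2.exists_card_eq
      rw [← hRQ] at hk
      have hQd : Nat.card R ∣ 216 :=
        (hRQ ▸ (Q : Subgroup L).card_subgroup_dvd_card).trans hd
      have hF1 := card_dvd_of_le (inf_le_left : F ≤ R)
      have hF2 := card_dvd_of_le (inf_le_right : F ≤ centralizer ({(z : K)} : Set K))
      rw [h15 _ hzK] at hF2
      rw [hk] at hmod hF1 hQd
      have hk3 : k ≤ 3 := by
        by_contra hk4
        have hdd := (pow_dvd_pow p (by omega : 4 ≤ k)).trans hQd
        rcases hp with rfl | rfl <;> norm_num at hdd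
      rw [← hRQ, hk]
      unfold Nat.ModEq at hmod
      have hFd : Nat.card F ∈ ({1, 3} : Finset ℕ) := by
        have h5F : ¬ 5 ∣ Nat.card F := fun h => by
          have := Nat.Prime.dvd_of_dvd_pow (by norm_num) (h.trans hF1)
          rcases hp with rfl | rfl <;> norm_num at this
        have hm := (Nat.mem_divisors.2 ⟨hF2, by norm_num⟩ : Nat.card F ∈ Nat.divisors 15)
        rw [show Nat.divisors 15 = {1, 3, 5, 15} by decide +kernel] at hm
        simp only [Finset.mem_insert, Finset.mem_singleton] at hm ⊢
        omega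
      rcases hp with rfl | rfl
      · have : Nat.card F = 1 := by
          simp only [Finset.mem_insert, Finset.mem_singleton] at hFd
          rcases hFd with e | e
          · exact e
          · exfalso
            rw [e] at hF1
            interval_cases k <;> norm_num at hF1
        rw [this] at hmod
        revert hmod
        interval_cases k <;> norm_num
      · have : Nat.card F = 3 := by
          have hxR : x ∈ R := by
            have hxn : (zpowers (⟨x, hxL⟩ : L)).Normal := ⟨fun n hn g => by
              obtain ⟨i, rfl⟩ := hn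
              refine ⟨i, Subtype.ext ?_⟩
              simp only [Subgroup.coe_mul, Subgroup.coe_inv, Subgroup.coe_zpow]
              rw [((hc (g : K)).zpow_left i).symm.eq, mul_inv_cancel_right]⟩
            have hxp : IsPGroup 3 (zpowers (⟨x, hxL⟩ : L)) :=
              IsPGroup.of_card (n := 1) (by rw [Nat.card_zpowers, Subgroup.orderOf_mk, hx, pow_one])
            have hle : zpowers (⟨x, hxL⟩ : L) ≤ (Q : Subgroup L) := by
              obtain ⟨Q', hQ'⟩ := hxp.exists_le_sylow
              obtain ⟨g, hg⟩ := MulAction.exists_smul_eq L Q' Q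
              intro n hn
              rw [← hg, Sylow.coe_subgroup_smul]
              exact ⟨g⁻¹ * n * g⁻¹⁻¹, hQ' (hxn.conj_mem n hn g⁻¹), by simp [mul_assoc]⟩
            exact ⟨⟨x, hxL⟩, hle (mem_zpowers _), rfl⟩
          have h3 : 3 ∣ Nat.card F := by
            have := orderOf_dvd_natCard
              (⟨x, hxR, mem_centralizer_singleton_iff.2 (hc (z : K)).eq⟩ : F)
            rw [← Subgroup.orderOf_coe] at this
            change orderOf x ∣ _ at this
            rwa [hx] at this
          simp only [Finset.mem_insert, Finset.mem_singleton] at hFd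
          omega
        rw [this] at hmod
        revert hmod
        interval_cases k <;> norm_num
    haveI : Fact (Nat.Prime 2) := ⟨Nat.prime_two⟩
    haveI : Fact (Nat.Prime 3) := ⟨Nat.prime_three⟩
    obtain ⟨Q2⟩ : Nonempty (Sylow 2 L) := inferInstance
    obtain ⟨Q3⟩ : Nonempty (Sylow 3 L) := inferInstance
    have a2 := part 2 (Or.inl rfl) Q2
    have a3 := part 3 (Or.inr rfl) Q3
    rw [Q2.card_eq_multiplicity, if_pos rfl] at a2
    rw [Q3.card_eq_multiplicity, if_neg (by norm_num)] at a3
    have hm : Nat.card L ∈ Nat.divisors 216 := Nat.mem_divisors.2 ⟨hd, by norm_num⟩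
    have n2 : ¬ 2 ∣ Nat.card L := fun h2 => by
      have := (Nat.prime_two.factorization_pos_of_dvd Nat.card_pos.ne' h2)
      have := Nat.one_lt_pow this.ne' (by norm_num : 1 < 2)
      omega
    have n9 : ¬ 9 ∣ Nat.card L := fun h9 => by
      have h := (Nat.Prime.pow_dvd_iff_le_factorization Nat.prime_three Nat.card_pos.ne').1
        (show 3 ^ 2 ∣ Nat.card L from h9)
      have := Nat.pow_le_pow_right (show 0 < 3 by norm_num) h
      omega
    have h3 : 3 ∣ Nat.card L := by
      have := orderOf_dvd_natCard (⟨x, hxL⟩ : L)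
      rwa [Subgroup.orderOf_mk, hx] at this
    exact (show ∀ m ∈ Nat.divisors 216, ¬ 2 ∣ m → ¬ 9 ∣ m → 3 ∣ m → m = 3 by decide +kernel)
      _ hm n2 n9 h3
  by_cases h5M : 5 ∣ Nat.card M
  swap
  · exact Or.inr (small M hxM h5M)
  left
  obtain ⟨P⟩ : Nonempty (Sylow 5 K) := inferInstance
  obtain ⟨hN, h144⟩ := norm_five hcard h15 P
  -- M contains all elements of order five
  obtain ⟨w, hw⟩ := exists_prime_orderOf_dvd_card' 5 h5M
  have hP : ∀ Q : Sylow 5 K, Nat.card (Q : Subgroup K) = 5 := fun Q => by
    rw [SmallGroups.card_sylow_eq Q (k := 1) (m := 216) (by rw [hcard]; norm_num) (by norm_num),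
      pow_one]
  have hall : ∀ z : K, orderOf z = 5 → z ∈ M := by
    intro z hz
    obtain ⟨Qw, hQw, -⟩ := existsUnique_sylow_of_orderOf P (hP P)
      (show orderOf (w : K) = 5 by rw [Subgroup.orderOf_coe, hw])
    obtain ⟨Qz, hQz, -⟩ := existsUnique_sylow_of_orderOf P (hP P) hz
    obtain ⟨g, hg⟩ := MulAction.exists_smul_eq K Qw Qz
    have hmem : z ∈ (Qz : Subgroup K) := hQz ▸ mem_zpowers z
    rw [← hg, Sylow.coe_subgroup_smul, hQw] at hmem
    obtain ⟨v, ⟨k, rfl⟩, rfl⟩ := hmem
    exact Normal.conj_mem inferInstance _ (zpow_mem w.2 k) g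
  -- 432 elements
  have h432 : 432 < Nat.card M := by
    have hx1 : x ≠ 1 := fun e => by rw [e, orderOf_one] at hx; norm_num at hx
    let f : {z : K // orderOf z = 5} × zpowers x → M := fun q =>
      ⟨q.1.1 * q.2.1, mul_mem (hall _ q.1.2) (zpowers_le.2 hxM q.2.2)⟩
    have hpow : ∀ q, ((f q : M) : K) ^ 6 = q.1.1 := by
      intro q
      obtain ⟨i, hi⟩ := q.2.2
      show (q.1.1 * q.2.1) ^ 6 = _
      rw [← hi]
      show (q.1.1 * x ^ i) ^ 6 = _
      rw [((hc q.1.1).symm.zpow_right i).mul_pow, ← zpow_natCast (x ^ i), ← zpow_mul, mul_comm,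
        zpow_mul, zpow_natCast, show (6 : ℕ) = orderOf x * 2 by rw [hx], pow_mul x,
        pow_orderOf_eq_one, one_pow, one_zpow, mul_one, hx,
        show (3 * 2 : ℕ) = orderOf q.1.1 + 1 by rw [q.1.2], pow_succ, pow_orderOf_eq_one, one_mul]
    have hf : Function.Injective f := fun a b e => by
      have h1 : a.1 = b.1 := Subtype.ext (by rw [← hpow a, ← hpow b, e])
      have h2 : a.1.1 * a.2.1 = b.1.1 * b.2.1 := congrArg Subtype.val e
      rw [h1] at h2
      exact Prod.ext h1 (Subtype.ext (mul_left_cancel h2))
    have hns : ¬ Function.Surjective f := fun hs => by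
      obtain ⟨q, hq⟩ := hs 1
      have := hpow q
      rw [hq, OneMemClass.coe_one, one_pow] at this
      have h5' := q.1.2
      rw [← this, orderOf_one] at h5'
      norm_num at h5'
    have hle := Nat.card_le_card_of_injective f hf
    rw [Nat.card_prod, h144, Nat.card_zpowers, hx] at hle
    refine lt_of_le_of_ne (by omega) fun e => hns ?_
    exact (Function.Injective.bijective_of_nat_card_le hf (by
      rw [Nat.card_prod, h144, Nat.card_zpowers, hx, ← e])).2
  have hdM := M.card_subgroup_dvd_card
  rw [hcard] at hdM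
  rcases (show ∀ m ∈ Nat.divisors 1080, 432 < m → m = 540 ∨ m = 1080 by decide +kernel) _
    (Nat.mem_divisors.2 ⟨hdM, by norm_num⟩) h432 with hm | hm
  swap
  · exact Subgroup.eq_top_of_card_eq M (by rw [hm, hcard])
  exfalso
  obtain ⟨PM⟩ : Nonempty (Sylow 5 M) := inferInstance
  have hPM : Nat.card (PM : Subgroup M) = 5 := by
    rw [SmallGroups.card_sylow_eq PM (k := 1) (m := 108) (by rw [hm]; norm_num) (by norm_num),
      pow_one]
  obtain ⟨v, hv⟩ := exists_prime_orderOf_dvd_card' 5 (dvd_of_eq hPM.symm)
  have hPv : zpowers (v : M) = (PM : Subgroup M) :=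
    Subgroup.eq_of_le_of_card_ge (zpowers_le.2 v.2)
      (by rw [hPM, Nat.card_zpowers, Subgroup.orderOf_coe, hv])
  -- the normalizer in M is the centralizer
  have hnc : normalizer ((PM : Subgroup M) : Set M) ≤ centralizer ((PM : Subgroup M) : Set M) := by
    set NM := normalizer ((PM : Subgroup M) : Set M)
    set CM := centralizer ({(v : M)} : Set M)
    have hC15 : 15 ≤ Nat.card CM := by
      rw [← h15 ((v : M) : K) (by rw [Subgroup.orderOf_coe, Subgroup.orderOf_coe, hv])]
      have hsub : centralizer ({((v : M) : K)} : Set K) ≤ M := by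
        intro g hg
        have hgv : Commute g ((v : M) : K) := mem_centralizer_singleton_iff.1 hg
        have hC := h15 ((v : M) : K) (by rw [Subgroup.orderOf_coe, Subgroup.orderOf_coe, hv])
        -- the centralizer is generated by `v` and `x`
        let j : zpowers ((v : M) : K) × zpowers x →* K :=
          MonoidHom.noncommCoprod (Subgroup.subtype _) (Subgroup.subtype _) fun p q => by
            obtain ⟨i, hi⟩ := q.2
            simp only [Subgroup.coe_subtype, ← hi]
            exact ((hc (p : K)).zpow_left i).symm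
        have hj : Function.Injective j := by
          rw [injective_iff_map_eq_one]
          rintro ⟨p, q⟩ e
          have e' : (p : K) * q = 1 := e
          have hp5 : orderOf (p : K) ∣ 5 := by
            have := orderOf_dvd_natCard p
            rw [Nat.card_zpowers, Subgroup.orderOf_coe, Subgroup.orderOf_coe, hv] at this
            rwa [Subgroup.orderOf_coe]
          have hp3 : orderOf (p : K) ∣ 3 := by
            have := orderOf_dvd_natCard q
            rw [Nat.card_zpowers, hx] at this
            rw [eq_inv_of_mul_eq_one_left e', orderOf_inv, Subgroup.orderOf_coe]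
            exact this
          have hp1 : (p : K) = 1 := orderOf_eq_one_iff.1
            (Nat.dvd_one.1 (Nat.dvd_gcd hp5 hp3))
          rw [hp1, one_mul] at e'
          exact Prod.ext (Subtype.ext hp1) (Subtype.ext e')
        have hrange : j.range = centralizer ({((v : M) : K)} : Set K) := by
          refine Subgroup.eq_of_le_of_card_ge ?_ ?_
          · rintro _ ⟨⟨p, q⟩, rfl⟩
            obtain ⟨i, hi⟩ := p.2
            obtain ⟨l, hl⟩ := q.2
            refine mem_centralizer_singleton_iff.2 ?_
            show (p : K) * q * _ = _ * ((p : K) * q)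
            rw [← hi, ← hl]
            exact (((Commute.refl ((v : M) : K)).zpow_left i).mul_left
              ((hc _).zpow_left l)).eq
          · rw [hC, ← Nat.card_congr (MonoidHom.ofInjective hj).toEquiv, Nat.card_prod,
              Nat.card_zpowers, Nat.card_zpowers, hx, Subgroup.orderOf_coe, Subgroup.orderOf_coe, hv]
        obtain ⟨⟨p, q⟩, e⟩ := hrange.ge hg
        have e' : (p : K) * q = g := e
        rw [← e']
        exact mul_mem (zpowers_le.2 ((v : M)).2 p.2) (zpowers_le.2 hxM q.2)
      exact Nat.card_le_card_of_injective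
        (fun g => (⟨⟨g.1, hsub g.2⟩, mem_centralizer_singleton_iff.2
          (Subtype.ext (mem_centralizer_singleton_iff.1 g.2))⟩ : CM))
        fun a b e => Subtype.ext (congrArg Subtype.val (congrArg Subtype.val e) :)
    have hCN : CM ≤ NM := by
      intro g hg
      rw [show NM = normalizer ((zpowers (v : M) : Subgroup M) : Set M) by rw [hPv]]
      refine SmallGroups.centralizer_le_normalizer' _ ?_
      rwa [zpowers_eq_closure, centralizer_closure]
    have hN15 : Nat.card NM ≤ 15 := by
      have hn := card_normalizer_sylow_mul PM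
      have h144' : Nat.card {g : M // orderOf g = 5} = 144 := by
        rw [← h144]
        exact Nat.card_congr
          { toFun := fun g => ⟨g.1.1, by rw [Subgroup.orderOf_coe]; exact g.2⟩
            invFun := fun g => ⟨⟨g.1, hall g.1 g.2⟩, by rw [Subgroup.orderOf_mk]; exact g.2⟩
            left_inv := fun g => rfl
            right_inv := fun g => rfl }
      rw [card_orderOf_eq_prime PM hPM] at h144'
      have h36 : Nat.card (Sylow 5 M) = 36 := by omega
      rw [h36, hm] at hn
      have hn' : Nat.card NM * 36 = 540 ∨ 36 * Nat.card NM = 540 := by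
        first
          | exact Or.inl hn
          | exact Or.inr hn
          | exact Or.inl hn.symm
          | exact Or.inr hn.symm
      omega
    have heq : CM = NM := Subgroup.eq_of_le_of_card_ge hCN (hN15.trans hC15)
    show NM ≤ _
    rw [← heq, ← hPv, zpowers_eq_closure, centralizer_closure]
  have hcompl := MonoidHom.ker_transferSylow_isComplement' PM hnc
  set L0 := (MonoidHom.transferSylow PM hnc).ker
  have hL0 : Nat.card L0 = 108 := by
    have := hcompl.card_mul_card
    rw [hPM, hm] at this
    omega
  have hiff : ∀ g : M, g ∈ L0 ↔ g ^ 108 = 1 := by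
    intro g
    constructor
    · intro hg
      have := pow_card_eq_one' (G := L0) (x := ⟨g, hg⟩)
      rw [hL0] at this
      exact congrArg Subtype.val this
    · intro hg
      have hidx : L0.index = 5 := by
        have := L0.card_mul_index
        rw [hL0, hm] at this
        omega
      have h1 : ((g : M ⧸ L0)) ^ 108 = 1 := by
        rw [← QuotientGroup.mk_pow, hg]; rfl
      have h2 : ((g : M ⧸ L0)) ^ 5 = 1 := by
        have h : ((g : M ⧸ L0)) ^ L0.index = 1 := pow_card_eq_one'
        rwa [hidx] at h
      have := (pow_gcd_eq_one (a := (g : M ⧸ L0)) (m := 108) (n := 5)).mpr ⟨h1, h2⟩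
      rw [show Nat.gcd 108 5 = 1 by norm_num, pow_one] at this
      exact (QuotientGroup.eq_one_iff g).1 this
  set L1 : Subgroup K := L0.map M.subtype with hL1
  haveI : L1.Normal := ⟨fun n hn k => by
    obtain ⟨m, hm', rfl⟩ := hn
    refine ⟨⟨k * (m : K) * k⁻¹, Normal.conj_mem inferInstance _ m.2 k⟩, ?_, rfl⟩
    rw [SetLike.mem_coe, hiff]
    refine Subtype.ext ?_
    show (k * (m : K) * k⁻¹) ^ 108 = 1
    rw [conj_pow, ← Subgroup.coe_pow, (hiff m).1 hm', OneMemClass.coe_one, mul_one, mul_inv_cancel]⟩
  have hxL1 : x ∈ L1 := ⟨⟨x, hxM⟩, (hiff _).2 (Subtype.ext (by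
    show x ^ 108 = 1
    rw [show (108 : ℕ) = orderOf x * 36 by rw [hx], pow_mul, pow_orderOf_eq_one, one_pow])), rfl⟩
  have hcL1 : Nat.card L1 = 108 := by
    rw [hL1, Subgroup.card_map_of_injective M.subtype_injective, hL0]
  have := small L1 hxL1 (by rw [hcL1]; norm_num)
  omega

/-- The map onto the alternating group of degree six. -/
theorem exists_alt (hcard : Nat.card K = 1080) (hx : orderOf x = 3) (hc : ∀ a : K, Commute x a)
    (h15 : ∀ z : K, orderOf z = 5 → Nat.card (centralizer ({z} : Set K)) = 15) :
    ∃ π : K →* ↥(alternatingGroup (Fin 6)), Function.Surjective π ∧ π.ker = zpowers x := by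
  haveI hn : (zpowers x).Normal := ⟨fun n hn g => by
    obtain ⟨i, rfl⟩ := hn
    refine ⟨i, ?_⟩
    show x ^ i = g * x ^ i * g⁻¹
    rw [((hc g).zpow_left i).symm.eq, mul_inv_cancel_right]⟩
  have hq : Nat.card (K ⧸ zpowers x) = 360 := by
    have h := Subgroup.card_eq_card_quotient_mul_card_subgroup (zpowers x)
    rw [hcard, Nat.card_zpowers, hx] at h
    omega
  haveI : Nontrivial (K ⧸ zpowers x) := Finite.one_lt_card_iff_nontrivial.1 (by rw [hq]; norm_num)
  haveI : IsSimpleGroup (K ⧸ zpowers x) := ⟨fun L hL => by
    haveI := hL.comap (QuotientGroup.mk' (zpowers x))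
    have hxM : x ∈ L.comap (QuotientGroup.mk' (zpowers x)) := by
      rw [Subgroup.mem_comap, QuotientGroup.mk'_apply,
        (QuotientGroup.eq_one_iff x).2 (mem_zpowers x)]
      exact one_mem L
    rcases eq_of_normal hcard hx hc h15 (L.comap (QuotientGroup.mk' (zpowers x))) hxM with h | h
    · exact Or.inr ((Subgroup.comap_injective (QuotientGroup.mk'_surjective _))
        (h.trans (Subgroup.comap_top _).symm))
    · refine Or.inl ((Subgroup.comap_injective (QuotientGroup.mk'_surjective _)) ?_)
      rw [MonoidHom.comap_bot, QuotientGroup.ker_mk']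
      exact (Subgroup.eq_of_le_of_card_ge (zpowers_le.2 hxM)
        (by rw [h, Nat.card_zpowers, hx])).symm⟩
  obtain ⟨e⟩ := Cfsg.Agent.S0497.result hq
  refine ⟨e.toMonoidHom.comp (QuotientGroup.mk' (zpowers x)),
    e.surjective.comp (QuotientGroup.mk'_surjective _), ?_⟩
  ext a
  simp [MonoidHom.mem_ker, QuotientGroup.eq_one_iff]

end Cfsg.Agent.Lib.M24Nse65.LocalA81Types
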