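import Cfsg.Agent.Lib.M24Nse65.LocalA81TypesBasic
import Cfsg.Agent.Lib.M24Nse65.LocalA81TypesQuot
import Cfsg.Agent.Lib.M24Nse65.LocalA81TypesAlt

/-!
The centralizer of an element of order three commuting with an involution of the 21504 class:
it is a triple cover of the alternating group of degree six, and contains a second element of the
same class whose whole coset stays in that class.
-/

set_option autoImplicit false
set_option linter.unusedSectionVars false

namespace Cfsg.Agent.Lib.M24Nse65.LocalA81Types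

open Subgroup
open Cfsg.Agent.Lib.SmallGroups
open InvThree (Rel)

universe u

variable {G : Type u} [Group G] [Finite G] {s t x : G}

theorem cent_fifteen (D : Data s t x) : ∀ z : centralizer ({x} : Set G), orderOf z = 5 →
    Nat.card (centralizer ({z} : Set (centralizer ({x} : Set G)))) = 15 := by
  set C := centralizer ({x} : Set G)
  intro z hz
  set Z := centralizer ({z} : Set C)
  have hzG : orderOf (z : G) = 5 := by rw [Subgroup.orderOf_coe, hz]
  let xC : C := ⟨x, mem_centralizer_singleton_iff.2 rfl⟩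
  have hx3 : orderOf xC = 3 := by rw [Subgroup.orderOf_mk, D.order]
  have hxz : Commute (z : G) x := mem_centralizer_singleton_iff.1 z.2
  have hd : Nat.card Z ∣ 60 := by
    have h := card_dvd_of_le (show Z.map C.subtype ≤ centralizer ({(z : G)} : Set G) from by
      rintro _ ⟨a, ha, rfl⟩
      exact mem_centralizer_singleton_iff.2
        (congrArg Subtype.val (mem_centralizer_singleton_iff.1 ha) :))
    rwa [Subgroup.card_map_of_injective C.subtype_injective, (cent_five D.hyp.facts hzG).1] at h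
  have h2 : ¬ 2 ∣ Nat.card Z := by
    intro h2
    haveI : Fact (Nat.Prime 2) := ⟨Nat.prime_two⟩
    obtain ⟨w, hw⟩ := exists_prime_orderOf_dvd_card' 2 h2
    have hwG : orderOf ((w : C) : G) = 2 := by
      rw [Subgroup.orderOf_coe, Subgroup.orderOf_coe, hw]
    have hzw : Commute (z : G) ((w : C) : G) :=
      (congrArg Subtype.val (mem_centralizer_singleton_iff.1 w.2)).symm
    have hxw : Commute ((w : C) : G) x := mem_centralizer_singleton_iff.1 (w : C).2
    have h10 : orderOf ((z : G) * (w : C)) = 10 := by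
      rw [hzw.orderOf_mul_eq_mul_orderOf_of_coprime (by rw [hzG, hwG]; norm_num), hzG, hwG]
    have := InvCount.mul_mem_ords D.hyp.facts D.order h10 (hxz.symm.mul_right hxw.symm).eq
      (by norm_num)
    revert this
    decide
  have h15 : 15 ∣ Nat.card Z := by
    have a5 := orderOf_dvd_natCard (⟨z, mem_centralizer_singleton_iff.2 rfl⟩ : Z)
    have a3 := orderOf_dvd_natCard
      (⟨xC, mem_centralizer_singleton_iff.2 (Subtype.ext hxz.eq.symm)⟩ : Z)
    rw [Subgroup.orderOf_mk] at a5 a3
    rw [hz] at a5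
    rw [hx3] at a3
    exact Nat.Coprime.mul_dvd_of_dvd_of_dvd (by norm_num : Nat.Coprime 3 5) a3 a5
  have hm := (Nat.mem_divisors.2 ⟨hd, by norm_num⟩ : Nat.card Z ∈ Nat.divisors 60)
  exact (show ∀ m ∈ Nat.divisors 60, 15 ∣ m → ¬ 2 ∣ m → m = 15 by decide +kernel) _ hm h15 h2

/-- The map of the centralizer onto the alternating group. -/
structure Cover (s t x : G) (π : centralizer ({x} : Set G) →* A6) : Prop where
  data : Data s t x
  surj : Function.Surjective π
  ker : ∀ w, π w = 1 ↔ (w : G) ∈ zpowers x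

theorem exists_cover (D : Data s t x) : ∃ π, Cover s t x π := by
  set C := centralizer ({x} : Set G)
  let xC : C := ⟨x, mem_centralizer_singleton_iff.2 rfl⟩
  obtain ⟨π, hπ, hker⟩ := exists_alt (K := C) (x := xC) D.card
    (by rw [Subgroup.orderOf_mk, D.order])
    (fun a => Subtype.ext (mem_centralizer_singleton_iff.1 a.2).symm) (cent_fifteen D)
  refine ⟨π, D, hπ, fun w => ?_⟩
  rw [← MonoidHom.mem_ker, hker]
  constructor
  · rintro ⟨i, rfl⟩
    exact ⟨i, by simp [xC]⟩
  · rintro ⟨i, hi⟩
    exact ⟨i, Subtype.ext (by simpa [xC] using hi)⟩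

namespace Cover

variable {π : centralizer ({x} : Set G) →* A6}

theorem cube (P : Cover s t x π) {w : centralizer ({x} : Set G)} (h : π w = 1) : w ^ 3 = 1 := by
  obtain ⟨i, hi⟩ := (P.ker w).1 h
  refine Subtype.ext ?_
  rw [Subgroup.coe_pow, ← hi]
  show (x ^ i) ^ 3 = 1
  rw [← zpow_natCast, ← zpow_mul, mul_comm, zpow_mul, zpow_natCast,
    show x ^ 3 = 1 from P.data.order ▸ pow_orderOf_eq_one x, one_zpow]

theorem ne_one (P : Cover s t x π) {u : centralizer ({x} : Set G)} (hu : orderOf u = 2) :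
    π u ≠ 1 := fun h => by
  have := orderOf_dvd_of_pow_eq_one (P.cube h)
  rw [hu] at this
  norm_num at this

theorem sq {π : centralizer ({x} : Set G) →* A6} {u : centralizer ({x} : Set G)}
    (hu : orderOf u = 2) : π u * π u = 1 := by
  rw [← map_mul, ← pow_two, show u ^ 2 = 1 from hu ▸ pow_orderOf_eq_one u, map_one]

theorem eq_of_map (P : Cover s t x π) {u v : centralizer ({x} : Set G)} (hu : orderOf u = 2)
    (hv : orderOf v = 2) (h : π u = π v) : u = v := by
  have h3 : (u⁻¹ * v) ^ 3 = 1 := P.cube (by rw [map_mul, map_inv, h, inv_mul_cancel])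
  have hu2 : u * u = 1 := by rw [← pow_two, ← hu, pow_orderOf_eq_one]
  have hv2 : v * v = 1 := by rw [← pow_two, ← hv, pow_orderOf_eq_one]
  have hk : π (u⁻¹ * v) = 1 := by rw [map_mul, map_inv, h, inv_mul_cancel]
  have hcen : u * (u⁻¹ * v) = (u⁻¹ * v) * u := by
    obtain ⟨i, hi⟩ := (P.ker _).1 hk
    refine Subtype.ext ?_
    show (u : G) * ((u⁻¹ * v : centralizer ({x} : Set G)) : G) =
      ((u⁻¹ * v : centralizer ({x} : Set G)) : G) * (u : G)
    rw [← hi]
    exact ((show Commute (u : G) x from mem_centralizer_singleton_iff.1 u.2).zpow_right i).eq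
  have hui : u⁻¹ = u := inv_eq_of_mul_eq_one_left hu2
  rw [hui] at h3 hcen
  have h1 : u * v * (u * v) = 1 := by
    calc u * v * (u * v) = u * v * u * v := by group
      _ = u * (u * v) * v := by rw [hcen]
      _ = 1 := by rw [← mul_assoc, hu2, one_mul, hv2]
  have h0 : u * v = 1 := by
    calc u * v = (u * v) ^ 3 * ((u * v * (u * v))⁻¹) := by rw [pow_succ', pow_two]; group
      _ = 1 := by rw [h3, h1, inv_one, one_mul]
  calc u = u * (v * v) := by rw [hv2, mul_one]
    _ = v := by rw [← mul_assoc, h0, one_mul]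

theorem commute_of_map (P : Cover s t x π) {w u : centralizer ({x} : Set G)} (hu : orderOf u = 2)
    (h : π w * π u = π u * π w) : Commute w u := by
  have hc : w * u * w⁻¹ = u := P.eq_of_map (by rw [← MulAut.conj_apply, MulEquiv.orderOf_eq, hu])
    hu (by rw [map_mul, map_mul, map_inv, h, mul_inv_cancel_right])
  exact mul_inv_eq_iff_eq_mul.1 hc

theorem lift_four (P : Cover s t x π) {h : A6} (h4 : h * h * (h * h) = 1) :
    ∃ w, π w = h ∧ w ^ 4 = 1 := by
  obtain ⟨e, rfl⟩ := P.surj h
  have h4' : π e ^ 4 = 1 := by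
    rw [show π e ^ 4 = π e * π e * (π e * π e) by simp only [pow_succ, pow_zero, one_mul, mul_assoc]]
    exact h4
  refine ⟨e ^ 9, ?_, ?_⟩
  · rw [map_pow, show (9 : ℕ) = 4 * 2 + 1 from rfl, pow_succ, pow_mul, h4', one_pow, one_mul]
  · have := P.cube (w := e ^ 4) (by rw [map_pow, h4'])
    rw [← pow_mul, show (9 * 4 : ℕ) = 4 * 3 * 3 from rfl, pow_mul, pow_mul, this, one_pow]

theorem lift_two (P : Cover s t x π) {h : A6} (h1 : h ≠ 1) (h2 : h * h = 1) :
    ∃ u, π u = h ∧ orderOf u = 2 := by
  obtain ⟨e, rfl⟩ := P.surj h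
  have h2' : π e ^ 2 = 1 := by rw [pow_two]; exact h2
  have he : π (e ^ 3) = π e := by rw [map_pow, pow_succ, h2', one_mul]
  refine ⟨e ^ 3, he, orderOf_eq_prime ?_ fun h0 => h1 (by rw [← he, h0, map_one])⟩
  rw [← pow_mul, show 3 * 2 = 2 * 3 from rfl, pow_mul]
  exact P.cube (by rw [map_pow, h2'])

theorem conj_two (P : Cover s t x π) {u v : centralizer ({x} : Set G)} (hu : orderOf u = 2)
    (hv : orderOf v = 2) : ∃ w : centralizer ({x} : Set G), w * u * w⁻¹ = v := by
  obtain ⟨g, hg⟩ := alt_conj_two _ (P.ne_one hu) (sq hu)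
  obtain ⟨g', hg'⟩ := alt_conj_two _ (P.ne_one hv) (sq hv)
  obtain ⟨w, hw⟩ := P.surj (g' * g⁻¹)
  refine ⟨w, P.eq_of_map (by rw [← MulAut.conj_apply, MulEquiv.orderOf_eq, hu]) hv ?_⟩
  rw [map_mul, map_mul, map_inv, hw]
  calc g' * g⁻¹ * π u * (g' * g⁻¹)⁻¹ = g' * (g⁻¹ * (π u * g)) * g'⁻¹ := by group
    _ = g' * altTwo * g'⁻¹ := by rw [← hg]; group
    _ = π v := by rw [hg', mul_inv_cancel_right]

theorem card_cent_two (P : Cover s t x π) {u : centralizer ({x} : Set G)} (hu : orderOf u = 2) :
    Nat.card (centralizer ({u} : Set (centralizer ({x} : Set G)))) = 24 := by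
  classical
  have h8 : Nat.card (centralizer ({π u} : Set A6)) = 8 := by
    rw [← alt_cent_two _ (P.ne_one hu) (sq hu), ← Fintype.card_subtype, ← Nat.card_eq_fintype_card]
    exact Nat.card_congr (Equiv.subtypeEquivRight fun v => mem_centralizer_singleton_iff)
  have heq : centralizer ({u} : Set (centralizer ({x} : Set G))) =
      (centralizer ({π u} : Set A6)).comap π := by
    ext w
    rw [Subgroup.mem_comap, mem_centralizer_singleton_iff, mem_centralizer_singleton_iff]
    exact ⟨fun h => by rw [← map_mul, h, map_mul], fun h => (P.commute_of_map hu h).eq⟩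
  have hidx := Subgroup.index_comap_of_surjective (centralizer ({π u} : Set A6)) P.surj
  have h1 := Subgroup.card_mul_index ((centralizer ({π u} : Set A6)).comap π)
  have h2 := Subgroup.card_mul_index (centralizer ({π u} : Set A6))
  have h360 : Nat.card A6 = 360 := by
    rw [Nat.card_eq_fintype_card]
    decide +kernel
  rw [P.data.card, hidx] at h1
  rw [h8, h360] at h2
  rw [show (centralizer ({π u} : Set A6)).index = 45 by omega] at h1
  rw [heq]
  omega

theorem many_three (P : Cover s t x π) :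
    240 ≤ Nat.card {c : G // orderOf c = 3 ∧ Commute c x ∧ c ∉ zpowers x} := by
  classical
  have h80 : Nat.card {h : A6 // h ≠ 1 ∧ h * h * h = 1} = 80 := by
    rw [Nat.card_eq_fintype_card, Fintype.card_subtype]
    exact alt_three_count
  choose f hf using P.surj
  let C := centralizer ({x} : Set G)
  let xC : C := ⟨x, mem_centralizer_singleton_iff.2 rfl⟩
  have hxC : π xC = 1 := (P.ker _).2 (mem_zpowers x)
  have hval : ∀ (h : {h : A6 // h ≠ 1 ∧ h * h * h = 1}) (i : Fin 3),
      π (f h.1 * xC ^ (i : ℕ)) = h.1 := fun h i => by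
    rw [map_mul, map_pow, hxC, one_pow, mul_one, hf]
  let F : {h : A6 // h ≠ 1 ∧ h * h * h = 1} × Fin 3 →
      {c : G // orderOf c = 3 ∧ Commute c x ∧ c ∉ zpowers x} := fun q =>
    ⟨((f q.1.1 * xC ^ (q.2 : ℕ) : C) : G), by
      set w := f q.1.1 * xC ^ (q.2 : ℕ) with hw
      have hπ : π w = q.1.1 := hval q.1 q.2
      have hne : (w : G) ∉ zpowers x := fun h => q.1.2.1 (hπ ▸ (P.ker w).2 h)
      refine ⟨?_, mem_centralizer_singleton_iff.1 w.2, hne⟩
      have h3 : π (w ^ 3) = 1 := by
        rw [map_pow, hπ, pow_succ, pow_two]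
        exact q.1.2.2
      have h9 : (w : G) ^ (3 * 3) = 1 := by
        rw [pow_mul, ← Subgroup.coe_pow, ← Subgroup.coe_pow, P.cube h3, OneMemClass.coe_one]
      have hd := orderOf_dvd_of_pow_eq_one h9
      have hm : orderOf (w : G) ∈ Nat.divisors 9 := Nat.mem_divisors.2 ⟨hd, by norm_num⟩
      have ho := P.data.hyp.facts.ord_mem (w : G)
      have h1 : orderOf (w : G) ≠ 1 := fun e =>
        hne (by rw [orderOf_eq_one_iff.1 e]; exact one_mem _)
      rw [show Nat.divisors 9 = {1, 3, 9} by decide +kernel] at hm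
      simp only [Finset.mem_insert, Finset.mem_singleton] at hm ho
      omega⟩
  have hF : Function.Injective F := by
    rintro ⟨h, i⟩ ⟨h', i'⟩ e
    have e' : f h.1 * xC ^ (i : ℕ) = f h'.1 * xC ^ (i' : ℕ) :=
      Subtype.ext (congrArg Subtype.val e : _)
    have hh : h = h' := Subtype.ext (by rw [← hval h i, e', hval h' i'])
    subst hh
    have hi := pow_injOn_Iio_orderOf (x := xC)
      (show (i : ℕ) < orderOf xC by rw [Subgroup.orderOf_mk, P.data.order]; exact i.2)
      (show (i' : ℕ) < orderOf xC by rw [Subgroup.orderOf_mk, P.data.order]; exact i'.2)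
      (mul_left_cancel e')
    exact Prod.ext rfl (Fin.ext hi)
  have := Nat.card_le_card_of_injective F hF
  rw [Nat.card_prod, h80, Nat.card_fin] at this
  exact this

end Cover

theorem pow_cases {b c : G} (hb : orderOf b = 3) (hc : c ∈ zpowers b) (h1 : c ≠ 1) :
    c = b ∨ c = b⁻¹ := by
  obtain ⟨k, rfl⟩ := (mem_powers_iff_mem_zpowers).2 hc
  have hk : b ^ (k % 3) = b ^ k := by rw [← hb, pow_mod_orderOf]
  show b ^ k = b ∨ b ^ k = b⁻¹
  change b ^ k ≠ 1 at h1
  rw [← hk] at h1 ⊢
  rcases (by omega : k % 3 = 0 ∨ k % 3 = 1 ∨ k % 3 = 2) with e | e | e <;> rw [e] at h1 ⊢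
  · exact absurd (pow_zero b) h1
  · exact Or.inl (pow_one b)
  · refine Or.inr (eq_inv_of_mul_eq_one_left ?_)
    rw [← pow_succ]
    show b ^ 3 = 1
    rw [← hb, pow_orderOf_eq_one]

theorem card_partners_rel {a b c : G} (h : Rel b c) :
    Nat.card {e : G // Rel a e ∧ Commute c e} = Nat.card {e : G // Rel a e ∧ Commute b e} := by
  have key : ∀ {b : G}, IsConj b c →
      Nat.card {e : G // Rel a e ∧ Commute c e} = Nat.card {e : G // Rel a e ∧ Commute b e} := by
    intro b h
    obtain ⟨g, rfl⟩ := isConj_iff.1 h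
    refine (Nat.card_congr (Equiv.subtypeEquiv (MulAut.conj g).toEquiv fun e => ?_)).symm
    show _ ↔ Rel a (g * e * g⁻¹) ∧ Commute (g * b * g⁻¹) (g * e * g⁻¹)
    refine ⟨fun h => ⟨h.1.trans (rel_conj g e), conj_commute h.2⟩, fun h => ⟨?_, ?_⟩⟩
    · exact h.1.trans (rel_conj g e).symm
    · simpa [mul_assoc] using conj_commute (g := g⁻¹) h.2
  rcases h with h | h
  · exact key h
  · rw [key h]
    exact Nat.card_congr (Equiv.subtypeEquivRight fun e =>
      ⟨fun q => ⟨q.1, by simpa using q.2.inv_left⟩, fun q => ⟨q.1, q.2.inv_left⟩⟩)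

theorem exists_second {π : centralizer ({x} : Set G) →* A6} (P : Cover s t x π) :
    ∃ d : G, Rel x d ∧ Commute d x ∧ d ∉ zpowers x := by
  classical
  by_contra hno
  push Not at hno
  obtain ⟨y, b, a, hy, hb, ha, hby, hne, hcov, hax, hX, hB, h48⟩ := P.data.split
  have H := P.data.hyp
  haveI := Fintype.ofFinite G
  have hsep : ∀ e c : G, Rel a e → Commute c e → Rel a c → c ∈ zpowers e := by
    intro e c he hce hc
    rcases hax.symm.trans he with h | h <;> obtain ⟨g, hg⟩ := isConj_iff.1 h
    · have h' := hno (g⁻¹ * c * g⁻¹⁻¹) ((hax.symm.trans hc).trans (rel_conj _ c))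
        (by have := conj_commute (g := g⁻¹) hce; rwa [← hg,
          show g⁻¹ * (g * x * g⁻¹) * g⁻¹⁻¹ = x by group] at this)
      obtain ⟨k, hk⟩ := h'
      simp only at hk
      exact ⟨k, by rw [← hg]; simp only; rw [conj_zpow, hk]; group⟩
    · have h' := hno (g⁻¹ * c * g⁻¹⁻¹) ((hax.symm.trans hc).trans (rel_conj _ c))
        (by have := (conj_commute (g := g⁻¹) hce).inv_right; rwa [← hg,
          show (g⁻¹ * (g * x⁻¹ * g⁻¹) * g⁻¹⁻¹)⁻¹ = x by group] at this)
      obtain ⟨k, hk⟩ := h'
      simp only at hk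
      refine ⟨-k, ?_⟩
      rw [← hg]
      simp only
      rw [conj_zpow, inv_zpow', neg_neg, hk]
      group
  -- double counting
  have hclass : Nat.card {e : G // IsConj x e} = 226688 := by
    have h := card_isConj_mul_card_centralizer x
    rw [P.data.card, H.facts.card] at h
    omega
  have hfib : ∀ e : G, IsConj x e → 240 ≤ Nat.card {c : G // Rel b c ∧ Commute c e} := by
    intro e he
    obtain ⟨g, rfl⟩ := isConj_iff.1 he
    refine P.many_three.trans (Nat.card_le_card_of_injective
      (fun c => ⟨g * c.1 * g⁻¹, ?_, conj_commute c.2.2.1⟩) ?_)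
    · refine Rel.trans ?_ (rel_conj g c.1)
      exact (hcov c.1 c.2.1).resolve_left fun h => c.2.2.2 (hno c.1 (hax.symm.trans h) c.2.2.1)
    · intro c c' e
      exact Subtype.ext (mul_left_cancel (mul_right_cancel (congrArg Subtype.val e : _)))
  have hcount : 226688 * 240 ≤ 485760 * Nat.card {e : G // Rel a e ∧ Commute b e} := by
    have hinj := Nat.card_le_card_of_injective
      (fun q : Σ e : {e : G // IsConj x e}, {c : G // Rel b c ∧ Commute c e.1} =>
        (⟨⟨q.2.1, q.2.2.1⟩, ⟨q.1.1, hax.trans (Or.inl q.1.2), q.2.2.2⟩⟩ :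
          Σ c : {c : G // Rel b c}, {e : G // Rel a e ∧ Commute c.1 e}))
      (by
        rintro ⟨⟨e, he⟩, ⟨c, hc⟩⟩ ⟨⟨e', he'⟩, ⟨c', hc'⟩⟩ h
        simp only [Sigma.mk.injEq, Subtype.mk.injEq] at h
        obtain ⟨rfl, h2⟩ := h
        simp only [heq_eq_eq, Subtype.mk.injEq] at h2
        subst h2
        rfl)
    rw [Nat.card_sigma, Nat.card_sigma, Finset.sum_congr rfl (fun c _ => card_partners_rel c.2),
      Finset.sum_const, smul_eq_mul, Finset.card_univ, ← Nat.card_eq_fintype_card, hB] at hinj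
    refine le_trans ?_ hinj
    calc 226688 * 240 = ∑ _e : {e : G // IsConj x e}, 240 := by
          rw [Finset.sum_const, smul_eq_mul, Finset.card_univ, ← Nat.card_eq_fintype_card, hclass]
      _ ≤ _ := Finset.sum_le_sum fun e _ => hfib e.1 e.2
  have h2 : 7 < InvThree.cm 2 b :=
    InvThree.many_twos H.facts H.cls H.card_t H.all ha hb hne hcov hB hy hby
  -- the set injecting into the cosets of `b`
  let S : G → Prop := fun e => Commute b e ∧ (Rel a e ∨ orderOf e = 7 ∨ orderOf e = 2 ∨ e = 1)
  have hAord : ∀ e : G, Rel a e → orderOf e = 3 := fun e he => he.order.trans ha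
  have hS : 169 ≤ Nat.card {e : G // S e} := by
    let ι : {e : G // Rel a e ∧ Commute b e} ⊕ {e : G // orderOf e = 7 ∧ Commute b e} ⊕
        {e : G // orderOf e = 2 ∧ Commute b e} ⊕ Unit → {e : G // S e}
      | .inl e => ⟨e.1, e.2.2, Or.inl e.2.1⟩
      | .inr (.inl e) => ⟨e.1, e.2.2, Or.inr (Or.inl e.2.1)⟩
      | .inr (.inr (.inl e)) => ⟨e.1, e.2.2, Or.inr (Or.inr (Or.inl e.2.1))⟩
      | .inr (.inr (.inr _)) => ⟨1, Commute.one_right b, Or.inr (Or.inr (Or.inr rfl))⟩
    have h1o : orderOf (1 : G) = 1 := orderOf_one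
    have hι : Function.Injective ι := by
      rintro (⟨e, he, he'⟩ | ⟨e, he, he'⟩ | ⟨e, he, he'⟩ | _)
        (⟨f, hf, hf'⟩ | ⟨f, hf, hf'⟩ | ⟨f, hf, hf'⟩ | _) h <;>
        have hv := congrArg Subtype.val h <;> simp only [ι] at hv <;>
        first
          | (subst hv; rfl)
          | rfl
          | (exfalso; subst hv
             first
               | omega
               | (have := hAord _ he; omega)
               | (have := hAord _ hf; omega))
    have hle := Nat.card_le_card_of_injective ι hι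
    rw [Nat.card_sum, Nat.card_sum, Nat.card_sum, Nat.card_unique (α := Unit)] at hle
    have e7 : Nat.card {e : G // orderOf e = 7 ∧ Commute b e} = 48 := h48
    have e2 : 7 < Nat.card {e : G // orderOf e = 2 ∧ Commute b e} := h2
    omega
  have hpowA : ∀ e : G, Rel a e → e ∉ zpowers b := by
    intro e he hm
    have h1 : e ≠ 1 := fun e0 => by have := hAord e he; rw [e0, orderOf_one] at this; norm_num at this
    rcases pow_cases hb hm h1 with rfl | rfl
    · exact hne he
    · exact hne (by simpa using rel_inv he)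
  have key : ∀ e e' : G, S e → S e' → e⁻¹ * e' ∈ zpowers b → e = e' := by
    intro e e' he he' hm
    by_contra hne'
    obtain ⟨i, hi⟩ := hm
    have hbi : Commute e (e⁻¹ * e') := hi ▸ he.1.symm.zpow_right i
    have hcomm : Commute e' e := by
      have h := hbi.symm
      have := (Commute.refl e).mul_left h
      rwa [mul_inv_cancel_left] at this
    have hcube : e ^ 3 = e' ^ 3 := by
      have : (e⁻¹ * e') ^ 3 = 1 := by
        rw [← hi]
        show (b ^ i) ^ 3 = 1
        rw [← zpow_natCast, ← zpow_mul, mul_comm, zpow_mul, zpow_natCast,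
          show b ^ 3 = 1 from hb ▸ pow_orderOf_eq_one b, one_zpow]
      rw [hcomm.symm.inv_left.mul_pow, inv_pow, inv_mul_eq_one] at this
      exact this
    -- neither element has order three
    have notA : ∀ f f' : G, Commute b f → S f' → f ^ 3 = f' ^ 3 → Commute f' f →
        f⁻¹ * f' ∈ zpowers b → f ≠ f' → Rel a f → False := by
      intro f f' _ hf' hc hcm hmem hff hA
      have hf3 : f' ^ 3 = 1 := by
        rw [← hc, ← hAord f hA, pow_orderOf_eq_one]
      have hd := orderOf_dvd_of_pow_eq_one hf3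
      rcases hf'.2 with hA' | h7 | h2' | h1
      · obtain ⟨j, hj⟩ := hsep f f' hA hcm hA'
        have hfm : f⁻¹ * f' ∈ zpowers f := ⟨-1 + j, by
          show f ^ (-1 + j) = _
          rw [zpow_add, zpow_neg_one]
          exact congrArg (f⁻¹ * ·) hj⟩
        have hne1 : f⁻¹ * f' ≠ 1 := fun h => hff (inv_mul_eq_one.1 h)
        have heq : zpowers f = zpowers b :=
          (SmallGroups.zpowers_eq_of_prime (by rw [Nat.card_zpowers, hAord f hA]) hfm hne1).symm.trans
            (SmallGroups.zpowers_eq_of_prime (by rw [Nat.card_zpowers, hb]) hmem hne1)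
        exact hpowA f hA (heq ▸ mem_zpowers f)
      · rw [h7] at hd; norm_num at hd
      · rw [h2'] at hd; norm_num at hd
      · rw [h1, mul_one] at hmem
        exact hpowA f hA (by simpa using inv_mem hmem)
    rcases he.2 with hA | hrest
    · exact notA e e' he.1 he' hcube hcomm ⟨i, hi⟩ hne' hA
    rcases he'.2 with hA' | hrest'
    · exact notA e' e he'.1 he hcube.symm hcomm.symm
        (by simpa using inv_mem (show e⁻¹ * e' ∈ zpowers b from ⟨i, hi⟩)) (Ne.symm hne') hA'
    have inv : ∀ f : G, orderOf f = 7 ∨ orderOf f = 2 ∨ f = 1 → f = ((f ^ 3) ^ 5) := by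
      intro f hf
      rw [← pow_mul]
      rcases hf with h | h | h
      · rw [← pow_mod_orderOf f (3 * 5), h]; simp
      · rw [← pow_mod_orderOf f (3 * 5), h]; simp
      · rw [h, one_pow]
    exact hne' (by rw [inv e hrest, hcube, ← inv e' hrest'])
  have hle : Nat.card {e : G // S e} * 3 ≤ 504 := by
    rw [← hX, ← hb, ← Nat.card_zpowers, ← Nat.card_prod]
    refine Nat.card_le_card_of_injective (fun q => ⟨q.1.1 * q.2.1,
      mem_centralizer_singleton_iff.2 (Commute.mul_left q.1.2.1.symm (by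
        obtain ⟨i, hi⟩ := q.2.2
        rw [← hi]; exact (Commute.refl b).zpow_left i)).eq⟩) ?_
    intro q q' h
    have h' : q.1.1 * q.2.1 = q'.1.1 * q'.2.1 := congrArg Subtype.val h
    have e1 : q.1 = q'.1 := Subtype.ext (key _ _ q.1.2 q'.1.2 (by
      rw [show q.1.1⁻¹ * q'.1.1 = q.2.1 * q'.2.1⁻¹ by
        calc q.1.1⁻¹ * q'.1.1 = q.1.1⁻¹ * (q'.1.1 * q'.2.1) * q'.2.1⁻¹ := by group
          _ = q.2.1 * q'.2.1⁻¹ := by rw [← h']; group]
      exact mul_mem q.2.2 (inv_mem q'.2.2)))
    rw [e1] at h'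
    exact Prod.ext e1 (Subtype.ext (mul_left_cancel h'))
  omega

theorem translate (D : Data s t x) {d : G} (hd : Rel x d) (hdx : Commute d x)
    (hdn : d ∉ zpowers x) : ∀ k : ℤ, IsConj d (d * x ^ k) := by
  classical
  haveI : Fact (Nat.Prime 3) := ⟨Nat.prime_three⟩
  have hd3 : orderOf d = 3 := hd.order.trans D.order
  set C := centralizer ({x} : Set G) with hC
  let xC : C := ⟨x, mem_centralizer_singleton_iff.2 rfl⟩
  let dC : C := ⟨d, mem_centralizer_singleton_iff.2 hdx.eq⟩
  haveI : (zpowers xC).Normal := ⟨fun n hn g => by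
    obtain ⟨i, rfl⟩ := hn
    refine ⟨i, Subtype.ext ?_⟩
    simp only [Subgroup.coe_mul, Subgroup.coe_inv, Subgroup.coe_zpow, xC]
    rw [((show Commute (g : G) x from mem_centralizer_singleton_iff.1 g.2).zpow_right i).eq,
      mul_inv_cancel_right]⟩
  obtain ⟨Q, hQ⟩ := (IsPGroup.of_card (p := 3) (n := 1)
    (by rw [Nat.card_zpowers, Subgroup.orderOf_mk, hd3, pow_one]) :
      IsPGroup 3 (zpowers dC)).exists_le_sylow
  have hxQ : xC ∈ (Q : Subgroup C) := by
    have hxp : IsPGroup 3 (zpowers xC) :=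
      IsPGroup.of_card (n := 1) (by rw [Nat.card_zpowers, Subgroup.orderOf_mk, D.order, pow_one])
    rw [← Q.3 (Q.2.to_sup_of_normal_right hxp) le_sup_left]
    exact (le_sup_right : zpowers xC ≤ (Q : Subgroup C) ⊔ zpowers xC) (mem_zpowers xC)
  set P : Subgroup G := (Q : Subgroup C).map C.subtype with hP
  have h27 : Nat.card P = 27 := by
    rw [hP, Subgroup.card_map_of_injective C.subtype_injective,
      SmallGroups.card_sylow_eq Q (k := 3) (m := 40) (by rw [hC, D.card]; norm_num) (by norm_num)]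
    norm_num
  have hxP : x ∈ P := ⟨xC, hxQ, rfl⟩
  have hdP : d ∈ P := ⟨dC, hQ (mem_zpowers dC), rfl⟩
  have hxc : ∀ w ∈ P, Commute x w := by
    rintro w ⟨⟨v, hv⟩, -, rfl⟩
    exact (show Commute v x from mem_centralizer_singleton_iff.1 hv).symm
  obtain ⟨e, he, hne⟩ : ∃ e ∈ P, ¬ Commute e d := by
    by_contra hall
    push Not at hall
    obtain ⟨e, he, f, hf, hef⟩ := D.nonabelian P h27
    set W := zpowers x ⊔ zpowers d with hW
    have hWP : W ≤ P := sup_le (zpowers_le.2 hxP) (zpowers_le.2 hdP)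
    have hcen : ∀ v ∈ P, W ≤ centralizer ({v} : Set G) := fun v hv =>
      sup_le (zpowers_le.2 (mem_centralizer_singleton_iff.2 (hxc v hv).eq))
        (zpowers_le.2 (mem_centralizer_singleton_iff.2 (hall v hv).symm.eq))
    set E := P ⊓ centralizer ({e} : Set G) with hE
    have hWE : W ≤ E := le_inf hWP (hcen e he)
    have heE : e ∈ E := ⟨he, mem_centralizer_singleton_iff.2 rfl⟩
    have heW : e ∉ W := fun h => hef (mem_centralizer_singleton_iff.1 (hcen f hf h))
    have h1 : Nat.card W < Nat.card E := by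
      refine lt_of_le_of_ne (Subgroup.card_le_of_le hWE) fun h => heW ?_
      rw [Subgroup.eq_of_le_of_card_ge hWE h.ge]
      exact heE
    have hxW : zpowers x ≤ W := le_sup_left
    have h2 : 3 < Nat.card W := by
      have hle := Subgroup.card_le_of_le hxW
      rw [Nat.card_zpowers, D.order] at hle
      refine lt_of_le_of_ne hle fun h => hdn ?_
      rw [Subgroup.eq_of_le_of_card_ge hxW (by rw [Nat.card_zpowers, D.order, ← h])]
      exact (le_sup_right : zpowers d ≤ W) (mem_zpowers d)
    have h3 := card_dvd_of_le hWP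
    have h4 := card_dvd_of_le (inf_le_left : E ≤ P)
    rw [h27] at h3 h4
    have hm3 := (Nat.mem_divisors.2 ⟨h3, by norm_num⟩ : Nat.card W ∈ Nat.divisors 27)
    have hm4 := (Nat.mem_divisors.2 ⟨h4, by norm_num⟩ : Nat.card E ∈ Nat.divisors 27)
    rw [show Nat.divisors 27 = {1, 3, 9, 27} by decide +kernel] at hm3 hm4
    simp only [Finset.mem_insert, Finset.mem_singleton] at hm3 hm4
    have hEP : E = P := Subgroup.eq_of_le_of_card_ge inf_le_left (by rw [h27]; omega)
    have hfE : f ∈ E := hEP.ge hf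
    exact hef (show Commute f e from mem_centralizer_singleton_iff.1 hfE.2).symm
  exact exists_translate h27 D.order hxP hxc hdP he hne

end Cfsg.Agent.Lib.M24Nse65.LocalA81Types

namespace Cfsg.Agent.Lib.M24Nse65.LocalA81

open Subgroup
open InvThree (Rel)
open LocalA81Types

universe u

variable {G : Type u} [Group G] {s t : G}

/-- The centralizer of an element of order three commuting with an involution of the larger
centralizer class. -/
theorem three_data [Finite G] (F : M24Nse2.Facts G) {s t : G} (h : InvCount.Classes s t)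
    (hC : Nat.card (centralizer ({t} : Set G)) = 21504)
    (hall : ∀ u : G, orderOf u = 2 → IsConj s u ∨ IsConj t u)
    {x g : G} (hx : orderOf x = 3) (hxt : Commute x t) (hg : g * x * g⁻¹ = x⁻¹) :
    (∀ u : G, orderOf u = 2 → Commute x u → IsConj t u) ∧
    Nat.card ↥(centralizer ({t} : Set G) ⊓ centralizer ({x} : Set G)) = 24 ∧
    (∃ u v : G, Commute u t ∧ Commute u x ∧ Commute v t ∧ Commute v x ∧ u ^ 8 = 1 ∧ v ^ 8 = 1 ∧
      u * v ≠ v * u) ∧
    ∃ d a : G, orderOf d = 3 ∧ Commute d x ∧ orderOf a = 2 ∧ a ≠ t ∧ Commute a t ∧ Commute a x ∧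
      d * t * d⁻¹ = a ∧ d * a * d⁻¹ = t * a ∧
      ∀ (k : ℕ) (u : G), orderOf u = 2 → Commute (d * x ^ k) u → IsConj t u := by
  have D : Data s t x := data ⟨F, h, hC, hall⟩ hx hxt hg
  obtain ⟨π, P⟩ := exists_cover D
  let tC : centralizer ({x} : Set G) := ⟨t, mem_centralizer_singleton_iff.2 hxt.eq.symm⟩
  have htC : orderOf tC = 2 := by rw [Subgroup.orderOf_mk, h.order_t]
  have mk : ∀ (w : centralizer ({x} : Set G)), Commute (w : G) x := fun w =>
    mem_centralizer_singleton_iff.1 w.2
  refine ⟨fun u hu hxu => D.twos x u (Rel.refl x) hu hxu, ?_, ?_, ?_⟩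
  · rw [← P.card_cent_two htC]
    exact Nat.card_congr
      { toFun := fun w => ⟨⟨w.1, w.2.2⟩, mem_centralizer_singleton_iff.2
          (Subtype.ext (mem_centralizer_singleton_iff.1 w.2.1))⟩
        invFun := fun w => ⟨(w.1 : G), mem_centralizer_singleton_iff.2
          (congrArg Subtype.val (mem_centralizer_singleton_iff.1 w.2) :), w.1.2⟩
        left_inv := fun w => rfl
        right_inv := fun w => rfl }
  · obtain ⟨v, hv, hv4, w, hw, hw4, hne⟩ := alt_cent_noncomm _ (P.ne_one htC) (Cover.sq htC)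
    obtain ⟨v', rfl, hv'⟩ := P.lift_four hv4
    obtain ⟨w', rfl, hw'⟩ := P.lift_four hw4
    have h8 : ∀ {e : centralizer ({x} : Set G)}, e ^ 4 = 1 → (e : G) ^ 8 = 1 := fun he => by
      rw [show (8 : ℕ) = 4 * 2 from rfl, pow_mul, ← Subgroup.coe_pow, he, OneMemClass.coe_one,
        one_pow]
    refine ⟨v', w', (P.commute_of_map htC hv).map (centralizer ({x} : Set G)).subtype, mk v',
      (P.commute_of_map htC hw).map (centralizer ({x} : Set G)).subtype, mk w', h8 hv', h8 hw',
      fun e => hne ?_⟩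
    have e' : v' * w' = w' * v' := Subtype.ext e
    rw [← map_mul, e', map_mul]
  · obtain ⟨d, hd, hdx, hdn⟩ := exists_second P
    let dC : centralizer ({x} : Set G) := ⟨d, mem_centralizer_singleton_iff.2 hdx.eq⟩
    have hd3 : orderOf d = 3 := hd.order.trans D.order
    have hπd : π dC ≠ 1 := fun e => hdn ((P.ker _).1 e)
    have hπd3 : π dC * π dC * π dC = 1 := by
      rw [← map_mul, ← map_mul, show dC * dC * dC = 1 from Subtype.ext (by
        show d * d * d = 1
        rw [← pow_two, ← pow_succ]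
        show d ^ 3 = 1
        rw [← hd3, pow_orderOf_eq_one]), map_one]
    obtain ⟨u, hu1, hu2, hprod⟩ := alt_three_four _ hπd hπd3
    obtain ⟨u0, rfl, hu0⟩ := P.lift_two hu1 hu2
    have hu1' : orderOf (dC * u0 * dC⁻¹) = 2 := by
      rw [← MulAut.conj_apply, MulEquiv.orderOf_eq, hu0]
    have hu2' : orderOf (dC * (dC * u0 * dC⁻¹) * dC⁻¹) = 2 := by
      rw [← MulAut.conj_apply, MulEquiv.orderOf_eq, hu1']
    have hs1 := Cover.sq (π := π) hu1'
    have hs2 := Cover.sq (π := π) hu2'
    simp only [map_mul, map_inv] at hs1 hs2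
    set A := π dC * π u0 * (π dC)⁻¹ with hA
    set B := π dC * A * (π dC)⁻¹ with hB
    have hB' : π u0 * A = B := by
      calc π u0 * A = π u0 * A * (B * B) := by rw [hs2, mul_one]
        _ = π u0 * A * B * B := by group
        _ = B := by rw [hprod, one_mul]
    have hcomm : π u0 * A = A * π u0 := by
      have e : π u0 * A * (π u0 * A) = 1 := by rw [hB']; exact hs2
      calc π u0 * A = (π u0 * A)⁻¹ := eq_inv_of_mul_eq_one_left e
        _ = A⁻¹ * (π u0)⁻¹ := by group
        _ = A * π u0 := by rw [inv_eq_of_mul_eq_one_left hs1, inv_eq_of_mul_eq_one_left (Cover.sq hu0)]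
    have hc01 : Commute u0 (dC * u0 * dC⁻¹) := P.commute_of_map hu1' (by
      simp only [map_mul, map_inv]; exact hcomm)
    have hne01 : u0 * (dC * u0 * dC⁻¹) ≠ 1 := fun e => by
      have e' := congrArg π e
      simp only [map_mul, map_inv, map_one] at e'
      rw [← hA, hB'] at e'
      exact P.ne_one hu2' (by simp only [map_mul, map_inv]; exact e')
    have h012 : dC * (dC * u0 * dC⁻¹) * dC⁻¹ = u0 * (dC * u0 * dC⁻¹) := by
      refine P.eq_of_map hu2' (orderOf_eq_prime ?_ hne01) ?_
      · rw [hc01.mul_pow, show u0 ^ 2 = 1 from hu0 ▸ pow_orderOf_eq_one u0, one_mul, ← hu1',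
          pow_orderOf_eq_one]
      · simp only [map_mul, map_inv]
        exact hB'.symm
    obtain ⟨w, hw⟩ := P.conj_two hu0 htC
    have hwG : (w : G) * u0 * (w : G)⁻¹ = t := congrArg Subtype.val hw
    have hwx : Commute (w : G) x := mk w
    set d' : G := (w : G) * d * (w : G)⁻¹ with hd'
    set A' : G := (w : G) * ((dC * u0 * dC⁻¹ : centralizer ({x} : Set G)) : G) * (w : G)⁻¹ with hA'
    have hxx : (w : G) * x * (w : G)⁻¹ = x := by rw [hwx.eq, mul_inv_cancel_right]
    refine ⟨d', A', by rw [hd', order_conj, hd3], ?_, ?_, ?_, ?_, ?_, ?_, ?_, fun k v hv hkv => ?_⟩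
    · have := conj_commute (g := (w : G)) hdx
      rwa [hxx] at this
    · rw [hA', order_conj, Subgroup.orderOf_coe, hu1']
    · intro e
      rw [hA', ← hwG] at e
      have e' : u0 = dC * u0 * dC⁻¹ := (Subtype.ext (mul_left_cancel (mul_right_cancel e))).symm
      apply hne01
      rw [← e', ← pow_two, ← hu0, pow_orderOf_eq_one]
    · rw [hA', ← hwG]
      exact conj_commute (hc01.symm.map (centralizer ({x} : Set G)).subtype)
    · have := conj_commute (g := (w : G)) (mk (dC * u0 * dC⁻¹))
      rwa [hxx] at this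
    · rw [hA', hd', ← hwG]
      simp only [Subgroup.coe_mul, Subgroup.coe_inv, dC]
      group
    · have e := congrArg (fun v : centralizer ({x} : Set G) => (w : G) * v * (w : G)⁻¹) h012
      simp only [Subgroup.coe_mul, Subgroup.coe_inv] at e
      rw [hA', hd', ← hwG]
      simp only [Subgroup.coe_mul, Subgroup.coe_inv, dC] at e ⊢
      calc _ = (w : G) * (d * (d * (u0 : G) * d⁻¹) * d⁻¹) * (w : G)⁻¹ := by group
        _ = (w : G) * ((u0 : G) * (d * (u0 : G) * d⁻¹)) * (w : G)⁻¹ := e
        _ = _ := by group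
    · have hrel : Rel x d' := hd.trans (rel_conj _ d)
      have hn' : d' ∉ zpowers x := fun hm => hdn (by
        obtain ⟨i, hi⟩ := hm
        refine ⟨i, ?_⟩
        calc x ^ i = (w : G)⁻¹ * (x ^ i * (w : G)) := by
              rw [(hwx.zpow_right i).eq.symm, inv_mul_cancel_left]
          _ = d := by rw [show x ^ i = d' from hi, hd']; group)
      have hx' : Commute d' x := by
        have := conj_commute (g := (w : G)) hdx
        rwa [hxx] at this
      have hk := translate D hrel hx' hn' k
      rw [zpow_natCast] at hk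
      exact D.twos (d' * x ^ k) v (hrel.trans (Or.inl hk)) hv hkv

end Cfsg.Agent.Lib.M24Nse65.LocalA81
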