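import Cfsg.Agent.Lib.M24Nse65.LocalA81Fusion
import Cfsg.Agent.Lib.M24Nse65.LocalA81Types
import Cfsg.Agent.Lib.M24Nse65.Facts

/-!
The octad subgroup: an elementary abelian group of order sixteen whose normalizer has order 322560
and controls the centralizers of its involutions.
-/

set_option autoImplicit false
set_option linter.unusedSectionVars false
set_option linter.style.haveILetI false

namespace Cfsg.Agent.Lib.M24Nse65

open Subgroup

universe u

variable {G : Type u} [Group G] [Finite G]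

namespace LocalA81

theorem mem_centralizer_conj {g t z : G} :
    z ∈ centralizer ({g * t * g⁻¹} : Set G) ↔ g⁻¹ * z * g ∈ centralizer ({t} : Set G) := by
  rw [mem_centralizer_singleton_iff, mem_centralizer_singleton_iff]
  constructor
  · intro h
    calc g⁻¹ * z * g * t = g⁻¹ * (z * (g * t * g⁻¹)) * g := by group
      _ = g⁻¹ * ((g * t * g⁻¹) * z) * g := by rw [h]
      _ = t * (g⁻¹ * z * g) := by group
  · intro h
    calc z * (g * t * g⁻¹) = g * ((g⁻¹ * z * g) * t) * g⁻¹ := by group
      _ = g * (t * (g⁻¹ * z * g)) * g⁻¹ := by rw [h]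
      _ = g * t * g⁻¹ * z := by group

/-- The last step: the properties follow from the fusion. -/
theorem local_of {t : G} {A : Subgroup G} (ht : orderOf t = 2)
    (hC : Nat.card (centralizer ({t} : Set G)) = 21504) (h16 : Nat.card A = 16)
    (hsq : ∀ a ∈ A, a * a = 1) (htA : t ∈ A)
    (hN : centralizer ({t} : Set G) ≤ normalizer (A : Set G))
    (hcent : centralizer (A : Set G) ≤ A)
    (hall : ∀ a ∈ A, a ≠ 1 → ∃ n ∈ normalizer (A : Set G), n * t * n⁻¹ = a) :
    Local A := by
  classical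
  set N := normalizer (A : Set G)
  have ht1 : t ≠ 1 := fun h => by rw [h, orderOf_one] at ht; norm_num at ht
  have htrans : ∀ a ∈ A, ∀ b ∈ A, a ≠ 1 → b ≠ 1 → ∃ n ∈ N, n * a * n⁻¹ = b := by
    intro a ha b hb ha1 hb1
    obtain ⟨n, hn, rfl⟩ := hall a ha ha1
    obtain ⟨m, hm, rfl⟩ := hall b hb hb1
    exact ⟨m * n⁻¹, mul_mem hm (inv_mem hn), by group⟩
  refine
    { card := h16
      sq := hsq
      cent := hcent
      card_norm := ?_
      cent_le := ?_
      card_cent := ?_
      trans := htrans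
      ti := ?_ }
  · letI : MulAction N G :=
      MulAction.compHom G (((MulAut.conj : G →* MulAut G)).comp N.subtype)
    have hsm : ∀ (g : N) (a : G), g • a = (g : G) * a * (g : G)⁻¹ := fun _ _ => rfl
    have horb : MulAction.orbit N t = (A : Set G) \ {1} := by
      refine Set.Subset.antisymm ?_ ?_
      · rintro _ ⟨g, rfl⟩
        exact ⟨(mem_normalizer_iff.1 g.2 t).1 htA, by simpa [hsm] using ht1⟩
      · rintro a ⟨ha, ha1⟩
        obtain ⟨n, hn, he⟩ := hall a ha ha1
        exact ⟨⟨n, hn⟩, he⟩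
    have hstab : MulAction.stabilizer N t = (centralizer ({t} : Set G)).subgroupOf N := by
      ext g
      rw [MulAction.mem_stabilizer_iff, mem_subgroupOf, mem_centralizer_singleton_iff, hsm,
        mul_inv_eq_iff_eq_mul]
    have h := (MulAction.stabilizer N t).card_mul_index
    rw [MulAction.index_stabilizer, horb, hstab,
      Nat.card_congr (subgroupOfEquivOfLe hN).toEquiv, hC,
      Set.ncard_sdiff (by simp) (Set.toFinite _), Set.ncard_singleton] at h
    have h16' : (A : Set G).ncard = 16 := (Nat.card_coe_set_eq _).symm.trans h16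
    rw [h16'] at h
    exact h.symm.trans (by norm_num)
  · intro a ha ha1 z hz
    obtain ⟨n, hn, rfl⟩ := hall a ha ha1
    have h := hN (mem_centralizer_conj.mp hz)
    have e : z = n * (n⁻¹ * z * n) * n⁻¹ := by group
    rw [e]
    exact mul_mem (mul_mem hn h) (inv_mem hn)
  · intro a ha ha1
    obtain ⟨n, hn, rfl⟩ := hall a ha ha1
    rw [← hC]
    refine Nat.card_congr
      { toFun := fun z => ⟨n⁻¹ * z * n, mem_centralizer_conj.mp z.2⟩
        invFun := fun z => ⟨n * z * n⁻¹, mem_centralizer_conj.mpr (by simp [mul_assoc])⟩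
        left_inv := fun z => Subtype.ext (by simp [mul_assoc])
        right_inv := fun z => Subtype.ext (by simp [mul_assoc]) }
  · intro g a ha hga ha1
    obtain ⟨n, hn, rfl⟩ := hall a ha ha1
    have hb1 : g * (n * t * n⁻¹) * g⁻¹ ≠ 1 := fun h => ha1 (conj_eq_one_iff.mp h)
    obtain ⟨m, hm, hm'⟩ := hall _ hga hb1
    have h : m⁻¹ * g * n ∈ centralizer ({t} : Set G) := by
      rw [mem_centralizer_singleton_iff]
      calc m⁻¹ * g * n * t = m⁻¹ * (g * (n * t * n⁻¹) * g⁻¹) * g * n := by group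
        _ = m⁻¹ * (m * t * m⁻¹) * g * n := by rw [hm']
        _ = t * (m⁻¹ * g * n) := by group
    have e : g = m * (m⁻¹ * g * n) * n⁻¹ := by group
    rw [e]
    exact mul_mem (mul_mem hm (hN h)) (inv_mem hn)

/-- The member containing the involution cycled with `t`. -/
theorem local_of_base (F : M24Nse2.Facts G) {s t x y h : G} (hs : InvCount.Classes s t)
    {R D W W' : Subgroup G} {w w' a d : G} (Φ : Frame t R D x y h) (T : Three t x)
    (B : Base t x y R W W' w w') (haW : a ∈ W) (hax : Commute x a) (haT : ¬ (a = 1 ∨ a = t))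
    (M : Move t x a d)
    (hfx : ∀ (k : ℕ) (u : G), orderOf u = 2 → Commute (d * x ^ k) u → IsConj t u) :
    Local W := by
  have hd := Φ.fusion F hs T B haW hax haT M hfx
  have hN : centralizer ({t} : Set G) ≤ normalizer (W : Set G) := fun g hg =>
    Φ.base_normal F hs T B hg
  refine local_of Φ.S.ht Φ.S.cardC B.P.card B.sq B.P.tW hN ?_ ?_
  · intro g hg
    refine Φ.base_cent F hs T B (mem_centralizer_singleton_iff.mpr ?_) fun k hk => ?_
    · exact (mem_centralizer_iff.mp hg t B.P.tW).symm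
    · exact (mem_centralizer_iff.mp hg k hk).symm
  · intro b hb hb1
    by_cases hbt : b = t
    · exact ⟨1, one_mem _, by rw [hbt]; group⟩
    obtain ⟨g1, hg1, h1⟩ := Φ.base_orb T B hb hb1 hbt
    obtain ⟨g2, hg2, h2⟩ := Φ.base_orb T B haW (fun e => haT (Or.inl e)) fun e => haT (Or.inr e)
    refine ⟨g1 * g2⁻¹ * d, mul_mem (mul_mem (hN hg1) (inv_mem (hN hg2))) hd, ?_⟩
    calc g1 * g2⁻¹ * d * t * (g1 * g2⁻¹ * d)⁻¹ = g1 * (g2⁻¹ * (d * t * d⁻¹) * g2) * g1⁻¹ := by
          group
      _ = g1 * w * g1⁻¹ := by rw [M.dt, ← h2]; group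
      _ = b := h1

end LocalA81

/-- An octad subgroup exists. -/
theorem exists_local (F : M24Nse2.Facts G) : ∃ A : Subgroup G, Local A := by
  classical
  obtain ⟨s, t, hs⟩ := InvCount.exists_classes F
  rcases hs.cases with ⟨hC, hall⟩ | ⟨hC, -⟩
  swap
  · exact (Ten.false_of_ten F hs.order_t hC).elim
  obtain ⟨R, D, S⟩ := LocalA81.exists_setting F hs hC hall
  obtain ⟨x, y, h, Φ⟩ := LocalA81.exists_frame S
  obtain ⟨h1, h2, h3, h4⟩ := LocalA81.three_data F hs hC hall Φ.ox (Φ.D_comm Φ.xD) Φ.hx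
  have T : LocalA81.Three t x := ⟨h1, h2, h3, h4⟩
  obtain ⟨W, W', w, w', B⟩ := Φ.exists_base T
  obtain ⟨d, a, hd, hdx, ha, hat, hac, hax, hdt, hda, hfx⟩ := h4
  have M : LocalA81.Move t x a d := ⟨hd ▸ pow_orderOf_eq_one d, hdx, hdt, hda⟩
  have ha2 : a * a = 1 := LocalA81.mul_self_of_order ha
  have haT : ¬ (a = 1 ∨ a = t) := by
    rintro (rfl | rfl)
    · rw [orderOf_one] at ha; omega
    · exact hat rfl
  have ha8 : a ^ 8 = 1 := by
    rw [show (8 : ℕ) = 2 * 4 from rfl, pow_mul, pow_two, ha2, one_pow]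
  rcases Φ.fixed_two T B (Φ.two_mem hac hax ha8) hax.symm ha2 with h | h
  · exact ⟨W, LocalA81.local_of_base F hs Φ T B h hax.symm haT M hfx⟩
  · exact ⟨W', LocalA81.local_of_base F hs Φ T (Φ.base_symm T B) h hax.symm haT M hfx⟩

end Cfsg.Agent.Lib.M24Nse65
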