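import Cfsg.Agent.Lib.M24Nse65.LocalA81Split
import Cfsg.Agent.Lib.SmallGroups.Order168Klein

/-!
The normal subgroup of order 128 of the centralizer of order 21504: squares lie in the centre, and
it is the product of two abelian subgroups of order sixteen cut out by the two cubic factors of the
seventh cyclotomic polynomial.
-/

set_option autoImplicit false
set_option linter.unusedSectionVars false
set_option linter.style.haveILetI false

namespace Cfsg.Agent.Lib.M24Nse65.LocalA81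

open Subgroup

universe u

variable {G : Type u} [Group G] [Finite G]

/-- A Frobenius subgroup of order 21 of `D` with an involution inverting its element of order
three. -/
structure Frame (t : G) (R D : Subgroup G) (x y h : G) : Prop where
  S : Setting t R D
  xD : x ∈ D
  yD : y ∈ D
  hD : h ∈ D
  ox : orderOf x = 3
  oy : orderOf y = 7
  oh : orderOf h = 2
  xy : x * y * x⁻¹ = y * y
  hx : h * x * h⁻¹ = x⁻¹

/-- What is used about the centralizer of the element of order three. -/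
structure Three (t x : G) : Prop where
  twos : ∀ u : G, orderOf u = 2 → Commute x u → IsConj t u
  card24 : Nat.card ↥(centralizer ({t} : Set G) ⊓ centralizer ({x} : Set G)) = 24
  noncomm : ∃ u v : G, Commute u t ∧ Commute u x ∧ Commute v t ∧ Commute v x ∧
    u ^ 8 = 1 ∧ v ^ 8 = 1 ∧ u * v ≠ v * u
  cycler : ∃ d a : G, orderOf d = 3 ∧ Commute d x ∧ orderOf a = 2 ∧ a ≠ t ∧ Commute a t ∧
    Commute a x ∧ d * t * d⁻¹ = a ∧ d * a * d⁻¹ = t * a ∧
    ∀ (k : ℕ) (u : G), orderOf u = 2 → Commute (d * x ^ k) u → IsConj t u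

/-- The frame exists. -/
theorem exists_frame {t : G} {R D : Subgroup G} (S : Setting t R D) :
    ∃ x y h : G, Frame t R D x y h := by
  haveI := S.simple
  haveI : Fact (Nat.Prime 7) := ⟨by norm_num⟩
  have hD := S.cardD
  obtain ⟨P⟩ : Nonempty (Sylow 7 D) := inferInstance
  obtain ⟨hP, hN, hC⟩ := SmallGroups.Order168.sylow_seven_data hD P
  obtain ⟨⟨y, hyP⟩, hy⟩ := exists_prime_orderOf_dvd_card' (G := ↥(P : Subgroup D)) 7 (by rw [hP])
  rw [Subgroup.orderOf_mk] at hy
  haveI : Fact (Nat.Prime 3) := ⟨Nat.prime_three⟩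
  obtain ⟨⟨x, hxN⟩, hx⟩ := exists_prime_orderOf_dvd_card'
    (G := normalizer ((P : Subgroup D) : Set D)) 3 (by rw [hN]; norm_num)
  rw [Subgroup.orderOf_mk] at hx
  have hzp : zpowers y = (P : Subgroup D) := eq_of_le_of_card_ge (zpowers_le.mpr hyP)
    (by rw [Nat.card_zpowers, hy, hP])
  obtain ⟨k, hk⟩ := mem_powers_iff_mem_zpowers.mpr
    (hzp ▸ (mem_normalizer_iff.mp hxN y).mp hyP)
  simp only at hk
  rw [← pow_mod_orderOf, hy] at hk
  obtain ⟨k', hk'⟩ : ∃ k', k' = k % 7 := ⟨_, rfl⟩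
  rw [← hk'] at hk
  have hk7 : k' < 7 := hk' ▸ Nat.mod_lt _ (by norm_num)
  have hconj : ∀ n : ℕ, x ^ n * y * (x ^ n)⁻¹ = y ^ (k' ^ n) := by
    intro n
    induction n with
    | zero => simp
    | succ n ih =>
      calc x ^ (n + 1) * y * (x ^ (n + 1))⁻¹ = x * (x ^ n * y * (x ^ n)⁻¹) * x⁻¹ := by
            rw [pow_succ']; group
        _ = (x * y * x⁻¹) ^ (k' ^ n) := by rw [ih, conj_pow]
        _ = y ^ (k' ^ (n + 1)) := by rw [← hk, ← pow_mul, pow_succ']
  have h31 : k' ^ 3 % 7 = 1 := by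
    have := hconj 3
    rw [← hx, pow_orderOf_eq_one, one_mul, inv_one, mul_one, hx] at this
    have h2 := pow_inj_mod.mp ((pow_one y).trans this)
    rw [hy] at h2
    omega
  have hk1 : k' ≠ 1 := by
    intro e
    rw [e, pow_one] at hk
    have hcd := Subgroup.orderOf_dvd_natCard _
      (mem_centralizer_singleton_iff.mpr (mul_inv_eq_iff_eq_mul.mp hk.symm) :
        x ∈ centralizer ({y} : Set D))
    rw [SmallGroups.Order168.centralizer_card hD (Or.inr hy), hy, hx] at hcd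
    norm_num at hcd
  have key : ∀ x : D, orderOf x = 3 → x * y * x⁻¹ = y * y →
      ∃ x y h : G, Frame t R D x y h := by
    intro x hx hxy
    obtain ⟨g, hg⟩ := isConj_iff.mp
      (SmallGroups.Order168.isConj_three hD hx (orderOf_inv x ▸ hx : orderOf x⁻¹ = 3))
    have hg2c : Commute x (g * g) := by
      have h2 : g * g * x * (g * g)⁻¹ = x := by
        calc g * g * x * (g * g)⁻¹ = g * (g * x * g⁻¹) * g⁻¹ := by group
          _ = g * x⁻¹ * g⁻¹ := by rw [hg]
          _ = (g * x * g⁻¹)⁻¹ := by group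
          _ = x := by rw [hg, inv_inv]
      exact (mul_inv_eq_iff_eq_mul.mp h2).symm
    have hCx : centralizer ({x} : Set D) = zpowers x :=
      (eq_of_le_of_card_ge (zpowers_le.mpr (mem_centralizer_singleton_iff.mpr rfl))
        (by rw [SmallGroups.Order168.centralizer_card hD (Or.inl hx), Nat.card_zpowers])).symm
    obtain ⟨i, hi⟩ := mem_powers_iff_mem_zpowers.mpr
      (hCx ▸ mem_centralizer_singleton_iff.mpr hg2c.eq.symm : g * g ∈ zpowers x)
    simp only at hi
    have hg1 : g * g = 1 := by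
      have h1 : g * x ^ i * g⁻¹ = x ^ i := by rw [hi]; group
      rw [← conj_pow, hg, inv_pow] at h1
      have h2 : x ^ (i + i) = 1 := by
        rw [pow_add]
        exact inv_eq_iff_mul_eq_one.mp h1
      have h3 := orderOf_dvd_of_pow_eq_one h2
      rw [hx] at h3
      rw [← hi, ← pow_mod_orderOf, hx, show i % 3 = 0 by omega, pow_zero]
    have hgne : g ≠ 1 := by
      rintro rfl
      rw [one_mul, inv_one, mul_one] at hg
      have h2 : x ^ 2 = 1 := by rw [pow_two]; exact eq_inv_iff_mul_eq_one.mp hg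
      have h3 := orderOf_dvd_of_pow_eq_one h2
      rw [hx] at h3
      norm_num at h3
    have hyo : orderOf (y : G) = 7 := by rw [Subgroup.orderOf_coe, hy]
    refine ⟨x, y, g, S, x.2, y.2, g.2, by rw [Subgroup.orderOf_coe, hx], hyo,
      by rw [Subgroup.orderOf_coe]; exact orderOf_eq_prime (by rw [pow_two]; exact hg1) hgne,
      congrArg Subtype.val hxy, congrArg Subtype.val hg⟩
  have hcases : k' = 2 ∨ k' = 4 := by
    clear hk' hk hconj
    revert h31 hk1
    interval_cases k' <;> simp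
  rcases hcases with e | e
  · exact key x hx (by rw [← hk, e, pow_two])
  · refine key x⁻¹ (by rw [orderOf_inv, hx]) ?_
    rw [e] at hk
    have h1 : (x⁻¹ * y * x) ^ 4 = y := by
      calc (x⁻¹ * y * x) ^ 4 = x⁻¹ * y ^ 4 * x := by
            rw [show x⁻¹ * y * x = x⁻¹ * y * x⁻¹⁻¹ by group, conj_pow]; group
        _ = y := by rw [hk]; group
    have h7 : (x⁻¹ * y * x) ^ 7 = 1 := by
      rw [show x⁻¹ * y * x = x⁻¹ * y * x⁻¹⁻¹ by group, conj_pow, ← hy, pow_orderOf_eq_one]
      group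
    rw [inv_inv]
    calc x⁻¹ * y * x = (x⁻¹ * y * x) * (x⁻¹ * y * x) ^ 7 := by rw [h7, mul_one]
      _ = ((x⁻¹ * y * x) ^ 4) ^ 2 := by group
      _ = y * y := by rw [h1, pow_two]

section Poly

variable {M : Type u} [CommGroup M]

/-- The map of the first cubic factor. -/
def fA (Y : M →* M) : M →* M where
  toFun m := m * Y m * Y (Y (Y m))
  map_one' := by simp
  map_mul' a b := by simp [mul_comm, mul_left_comm, mul_assoc]

/-- The map of the second cubic factor. -/
def fB (Y : M →* M) : M →* M where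
  toFun m := m * Y (Y m) * Y (Y (Y m))
  map_one' := by simp
  map_mul' a b := by simp [mul_comm, mul_left_comm, mul_assoc]

theorem poly (hsq : ∀ m : M, m * m = 1) (Y X : M →* M)
    (h7 : ∀ m, Y (Y (Y (Y (Y (Y (Y m)))))) = m) (hfix : ∀ m, Y m = m → m = 1)
    (hXY : ∀ m, X (Y m) = Y (Y (X m))) :
    (∀ m, fA Y m = 1 → fA Y (Y m) = 1 ∧ fA Y (X m) = 1) ∧
    (∀ m, fB Y m = 1 → fB Y (Y m) = 1 ∧ fB Y (X m) = 1) ∧
    (∀ m, fA Y m = 1 → fB Y m = 1 → m = 1) ∧
    (∀ m, ∃ u v, fA Y u = 1 ∧ fB Y v = 1 ∧ m = u * v) ∧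
    (∀ v, fA Y v = 1 → fA Y (v * Y v) = 1 ∧ v = fB Y (v * Y v)) ∧
    (∀ v, fB Y v = 1 → fB Y (Y v) = 1 ∧ v = fA Y (Y v)) := by
  have hsq' : ∀ a b : M, a * (a * b) = b := fun a b => by rw [← mul_assoc, hsq, one_mul]
  have hAY : ∀ m, fA Y (Y m) = Y (fA Y m) := fun m => by simp [fA]
  have hBY : ∀ m, fB Y (Y m) = Y (fB Y m) := fun m => by simp [fB]
  -- the operator commutes with `X` up to squaring
  have hX4 : ∀ m, Y (X m) = X (Y (Y (Y (Y m)))) := fun m => by
    rw [hXY, hXY, hXY, hXY]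
    simp [h7]
  have hA4 : ∀ m, fA Y (X m) = X (fA Y (fA Y (fA Y (fA Y m)))) := fun m => by
    simp [fA, hX4, h7, hsq, hsq', mul_comm, mul_left_comm, mul_assoc]
  have hB4 : ∀ m, fB Y (X m) = X (fB Y (fB Y (fB Y (fB Y m)))) := fun m => by
    simp [fB, hX4, h7, hsq, hsq', mul_comm, mul_left_comm, mul_assoc]
  have hN : ∀ m, fA Y (fB Y m) = 1 := fun m => hfix _ (by
    simp [fA, fB, h7, hsq, hsq', mul_comm, mul_left_comm, mul_assoc])
  have hN' : ∀ m, fB Y (fA Y m) = 1 := fun m => hfix _ (by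
    simp [fA, fB, h7, hsq, hsq', mul_comm, mul_left_comm, mul_assoc])
  have hdec : ∀ m, m = Y (fA Y m) * (fB Y m * Y (fB Y m)) := fun m => by
    simp [fA, fB, h7, hsq, hsq', mul_comm, mul_left_comm, mul_assoc]
  refine ⟨fun m hm => ⟨by rw [hAY, hm, map_one], by rw [hA4, hm]; simp⟩,
    fun m hm => ⟨by rw [hBY, hm, map_one], by rw [hB4, hm]; simp⟩,
    fun m h1 h2 => by rw [hdec m, h1, h2]; simp,
    fun m => ⟨fB Y m * Y (fB Y m), Y (fA Y m), by rw [map_mul, hAY, hN]; simp,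
      by rw [hBY, hN']; simp, by rw [mul_comm]; exact hdec m⟩,
    fun v hv => ⟨by rw [map_mul, hAY, hv]; simp, ?_⟩,
    fun v hv => ⟨by rw [hBY, hv]; simp, ?_⟩⟩
  · rw [map_mul, hBY]
    conv_lhs => rw [hdec v, hv, map_one, one_mul]
  · rw [hAY]
    conv_lhs => rw [hdec v, hv, map_one, mul_one, mul_one]

end Poly

namespace Frame

variable {t x y h : G} {R D : Subgroup G} (Φ : Frame t R D x y h)

include Φ

theorem t_sq : t * t = 1 := by rw [← pow_two, ← Φ.S.ht, pow_orderOf_eq_one]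

theorem t_inv : t⁻¹ = t := inv_eq_of_mul_eq_one_right Φ.t_sq

theorem t_ne : t ≠ 1 := fun e => by
  have := Φ.S.ht
  rw [e, orderOf_one] at this
  norm_num at this

theorem comm_t {g : G} (hg : g ∈ centralizer ({t} : Set G)) : Commute g t :=
  mem_centralizer_singleton_iff.mp hg

theorem R_comm {r : G} (hr : r ∈ R) : Commute r t := Φ.comm_t (Φ.S.R_le hr)

theorem D_comm {d : G} (hd : d ∈ D) : Commute d t := Φ.comm_t (Φ.S.D_le hd)

theorem D_norm {d r : G} (hd : d ∈ D) (hr : r ∈ R) : d * r * d⁻¹ ∈ R :=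
  Φ.S.norm d (Φ.S.D_le hd) r hr

theorem y_norm_R : y ∈ normalizer (R : Set G) := by
  rw [mem_normalizer_iff]
  intro r
  refine ⟨Φ.D_norm Φ.yD, fun hr => ?_⟩
  have := Φ.D_norm (inv_mem Φ.yD) hr
  simpa [mul_assoc] using this

theorem mul_t_cancel {p : G} : p * t * t = p := by rw [mul_assoc, Φ.t_sq, mul_one]

/-- An element of order seven fixing a coset of the centre of `R`. -/
theorem fix_pow {z r : G} (hz : orderOf z = 7) (hzt : Commute z t) (hr : r ∈ R)
    (h : z * r * z⁻¹ = r ∨ z * r * z⁻¹ = r * t) : r = 1 ∨ r = t := by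
  refine Φ.S.fpf z r hz hzt hr ?_
  rcases h with h | h
  · exact mul_inv_eq_iff_eq_mul.mp h
  exfalso
  have hp : ∀ n : ℕ, z ^ n * r * (z ^ n)⁻¹ = r * t ^ n := by
    intro n
    induction n with
    | zero => simp
    | succ n ih =>
      calc z ^ (n + 1) * r * (z ^ (n + 1))⁻¹ = z * (z ^ n * r * (z ^ n)⁻¹) * z⁻¹ := by
            rw [pow_succ']; group
        _ = (z * r * z⁻¹) * (z * t ^ n * z⁻¹) := by rw [ih]; group
        _ = r * t ^ (n + 1) := by
            rw [h, (hzt.pow_right n).eq, mul_inv_cancel_right, pow_succ', mul_assoc]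
  have := hp 7
  rw [← hz, pow_orderOf_eq_one, one_mul, inv_one, mul_one, hz, left_eq_mul] at this
  rw [pow_succ, show (6 : ℕ) = 2 * 3 from rfl, pow_mul, pow_two, Φ.t_sq, one_pow, one_mul] at this
  exact Φ.t_ne this

/-- An element of order three fixing a coset of the centre of `R` fixes the element. -/
theorem fix_three {r : G} (h : x * r * x⁻¹ = r ∨ x * r * x⁻¹ = r * t) : Commute x r := by
  rcases h with h | h
  · exact mul_inv_eq_iff_eq_mul.mp h
  exfalso
  have hc : Commute x t := Φ.D_comm Φ.xD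
  have h3 : x ^ 3 = 1 := Φ.ox ▸ pow_orderOf_eq_one x
  have e1 : x * (r * t) * x⁻¹ = r := by
    calc x * (r * t) * x⁻¹ = (x * r * x⁻¹) * (x * t * x⁻¹) := by group
      _ = r := by rw [h, hc.eq, mul_inv_cancel_right, Φ.mul_t_cancel]
  have e2 : x ^ 3 * r * (x ^ 3)⁻¹ = r * t := by
    calc x ^ 3 * r * (x ^ 3)⁻¹ = x * (x * (x * r * x⁻¹) * x⁻¹) * x⁻¹ := by
          simp [pow_succ, mul_assoc]
      _ = r * t := by rw [h, e1, h]
  rw [h3, one_mul, inv_one, mul_one, left_eq_mul] at e2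
  exact Φ.t_ne e2

theorem pow_conj (i : ℕ) : x * y ^ i * x⁻¹ = y ^ (2 * i) := by
  rw [← conj_pow, Φ.xy, ← pow_two, ← pow_mul]

theorem orderOf_pow_y {i : ℕ} (hi : ¬ 7 ∣ i) : orderOf (y ^ i) = 7 := by
  rw [orderOf_pow, Φ.oy,
    Nat.Coprime.gcd_eq_one ((Nat.Prime.coprime_iff_not_dvd (by norm_num)).mpr hi), Nat.div_one]

theorem y7 : y ^ 7 = 1 := Φ.oy ▸ pow_orderOf_eq_one y

theorem y_pow_mod (i : ℕ) : y ^ (i % 7) = y ^ i := by rw [← Φ.oy, pow_mod_orderOf]

/-- An orbit of `y` on cosets of the centre. -/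
theorem orbit_eq {r : G} (hr : r ∈ R) (hr1 : ¬ (r = 1 ∨ r = t)) {i j : ℕ}
    (h : y ^ i * r * (y ^ i)⁻¹ = y ^ j * r * (y ^ j)⁻¹ ∨
      y ^ i * r * (y ^ i)⁻¹ = y ^ j * r * (y ^ j)⁻¹ * t) : i % 7 = j % 7 := by
  by_contra hne
  set m := i % 7 + (7 - j % 7) with hm
  have hm7 : ¬ 7 ∣ m := by omega
  have hym : y ^ m = (y ^ j)⁻¹ * y ^ i := by
    rw [eq_inv_mul_iff_mul_eq, ← pow_add, ← Φ.y_pow_mod (j + m), ← Φ.y_pow_mod i]
    congr 1; omega
  refine hr1 (Φ.fix_pow (Φ.orderOf_pow_y hm7) ((Φ.D_comm Φ.yD).pow_left m) hr ?_)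
  have hc : Commute t (y ^ j) := ((Φ.D_comm Φ.yD).pow_left j).symm
  rcases h with h | h
  · left
    rw [hym]
    calc (y ^ j)⁻¹ * y ^ i * r * ((y ^ j)⁻¹ * y ^ i)⁻¹
        = (y ^ j)⁻¹ * (y ^ i * r * (y ^ i)⁻¹) * y ^ j := by group
      _ = r := by rw [h]; group
  · right
    rw [hym]
    calc (y ^ j)⁻¹ * y ^ i * r * ((y ^ j)⁻¹ * y ^ i)⁻¹
        = (y ^ j)⁻¹ * (y ^ i * r * (y ^ i)⁻¹) * y ^ j := by group
      _ = r * ((y ^ j)⁻¹ * (t * y ^ j)) := by rw [h]; group
      _ = r * t := by rw [hc.eq, inv_mul_cancel_left]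

/-- An element of `C(t)` commuting with `x` splits accordingly. -/
theorem split_comm {r d : G} (hr : r ∈ R) (hd : d ∈ D) (hc : Commute x (r * d)) :
    Commute x r ∧ d ∈ zpowers x := by
  have h1 : x * r * x⁻¹ * (x * d * x⁻¹) = r * d := by
    calc x * r * x⁻¹ * (x * d * x⁻¹) = x * (r * d) * x⁻¹ := by group
      _ = r * d := by rw [hc.eq, mul_inv_cancel_right]
  have h2 : r⁻¹ * (x * r * x⁻¹) = d * (x * d * x⁻¹)⁻¹ := by
    rw [eq_mul_inv_iff_mul_eq, mul_assoc, inv_mul_eq_iff_eq_mul, h1]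
  have h3 : r⁻¹ * (x * r * x⁻¹) = 1 := Φ.S.disj _ (mul_mem (inv_mem hr) (Φ.D_norm Φ.xD hr))
    (h2 ▸ mul_mem hd (inv_mem (mul_mem (mul_mem Φ.xD hd) (inv_mem Φ.xD))))
  refine ⟨mul_inv_eq_iff_eq_mul.mp (inv_mul_eq_one.mp h3).symm, ?_⟩
  have h4 : x * d = d * x := by
    have := h2.symm.trans h3
    rw [mul_inv_eq_one] at this
    exact mul_inv_eq_iff_eq_mul.mp this.symm
  haveI := Φ.S.simple
  have hx' : orderOf (⟨x, Φ.xD⟩ : D) = 3 := by rw [Subgroup.orderOf_mk]; exact Φ.ox
  have hC : centralizer ({(⟨x, Φ.xD⟩ : D)} : Set D) = zpowers (⟨x, Φ.xD⟩ : D) :=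
    (eq_of_le_of_card_ge (zpowers_le.mpr (mem_centralizer_singleton_iff.mpr rfl))
      (by rw [SmallGroups.Order168.centralizer_card Φ.S.cardD (Or.inl hx'), Nat.card_zpowers])).symm
  have hm : (⟨d, hd⟩ : D) ∈ centralizer ({(⟨x, Φ.xD⟩ : D)} : Set D) :=
    mem_centralizer_singleton_iff.mpr (Subtype.ext h4.symm)
  rw [hC] at hm
  obtain ⟨k, hk⟩ := hm
  exact ⟨k, by simpa using congrArg Subtype.val hk⟩

theorem card_fixed (T : Three t x) :
    Nat.card ↥(R ⊓ centralizer ({x} : Set G)) = 8 := by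
  set E := R ⊓ centralizer ({x} : Set G) with hE
  set J := centralizer ({t} : Set G) ⊓ centralizer ({x} : Set G)
  have hxJ : zpowers x ≤ J := zpowers_le.mpr
    ⟨Φ.S.D_le Φ.xD, mem_centralizer_singleton_iff.mpr rfl⟩
  let f : E × zpowers x → J := fun p => ⟨p.1 * p.2,
    mul_mem ⟨Φ.S.R_le p.1.2.1, p.1.2.2⟩ (hxJ p.2.2)⟩
  have hf : Function.Bijective f := by
    constructor
    · rintro ⟨a, b⟩ ⟨a', b'⟩ e
      have e' : (a : G) * b = a' * b' := congrArg Subtype.val e
      have hk : (a' : G)⁻¹ * a = b' * (b : G)⁻¹ := by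
        rw [eq_mul_inv_iff_mul_eq, mul_assoc, inv_mul_eq_iff_eq_mul, e']
      have h1 := Φ.S.disj _ (mul_mem (inv_mem a'.2.1) a.2.1)
        (hk ▸ mul_mem (zpowers_le.mpr Φ.xD b'.2) (inv_mem (zpowers_le.mpr Φ.xD b.2)))
      have h2 : a = a' := Subtype.ext (inv_mul_eq_one.mp h1).symm
      subst h2
      exact Prod.ext rfl (Subtype.ext (mul_left_cancel e'))
    · rintro ⟨g, hgt, hgx⟩
      obtain ⟨r, hr, d, hd, rfl⟩ := Φ.S.split g hgt
      obtain ⟨h1, h2⟩ := Φ.split_comm hr hd (mem_centralizer_singleton_iff.mp hgx).symm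
      exact ⟨(⟨r, hr, mem_centralizer_singleton_iff.mpr h1.eq.symm⟩, ⟨d, h2⟩), rfl⟩
  have := Nat.card_eq_of_bijective f hf
  rw [Nat.card_prod, Nat.card_zpowers, Φ.ox, T.card24] at this
  omega

theorem two_mem {g : G} (hgt : Commute g t) (hgx : Commute g x) (hg : g ^ 8 = 1) : g ∈ R := by
  obtain ⟨r, hr, d, hd, rfl⟩ := Φ.S.split g (mem_centralizer_singleton_iff.mpr hgt)
  obtain ⟨h1, h2⟩ := Φ.split_comm hr hd hgx.symm
  obtain ⟨k, hk⟩ := mem_powers_iff_mem_zpowers.mpr h2
  simp only at hk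
  subst hk
  have hc : Commute r (x ^ k) := (h1.symm).pow_right k
  rw [hc.mul_pow] at hg
  have h8 : (x ^ k) ^ 8 = 1 := Φ.S.disj _
    (by rw [eq_inv_of_mul_eq_one_right hg]; exact inv_mem (pow_mem hr 8)) (pow_mem hd 8)
  rw [← pow_mul] at h8
  have := orderOf_dvd_of_pow_eq_one h8
  rw [Φ.ox] at this
  rw [← pow_mod_orderOf, Φ.ox, show k % 3 = 0 by omega, pow_zero, mul_one]
  exact hr

theorem fixed_not_comm (T : Three t x) : ∃ u v : G, u ∈ R ∧ Commute x u ∧ v ∈ R ∧ Commute x v ∧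
    u * v ≠ v * u := by
  obtain ⟨u, v, hut, hux, hvt, hvx, hu, hv, hne⟩ := T.noncomm
  exact ⟨u, v, Φ.two_mem hut hux hu, hux.symm, Φ.two_mem hvt hvx hv, hvx.symm, hne⟩

/-- Squares of the fixed points of `x`. -/
theorem fixed_sq (T : Three t x) {r : G} (hr : r ∈ R) (hrx : Commute x r) :
    r * r = 1 ∨ r * r = t := by
  classical
  set E := R ⊓ centralizer ({x} : Set G) with hE
  have h8 := Φ.card_fixed T
  rw [← hE] at h8
  have hmem : ∀ {g : G}, g ∈ R → Commute x g → g ∈ E := fun h1 h2 =>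
    ⟨h1, mem_centralizer_singleton_iff.mpr h2.eq.symm⟩
  obtain ⟨u, v, hu, hux, hv, hvx, hne⟩ := Φ.fixed_not_comm T
  have hnc : ¬ IsCyclic (E ⧸ center E) := fun hcyc => by
    haveI := hcyc
    have := commutative_of_cyclic_center_quotient (QuotientGroup.mk' (center E))
      (by rw [QuotientGroup.ker_mk'])
    exact hne (congrArg Subtype.val (this ⟨u, hmem hu hux⟩ ⟨v, hmem hv hvx⟩))
  have htE : t ∈ E := hmem Φ.S.tR (Φ.D_comm Φ.xD)
  have htZ : (⟨t, htE⟩ : E) ∈ center E := mem_center_iff.mpr fun g =>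
    Subtype.ext (Φ.R_comm g.2.1).eq
  have hmul := (center E).card_mul_index
  rw [h8] at hmul
  have h2le : 2 ≤ Nat.card (center E) := by
    have := Nat.le_of_dvd Nat.card_pos (Subgroup.orderOf_dvd_natCard _ htZ)
    rwa [Subgroup.orderOf_mk, Φ.S.ht] at this
  have hidx : (center E).index = 4 ∧ Nat.card (center E) = 2 := by
    have hd : (center E).index ∈ Nat.divisors 8 :=
      Nat.mem_divisors.mpr ⟨Dvd.intro_left _ hmul, by norm_num⟩
    rw [show Nat.divisors 8 = {1, 2, 4, 8} by decide] at hd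
    simp only [Finset.mem_insert, Finset.mem_singleton] at hd
    rcases hd with e | e | e | e
    · exfalso; refine hnc ?_
      haveI : Subsingleton (E ⧸ center E) := (Nat.card_eq_one_iff_unique.mp
        ((center E).index_eq_card ▸ e)).1
      infer_instance
    · exfalso; refine hnc ?_
      haveI : Fact (Nat.Prime 2) := ⟨Nat.prime_two⟩
      exact isCyclic_of_prime_card (p := 2) ((center E).index_eq_card ▸ e)
    · rw [e] at hmul; exact ⟨e, by omega⟩
    · rw [e] at hmul; omega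
  have hq : ((⟨r, hmem hr hrx⟩ : E) : E ⧸ center E) ^ 2 = 1 := by
    set q := ((⟨r, hmem hr hrx⟩ : E) : E ⧸ center E)
    have hd : orderOf q ∣ 4 := by
      have := _root_.orderOf_dvd_natCard q
      rwa [← index_eq_card, hidx.1] at this
    rcases (Nat.dvd_prime_pow Nat.prime_two).mp (show orderOf q ∣ 2 ^ 2 from hd) with ⟨m, hm, e⟩
    interval_cases m
    · rw [orderOf_eq_one_iff.mp (e.trans (pow_zero 2)), one_pow]
    · rw [← orderOf_dvd_iff_pow_eq_one, e]; norm_num
    · exfalso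
      exact hnc (isCyclic_of_orderOf_eq_card q
        (by rw [e, ← index_eq_card, hidx.1]; norm_num))
  rw [← QuotientGroup.mk_pow, QuotientGroup.eq_one_iff] at hq
  have hz : center E = zpowers (⟨t, htE⟩ : E) := (eq_of_le_of_card_ge (zpowers_le.mpr htZ)
    (by rw [hidx.2, Nat.card_zpowers, Subgroup.orderOf_mk, Φ.S.ht])).symm
  rw [hz] at hq
  obtain ⟨k, hk⟩ := mem_powers_iff_mem_zpowers.mpr hq
  have hk' : t ^ k = r * r := by
    have := congrArg Subtype.val hk
    simpa [pow_two] using this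
  rw [← pow_mod_orderOf, Φ.S.ht] at hk'
  obtain e | e : k % 2 = 0 ∨ k % 2 = 1 := by omega
  · exact Or.inl (by rw [← hk', e, pow_zero])
  · exact Or.inr (by rw [← hk', e, pow_one])

/-- A subgroup of order sixteen containing the centre and normalized by `x` and `y`. -/
theorem fix_sixteen {K : Subgroup G} (hK : K ≤ R) (htK : t ∈ K) (h16 : Nat.card K = 16)
    (hx : x ∈ normalizer (K : Set G)) (hy : y ∈ normalizer (K : Set G)) :
    ∃ w ∈ K, Commute x w ∧ ¬ (w = 1 ∨ w = t) ∧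
      (∀ k ∈ K, k = 1 ∨ k = t ∨ ∃ i : ℕ, k = y ^ i * w * (y ^ i)⁻¹ ∨
        k = y ^ i * w * (y ^ i)⁻¹ * t) ∧
      ∀ k ∈ K, Commute x k → k = 1 ∨ k = t ∨ k = w ∨ k = w * t := by
  classical
  haveI := Fintype.ofFinite K
  haveI : Fact (Nat.Prime 3) := ⟨Nat.prime_three⟩
  have hm := card_fix_modEq (p := 3) (g := x) (Φ.ox ▸ pow_orderOf_eq_one x) K hx
  rw [h16] at hm
  obtain ⟨w, hwK, hwx, hw⟩ : ∃ w ∈ K, Commute x w ∧ ¬ (w = 1 ∨ w = t) := by
    by_contra hno
    push Not at hno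
    have h2 : Nat.card {r : K // Commute x (r : G)} = 2 := by
      rw [Nat.card_eq_two_iff]
      refine ⟨⟨1, Commute.one_right _⟩, ⟨⟨t, htK⟩, Φ.D_comm Φ.xD⟩, fun e => Φ.t_ne ?_, ?_⟩
      · exact (congrArg (fun q : {r : K // Commute x (r : G)} => ((q.1 : K) : G)) e).symm
      · ext ⟨⟨r, hr⟩, hrx⟩
        simp only [Set.mem_insert_iff, Set.mem_singleton_iff, Set.mem_univ, iff_true]
        rcases hno r hr hrx with rfl | rfl
        · exact Or.inl rfl
        · exact Or.inr rfl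
    rw [h2] at hm
    norm_num at hm
  have hwR := hK hwK
  have hconj : ∀ i : ℕ, y ^ i * w * (y ^ i)⁻¹ ∈ K := fun i =>
    (mem_normalizer_iff.mp (pow_mem hy i) w).mp hwK
  let f : Option (Option (Fin 7 × Fin 2)) → K := fun o => match o with
    | none => 1
    | some none => ⟨t, htK⟩
    | some (some q) => ⟨y ^ (q.1 : ℕ) * w * (y ^ (q.1 : ℕ))⁻¹ * t ^ (q.2 : ℕ),
        mul_mem (hconj _) (pow_mem htK _)⟩
  have hout : ∀ (i : ℕ) (j : Fin 2), y ^ i * w * (y ^ i)⁻¹ * t ^ (j : ℕ) ≠ 1 ∧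
      y ^ i * w * (y ^ i)⁻¹ * t ^ (j : ℕ) ≠ t := by
    intro i j
    have hct : Commute t (y ^ i) := ((Φ.D_comm Φ.yD).pow_left i).symm
    have key : ∀ e : G, (e = 1 ∨ e = t) → y ^ i * w * (y ^ i)⁻¹ ≠ e := by
      intro e he h1
      refine hw ?_
      have : w = (y ^ i)⁻¹ * (e * y ^ i) := by rw [← h1]; group
      rcases he with rfl | rfl
      · left; rw [this]; group
      · right; rw [this, hct.eq, inv_mul_cancel_left]
    fin_cases j
    · simp only [pow_zero, mul_one]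
      exact ⟨key 1 (Or.inl rfl), key t (Or.inr rfl)⟩
    · simp only [pow_one]
      refine ⟨fun e => key t (Or.inr rfl) ?_, fun e => key 1 (Or.inl rfl) ?_⟩
      · rw [eq_inv_of_mul_eq_one_left e, Φ.t_inv]
      · exact mul_right_cancel (e.trans (one_mul t).symm)
  have hf : Function.Injective f := by
    rintro (_ | _ | ⟨i, j⟩) (_ | _ | ⟨i', j'⟩) e
    · rfl
    · exact absurd (congrArg Subtype.val e).symm Φ.t_ne
    · exact absurd (congrArg Subtype.val e).symm (hout i' j').1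
    · exact absurd (congrArg Subtype.val e) Φ.t_ne
    · rfl
    · exact absurd (congrArg Subtype.val e).symm (hout i' j').2
    · exact absurd (congrArg Subtype.val e) (hout i j).1
    · exact absurd (congrArg Subtype.val e) (hout i j).2
    · have e' : y ^ (i : ℕ) * w * (y ^ (i : ℕ))⁻¹ * t ^ (j : ℕ) =
          y ^ (i' : ℕ) * w * (y ^ (i' : ℕ))⁻¹ * t ^ (j' : ℕ) := congrArg Subtype.val e
      have hii : (i : ℕ) % 7 = (i' : ℕ) % 7 := Φ.orbit_eq hwR hw <| by
        fin_cases j <;> fin_cases j' <;> simp only [pow_zero, pow_one, mul_one] at e'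
        · exact Or.inl e'
        · exact Or.inr e'
        · exact Or.inr (by rw [← e', Φ.mul_t_cancel])
        · exact Or.inl (mul_right_cancel e')
      obtain rfl : i = i' := Fin.ext (by omega)
      have ej := mul_left_cancel e'
      have : j = j' := by
        have := pow_inj_mod.mp ej
        rw [Φ.S.ht] at this
        exact Fin.ext (by omega)
      rw [this]
  have hbij : Function.Bijective f :=
    (Nat.bijective_iff_injective_and_card f).mpr ⟨hf, by rw [h16]; simp⟩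
  have hall : ∀ k ∈ K, k = 1 ∨ k = t ∨ ∃ (i : Fin 7) (j : Fin 2),
      k = y ^ (i : ℕ) * w * (y ^ (i : ℕ))⁻¹ * t ^ (j : ℕ) := by
    intro k hk
    obtain ⟨o, ho⟩ := hbij.2 ⟨k, hk⟩
    rcases o with _ | _ | ⟨i, j⟩
    · exact Or.inl (congrArg Subtype.val ho).symm
    · exact Or.inr (Or.inl (congrArg Subtype.val ho).symm)
    · exact Or.inr (Or.inr ⟨i, j, (congrArg Subtype.val ho).symm⟩)
  refine ⟨w, hwK, hwx, hw, fun k hk => ?_, fun k hk hkx => ?_⟩
  · rcases hall k hk with e | e | ⟨i, j, e⟩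
    · exact Or.inl e
    · exact Or.inr (Or.inl e)
    · refine Or.inr (Or.inr ⟨i, ?_⟩)
      fin_cases j
      · exact Or.inl (by simpa using e)
      · exact Or.inr (by simpa using e)
  · rcases hall k hk with e | e | ⟨i, j, e⟩
    · exact Or.inl e
    · exact Or.inr (Or.inl e)
    have hxt : Commute x (t ^ (j : ℕ)) := (Φ.D_comm Φ.xD).pow_right _
    have h1 : x * k * x⁻¹ = y ^ (2 * (i : ℕ)) * w * (y ^ (2 * (i : ℕ)))⁻¹ * t ^ (j : ℕ) := by
      rw [e]
      calc x * (y ^ (i : ℕ) * w * (y ^ (i : ℕ))⁻¹ * t ^ (j : ℕ)) * x⁻¹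
          = (x * y ^ (i : ℕ) * x⁻¹) * (x * w * x⁻¹) * (x * y ^ (i : ℕ) * x⁻¹)⁻¹ *
              (x * t ^ (j : ℕ) * x⁻¹) := by group
        _ = _ := by rw [Φ.pow_conj, hwx.eq, mul_inv_cancel_right, hxt.eq, mul_inv_cancel_right]
    rw [hkx.eq, mul_inv_cancel_right, e] at h1
    have h2 := Φ.orbit_eq hwR hw (Or.inl (mul_right_cancel h1))
    obtain h0 : (i : ℕ) = 0 := by omega
    rw [h0, pow_zero, one_mul, inv_one, mul_one] at e
    fin_cases j
    · exact Or.inr (Or.inr (Or.inl (by simpa using e)))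
    · exact Or.inr (Or.inr (Or.inr (by simpa using e)))

/-- The commutator. -/
def kap (a b : G) : G := a * b * a⁻¹ * b⁻¹

omit Φ in
theorem kap_mul (a b c : G) : kap (a * b) c = a * kap b c * a⁻¹ * kap a c := by
  unfold kap; group

omit Φ in
theorem kap_inv (a c : G) : kap a⁻¹ c = a⁻¹ * (kap a c)⁻¹ * a := by
  unfold kap; group

theorem conj_one_or {g e : G} (hg : Commute g t) (he : e = 1 ∨ e = t) : g * e * g⁻¹ = e := by
  rcases he with rfl | rfl
  · simp
  · rw [hg.eq, mul_inv_cancel_right]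

theorem one_or_mul {a b : G} (ha : a = 1 ∨ a = t) (hb : b = 1 ∨ b = t) :
    a * b = 1 ∨ a * b = t := by
  rcases ha with rfl | rfl <;> rcases hb with rfl | rfl <;> simp [Φ.t_sq]

/-- Squares in `R` lie in the centre. -/
theorem sq_R (T : Three t x) : ∀ r ∈ R, r * r = 1 ∨ r * r = t := by
  classical
  haveI h2 : Fact (Nat.Prime 2) := ⟨Nat.prime_two⟩
  haveI h7 : Fact (Nat.Prime 7) := ⟨by norm_num⟩
  have hC : ∀ {g : G}, g ∈ R → Commute g t := fun hg => Φ.R_comm hg
  -- the second centre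
  let Z : Subgroup G :=
    { carrier := {g | g ∈ R ∧ ∀ r ∈ R, kap g r = 1 ∨ kap g r = t}
      mul_mem' := by
        rintro a b ⟨ha, ha'⟩ ⟨hb, hb'⟩
        refine ⟨mul_mem ha hb, fun r hr => ?_⟩
        rw [kap_mul, Φ.conj_one_or (hC ha) (hb' r hr)]
        exact Φ.one_or_mul (hb' r hr) (ha' r hr)
      one_mem' := ⟨one_mem _, fun r _ => Or.inl (by simp [kap])⟩
      inv_mem' := by
        rintro a ⟨ha, ha'⟩
        refine ⟨inv_mem ha, fun r hr => ?_⟩
        rw [kap_inv]
        rcases ha' r hr with e | e <;> rw [e]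
        · simp
        · right
          rw [Φ.t_inv, mul_assoc, ← (hC ha).eq, inv_mul_cancel_left] }
  have hZR : Z ≤ R := fun g hg => hg.1
  have htZ : t ∈ Z := ⟨Φ.S.tR, fun r hr => Or.inl (by
    rw [kap, ← (hC hr).eq, mul_assoc, mul_assoc, mul_inv_cancel_left, mul_inv_cancel])⟩
  have hZnorm : ∀ g ∈ centralizer ({t} : Set G), g ∈ normalizer (Z : Set G) := by
    have hone : ∀ g ∈ centralizer ({t} : Set G), ∀ k ∈ Z, g * k * g⁻¹ ∈ Z := by
      intro g hg k hk
      refine ⟨Φ.S.norm g hg k hk.1, fun r hr => ?_⟩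
      have hr' : g⁻¹ * r * g ∈ R := by simpa using Φ.S.norm g⁻¹ (inv_mem hg) r hr
      have e : kap (g * k * g⁻¹) r = g * kap k (g⁻¹ * r * g) * g⁻¹ := by unfold kap; group
      rw [e, Φ.conj_one_or (Φ.comm_t hg) (hk.2 _ hr')]
      exact hk.2 _ hr'
    intro g hg
    rw [mem_normalizer_iff]
    intro k
    refine ⟨hone g hg k, fun hk => ?_⟩
    have := hone g⁻¹ (inv_mem hg) _ hk
    simpa [mul_assoc] using this
  have hyC : y ∈ centralizer ({t} : Set G) := Φ.S.D_le Φ.yD
  have hxC : x ∈ centralizer ({t} : Set G) := Φ.S.D_le Φ.xD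
  obtain ⟨e, he, hZe⟩ := (Nat.dvd_prime_pow Nat.prime_two).mp
    (show Nat.card Z ∣ 2 ^ 7 by
      have := card_dvd_of_le hZR
      rw [Φ.S.cardR] at this
      simpa using this)
  -- it is larger than the centre
  have hbig : ¬ Nat.card Z ≤ 2 := by
    intro hle
    have hTn : ((zpowers t).subgroupOf R).Normal := ⟨fun z hz g => by
      rw [mem_subgroupOf] at hz ⊢
      obtain ⟨k, hk⟩ := hz
      simp only at hk
      push_cast
      rw [← hk, ((hC g.2).zpow_right k).eq, mul_inv_cancel_right]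
      exact zpow_mem (mem_zpowers t) k⟩
    have hp : IsPGroup 2 R := IsPGroup.of_card (n := 7) (by rw [Φ.S.cardR]; norm_num)
    haveI : Nontrivial (R ⧸ (zpowers t).subgroupOf R) := by
      apply Finite.one_lt_card_iff_nontrivial.mp
      have h := ((zpowers t).subgroupOf R).card_mul_index
      rw [index_eq_card, Nat.card_congr (subgroupOfEquivOfLe (zpowers_le.mpr Φ.S.tR)).toEquiv,
        Nat.card_zpowers, Φ.S.ht, Φ.S.cardR] at h
      omega
    haveI := (hp.to_quotient ((zpowers t).subgroupOf R)).center_nontrivial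
    obtain ⟨⟨q, hq⟩, hq1⟩ := exists_ne (1 : center (R ⧸ (zpowers t).subgroupOf R))
    obtain ⟨r, rfl⟩ := QuotientGroup.mk_surjective q
    have hT : ∀ g : G, g ∈ zpowers t → g = 1 ∨ g = t := by
      intro g hg
      obtain ⟨k, hk⟩ := mem_powers_iff_mem_zpowers.mpr hg
      simp only at hk
      rw [← pow_mod_orderOf, Φ.S.ht] at hk
      obtain e | e : k % 2 = 0 ∨ k % 2 = 1 := by omega
      · exact Or.inl (by rw [← hk, e, pow_zero])
      · exact Or.inr (by rw [← hk, e, pow_one])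
    have hrZ : (r : G) ∈ Z := ⟨r.2, fun r' hr' => hT _ <| by
      have hh : ((r * ⟨r', hr'⟩ * r⁻¹ * (⟨r', hr'⟩ : R)⁻¹ : R) : R ⧸ (zpowers t).subgroupOf R) =
          1 := by
        rw [QuotientGroup.mk_mul, QuotientGroup.mk_mul, QuotientGroup.mk_mul, QuotientGroup.mk_inv,
          QuotientGroup.mk_inv, ← mem_center_iff.mp hq (↑(⟨r', hr'⟩ : R)), mul_inv_cancel_right,
          mul_inv_cancel]
      rw [QuotientGroup.eq_one_iff, mem_subgroupOf] at hh
      exact hh⟩
    have hrT : (r : G) ∉ zpowers t := fun h => hq1 <| Subtype.ext <|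
      (QuotientGroup.eq_one_iff r).mpr (mem_subgroupOf.mpr h)
    have hlt := Nat.card_le_card_of_injective
      (fun i : Fin 3 => (![⟨1, one_mem Z⟩, ⟨t, htZ⟩, ⟨r, hrZ⟩] : Fin 3 → Z) i) (by
        have n1 : (1 : G) ≠ t := Φ.t_ne.symm
        have n2 : (1 : G) ≠ r := fun e => hrT (e ▸ one_mem _)
        have n3 : t ≠ (r : G) := fun e => hrT (e ▸ mem_zpowers t)
        intro i j hij
        have hij' := congrArg Subtype.val hij
        fin_cases i <;> fin_cases j <;> first
          | rfl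
          | exact absurd hij' n1 | exact absurd hij'.symm n1
          | exact absurd hij' n2 | exact absurd hij'.symm n2
          | exact absurd hij' n3 | exact absurd hij'.symm n3)
    rw [Nat.card_fin] at hlt
    omega
  have hfix : Nat.card Z % 7 = 2 := by
    rw [card_fix_modEq (p := 7) Φ.y7 Z (hZnorm y hyC)]
    have h2 : Nat.card {r : Z // Commute y (r : G)} = 2 := by
      rw [Nat.card_eq_two_iff]
      refine ⟨⟨1, Commute.one_right _⟩, ⟨⟨t, htZ⟩, Φ.D_comm Φ.yD⟩, fun h => Φ.t_ne ?_, ?_⟩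
      · exact (congrArg (fun q : {r : Z // Commute y (r : G)} => ((q.1 : Z) : G)) h).symm
      · ext ⟨⟨r, hr⟩, hyr⟩
        simp only [Set.mem_insert_iff, Set.mem_singleton_iff, Set.mem_univ, iff_true]
        rcases Φ.S.fpf y r Φ.oy (Φ.D_comm Φ.yD) (hZR hr) hyr with rfl | rfl
        · exact Or.inl rfl
        · exact Or.inr rfl
    rw [h2]
  have hcases : Nat.card Z = 16 ∨ Nat.card Z = 128 := by
    rw [hZe] at hbig hfix ⊢
    interval_cases e <;> first | (norm_num at hfix; done) | (norm_num at hbig; done) | norm_num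
  have hsqconj : ∀ {g r : G}, Commute g t → (r * r = 1 ∨ r * r = t) →
      (g * r * g⁻¹) * (g * r * g⁻¹) = r * r := by
    intro g r hg hr
    calc g * r * g⁻¹ * (g * r * g⁻¹) = g * (r * r) * g⁻¹ := by group
      _ = r * r := Φ.conj_one_or hg hr
  have hsqmul : ∀ {a b : G}, a ∈ R → b ∈ R → (a * a = 1 ∨ a * a = t) → (b * b = 1 ∨ b * b = t) →
      (kap b a = 1 ∨ kap b a = t) → a * b * (a * b) = 1 ∨ a * b * (a * b) = t := by
    intro a b ha hb h1 h2 h3
    have e : a * b * (a * b) = a * (kap b a * a) * (b * b) := by unfold kap; group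
    have hka : Commute (kap b a) a := by
      rcases h3 with h | h <;> rw [h]
      · exact Commute.one_left a
      · exact (hC ha).symm
    rw [e, hka.eq, ← mul_assoc a a]
    exact Φ.one_or_mul (Φ.one_or_mul h1 h3) h2
  rcases hcases with h16 | h128
  · obtain ⟨w, hwZ, hwx, hw, hall, hfixw⟩ := Φ.fix_sixteen hZR htZ h16 (hZnorm x hxC) (hZnorm y hyC)
    have hw2 := Φ.fixed_sq T (hZR hwZ) hwx
    have hyt : ∀ i : ℕ, Commute (y ^ i) t := fun i => (Φ.comm_t hyC).pow_left i
    have hwt : ∀ {g : G}, g ∈ R → g * t * (g * t) = g * g := by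
      intro g hg
      rw [show g * t * (g * t) = g * (t * g) * t by group, ← (hC hg).eq, ← mul_assoc g g,
        Φ.mul_t_cancel]
    have hZsq : ∀ k ∈ Z, k * k = 1 ∨ k * k = t := by
      intro k hk
      rcases hall k hk with rfl | rfl | ⟨i, rfl | rfl⟩
      · exact Or.inl (one_mul 1)
      · exact Or.inl Φ.t_sq
      · rw [hsqconj (hyt i) hw2]; exact hw2
      · rw [hwt (Φ.S.norm _ (pow_mem hyC i) w (hZR hwZ)), hsqconj (hyt i) hw2]; exact hw2
    -- a fixed point outside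
    obtain ⟨r0, hr0, hr0x, hr0Z⟩ : ∃ r0, r0 ∈ R ∧ Commute x r0 ∧ r0 ∉ Z := by
      by_contra hno
      push Not at hno
      have h8 := Φ.card_fixed T
      have hle := Nat.card_le_card_of_injective
        (fun r : ↥(R ⊓ centralizer ({x} : Set G)) =>
          (⟨(r : G), by
            have hk := hfixw r (hno r r.2.1 (mem_centralizer_singleton_iff.mp r.2.2).symm)
              (mem_centralizer_singleton_iff.mp r.2.2).symm
            simp only [Finset.mem_insert, Finset.mem_singleton]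
            exact hk⟩ : {g : G // g ∈ ({1, t, w, w * t} : Finset G)}))
        (fun a b e => Subtype.ext (congrArg (fun q => q.1) e))
      rw [h8, Nat.card_eq_fintype_card, Fintype.card_coe] at hle
      have := hle.trans Finset.card_le_four
      omega
    have hr2 := Φ.fixed_sq T hr0 hr0x
    let f : Fin 7 × Z ⊕ Z → R := Sum.elim
      (fun q => ⟨y ^ (q.1 : ℕ) * r0 * (y ^ (q.1 : ℕ))⁻¹ * q.2,
        mul_mem (Φ.S.norm _ (pow_mem hyC _) r0 hr0) (hZR q.2.2)⟩)
      (fun k => ⟨k, hZR k.2⟩)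
    have hzr : ∀ i : ℕ, ∀ k ∈ Z, y ^ i * r0 * (y ^ i)⁻¹ * k ∈ Z → False := by
      intro i k hk h
      refine hr0Z ?_
      have h1 : y ^ i * r0 * (y ^ i)⁻¹ ∈ Z := by simpa using Z.mul_mem h (Z.inv_mem hk)
      exact (mem_normalizer_iff.mp (hZnorm _ (pow_mem hyC i)) r0).mpr h1
    have hf : Function.Injective f := by
      rintro (⟨i, k⟩ | k) (⟨i', k'⟩ | k') e
      · have e' : y ^ (i : ℕ) * r0 * (y ^ (i : ℕ))⁻¹ * k = y ^ (i' : ℕ) * r0 * (y ^ (i' : ℕ))⁻¹ * k' :=
          congrArg Subtype.val e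
        have hii : i = i' := by
          by_contra hne
          set m := (i : ℕ) + (7 - (i' : ℕ)) with hm
          have hm7 : ¬ 7 ∣ m := by
            have := i.isLt; have := i'.isLt
            intro hd
            exact hne (Fin.ext (by omega))
          have hym : y ^ m = (y ^ (i' : ℕ))⁻¹ * y ^ (i : ℕ) := by
            rw [eq_inv_mul_iff_mul_eq, ← pow_add, hm, show (i' : ℕ) + ((i : ℕ) + (7 - i')) = i + 7 by
              have := i'.isLt; omega, pow_add, Φ.y7, mul_one]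
          have hz := Φ.orderOf_pow_y hm7
          have hzC : y ^ m ∈ centralizer ({t} : Set G) := pow_mem hyC m
          -- the coset of `r0` is fixed by `y ^ m`
          have hu : r0⁻¹ * (y ^ m * r0 * (y ^ m)⁻¹) ∈ Z := by
            have h1 : r0⁻¹ * (y ^ m * r0 * (y ^ m)⁻¹) =
                (y ^ (i' : ℕ))⁻¹ * ((k' : G) * (k : G)⁻¹) * y ^ (i' : ℕ) := by
              rw [hym]
              calc _ = (y ^ (i' : ℕ))⁻¹ * ((y ^ (i' : ℕ) * r0 * (y ^ (i' : ℕ))⁻¹)⁻¹ *
                      ((y ^ (i : ℕ) * r0 * (y ^ (i : ℕ))⁻¹ * k) * (k : G)⁻¹)) * y ^ (i' : ℕ) := by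
                    group
                _ = _ := by rw [e']; group
            rw [h1]
            exact (mem_normalizer_iff''.mp (hZnorm _ (pow_mem hyC _)) _).mp
              (Z.mul_mem k'.2 (Z.inv_mem k.2))
          haveI := Fintype.ofFinite Z
          let g : Function.End Z := fun a => ⟨r0⁻¹ * (y ^ m * (r0 * a) * (y ^ m)⁻¹), by
            rw [show r0⁻¹ * (y ^ m * (r0 * a) * (y ^ m)⁻¹) =
              r0⁻¹ * (y ^ m * r0 * (y ^ m)⁻¹) * (y ^ m * a * (y ^ m)⁻¹) by group]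
            exact Z.mul_mem hu ((mem_normalizer_iff.mp (hZnorm _ hzC) a).mp a.2)⟩
          have hg : ∀ n : ℕ, ∀ a, ((g ^ n) a : G) =
              r0⁻¹ * ((y ^ m) ^ n * (r0 * a) * ((y ^ m) ^ n)⁻¹) := by
            intro n
            induction n with
            | zero => intro a; simp; rfl
            | succ n ih =>
              intro a
              rw [pow_succ']
              show r0⁻¹ * (y ^ m * (r0 * ((g ^ n) a : G)) * (y ^ m)⁻¹) = _
              rw [ih, pow_succ' (y ^ m)]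
              group
          have hg7 : g ^ 7 ^ 1 = 1 := by
            funext a
            apply Subtype.ext
            rw [hg, pow_one, ← hz, pow_orderOf_eq_one]
            simp
            rfl
          have hmod := Equiv.Perm.card_fixedPoints_modEq (p := 7) (n := 1) hg7
          rw [show Fintype.card (Function.fixedPoints g) = 0 from ?_,
            ← Nat.card_eq_fintype_card, h16] at hmod
          · exact absurd hmod (by decide)
          rw [Fintype.card_eq_zero_iff]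
          refine ⟨fun a => hr0Z ?_⟩
          have ha : r0⁻¹ * (y ^ m * (r0 * (a.1 : G)) * (y ^ m)⁻¹) = (a.1 : G) :=
            congrArg Subtype.val a.2
          rw [inv_mul_eq_iff_eq_mul] at ha
          rcases Φ.fix_pow hz (Φ.comm_t hzC) (mul_mem hr0 (hZR a.1.2)) (Or.inl ha) with h | h
          · rw [eq_inv_of_mul_eq_one_left h]; exact Z.inv_mem a.1.2
          · rw [eq_mul_inv_of_mul_eq h]; exact Z.mul_mem htZ (Z.inv_mem a.1.2)
        subst hii
        rw [Subtype.ext (mul_left_cancel e')]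
      · have e' : y ^ (i : ℕ) * r0 * (y ^ (i : ℕ))⁻¹ * k = k' := congrArg Subtype.val e
        exact (hzr i k k.2 (e' ▸ k'.2)).elim
      · have e' : (k : G) = y ^ (i' : ℕ) * r0 * (y ^ (i' : ℕ))⁻¹ * k' := congrArg Subtype.val e
        exact (hzr i' k' k'.2 (e' ▸ k.2)).elim
      · have e' : (k : G) = k' := congrArg (fun q : R => (q : G)) e
        rw [Subtype.ext e']
    have hbij : Function.Bijective f := (Nat.bijective_iff_injective_and_card f).mpr
      ⟨hf, by rw [Φ.S.cardR, Nat.card_sum, Nat.card_prod, Nat.card_fin, h16]⟩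
    intro r hr
    obtain ⟨o, ho⟩ := hbij.2 ⟨r, hr⟩
    rcases o with ⟨i, k⟩ | k
    · have hrk : y ^ (i : ℕ) * r0 * (y ^ (i : ℕ))⁻¹ * k = r := congrArg Subtype.val ho
      rw [← hrk]
      have hrr : y ^ (i : ℕ) * r0 * (y ^ (i : ℕ))⁻¹ ∈ R := Φ.S.norm _ (pow_mem hyC _) r0 hr0
      refine hsqmul hrr (hZR k.2) ?_ (hZsq k k.2) (k.2.2 _ hrr)
      rw [hsqconj (hyt _) hr2]; exact hr2
    · rw [← show (k : G) = r from congrArg Subtype.val ho]
      exact hZsq k k.2
  · have hall : ∀ r ∈ R, r ∈ Z := fun r hr =>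
      (Subgroup.eq_of_le_of_card_ge hZR (by rw [Φ.S.cardR, h128])).ge hr
    let K : Subgroup G :=
      { carrier := {g | g ∈ R ∧ (g * g = 1 ∨ g * g = t)}
        mul_mem' := by
          rintro a b ⟨ha, ha'⟩ ⟨hb, hb'⟩
          exact ⟨mul_mem ha hb, hsqmul ha hb ha' hb' ((hall b hb).2 a ha)⟩
        one_mem' := ⟨one_mem _, Or.inl (one_mul 1)⟩
        inv_mem' := by
          rintro a ⟨ha, ha'⟩
          refine ⟨inv_mem ha, ?_⟩
          rw [← mul_inv_rev]
          rcases ha' with e | e <;> rw [e]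
          · exact Or.inl inv_one
          · exact Or.inr Φ.t_inv }
    have hKR : K ≤ R := fun g hg => hg.1
    have hKnorm : ∀ g ∈ centralizer ({t} : Set G), g ∈ normalizer (K : Set G) := by
      have hone : ∀ g ∈ centralizer ({t} : Set G), ∀ k ∈ K, g * k * g⁻¹ ∈ K := fun g hg k hk =>
        ⟨Φ.S.norm g hg k hk.1, by rw [hsqconj (Φ.comm_t hg) hk.2]; exact hk.2⟩
      intro g hg
      rw [mem_normalizer_iff]
      intro k
      refine ⟨hone g hg k, fun hk => ?_⟩
      have := hone g⁻¹ (inv_mem hg) _ hk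
      simpa [mul_assoc] using this
    have htK : t ∈ K := ⟨Φ.S.tR, Or.inl Φ.t_sq⟩
    have h8 := Φ.card_fixed T
    have hEK : R ⊓ centralizer ({x} : Set G) ≤ K := fun g hg =>
      ⟨hg.1, Φ.fixed_sq T hg.1 (mem_centralizer_singleton_iff.mp hg.2).symm⟩
    obtain ⟨e', he', hKe⟩ := (Nat.dvd_prime_pow Nat.prime_two).mp
      (show Nat.card K ∣ 2 ^ 7 by
        have := card_dvd_of_le hKR
        rw [Φ.S.cardR] at this
        simpa using this)
    have hKge := Nat.le_of_dvd Nat.card_pos (card_dvd_of_le hEK)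
    rw [h8] at hKge
    have hK7 : Nat.card K % 7 = 2 := by
      rw [card_fix_modEq (p := 7) Φ.y7 K (hKnorm y hyC)]
      have h2 : Nat.card {r : K // Commute y (r : G)} = 2 := by
        rw [Nat.card_eq_two_iff]
        refine ⟨⟨1, Commute.one_right _⟩, ⟨⟨t, htK⟩, Φ.D_comm Φ.yD⟩, fun h => Φ.t_ne ?_, ?_⟩
        · exact (congrArg (fun q : {r : K // Commute y (r : G)} => ((q.1 : K) : G)) h).symm
        · ext ⟨⟨r, hr⟩, hyr⟩
          simp only [Set.mem_insert_iff, Set.mem_singleton_iff, Set.mem_univ, iff_true]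
          rcases Φ.S.fpf y r Φ.oy (Φ.D_comm Φ.yD) (hKR hr) hyr with rfl | rfl
          · exact Or.inl rfl
          · exact Or.inr rfl
      rw [h2]
    rcases (show Nat.card K = 16 ∨ Nat.card K = 128 by
      rw [hKe] at hKge hK7 ⊢
      interval_cases e' <;> first | (norm_num at hK7; done) | (norm_num at hKge; done) | norm_num)
      with h16 | h128'
    · exfalso
      obtain ⟨w, hwK, hwx, hw, -, hfixw⟩ := Φ.fix_sixteen hKR htK h16 (hKnorm x hxC) (hKnorm y hyC)
      have hle := Nat.card_le_card_of_injective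
        (fun r : ↥(R ⊓ centralizer ({x} : Set G)) =>
          (⟨(r : G), by
            have hk := hfixw r (hEK r.2) (mem_centralizer_singleton_iff.mp r.2.2).symm
            simp only [Finset.mem_insert, Finset.mem_singleton]
            exact hk⟩ : {g : G // g ∈ ({1, t, w, w * t} : Finset G)}))
        (fun a b e => Subtype.ext (congrArg (fun q => q.1) e))
      rw [h8, Nat.card_eq_fintype_card, Fintype.card_coe] at hle
      have := hle.trans Finset.card_le_four
      omega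
    · intro r hr
      exact ((Subgroup.eq_of_le_of_card_ge hKR (by rw [Φ.S.cardR, h128'])).ge hr).2

theorem kap_mem (T : Three t x) {a b : G} (ha : a ∈ R) (hb : b ∈ R) :
    kap a b = 1 ∨ kap a b = t := by
  have e : kap a b = (a * b) * (a * b) * ((b⁻¹ * a⁻¹ * b) * (b⁻¹ * a⁻¹ * b)) * (b⁻¹ * b⁻¹) := by
    unfold kap; group
  rw [e]
  exact Φ.one_or_mul (Φ.one_or_mul (Φ.sq_R T _ (mul_mem ha hb))
    (Φ.sq_R T _ (mul_mem (mul_mem (inv_mem hb) (inv_mem ha)) hb))) (Φ.sq_R T _ (inv_mem hb))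

end Frame

end Cfsg.Agent.Lib.M24Nse65.LocalA81
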