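import Cfsg.Agent.Lib.M24Nse65.LocalA81Inv

/-!
An element of order three permuting `t`, `a`, `t * a` normalizes the member containing `a`.
-/

set_option autoImplicit false
set_option linter.unusedSectionVars false
set_option linter.style.haveILetI false
set_option linter.unusedSimpArgs false

namespace Cfsg.Agent.Lib.M24Nse65.LocalA81

open Subgroup

universe u

variable {G : Type u} [Group G] [Finite G]

/-- The four-group of `t` and `a`. -/
def InV (t a g : G) : Prop := g = 1 ∨ g = t ∨ g = a ∨ g = t * a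

theorem InV.mem {t a g : G} {K : Subgroup G} (h : InV t a g) (ht : t ∈ K) (ha : a ∈ K) : g ∈ K := by
  rcases h with rfl | rfl | rfl | rfl
  exacts [one_mem _, ht, ha, mul_mem ht ha]

theorem InV.comm_of {t a g z : G} (h : InV t a g) (ht : Commute z t) (ha : Commute z a) :
    Commute z g := by
  rcases h with rfl | rfl | rfl | rfl
  exacts [Commute.one_right _, ht, ha, ht.mul_right ha]

theorem InV.mul {t a : G} (ht : t * t = 1) (ha : a * a = 1) (hta : t * a = a * t) {g g' : G}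
    (h : InV t a g) (h' : InV t a g') : InV t a (g * g') := by
  have e1 : t * (t * a) = a := by rw [← mul_assoc, ht, one_mul]
  have e2 : a * (t * a) = t := by rw [hta, ← mul_assoc, ha, one_mul]
  have e3 : t * a * t = a := by rw [hta, mul_assoc, ht, mul_one]
  have e4 : t * a * a = t := by rw [mul_assoc, ha, mul_one]
  have e5 : t * a * (t * a) = 1 := by rw [← mul_assoc, e3, ha]
  rcases h with rfl | rfl | rfl | rfl <;> rcases h' with rfl | rfl | rfl | rfl
  all_goals simp only [InV, one_mul, mul_one, ht, ha, e1, e2, e3, e4, e5, ← hta]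
  all_goals simp

theorem card_inV_le (t a : G) : Nat.card {g : G // InV t a g} ≤ 4 := by
  classical
  refine (Nat.card_le_card_of_injective
    (fun g : {g : G // InV t a g} => (⟨g.1, by
      rcases g.2 with e | e | e | e <;> simp [e]⟩ :
        (({1, t, a, t * a} : Finset G) : Type u))) fun p q e => Subtype.ext (by
      simpa using congrArg Subtype.val e)).trans ?_
  rw [Nat.card_eq_fintype_card, Fintype.card_coe]
  exact Finset.card_le_four

/-- Conjugation permuting `t`, `a`, `t * a`. -/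
structure Move (t x a d : G) : Prop where
  o : d ^ 3 = 1
  dx : Commute d x
  dt : d * t * d⁻¹ = a
  da : d * a * d⁻¹ = t * a

namespace Frame

variable {t x y h : G} {R D : Subgroup G} (Φ : Frame t R D x y h)
variable {W W' : Subgroup G} {w w' : G}

include Φ

/-- An element of order three fixes an element of a coset of the four-group it fixes. -/
theorem not_fix_coset {K : Subgroup G} {a u v : G} (hsq : ∀ k ∈ K, k * k = 1)
    (hfix : ∀ k ∈ K, Commute x k → InV t a k) (hv : v ∈ K) (hxv : Commute x v)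
    (hu : u ∈ K) (huV : ¬ InV t a u) (e : x * u * x⁻¹ = u * v) : False := by
  have h3 : x ^ 3 = 1 := Φ.ox ▸ pow_orderOf_eq_one x
  have e2 : x * (u * v) * x⁻¹ = u * v * v := by
    calc x * (u * v) * x⁻¹ = (x * u * x⁻¹) * (x * v * x⁻¹) := by group
      _ = u * v * v := by rw [e, hxv.eq, mul_inv_cancel_right]
  rw [mul_assoc u v v, hsq v hv, mul_one] at e2
  have e3 : x ^ 3 * u * (x ^ 3)⁻¹ = u * v := by
    calc x ^ 3 * u * (x ^ 3)⁻¹ = x * (x * (x * u * x⁻¹) * x⁻¹) * x⁻¹ := by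
          simp [pow_succ, mul_assoc]
      _ = u * v := by rw [e, e2, e]
  rw [h3, one_mul, inv_one, mul_one, left_eq_mul] at e3
  rw [e3, mul_one] at e
  exact huV (hfix u hu (mul_inv_eq_iff_eq_mul.mp e))

/-- An elementary group of order sixteen is spanned by one orbit of `x`. -/
theorem span {K : Subgroup G} {a u : G} (hK2 : ∀ k ∈ K, k * k = 1) (h16 : Nat.card K = 16)
    (hx : x ∈ normalizer (K : Set G)) (hfix : ∀ k ∈ K, Commute x k → InV t a k) (ht : t ∈ K)
    (ha : a ∈ K) (hat : t ≠ a) (ha1 : a ≠ 1) (hxa : Commute x a) (hu : u ∈ K)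
    (huV : ¬ InV t a u) :
    ∀ k ∈ K, InV t a k ∨ ∃ (j : ℕ) (v : G), InV t a v ∧ k = x ^ j * u * (x ^ j)⁻¹ * v := by
  classical
  have hab : ∀ p ∈ K, ∀ q ∈ K, p * q = q * p := fun p hp q hq => by
    calc p * q = (p * q)⁻¹ := (inv_eq_of_mul_eq_one_right (hK2 _ (mul_mem hp hq))).symm
      _ = q * p := by
        rw [mul_inv_rev, inv_eq_of_mul_eq_one_right (hK2 q hq),
          inv_eq_of_mul_eq_one_right (hK2 p hp)]
  have hxt : Commute x t := Φ.D_comm Φ.xD
  have hcj : ∀ j : ℕ, x ^ j * u * (x ^ j)⁻¹ ∈ K := fun j =>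
    (mem_normalizer_iff.mp (pow_mem hx j) u).mp hu
  let rep : Fin 4 → G := ![1, u, x * u * x⁻¹, x ^ 2 * u * (x ^ 2)⁻¹]
  let vv : Fin 4 → G := ![1, t, a, t * a]
  have hrepK : ∀ i, rep i ∈ K := by
    intro i
    fin_cases i
    exacts [one_mem _, hu, by simpa [rep] using hcj 1, by simpa [rep] using hcj 2]
  have hvV : ∀ i, InV t a (vv i) := by
    intro i
    fin_cases i
    exacts [Or.inl rfl, Or.inr (Or.inl rfl), Or.inr (Or.inr (Or.inl rfl)),
      Or.inr (Or.inr (Or.inr rfl))]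
  have hvinj : Function.Injective vv := by
    have n1 : t ≠ 1 := Φ.t_ne
    have n2 : t * a ≠ 1 := fun e => hat (by
      calc t = t * (a * a) := by rw [hK2 a ha, mul_one]
        _ = a := by rw [← mul_assoc, e, one_mul])
    have n3 : t * a ≠ t := fun e => ha1 (mul_eq_left.mp e)
    have n4 : t * a ≠ a := fun e => n1 (mul_eq_right.mp e)
    intro i j e
    fin_cases i <;> fin_cases j <;> simp [vv] at e <;> first
      | rfl
      | exact absurd e n1 | exact absurd e.symm n1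
      | exact absurd e n2 | exact absurd e.symm n2
      | exact absurd e n3 | exact absurd e.symm n3
      | exact absurd e n4 | exact absurd e.symm n4
      | exact absurd e hat | exact absurd e.symm hat
      | exact absurd e ha1 | exact absurd e.symm ha1
  have hV1 : ∀ {g : G}, InV t a g → g ∈ K := fun h => h.mem ht ha
  have hVm : ∀ {g g' : G}, InV t a g → InV t a g' → InV t a (g * g') := fun h h' =>
    InV.mul Φ.t_sq (hK2 a ha) (hab t ht a ha) h h'
  have hVc : ∀ {g : G}, InV t a g → Commute x g := fun h => h.comm_of hxt hxa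
  have hstep : ∀ i j : Fin 4, i ≠ j → InV t a (rep i * rep j) → False := by
    have k1 : ¬ InV t a (1 * u) := by rwa [one_mul]
    have k2 : ¬ InV t a (x * u * x⁻¹) := fun h => by
      have hc := hVc h
      refine huV ?_
      have : u = x * u * x⁻¹ := by
        calc u = x⁻¹ * ((x * u * x⁻¹) * x) := by group
          _ = x * u * x⁻¹ := by rw [← hc.eq, inv_mul_cancel_left]
      rwa [this]
    have k3 : ¬ InV t a (x ^ 2 * u * (x ^ 2)⁻¹) := fun h => by
      have hc := (hVc h).pow_left 2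
      refine huV ?_
      have : u = x ^ 2 * u * (x ^ 2)⁻¹ := by
        calc u = (x ^ 2)⁻¹ * ((x ^ 2 * u * (x ^ 2)⁻¹) * x ^ 2) := by group
          _ = x ^ 2 * u * (x ^ 2)⁻¹ := by rw [← hc.eq, inv_mul_cancel_left]
      rwa [this]
    have k4 : ¬ InV t a (u * (x * u * x⁻¹)) := fun h => by
      refine Φ.not_fix_coset hK2 hfix (hV1 h) (hVc h) hu huV ?_
      rw [← mul_assoc, hK2 u hu, one_mul]
    have k5 : ¬ InV t a (x * u * x⁻¹ * (x ^ 2 * u * (x ^ 2)⁻¹)) := fun h => by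
      refine k4 ?_
      have hc := hVc h
      have : u * (x * u * x⁻¹) = x * u * x⁻¹ * (x ^ 2 * u * (x ^ 2)⁻¹) := by
        calc u * (x * u * x⁻¹) = x⁻¹ * ((x * u * x⁻¹ * (x ^ 2 * u * (x ^ 2)⁻¹)) * x) := by
              simp [pow_succ, mul_assoc]
          _ = _ := by rw [← hc.eq, inv_mul_cancel_left]
      rwa [this]
    have k6 : ¬ InV t a (u * (x ^ 2 * u * (x ^ 2)⁻¹)) := fun h => by
      refine k4 ?_
      have hc := hVc h
      have h3 : x ^ 3 = 1 := Φ.ox ▸ pow_orderOf_eq_one x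
      have : u * (x * u * x⁻¹) = u * (x ^ 2 * u * (x ^ 2)⁻¹) := by
        calc u * (x * u * x⁻¹) = x * u * x⁻¹ * u := hab u hu _ (by simpa using hcj 1)
          _ = x * u * x⁻¹ * (x ^ 3 * u * (x ^ 3)⁻¹) := by rw [h3, one_mul, inv_one, mul_one]
          _ = x * (u * (x ^ 2 * u * (x ^ 2)⁻¹)) * x⁻¹ := by simp [pow_succ, mul_assoc]
          _ = _ := by rw [hc.eq, mul_inv_cancel_right]
      rwa [this]
    intro i j hij h
    have hsym : rep i * rep j = rep j * rep i := hab _ (hrepK i) _ (hrepK j)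
    fin_cases i <;> fin_cases j <;> first
      | exact absurd rfl hij
      | (simp [rep] at h hsym; first
          | exact k1 (by simpa using h) | exact k2 h | exact k3 h | exact k4 h | exact k5 h
          | exact k6 h
          | (rw [hsym] at h; first | exact k4 h | exact k5 h | exact k6 h))
  let f : Fin 4 × Fin 4 → K := fun p => ⟨rep p.1 * vv p.2, mul_mem (hrepK _) (hV1 (hvV _))⟩
  have hf : Function.Injective f := by
    rintro ⟨i, j⟩ ⟨i', j'⟩ e
    have e' : rep i * vv j = rep i' * vv j' := congrArg Subtype.val e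
    by_cases hii : i = i'
    · subst hii
      rw [hvinj (mul_left_cancel e')]
    exfalso
    refine hstep i i' hii ?_
    have hj : (vv j)⁻¹ = vv j := inv_eq_of_mul_eq_one_right (hK2 _ (hV1 (hvV j)))
    have : rep i * rep i' = vv j * vv j' := by
      have h1 : rep i = rep i' * vv j' * (vv j)⁻¹ := by rw [← e']; group
      rw [h1, hj, hab _ (mul_mem (mul_mem (hrepK i') (hV1 (hvV j'))) (hV1 (hvV j))) _ (hrepK i'),
        ← mul_assoc, ← mul_assoc, hK2 _ (hrepK i'), one_mul,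
        hab _ (hV1 (hvV j')) _ (hV1 (hvV j))]
    rw [this]
    exact hVm (hvV j) (hvV j')
  have hbij : Function.Bijective f :=
    (Nat.bijective_iff_injective_and_card f).mpr ⟨hf, by rw [h16]; simp⟩
  intro k hk
  obtain ⟨⟨i, j⟩, e⟩ := hbij.2 ⟨k, hk⟩
  have e' : rep i * vv j = k := congrArg Subtype.val e
  fin_cases i <;> simp [rep] at e'
  · exact Or.inl (e' ▸ hvV j)
  · exact Or.inr ⟨0, vv j, hvV j, by simp [← e']⟩
  · exact Or.inr ⟨1, vv j, hvV j, by simp [← e']⟩
  · exact Or.inr ⟨2, vv j, hvV j, e'.symm⟩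

/-- Commuting involutions of `D`: at most a four-group. -/
theorem klein_mem {e e1 f : G} (he : e ∈ D) (he1 : e1 ∈ D) (hf : f ∈ D) (s0 : e * e = 1)
    (s1 : e1 * e1 = 1) (_s2 : f * f = 1) (c1 : Commute e e1) (c2 : Commute e f)
    (c3 : Commute e1 f) (n0 : e ≠ 1) (n1 : e1 ≠ 1) (n2 : e1 ≠ e) :
    f = 1 ∨ f = e ∨ f = e1 ∨ f = e * e1 := by
  classical
  haveI := Φ.S.simple
  haveI : Fact (Nat.Prime 2) := ⟨Nat.prime_two⟩
  by_contra hno
  push Not at hno
  obtain ⟨m1, m2, m3, m4⟩ := hno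
  let E : D := ⟨e, he⟩
  let E1 : D := ⟨e1, he1⟩
  let Ff : D := ⟨f, hf⟩
  have hE : orderOf E = 2 := by
    rw [← Subgroup.orderOf_coe]
    exact orderOf_eq_prime (show (E : G) ^ 2 = 1 by rw [pow_two]; exact s0) n0
  have h8 := SmallGroups.Order168.card_centralizer_two Φ.S.cardD hE
  set C := centralizer ({E} : Set D) with hC
  have mE : E ∈ C := mem_centralizer_singleton_iff.mpr rfl
  have mE1 : E1 ∈ C := mem_centralizer_singleton_iff.mpr (Subtype.ext c1.eq.symm)
  have mF : Ff ∈ C := mem_centralizer_singleton_iff.mpr (Subtype.ext c2.eq.symm)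
  let g : Fin 2 × Fin 2 × Fin 2 → C := fun p => ⟨E ^ (p.1 : ℕ) * E1 ^ (p.2.1 : ℕ) * Ff ^ (p.2.2 : ℕ),
    mul_mem (mul_mem (pow_mem mE _) (pow_mem mE1 _)) (pow_mem mF _)⟩
  have i1 : e⁻¹ = e := inv_eq_of_mul_eq_one_right s0
  have i2 : e1⁻¹ = e1 := inv_eq_of_mul_eq_one_right s1
  have hg : Function.Injective g := by
    rintro ⟨i, j, k⟩ ⟨i', j', k'⟩ q
    have q' : e ^ (i : ℕ) * e1 ^ (j : ℕ) * f ^ (k : ℕ) =
        e ^ (i' : ℕ) * e1 ^ (j' : ℕ) * f ^ (k' : ℕ) := by
      have := congrArg (fun z : C => ((z : D) : G)) q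
      simpa [g, E, E1, Ff] using this
    have key : ∀ a b : ℕ, a < 2 → b < 2 → ∀ a' b' : ℕ, a' < 2 → b' < 2 →
        e ^ a * e1 ^ b = e ^ a' * e1 ^ b' → a = a' ∧ b = b' := by
      intro a b ha hb a' b' ha' hb' h
      interval_cases a <;> interval_cases b <;> interval_cases a' <;> interval_cases b' <;>
        simp only [pow_zero, pow_one, one_mul, mul_one] at h <;> first
        | exact ⟨rfl, rfl⟩
        | exact absurd h n0 | exact absurd h.symm n0
        | exact absurd h n1 | exact absurd h.symm n1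
        | exact absurd h n2 | exact absurd h.symm n2
        | exact absurd ((eq_inv_of_mul_eq_one_left h).trans i2).symm n2
        | exact absurd ((eq_inv_of_mul_eq_one_left h.symm).trans i2).symm n2
        | exact absurd (left_eq_mul.mp h) n1 | exact absurd (mul_eq_left.mp h) n1
        | exact absurd (right_eq_mul.mp h) n0 | exact absurd (mul_eq_right.mp h) n0
    have key2 : ∀ a b a' b' : ℕ, e ^ a * e1 ^ b * f = e ^ a' * e1 ^ b' → False := by
      intro a b a' b' h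
      have h2 : f = (e ^ a * e1 ^ b)⁻¹ * (e ^ a' * e1 ^ b') := by rw [← h]; group
      have hV : ∀ z ∈ closure ({e, e1} : Set G), z = 1 ∨ z = e ∨ z = e1 ∨ z = e * e1 := by
        intro z hz
        refine Subgroup.closure_induction (p := fun z _ => z = 1 ∨ z = e ∨ z = e1 ∨ z = e * e1)
          ?_ (Or.inl rfl) ?_ ?_ hz
        · rintro z (rfl | rfl)
          exacts [Or.inr (Or.inl rfl), Or.inr (Or.inr (Or.inl rfl))]
        · intro p q _ _ hp hq
          exact InV.mul s0 s1 c1.eq hp hq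
        · intro p _ hp
          rcases hp with rfl | rfl | rfl | rfl
          · exact Or.inl inv_one
          · exact Or.inr (Or.inl i1)
          · exact Or.inr (Or.inr (Or.inl i2))
          · exact Or.inr (Or.inr (Or.inr (by rw [mul_inv_rev, i1, i2, c1.eq])))
      have hm : f ∈ closure ({e, e1} : Set G) := by
        rw [h2]
        have he' : e ∈ closure ({e, e1} : Set G) := subset_closure (by simp)
        have he1' : e1 ∈ closure ({e, e1} : Set G) := subset_closure (by simp)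
        exact mul_mem (inv_mem (mul_mem (pow_mem he' _) (pow_mem he1' _)))
          (mul_mem (pow_mem he' _) (pow_mem he1' _))
      rcases hV f hm with e' | e' | e' | e'
      exacts [m1 e', m2 e', m3 e', m4 e']
    fin_cases k <;> fin_cases k' <;> simp only [pow_zero, pow_one, mul_one] at q'
    · obtain ⟨a, b⟩ := key _ _ i.2 j.2 _ _ i'.2 j'.2 q'
      rw [Fin.ext a, Fin.ext b]
    · exact (key2 _ _ _ _ q'.symm).elim
    · exact (key2 _ _ _ _ q').elim
    · obtain ⟨a, b⟩ := key _ _ i.2 j.2 _ _ i'.2 j'.2 (mul_right_cancel q')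
      rw [Fin.ext a, Fin.ext b]
  have hbij : Function.Bijective g :=
    (Nat.bijective_iff_injective_and_card g).mpr ⟨hg, by rw [h8]; simp⟩
  have hp : IsPGroup 2 C := IsPGroup.of_card (n := 3) (by rw [h8]; norm_num)
  obtain ⟨S, hS⟩ := hp.exists_le_sylow
  have hSC : C = (S : Subgroup D) := eq_of_le_of_card_ge hS
    (by rw [h8, SmallGroups.Order168.card_sylow_two_subgroup Φ.S.cardD S])
  refine SmallGroups.Order168.sylow_two_not_comm Φ.S.cardD S ⟨⟨fun p q => ?_⟩⟩
  obtain ⟨⟨i, j, k⟩, hp'⟩ := hbij.2 ⟨p.1, by rw [hSC]; exact p.2⟩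
  obtain ⟨⟨i', j', k'⟩, hq'⟩ := hbij.2 ⟨q.1, by rw [hSC]; exact q.2⟩
  have c1' : Commute E E1 := Subtype.ext c1.eq
  have c2' : Commute E Ff := Subtype.ext c2.eq
  have c3' : Commute E1 Ff := Subtype.ext c3.eq
  have hcm : ∀ (z : D), Commute z E → Commute z E1 → Commute z Ff → ∀ i j k : ℕ,
      Commute z (E ^ i * E1 ^ j * Ff ^ k) := fun z a b c i j k =>
    ((a.pow_right i).mul_right (b.pow_right j)).mul_right (c.pow_right k)
  have hall : Commute (E ^ (i : ℕ) * E1 ^ (j : ℕ) * Ff ^ (k : ℕ))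
      (E ^ (i' : ℕ) * E1 ^ (j' : ℕ) * Ff ^ (k' : ℕ)) :=
    hcm _ (hcm E (Commute.refl _) c1' c2' _ _ _).symm (hcm E1 c1'.symm (Commute.refl _) c3' _ _ _).symm
      (hcm Ff c2'.symm c3'.symm (Commute.refl _) _ _ _).symm _ _ _
  refine Subtype.ext ?_
  have e1' : E ^ (i : ℕ) * E1 ^ (j : ℕ) * Ff ^ (k : ℕ) = (p : D) := congrArg Subtype.val hp'
  have e2' : E ^ (i' : ℕ) * E1 ^ (j' : ℕ) * Ff ^ (k' : ℕ) = (q : D) := congrArg Subtype.val hq'
  rw [e1', e2'] at hall
  exact hall.eq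

/-- The fixed points of `x` in the member containing `a`. -/
theorem fix_inV (B : Base t x y R W W' w w') {a : G} (haW : a ∈ W) (hax : Commute x a)
    (haT : ¬ (a = 1 ∨ a = t)) {k : G} (hk : k ∈ W) (hkx : Commute x k) : InV t a k := by
  have htw : Commute w t := Φ.R_comm (B.P.le B.wW)
  rcases B.fixW a haW hax with e | e | e | e
  · exact absurd (Or.inl e) haT
  · exact absurd (Or.inr e) haT
  all_goals rcases B.fixW k hk hkx with e' | e' | e' | e'
  all_goals first
    | exact Or.inl e'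
    | exact Or.inr (Or.inl e')
    | exact Or.inr (Or.inr (Or.inl (e'.trans e.symm)))
    | exact Or.inr (Or.inr (Or.inr (by
        rw [e', e]; first | exact htw.eq | rw [htw.eq, ← mul_assoc, Φ.t_sq, one_mul])))

/-- If a conjugate of the member meets `R` outside the four-group it is the member. -/
theorem normalizes_of_mem (F : M24Nse2.Facts G) {s : G} (hs : InvCount.Classes s t) (T : Three t x)
    (B : Base t x y R W W' w w') {a : G} (haW : a ∈ W) (hax : Commute x a)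
    (haT : ¬ (a = 1 ∨ a = t)) {d u : G} (hdx : Commute d x)
    (hV : ∀ v, InV t a v → InV t a (d * v * d⁻¹)) (hVa : InV t a (d⁻¹ * a * d))
    (hu : u ∈ W) (huV : ¬ InV t a u) (huR : d * u * d⁻¹ ∈ R) :
    d ∈ normalizer (W : Set G) := by
  have hat : t ≠ a := fun e => haT (Or.inr e.symm)
  have ha1 : a ≠ 1 := fun e => haT (Or.inl e)
  have hxC : ∀ j : ℕ, x ^ j ∈ centralizer ({t} : Set G) := fun j => pow_mem (Φ.S.D_le Φ.xD) j
  have hVR : ∀ {v : G}, InV t a v → v ∈ R := fun h => h.mem Φ.S.tR (B.P.le haW)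
  have hAR : ∀ k ∈ W, d * k * d⁻¹ ∈ R := by
    intro k hk
    rcases Φ.span B.sq B.P.card B.P.nx (fun k hk hc => Φ.fix_inV B haW hax haT hk hc) B.P.tW haW
      hat ha1 hax hu huV k hk with h | ⟨j, v, hv, rfl⟩
    · exact hVR (hV k h)
    · have e : d * (x ^ j * u * (x ^ j)⁻¹ * v) * d⁻¹ =
          (d * x ^ j * d⁻¹) * (d * u * d⁻¹) * (d * x ^ j * d⁻¹)⁻¹ * (d * v * d⁻¹) := by group
      rw [e, (hdx.pow_right j).eq, mul_inv_cancel_right]
      exact mul_mem (Φ.S.norm _ (hxC j) _ huR) (hVR (hV v hv))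
  have hor : ∀ k ∈ W, d * k * d⁻¹ ∈ W ∨ d * k * d⁻¹ ∈ W' := by
    intro k hk
    by_cases h1 : k = 1
    · subst h1; left; simp
    refine Φ.outside_not F hs T B (hAR k hk) ?_ ((Φ.base_tclass T B hk h1).trans
      (isConj_iff.mpr ⟨d, rfl⟩))
    calc d * k * d⁻¹ * (d * k * d⁻¹) = d * (k * k) * d⁻¹ := by group
      _ = 1 := by rw [B.sq k hk]; group
  have haW' : a ∉ W' := fun h => haT (B.P.inter a haW h)
  refine mem_normalizer_of_conj fun k hk => ?_
  rcases hor k hk with h | h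
  · exact h
  have hd : d⁻¹ * a * d ∈ W := hVa.mem B.P.tW haW
  have h2 := hor (k * (d⁻¹ * a * d)) (mul_mem hk hd)
  rw [show d * (k * (d⁻¹ * a * d)) * d⁻¹ = d * k * d⁻¹ * a by group] at h2
  rcases h2 with h2 | h2
  · exact (Subgroup.mul_mem_cancel_right _ haW).mp h2
  · exact absurd ((Subgroup.mul_mem_cancel_left _ h).mp h2) haW'

/-- The fusion. -/
theorem fusion (F : M24Nse2.Facts G) {s : G} (hs : InvCount.Classes s t) (T : Three t x)
    (B : Base t x y R W W' w w') {a : G} (haW : a ∈ W) (hax : Commute x a)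
    (haT : ¬ (a = 1 ∨ a = t)) {d : G} (M : Move t x a d)
    (hfx : ∀ (k : ℕ) (u : G), orderOf u = 2 → Commute (d * x ^ k) u → IsConj t u) :
    d ∈ normalizer (W : Set G) := by
  classical
  by_contra hn
  have hat : t ≠ a := fun e => haT (Or.inr e.symm)
  have ha1 : a ≠ 1 := fun e => haT (Or.inl e)
  have ha2 : a * a = 1 := B.sq a haW
  have hta : t * a = a * t := B.P.ab t B.P.tW a haW
  have hVm : ∀ {g g' : G}, InV t a g → InV t a g' → InV t a (g * g') := fun h h' =>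
    InV.mul Φ.t_sq ha2 hta h h'
  have hVW : ∀ {v : G}, InV t a v → v ∈ W := fun h => h.mem B.P.tW haW
  have hVR : ∀ {v : G}, InV t a v → v ∈ R := fun h => B.P.le (hVW h)
  have d3 : d * (t * a) * d⁻¹ = t := by
    calc d * (t * a) * d⁻¹ = (d * t * d⁻¹) * (d * a * d⁻¹) := by group
      _ = t := by rw [M.dt, M.da, hta, ← mul_assoc, ha2, one_mul]
  have hdV : ∀ v, InV t a v → InV t a (d * v * d⁻¹) := by
    rintro v (rfl | rfl | rfl | rfl)
    · left; group
    · exact Or.inr (Or.inr (Or.inl M.dt))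
    · exact Or.inr (Or.inr (Or.inr M.da))
    · exact Or.inr (Or.inl d3)
  have hdi_a : d⁻¹ * a * d = t := by rw [← M.dt]; group
  have hdi_t : d⁻¹ * t * d = t * a := by
    conv_lhs => rw [← d3]
    group
  have hdiV : ∀ v, InV t a v → InV t a (d⁻¹ * v * d) := by
    rintro v (rfl | rfl | rfl | rfl)
    · left; group
    · exact Or.inr (Or.inr (Or.inr hdi_t))
    · exact Or.inr (Or.inl hdi_a)
    · refine Or.inr (Or.inr (Or.inl ?_))
      calc d⁻¹ * (t * a) * d = (d⁻¹ * t * d) * (d⁻¹ * a * d) := by group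
        _ = a := by rw [hdi_t, hdi_a, hta, mul_assoc, Φ.t_sq, mul_one]
  have hd4 : d = (d * d) * (d * d) := by
    calc d = d * d ^ 3 := by rw [M.o, mul_one]
      _ = (d * d) * (d * d) := by simp [pow_succ, mul_assoc]
  have hA : ∀ k ∈ W, d * k * d⁻¹ ∈ R → InV t a k := fun k hk h => by
    by_contra hkV
    exact hn (Φ.normalizes_of_mem F hs T B haW hax haT M.dx hdV (hdiV a (Or.inr (Or.inr (Or.inl rfl))))
      hk hkV h)
  have hB : ∀ k ∈ W, d * d * k * (d * d)⁻¹ ∈ R → InV t a k := fun k hk h => by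
    by_contra hkV
    refine hn ?_
    have hdd : d * d ∈ normalizer (W : Set G) := by
      refine Φ.normalizes_of_mem F hs T B haW hax haT (M.dx.mul_left M.dx) (fun v hv => ?_) ?_ hk hkV h
      · rw [show d * d * v * (d * d)⁻¹ = d * (d * v * d⁻¹) * d⁻¹ by group]
        exact hdV _ (hdV v hv)
      · rw [show (d * d)⁻¹ * a * (d * d) = d⁻¹ * (d⁻¹ * a * d) * d by group]
        exact hdiV _ (hdiV a (Or.inr (Or.inr (Or.inl rfl))))
    rw [hd4]
    exact mul_mem hdd hdd
  -- the conjugates of the member lie in `C(t)` and normalize one another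
  have hnC : ∀ {g : G}, g ∈ centralizer ({t} : Set G) → g ∈ normalizer (W : Set G) := fun h =>
    Φ.base_normal F hs T B h
  have hC1 : ∀ k ∈ W, d * k * d⁻¹ ∈ centralizer ({t} : Set G) := fun k hk => by
    rw [mem_centralizer_singleton_iff]
    calc d * k * d⁻¹ * t = d * k * d⁻¹ * (d * (t * a) * d⁻¹) := by rw [d3]
      _ = d * (k * (t * a)) * d⁻¹ := by group
      _ = d * ((t * a) * k) * d⁻¹ := by rw [B.P.ab k hk _ (mul_mem B.P.tW haW)]
      _ = (d * (t * a) * d⁻¹) * (d * k * d⁻¹) := by group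
      _ = t * (d * k * d⁻¹) := by rw [d3]
  have hC2 : ∀ k ∈ W, d⁻¹ * k * d ∈ centralizer ({t} : Set G) := fun k hk => by
    rw [mem_centralizer_singleton_iff]
    calc d⁻¹ * k * d * t = d⁻¹ * k * d * (d⁻¹ * a * d) := by rw [hdi_a]
      _ = d⁻¹ * (k * a) * d := by group
      _ = d⁻¹ * (a * k) * d := by rw [B.P.ab k hk a haW]
      _ = (d⁻¹ * a * d) * (d⁻¹ * k * d) := by group
      _ = t * (d⁻¹ * k * d) := by rw [hdi_a]
  have hd2 : d⁻¹ = d * d := inv_eq_of_mul_eq_one_right (by rw [← mul_assoc]; simpa [pow_succ, mul_assoc] using M.o)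
  have hWA : ∀ k ∈ W, ∀ k' ∈ W, InV t a (kap k (d * k' * d⁻¹)) := by
    intro k hk k' hk'
    have h1 : kap k (d * k' * d⁻¹) ∈ W := by
      have e : kap k (d * k' * d⁻¹) = k * ((d * k' * d⁻¹) * k⁻¹ * (d * k' * d⁻¹)⁻¹) := by
        unfold kap; group
      rw [e]
      exact mul_mem hk ((mem_normalizer_iff.mp (hnC (hC1 k' hk')) _).mp (inv_mem hk))
    have h2 : d⁻¹ * kap k (d * k' * d⁻¹) * d ∈ W := by
      have e : d⁻¹ * kap k (d * k' * d⁻¹) * d =
          ((d⁻¹ * k * d) * k' * (d⁻¹ * k * d)⁻¹) * k'⁻¹ := by unfold kap; group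
      rw [e]
      exact mul_mem ((mem_normalizer_iff.mp (hnC (hC2 k hk)) _).mp hk') (inv_mem hk')
    have h3 := hA _ h2 (by
      rw [show d * (d⁻¹ * kap k (d * k' * d⁻¹) * d) * d⁻¹ = kap k (d * k' * d⁻¹) by group]
      exact B.P.le h1)
    have := hdV _ h3
    rwa [show d * (d⁻¹ * kap k (d * k' * d⁻¹) * d) * d⁻¹ = kap k (d * k' * d⁻¹) by group] at this
  have hC12 : ∀ k ∈ W, d * d * k * (d * d)⁻¹ ∈ centralizer ({t} : Set G) := fun k hk => by
    rw [← hd2, inv_inv]
    exact hC2 k hk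
  have hAB : ∀ k ∈ W, ∀ k' ∈ W, InV t a (kap (d * k * d⁻¹) (d * d * k' * (d * d)⁻¹)) := by
    intro k hk k' hk'
    have e : kap (d * k * d⁻¹) (d * d * k' * (d * d)⁻¹) = d * kap k (d * k' * d⁻¹) * d⁻¹ := by
      unfold kap; group
    rw [e]
    exact hdV _ (hWA k hk k' hk')
  -- components in `D`
  obtain ⟨u0, hu0, hu0V⟩ : ∃ u ∈ W, ¬ InV t a u := by
    by_contra hno
    push Not at hno
    have h := (Nat.card_le_card_of_injective
      (fun k : W => (⟨k.1, hno k k.2⟩ : {g : G // InV t a g}))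
      fun p q e => Subtype.ext (congrArg Subtype.val e :)).trans (card_inV_le t a)
    rw [B.P.card] at h
    omega
  obtain ⟨r, hr, e, he, hre⟩ := Φ.S.split _ (hC1 u0 hu0)
  obtain ⟨r', hr', f, hf, hrf⟩ := Φ.S.split _ (hC12 u0 hu0)
  have hcomm : ∀ {r r' e f : G}, r ∈ R → r' ∈ R → e ∈ D → f ∈ D →
      kap (r * e) (r' * f) ∈ R → Commute e f := by
    intro r r' e f hr hr' he hf h
    have h1 : kap (r * e) (r' * f) = (r * (e * r' * e⁻¹)) * (e * f * e⁻¹ * f⁻¹) *
        ((f * (e * ((e⁻¹ * r⁻¹ * e)) * e⁻¹) * f⁻¹)) * r'⁻¹ := by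
      unfold kap; group
    have h2 : e * f * e⁻¹ * f⁻¹ ∈ R := by
      have h3 : e * f * e⁻¹ * f⁻¹ = (r * (e * r' * e⁻¹))⁻¹ * kap (r * e) (r' * f) * r' *
          (f * (e * (e⁻¹ * r⁻¹ * e) * e⁻¹) * f⁻¹)⁻¹ := by
        rw [h1]; group
      rw [h3]
      refine mul_mem (mul_mem (mul_mem (inv_mem (mul_mem hr (Φ.D_norm he hr'))) h) hr') (inv_mem ?_)
      rw [show e * (e⁻¹ * r⁻¹ * e) * e⁻¹ = r⁻¹ by group]
      exact Φ.D_norm hf (inv_mem hr)
    have h4 := Φ.S.disj _ h2 (mul_mem (mul_mem (mul_mem he hf) (inv_mem he)) (inv_mem hf))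
    rw [mul_inv_eq_one, mul_inv_eq_iff_eq_mul] at h4
    exact h4
  have hinv : ∀ {r e : G}, r ∈ R → e ∈ D → (r * e) * (r * e) = 1 → e * e = 1 := by
    intro r e hr he h
    have h1 : r * (e * r * e⁻¹) = (e * e)⁻¹ := by
      refine eq_inv_of_mul_eq_one_left ?_
      rw [← h]; group
    have h2 := Φ.S.disj _ (mul_mem hr (Φ.D_norm he hr)) (h1 ▸ inv_mem (mul_mem he he))
    rw [h1] at h2
    exact inv_eq_one.mp h2
  have hne1 : e ≠ 1 := by
    rintro rfl
    rw [mul_one] at hre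
    exact hu0V (hA u0 hu0 (hre ▸ hr))
  have hf1 : f ≠ 1 := by
    rintro rfl
    rw [mul_one] at hrf
    exact hu0V (hB u0 hu0 (hrf ▸ hr'))
  have sA : ∀ k ∈ W, (d * k * d⁻¹) * (d * k * d⁻¹) = 1 := fun k hk => by
    calc d * k * d⁻¹ * (d * k * d⁻¹) = d * (k * k) * d⁻¹ := by group
      _ = 1 := by rw [B.sq k hk]; group
  have se : e * e = 1 := hinv hr he (hre ▸ sA u0 hu0)
  have sf : f * f = 1 := by
    refine hinv hr' hf (hrf ▸ ?_)
    calc d * d * u0 * (d * d)⁻¹ * (d * d * u0 * (d * d)⁻¹) = d * d * (u0 * u0) * (d * d)⁻¹ := by group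
      _ = 1 := by rw [B.sq u0 hu0]; group
  have hxj : ∀ (j : ℕ) {k : G}, k ∈ W → x ^ j * k * (x ^ j)⁻¹ ∈ W := fun j k hk =>
    (mem_normalizer_iff.mp (pow_mem B.P.nx j) k).mp hk
  have hxR : ∀ (j : ℕ) {k : G}, k ∈ R → x ^ j * k * (x ^ j)⁻¹ ∈ R := fun j k hk =>
    Φ.S.norm _ (pow_mem (Φ.S.D_le Φ.xD) j) k hk
  have hcompA : ∀ j : ℕ, d * (x ^ j * u0 * (x ^ j)⁻¹) * d⁻¹ =
      (x ^ j * r * (x ^ j)⁻¹) * (x ^ j * e * (x ^ j)⁻¹) := fun j => by
    calc d * (x ^ j * u0 * (x ^ j)⁻¹) * d⁻¹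
        = (d * x ^ j * d⁻¹) * (d * u0 * d⁻¹) * (d * x ^ j * d⁻¹)⁻¹ := by group
      _ = _ := by rw [(M.dx.pow_right j).eq, mul_inv_cancel_right, hre]; group
  have hej : ∀ j : ℕ, x ^ j * e * (x ^ j)⁻¹ ∈ D := fun j =>
    mul_mem (mul_mem (pow_mem Φ.xD j) he) (inv_mem (pow_mem Φ.xD j))
  have hejf : ∀ j : ℕ, Commute (x ^ j * e * (x ^ j)⁻¹) f := fun j => by
    refine hcomm (hxR j hr) hr' (hej j) hf ?_
    rw [← hcompA, ← hrf]
    exact hVR (hAB _ (hxj j hu0) _ hu0)
  have hejk : ∀ i j : ℕ, Commute (x ^ i * e * (x ^ i)⁻¹) (x ^ j * e * (x ^ j)⁻¹) := fun i j => by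
    refine hcomm (hxR i hr) (hxR j hr) (hej i) (hej j) ?_
    rw [← hcompA, ← hcompA]
    have h0 : kap (d * (x ^ i * u0 * (x ^ i)⁻¹) * d⁻¹) (d * (x ^ j * u0 * (x ^ j)⁻¹) * d⁻¹) = 1 := by
      rw [kap, mul_inv_eq_one, mul_inv_eq_iff_eq_mul]
      calc d * (x ^ i * u0 * (x ^ i)⁻¹) * d⁻¹ * (d * (x ^ j * u0 * (x ^ j)⁻¹) * d⁻¹)
          = d * ((x ^ i * u0 * (x ^ i)⁻¹) * (x ^ j * u0 * (x ^ j)⁻¹)) * d⁻¹ := by group
        _ = d * ((x ^ j * u0 * (x ^ j)⁻¹) * (x ^ i * u0 * (x ^ i)⁻¹)) * d⁻¹ := by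
            rw [B.P.ab _ (hxj i hu0) _ (hxj j hu0)]
        _ = _ := by group
    rw [h0]
    exact one_mem _
  set e1 := x * e * x⁻¹ with he1
  set e2 := x * e1 * x⁻¹ with he2
  have e1eq : e1 = x ^ 1 * e * (x ^ 1)⁻¹ := by rw [pow_one]
  have e2eq : e2 = x ^ 2 * e * (x ^ 2)⁻¹ := by rw [he2, he1]; simp [pow_succ, mul_assoc]
  have e0eq : e = x ^ 0 * e * (x ^ 0)⁻¹ := by simp
  have hsqj : ∀ {g : G}, g * g = 1 → (x * g * x⁻¹) * (x * g * x⁻¹) = 1 := fun {g} hg => by
    calc x * g * x⁻¹ * (x * g * x⁻¹) = x * (g * g) * x⁻¹ := by group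
      _ = 1 := by rw [hg]; group
  have ne11 : e1 ≠ 1 := fun q => hne1 (conj_eq_one_iff.mp q)
  have ne1e : e1 ≠ e := by
    intro q
    have h1 : d * (x ^ 1 * u0 * (x ^ 1)⁻¹ * u0⁻¹) * d⁻¹ = x ^ 1 * r * (x ^ 1)⁻¹ * r⁻¹ := by
      calc d * (x ^ 1 * u0 * (x ^ 1)⁻¹ * u0⁻¹) * d⁻¹
          = (d * (x ^ 1 * u0 * (x ^ 1)⁻¹) * d⁻¹) * (d * u0 * d⁻¹)⁻¹ := by group
        _ = _ := by rw [hcompA, hre, ← e1eq, q]; group
    have h2 := hA _ (mul_mem (hxj 1 hu0) (inv_mem hu0)) (h1 ▸ mul_mem (hxR 1 hr) (inv_mem hr))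
    rw [pow_one] at h2
    refine Φ.not_fix_coset B.sq (fun k hk hc => Φ.fix_inV B haW hax haT hk hc) (hVW h2)
      (h2.comm_of (Φ.D_comm Φ.xD) hax) hu0 hu0V ?_
    rw [B.P.ab u0 hu0 _ (hVW h2), inv_mul_cancel_right]
  have c01 : Commute e e1 := by
    have := hejk 0 1
    rwa [← e0eq, ← e1eq] at this
  have c02 : Commute e e2 := by
    have := hejk 0 2
    rwa [← e0eq, ← e2eq] at this
  have c12 : Commute e1 e2 := by
    have := hejk 1 2
    rwa [← e1eq, ← e2eq] at this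
  have c0f : Commute e f := by
    have := hejf 0
    rwa [← e0eq] at this
  have c1f : Commute e1 f := by
    have := hejf 1
    rwa [← e1eq] at this
  have e1D : e1 ∈ D := e1eq ▸ hej 1
  have e2D : e2 ∈ D := e2eq ▸ hej 2
  have hx3 : x ^ 3 = 1 := Φ.ox ▸ pow_orderOf_eq_one x
  have e3 : x * e2 * x⁻¹ = e := by
    calc x * e2 * x⁻¹ = x ^ 3 * e * (x ^ 3)⁻¹ := by rw [e2eq]; simp [pow_succ, mul_assoc]
      _ = e := by rw [hx3]; group
  have he2e : e2 = e * e1 := by
    rcases Φ.klein_mem he e1D e2D se (hsqj se) (hsqj (hsqj se)) c01 c02 c12 hne1 ne11 ne1e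
      with q | q | q | q
    · exact absurd (conj_eq_one_iff.mp q) ne11
    · exfalso
      apply ne1e
      calc e1 = x * e2 * x⁻¹ := by rw [q]
        _ = e := e3
    · exfalso
      exact ne1e (mul_left_cancel (mul_right_cancel (q : x * e1 * x⁻¹ = x * e * x⁻¹)))
    · exact q
  obtain ⟨j, hj⟩ : ∃ j : ℕ, x ^ j * f * (x ^ j)⁻¹ = e := by
    rcases Φ.klein_mem he e1D hf se (hsqj se) sf c01 c0f c1f hne1 ne11 ne1e with q | q | q | q
    · exact absurd q hf1
    · exact ⟨0, by rw [q]; simp⟩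
    · refine ⟨2, ?_⟩
      calc x ^ 2 * f * (x ^ 2)⁻¹ = x ^ 3 * e * (x ^ 3)⁻¹ := by
            rw [q, he1]; simp [pow_succ, mul_assoc]
        _ = e := by rw [hx3]; group
    · refine ⟨1, ?_⟩
      rw [pow_one, q, ← he2e, e3]
  -- an element of order three cycling the three conjugates
  set c := d * x ^ j with hc
  have hdxj : Commute d (x ^ j) := M.dx.pow_right j
  have hc3 : c ^ 3 = 1 := by
    rw [hc, hdxj.mul_pow, M.o, one_mul, ← pow_mul, mul_comm j 3, pow_mul, hx3, one_pow]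
  have hxt : Commute (x ^ j) t := (Φ.D_comm Φ.xD).pow_left j
  have hct : c * t * c⁻¹ = a := by
    calc c * t * c⁻¹ = d * (x ^ j * t * (x ^ j)⁻¹) * d⁻¹ := by rw [hc]; group
      _ = a := by rw [hxt.eq, mul_inv_cancel_right, M.dt]
  have hca : c * a * c⁻¹ = t * a := by
    calc c * a * c⁻¹ = d * (x ^ j * a * (x ^ j)⁻¹) * d⁻¹ := by rw [hc]; group
      _ = t * a := by rw [(hax.pow_left j).eq, mul_inv_cancel_right, M.da]
  set u := d * u0 * d⁻¹ with hu
  have hcu : c * u * c⁻¹ = (x ^ j * r' * (x ^ j)⁻¹) * e := by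
    have h1 : c * u * c⁻¹ = x ^ j * (d * d * u0 * (d * d)⁻¹) * (x ^ j)⁻¹ := by
      rw [hc, hu, hdxj.eq]; group
    rw [h1, hrf]
    calc x ^ j * (r' * f) * (x ^ j)⁻¹ = x ^ j * r' * (x ^ j)⁻¹ * (x ^ j * f * (x ^ j)⁻¹) := by group
      _ = _ := by rw [hj]
  have hp : u * (c * u * c⁻¹) ∈ R := by
    have h1 : u * (c * u * c⁻¹) = r * (e * (x ^ j * r' * (x ^ j)⁻¹) * e⁻¹) * (e * e) := by
      rw [hcu, hre]; group
    rw [h1, se, mul_one]
    exact mul_mem hr (Φ.D_norm he (hxR j hr'))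
  have hcW : ∀ k ∈ W, c * k * c⁻¹ = d * (x ^ j * k * (x ^ j)⁻¹) * d⁻¹ := fun k _ => by
    rw [hc]; group
  have hm : c * (c * u * c⁻¹) * c⁻¹ ∈ W := by
    have h1 : c * (c * u * c⁻¹) * c⁻¹ = x ^ (j + j) * (d ^ 3 * u0 * (d ^ 3)⁻¹) * (x ^ (j + j))⁻¹ := by
      have h2 : c * c = x ^ (j + j) * (d * d) := by
        calc c * c = d * (x ^ j * d) * x ^ j := by rw [hc]; group
          _ = d * d * (x ^ j * x ^ j) := by rw [← hdxj.eq]; group
          _ = _ := by rw [← pow_add]; exact ((M.dx.pow_right (j + j)).mul_left (M.dx.pow_right _)).eq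
      calc c * (c * u * c⁻¹) * c⁻¹ = (c * c) * u * (c * c)⁻¹ := by group
        _ = _ := by rw [h2, hu]; simp [pow_succ, mul_assoc]
    rw [h1, M.o, one_mul, inv_one, mul_one]
    exact hxj _ hu0
  set m0 := c * (c * u * c⁻¹) * c⁻¹ with hm0
  set p := u * (c * u * c⁻¹) with hp0
  set q := m0 * p with hq0
  have hqR : q ∈ R := mul_mem (B.P.le hm) hp
  have hcq : c * q * c⁻¹ = p * m0 := by
    calc c * q * c⁻¹ = (c ^ 3 * u * (c ^ 3)⁻¹) * (c * u * c⁻¹) * m0 := by
          rw [hq0, hp0, hm0]; simp [pow_succ, mul_assoc]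
      _ = p * m0 := by rw [hc3, hp0]; group
  have hcqR : c * q * c⁻¹ ∈ R := hcq ▸ mul_mem hp (B.P.le hm)
  obtain ⟨ε, hε, hqε⟩ : ∃ ε, (ε = 1 ∨ ε = t) ∧ c * q * c⁻¹ = q * ε :=
    ⟨kap p⁻¹ m0⁻¹, Φ.kap_mem T (inv_mem hp) (inv_mem (B.P.le hm)), by
      rw [hcq, hq0]; unfold kap; group⟩
  -- `q` is not in the member
  have huA : u ∉ R := fun h => hu0V (hA u0 hu0 h)
  have hqW : q ∉ W := by
    intro hqW
    have hmW : p ∈ W := (Subgroup.mul_mem_cancel_left _ hm).mp hqW
    have hpV : ¬ InV t a p := by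
      intro h
      have h1 : c * u * c⁻¹ = d * (u0 * (d⁻¹ * p * d)) * d⁻¹ := by
        calc c * u * c⁻¹ = (u * u) * (c * u * c⁻¹) := by rw [hu, sA u0 hu0, one_mul]
          _ = u * p := by rw [hp0, mul_assoc]
          _ = _ := by rw [hu]; group
      have h2 : x ^ j * (d * d * u0 * (d * d)⁻¹) * (x ^ j)⁻¹ =
          d * (u0 * (d⁻¹ * p * d)) * d⁻¹ := by
        rw [← h1, hc, hu, hdxj.eq]; group
      have h3 : d * (x ^ j * u0 * (x ^ j)⁻¹) * d⁻¹ ∈ R := by
        have hw0 : u0 * (d⁻¹ * p * d) ∈ W := mul_mem hu0 (hVW (hdiV p h))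
        have e0 : d * (x ^ j * u0 * (x ^ j)⁻¹) * d⁻¹ = u0 * (d⁻¹ * p * d) := by
          calc d * (x ^ j * u0 * (x ^ j)⁻¹) * d⁻¹
              = d⁻¹ * (x ^ j * (d * d * u0 * (d * d)⁻¹) * (x ^ j)⁻¹) * d := by
                have h3 : d⁻¹ * x ^ j = x ^ j * d⁻¹ := hdxj.inv_left.eq
                calc d * (x ^ j * u0 * (x ^ j)⁻¹) * d⁻¹
                    = (d * x ^ j * d⁻¹) * (d * u0 * d⁻¹) * (d * x ^ j * d⁻¹)⁻¹ := by group
                  _ = x ^ j * (d * u0 * d⁻¹) * (x ^ j)⁻¹ := by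
                      rw [hdxj.eq, mul_inv_cancel_right]
                  _ = (x ^ j * d⁻¹) * (d * d * u0 * (d * d)⁻¹) * (x ^ j * d⁻¹)⁻¹ := by group
                  _ = _ := by rw [← h3]; group
            _ = _ := by rw [h2]; group
        rw [e0]
        exact B.P.le hw0
      have h5 := hA _ (hxj j hu0) h3
      refine hu0V ?_
      have hc' : Commute (x ^ j) (x ^ j * u0 * (x ^ j)⁻¹) :=
        (h5.comm_of (Φ.D_comm Φ.xD) hax).pow_left j
      have : u0 = x ^ j * u0 * (x ^ j)⁻¹ := by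
        calc u0 = (x ^ j)⁻¹ * ((x ^ j * u0 * (x ^ j)⁻¹) * x ^ j) := by group
          _ = x ^ j * u0 * (x ^ j)⁻¹ := by rw [← hc'.eq, inv_mul_cancel_left]
      rwa [this]
    -- commutators between the member and its conjugate
    have hu2 : u * u = 1 := sA u0 hu0
    have hup : Commute u p := by
      have h1 : (u * p) * (u * p) = 1 := by
        have h0 : u * p = c * u * c⁻¹ := by rw [hp0, ← mul_assoc u u, hu2, one_mul]
        rw [h0]
        calc c * u * c⁻¹ * (c * u * c⁻¹) = c * (u * u) * c⁻¹ := by group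
          _ = 1 := by rw [hu2]; group
      have h2 : u * p = p⁻¹ * u⁻¹ := by rw [← mul_inv_rev]; exact eq_inv_of_mul_eq_one_left h1
      rwa [inv_eq_of_mul_eq_one_right hu2, inv_eq_of_mul_eq_one_right (B.sq p hmW)] at h2
    have hxA : ∀ i : ℕ, x ^ i * u * (x ^ i)⁻¹ = d * (x ^ i * u0 * (x ^ i)⁻¹) * d⁻¹ := fun i => by
      rw [hu]
      calc x ^ i * (d * u0 * d⁻¹) * (x ^ i)⁻¹ = (x ^ i * d) * u0 * (x ^ i * d)⁻¹ := by group
        _ = _ := by rw [← (M.dx.pow_right i).eq]; group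
    set z := kap (x * p * x⁻¹) u with hz
    have hxp : x * p * x⁻¹ ∈ W := by simpa using hxj 1 hmW
    have hzV : InV t a z := hWA _ hxp _ hu0
    have hVcA : ∀ {v : G}, InV t a v → ∀ k ∈ W, Commute v (d * k * d⁻¹) := by
      intro v hv k hk
      have h1 : Commute (d⁻¹ * v * d) k := B.P.ab _ (hVW (hdiV v hv)) k hk
      have := h1.map (MulAut.conj d).toMonoidHom
      simpa [mul_assoc] using this
    have hxj' : x * u * x⁻¹ = d * (x ^ 1 * u0 * (x ^ 1)⁻¹) * d⁻¹ := by
      rw [← hxA]; simp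
    have hk1 : kap p (x * u * x⁻¹) = z := by
      set k1 := kap p (x * u * x⁻¹) with hk1d
      have hk1V : InV t a k1 := by rw [hk1d, hxj']; exact hWA _ hmW _ (hxj 1 hu0)
      have hA2 : Commute u (x * u * x⁻¹) := by
        rw [hu]
        have h1 : Commute u0 (x * u0 * x⁻¹) := B.P.ab u0 hu0 _ (by simpa using hxj 1 hu0)
        have h2 := h1.map (MulAut.conj d).toMonoidHom
        simp only [MulEquiv.coe_toMonoidHom, MulAut.conj_apply] at h2
        have h3 : x * (d * u0 * d⁻¹) * x⁻¹ = d * (x * u0 * x⁻¹) * d⁻¹ := by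
          calc x * (d * u0 * d⁻¹) * x⁻¹ = (x * d) * u0 * (x * d)⁻¹ := by group
            _ = _ := by rw [← M.dx.eq]; group
        rw [h3]
        exact h2
      have hB2 : Commute (u * p) (x * (u * p) * x⁻¹) := by
        have h1 : u * p = c * u * c⁻¹ := by rw [hp0, ← mul_assoc u u, hu2, one_mul]
        have h3 : c * (x * u * x⁻¹) * c⁻¹ = x * (c * u * c⁻¹) * x⁻¹ := by
          have hcx : c * x = x * c := (M.dx.mul_left ((Commute.refl x).pow_left j)).eq
          calc c * (x * u * x⁻¹) * c⁻¹ = (c * x) * u * (c * x)⁻¹ := by group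
            _ = _ := by rw [hcx]; group
        rw [h1]
        have h4 := hA2.map (MulAut.conj c).toMonoidHom
        simp only [MulEquiv.coe_toMonoidHom, MulAut.conj_apply] at h4
        rw [h3] at h4
        exact h4
      have hpx : Commute p (x * p * x⁻¹) := B.P.ab p hmW _ hxp
      have l : u * p * (x * (u * p) * x⁻¹) = k1 * ((u * (x * u * x⁻¹)) * (p * (x * p * x⁻¹))) := by
        have hc1 : Commute u k1 := (hVcA hk1V u0 hu0).symm
        calc u * p * (x * (u * p) * x⁻¹)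
            = u * (k1 * ((x * u * x⁻¹) * p)) * (x * p * x⁻¹) := by rw [hk1d]; unfold kap; group
          _ = (u * k1) * (x * u * x⁻¹) * (p * (x * p * x⁻¹)) := by group
          _ = _ := by rw [hc1.eq]; group
      have rr : x * (u * p) * x⁻¹ * (u * p) = z * ((u * (x * u * x⁻¹)) * (p * (x * p * x⁻¹))) := by
        have hc1 : Commute (x * u * x⁻¹) z := by rw [hxj']; exact (hVcA hzV _ (hxj 1 hu0)).symm
        calc x * (u * p) * x⁻¹ * (u * p)
            = (x * u * x⁻¹) * (z * (u * (x * p * x⁻¹))) * p := by rw [hz]; unfold kap; group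
          _ = ((x * u * x⁻¹) * z) * u * ((x * p * x⁻¹) * p) := by group
          _ = _ := by rw [hc1.eq, ← hpx.eq, mul_assoc z (x * u * x⁻¹) u, ← hA2.eq]; group
      exact mul_right_cancel ((l.symm.trans hB2.eq).trans rr)
    have hspanA : ∀ k ∈ W, kap p (d * k * d⁻¹) = 1 ∨ kap p (d * k * d⁻¹) = z := by
      intro k hk
      have hcore : ∀ i : ℕ, kap p (x ^ i * u * (x ^ i)⁻¹) = 1 ∨
          kap p (x ^ i * u * (x ^ i)⁻¹) = z := by
        intro i
        have hi : x ^ i = x ^ (i % 3) := by rw [← Φ.ox, pow_mod_orderOf]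
        rw [hi]
        have : i % 3 < 3 := Nat.mod_lt _ (by norm_num)
        interval_cases h : i % 3
        · left
          simp only [pow_zero, one_mul, inv_one, mul_one]
          rw [kap, hup.symm.eq]; group
        · right; rw [pow_one]; exact hk1
        · right
          have hx2 : x ^ 2 = x⁻¹ := eq_inv_of_mul_eq_one_left (by rw [← pow_succ, hx3])
          have h1 : kap p (x ^ 2 * u * (x ^ 2)⁻¹) = x⁻¹ * z * x := by
            rw [hz, hx2]; unfold kap; group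
          rw [h1, mul_assoc, ← (hzV.comm_of (Φ.D_comm Φ.xD) hax).eq, inv_mul_cancel_left]
      have hvp : ∀ v, InV t a v → Commute p v := fun v hv => B.P.ab p hmW v (hVW hv)
      rcases Φ.span B.sq B.P.card B.P.nx (fun k hk hc => Φ.fix_inV B haW hax haT hk hc) B.P.tW haW
        hat ha1 hax hu0 hu0V k hk with h | ⟨i, v, hv, rfl⟩
      · left; rw [kap, (hvp _ (hdV k h)).eq]; group
      · have e0 : d * (x ^ i * u0 * (x ^ i)⁻¹ * v) * d⁻¹ =
            (x ^ i * u * (x ^ i)⁻¹) * (d * v * d⁻¹) := by rw [hxA]; group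
        have e1 : kap p ((x ^ i * u * (x ^ i)⁻¹) * (d * v * d⁻¹)) = kap p (x ^ i * u * (x ^ i)⁻¹) := by
          have h0 : p * (d * v * d⁻¹) * p⁻¹ * (d * v * d⁻¹)⁻¹ = 1 := by
            rw [(hvp _ (hdV v hv)).eq]; group
          calc kap p ((x ^ i * u * (x ^ i)⁻¹) * (d * v * d⁻¹))
              = kap p (x ^ i * u * (x ^ i)⁻¹) * ((x ^ i * u * (x ^ i)⁻¹) *
                  (p * (d * v * d⁻¹) * p⁻¹ * (d * v * d⁻¹)⁻¹) * (x ^ i * u * (x ^ i)⁻¹)⁻¹) := by
                unfold kap; group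
            _ = _ := by rw [h0]; group
        rw [e0, e1]
        exact hcore i
    have hz1 : z ≠ 1 := by
      intro hz0
      refine huA (B.P.le (Φ.base_cent F hs T B (hC1 u0 hu0) fun k hk => ?_))
      have hcore : ∀ i : ℕ, Commute u (x ^ i * p * (x ^ i)⁻¹) := by
        intro i
        have hi : x ^ i = x ^ (i % 3) := by rw [← Φ.ox, pow_mod_orderOf]
        rw [hi]
        have : i % 3 < 3 := Nat.mod_lt _ (by norm_num)
        interval_cases h : i % 3
        · simpa using hup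
        · rw [pow_one]
          have h1 : kap (x * p * x⁻¹) u = 1 := hz0
          unfold kap at h1
          rw [mul_inv_eq_one, mul_inv_eq_iff_eq_mul] at h1
          exact (show Commute (x * p * x⁻¹) u from h1).symm
        · have hx2 : x ^ 2 = x⁻¹ := eq_inv_of_mul_eq_one_left (by rw [← pow_succ, hx3])
          have h1 : kap p (x * u * x⁻¹) = 1 := hk1.trans hz0
          unfold kap at h1
          rw [mul_inv_eq_one, mul_inv_eq_iff_eq_mul] at h1
          have h2 := ((show Commute p (x * u * x⁻¹) from h1).map (MulAut.conj x⁻¹).toMonoidHom).symm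
          simp only [MulEquiv.coe_toMonoidHom, MulAut.conj_apply, inv_inv] at h2
          rw [show x⁻¹ * (x * u * x⁻¹) * x = u by group] at h2
          rw [hx2, inv_inv]
          exact h2
      rcases Φ.span B.sq B.P.card B.P.nx (fun k hk hc => Φ.fix_inV B haW hax haT hk hc) B.P.tW haW
        hat ha1 hax hmW hpV k hk with h | ⟨i, v, hv, rfl⟩
      · exact (hVcA h u0 hu0).symm
      · exact (hcore i).mul_right (hVcA hv u0 hu0).symm
    have hcz : c * z * c⁻¹ = 1 ∨ c * z * c⁻¹ = z := by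
      have h1 : c * u * c⁻¹ = u * p := by rw [hp0, ← mul_assoc u u, hu2, one_mul]
      set a0 := c * (x * p * x⁻¹) * c⁻¹ with ha0
      have ha0' : a0 = d * (x ^ j * (x * p * x⁻¹) * (x ^ j)⁻¹) * d⁻¹ := hcW _ hxp
      have h2 : c * z * c⁻¹ = kap a0 u * (u * kap a0 p * u⁻¹) := by
        rw [show c * z * c⁻¹ = kap a0 (c * u * c⁻¹) by rw [ha0, hz]; unfold kap; group, h1]
        unfold kap; group
      have h3 : kap a0 u = 1 := by
        rw [kap, mul_inv_eq_one, mul_inv_eq_iff_eq_mul, ha0', hu]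
        calc d * (x ^ j * (x * p * x⁻¹) * (x ^ j)⁻¹) * d⁻¹ * (d * u0 * d⁻¹)
            = d * ((x ^ j * (x * p * x⁻¹) * (x ^ j)⁻¹) * u0) * d⁻¹ := by group
          _ = d * (u0 * (x ^ j * (x * p * x⁻¹) * (x ^ j)⁻¹)) * d⁻¹ := by
              rw [B.P.ab _ (hxj j hxp) u0 hu0]
          _ = _ := by group
      have h4 : kap a0 p = (kap p a0)⁻¹ := by unfold kap; group
      have hk : kap p a0 = 1 ∨ kap p a0 = z := by
        rw [ha0']; exact hspanA _ (hxj j hxp)
      rw [h2, h3, one_mul, h4]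
      rcases hk with hk | hk <;> rw [hk]
      · left; group
      · right
        rw [inv_eq_of_mul_eq_one_right (B.sq z (hVW hzV)),
          (show Commute u z from (hVcA hzV u0 hu0).symm).eq, mul_inv_cancel_right]
    rcases hcz with hcz | hcz
    · exact hz1 (conj_eq_one_iff.mp hcz)
    rcases hzV with h | h | h | h
    · exact hz1 h
    · rw [h, hct] at hcz; exact hat hcz.symm
    · rw [h, hca] at hcz; exact Φ.t_ne (mul_eq_right.mp hcz)
    · rw [h, show c * (t * a) * c⁻¹ = (c * t * c⁻¹) * (c * a * c⁻¹) by group, hct, hca,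
        hta, ← mul_assoc, ha2, one_mul, ← hta] at hcz
      exact ha1 (left_eq_mul.mp hcz)
  -- `q` gives an involution with a forbidden class
  have hεc : Commute q ε := by
    rcases hε with rfl | rfl
    exacts [Commute.one_right _, Φ.R_comm hqR]
  have hεs : ε * ε = 1 := by
    rcases hε with rfl | rfl
    exacts [one_mul 1, Φ.t_sq]
  have hq2 : q * q = 1 := by
    rcases Φ.sq_R T q hqR with h | h
    · exact h
    exfalso
    apply hat
    calc t = (q * ε) * (q * ε) := by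
          rw [mul_assoc, ← mul_assoc ε, ← hεc.eq, mul_assoc q ε ε, hεs, mul_one, h]
      _ = c * (q * q) * c⁻¹ := by rw [← hqε]; group
      _ = a := by rw [h, hct]
  have hqt : Commute q t := Φ.R_comm hqR
  have hqa : Commute q a := by
    have h1 : Commute (c * q * c⁻¹) t := Φ.R_comm hcqR
    have h2 := h1.map (MulAut.conj c⁻¹).toMonoidHom
    simp only [MulEquiv.coe_toMonoidHom, MulAut.conj_apply, inv_inv] at h2
    have h3 : c⁻¹ * t * c = t * a := by
      have : c * (t * a) * c⁻¹ = t := by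
        calc c * (t * a) * c⁻¹ = (c * t * c⁻¹) * (c * a * c⁻¹) := by group
          _ = t := by rw [hct, hca, hta, ← mul_assoc, ha2, one_mul]
      conv_lhs => rw [← this]
      group
    rw [show c⁻¹ * (c * q * c⁻¹) * c = q by group, h3] at h2
    have h4 := hqt.mul_right h2
    rwa [← mul_assoc, Φ.t_sq, one_mul] at h4
  obtain ⟨q0, hq0R, hq0W, hq02, hq0c, hq0t⟩ : ∃ q0, q0 ∈ R ∧ q0 ∉ W ∧ q0 * q0 = 1 ∧
      c * q0 * c⁻¹ = q0 ∧ Commute q0 t := by
    rcases hε with he' | he' <;> rw [he'] at hqε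
    · exact ⟨q, hqR, hqW, hq2, by rw [hqε, mul_one], hqt⟩
    · refine ⟨q * a, mul_mem hqR (B.P.le haW), fun h => hqW ((Subgroup.mul_mem_cancel_right _ haW).mp h),
        ?_, ?_, hqt.mul_left (Φ.R_comm (B.P.le haW))⟩
      · calc q * a * (q * a) = q * (a * q) * a := by group
          _ = 1 := by rw [← hqa.eq, ← mul_assoc, hq2, one_mul, ha2]
      · calc c * (q * a) * c⁻¹ = (c * q * c⁻¹) * (c * a * c⁻¹) := by group
          _ = q * a := by rw [hqε, hca, mul_assoc q t, ← mul_assoc t, Φ.t_sq, one_mul]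
  have hq0o : orderOf q0 = 2 := Φ.orderOf_two_of hq02 fun h => hq0W (h ▸ one_mem _)
  have hq0W' : q0 ∈ W' := by
    refine (Φ.outside_not F hs T B hq0R hq02 (hfx j q0 hq0o ?_)).resolve_left hq0W
    rw [← hc]
    exact mul_inv_eq_iff_eq_mul.mp hq0c
  have hqt1 : q0 * t ≠ 1 := fun h => hq0W (by
    rw [eq_inv_of_mul_eq_one_left h, Φ.t_inv]; exact B.P.tW)
  have hqat : IsConj t (q0 * a) := by
    refine (Φ.base_tclass T (Φ.base_symm T B) (mul_mem hq0W' B.P.tW') hqt1).trans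
      (isConj_iff.mpr ⟨c, ?_⟩)
    calc c * (q0 * t) * c⁻¹ = (c * q0 * c⁻¹) * (c * t * c⁻¹) := by group
      _ = q0 * a := by rw [hq0c, hct]
  have hqa2 : q0 * a * (q0 * a) = 1 := by
    have : q0 * a = c * (q0 * t) * c⁻¹ := by
      calc q0 * a = (c * q0 * c⁻¹) * (c * t * c⁻¹) := by rw [hq0c, hct]
        _ = _ := by group
    rw [this]
    calc c * (q0 * t) * c⁻¹ * (c * (q0 * t) * c⁻¹) = c * ((q0 * t) * (q0 * t)) * c⁻¹ := by group
      _ = 1 := by rw [B.sq' _ (mul_mem hq0W' B.P.tW')]; group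
  rcases Φ.outside_not F hs T B (mul_mem hq0R (B.P.le haW)) hqa2 hqat with h | h
  · exact hq0W ((Subgroup.mul_mem_cancel_right _ haW).mp h)
  · exact haT (B.P.inter a haW ((Subgroup.mul_mem_cancel_left _ hq0W').mp h))

end Frame

end Cfsg.Agent.Lib.M24Nse65.LocalA81
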