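import Cfsg.Agent.Lib.M24Nse65.LocalA81Pair

/-!
The two abelian subgroups of order sixteen are elementary and are normal in the centralizer of
order 21504.
-/

set_option autoImplicit false
set_option linter.unusedSectionVars false
set_option linter.style.haveILetI false
set_option linter.unusedSimpArgs false

namespace Cfsg.Agent.Lib.M24Nse65.LocalA81

open Subgroup

universe u

variable {G : Type u} [Group G] [Finite G]

/-- The pair with the fixed points of `x` in both members. -/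
structure Base (t x y : G) (R W W' : Subgroup G) (w w' : G) : Prop where
  P : Pair t x y R W W'
  wW : w ∈ W
  w'W : w' ∈ W'
  wx : Commute x w
  w'x : Commute x w'
  wT : ¬ (w = 1 ∨ w = t)
  w'T : ¬ (w' = 1 ∨ w' = t)
  sq : ∀ k ∈ W, k * k = 1
  sq' : ∀ k ∈ W', k * k = 1
  ne : w * w' ≠ w' * w
  all : ∀ k ∈ W, k = 1 ∨ k = t ∨
    ∃ i : ℕ, k = y ^ i * w * (y ^ i)⁻¹ ∨ k = y ^ i * w * (y ^ i)⁻¹ * t
  all' : ∀ k ∈ W', k = 1 ∨ k = t ∨
    ∃ i : ℕ, k = y ^ i * w' * (y ^ i)⁻¹ ∨ k = y ^ i * w' * (y ^ i)⁻¹ * t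
  fixW : ∀ k ∈ W, Commute x k → k = 1 ∨ k = t ∨ k = w ∨ k = w * t
  fixW' : ∀ k ∈ W', Commute x k → k = 1 ∨ k = t ∨ k = w' ∨ k = w' * t

theorem mul_self_of_order {z : G} (hz : orderOf z = 2) : z * z = 1 := by
  rw [← pow_two, ← hz, pow_orderOf_eq_one]

namespace Frame

variable {t x y h : G} {R D : Subgroup G} (Φ : Frame t R D x y h)

include Φ

theorem pair_symm (T : Three t x) {W W' : Subgroup G} (P : Pair t x y R W W') :
    Pair t x y R W' W := by
  refine ⟨P.le', P.le, P.card', P.card, P.tW', P.tW, fun g a b => P.inter g b a, ?_, P.ab', P.ab,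
    P.nx', P.nx, P.ny', P.ny⟩
  intro r hr
  obtain ⟨u, hu, v, hv, rfl⟩ := P.prod r hr
  refine ⟨v, hv, u * kap u⁻¹ v⁻¹, mul_mem hu ?_, by unfold kap; group⟩
  rcases Φ.kap_mem T (inv_mem (P.le hu)) (inv_mem (P.le' hv)) with e | e <;> rw [e]
  exacts [one_mem _, P.tW]

theorem t_mem_or {W : Subgroup G} (ht : t ∈ W) {e : G} (he : e = 1 ∨ e = t) : e ∈ W := by
  rcases he with rfl | rfl
  exacts [one_mem _, ht]

/-- A component of a fixed point is a fixed point. -/
theorem fixed_split {W W' : Subgroup G} (P : Pair t x y R W W') {r : G} (hr : r ∈ R)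
    (hx : Commute x r) :
    ∃ u ∈ W, ∃ v ∈ W', Commute x u ∧ Commute x v ∧ r = u * v := by
  obtain ⟨u, hu, v, hv, rfl⟩ := P.prod r hr
  have h1 : x * u * x⁻¹ * (x * v * x⁻¹) = u * v := by
    calc x * u * x⁻¹ * (x * v * x⁻¹) = x * (u * v) * x⁻¹ := by group
      _ = u * v := by rw [hx.eq, mul_inv_cancel_right]
  have h2 : u⁻¹ * (x * u * x⁻¹) = v * (x * v * x⁻¹)⁻¹ := by
    rw [eq_mul_inv_iff_mul_eq, mul_assoc, inv_mul_eq_iff_eq_mul, h1]
  have hxu : Commute x u := by
    refine Φ.fix_three ?_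
    rcases P.inter _ (mul_mem (inv_mem hu) ((mem_normalizer_iff.mp P.nx u).mp hu))
      (h2 ▸ mul_mem hv (inv_mem ((mem_normalizer_iff.mp P.nx' v).mp hv))) with e | e
    · exact Or.inl (inv_mul_eq_one.mp e).symm
    · exact Or.inr (inv_mul_eq_iff_eq_mul.mp e)
  exact ⟨u, hu, v, hv, hxu, by simpa using hxu.inv_right.mul_right hx, rfl⟩

/-- An abelian member is elementary. -/
theorem elementary (T : Three t x) {K : Subgroup G} (hK : K ≤ R) (ht : t ∈ K)
    (h16 : Nat.card K = 16) (hab : ∀ a ∈ K, ∀ b ∈ K, a * b = b * a)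
    (hx : x ∈ normalizer (K : Set G)) (hy : y ∈ normalizer (K : Set G)) :
    ∀ k ∈ K, k * k = 1 := by
  obtain ⟨w, hwK, hwx, hwT, hall, -⟩ := Φ.fix_sixteen hK ht h16 hx hy
  have hct : ∀ i : ℕ, Commute (y ^ i) t := fun i => (Φ.D_comm Φ.yD).pow_left i
  have hsq : ∀ k ∈ K, ¬ (k = 1 ∨ k = t) → k * k = w * w := by
    intro k hk hkT
    rcases hall k hk with e | e | ⟨i, e⟩
    · exact absurd (Or.inl e) hkT
    · exact absurd (Or.inr e) hkT
    have h0 : (y ^ i * w * (y ^ i)⁻¹) * (y ^ i * w * (y ^ i)⁻¹) = w * w := by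
      calc _ = y ^ i * (w * w) * (y ^ i)⁻¹ := by group
        _ = w * w := Φ.conj_one_or (hct i) (Φ.sq_R T w (hK hwK))
    rcases e with e | e <;> rw [e]
    · exact h0
    · have hm : y ^ i * w * (y ^ i)⁻¹ ∈ K := (mem_normalizer_iff.mp (pow_mem hy i) w).mp hwK
      calc _ = (y ^ i * w * (y ^ i)⁻¹) * (t * (y ^ i * w * (y ^ i)⁻¹)) * t := by group
        _ = w * w := by
          rw [hab t ht _ hm, ← mul_assoc, h0, mul_assoc, Φ.t_sq, mul_one]
  have hm : y * w * y⁻¹ ∈ K := (mem_normalizer_iff.mp hy w).mp hwK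
  have hkT : ¬ (w * (y * w * y⁻¹) = 1 ∨ w * (y * w * y⁻¹) = t) := by
    intro hc
    have key : y ^ 1 * w * (y ^ 1)⁻¹ = y ^ 0 * w * (y ^ 0)⁻¹ ∨
        y ^ 1 * w * (y ^ 1)⁻¹ = y ^ 0 * w * (y ^ 0)⁻¹ * t := by
      have hw2 := Φ.sq_R T w (hK hwK)
      simp only [pow_one, pow_zero, one_mul, inv_one, mul_one]
      rcases hc with e | e <;> rcases hw2 with e' | e'
      · exact Or.inl (mul_left_cancel (e.trans e'.symm))
      · refine Or.inr (mul_left_cancel (a := w) ?_)
        rw [e, ← mul_assoc, e', Φ.t_sq]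
      · refine Or.inr (mul_left_cancel (a := w) ?_)
        rw [e, ← mul_assoc, e', one_mul]
      · exact Or.inl (mul_left_cancel (e.trans e'.symm))
    have := Φ.orbit_eq (hK hwK) hwT key
    omega
  have hw : w * w = 1 := by
    rw [← hsq _ (mul_mem hwK hm) hkT]
    calc w * (y * w * y⁻¹) * (w * (y * w * y⁻¹))
        = w * ((y * w * y⁻¹) * w) * (y * w * y⁻¹) := by group
      _ = (w * w) * (y * (w * w) * y⁻¹) := by rw [hab _ hm w hwK]; group
      _ = 1 := by
        rw [Φ.conj_one_or (Φ.D_comm Φ.yD) (Φ.sq_R T w (hK hwK))]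
        rcases Φ.sq_R T w (hK hwK) with e | e <;> rw [e]
        · rw [one_mul]
        · exact Φ.t_sq
  intro k hk
  by_cases hkT' : k = 1 ∨ k = t
  · rcases hkT' with rfl | rfl
    · rw [one_mul]
    · exact Φ.t_sq
  · rw [hsq k hk hkT', hw]

theorem exists_base (T : Three t x) : ∃ (W W' : Subgroup G) (w w' : G),
    Base t x y R W W' w w' := by
  obtain ⟨W, W', P⟩ := Φ.exists_pair T
  obtain ⟨w, hw, hwx, hwT, hall, hfix⟩ := Φ.fix_sixteen P.le P.tW P.card P.nx P.ny
  obtain ⟨w', hw', hwx', hwT', hall', hfix'⟩ := Φ.fix_sixteen P.le' P.tW' P.card' P.nx' P.ny'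
  refine ⟨W, W', w, w', P, hw, hw', hwx, hwx', hwT, hwT',
    Φ.elementary T P.le P.tW P.card P.ab P.nx P.ny,
    Φ.elementary T P.le' P.tW' P.card' P.ab' P.nx' P.ny', ?_, hall, hall', hfix, hfix'⟩
  intro hc
  obtain ⟨a, b, ha, hax, hb, hbx, hne⟩ := Φ.fixed_not_comm T
  refine hne ?_
  obtain ⟨u1, hu1, v1, hv1, hu1x, hv1x, rfl⟩ := Φ.fixed_split P ha hax
  obtain ⟨u2, hu2, v2, hv2, hu2x, hv2x, rfl⟩ := Φ.fixed_split P hb hbx
  have hcT : ∀ {g : G}, g ∈ R → Commute g t := fun hg => Φ.R_comm hg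
  have key : ∀ u v : G, (u = 1 ∨ u = t ∨ u = w ∨ u = w * t) →
      (v = 1 ∨ v = t ∨ v = w' ∨ v = w' * t) → Commute u v := by
    intro u v hu hv
    have hwt := hcT (P.le hw)
    have hwt' := hcT (P.le' hw')
    rcases hu with rfl | rfl | rfl | rfl
    · exact Commute.one_left v
    all_goals rcases hv with rfl | rfl | rfl | rfl
    all_goals first
      | exact Commute.one_right _
      | exact Commute.refl _
      | exact hwt | exact hwt.symm | exact hwt' | exact hwt'.symm | exact hc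
      | exact hwt'.symm.mul_right (Commute.refl _)
      | exact Commute.mul_left hwt (Commute.refl _)
      | exact Commute.mul_right hc hwt
      | exact Commute.mul_left hc hwt'.symm
      | exact (Commute.mul_right hc hwt).mul_left (hwt'.symm.mul_right (Commute.refl _))
  have c1 := key u2 v1 (hfix u2 hu2 hu2x) (hfix' v1 hv1 hv1x)
  have c2 := key u1 v2 (hfix u1 hu1 hu1x) (hfix' v2 hv2 hv2x)
  have d1 : Commute u1 u2 := P.ab u1 hu1 u2 hu2
  have d2 : Commute v1 v2 := P.ab' v1 hv1 v2 hv2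
  exact (((d1.mul_right c2).mul_left (c1.symm.mul_right d2))).eq

theorem base_symm (T : Three t x) {W W' : Subgroup G} {w w' : G}
    (B : Base t x y R W W' w w') : Base t x y R W' W w' w :=
  ⟨Φ.pair_symm T B.P, B.w'W, B.wW, B.w'x, B.wx, B.w'T, B.wT, B.sq', B.sq, fun e => B.ne e.symm,
    B.all', B.all, B.fixW', B.fixW⟩

variable {W W' : Subgroup G} {w w' : G}

theorem base_kap (T : Three t x) (B : Base t x y R W W' w w') : kap w w' = t := by
  rcases Φ.kap_mem T (B.P.le B.wW) (B.P.le' B.w'W) with e | e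
  · refine absurd ?_ B.ne
    unfold kap at e
    rwa [mul_inv_eq_one, mul_inv_eq_iff_eq_mul] at e
  · exact e

theorem base_flip (T : Three t x) (B : Base t x y R W W' w w') : w' * w * w'⁻¹ = w * t := by
  have e := Φ.base_kap T B
  have hw : w⁻¹ = w := inv_eq_of_mul_eq_one_right (B.sq w B.wW)
  have hw' : w'⁻¹ = w' := inv_eq_of_mul_eq_one_right (B.sq' w' B.w'W)
  unfold kap at e
  rw [hw, hw'] at e
  calc w' * w * w'⁻¹ = (w * w) * (w' * w * w') := by rw [B.sq w B.wW, hw', one_mul]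
    _ = w * (w * w' * w * w') := by group
    _ = w * t := by rw [e]

theorem y_pow_comm (i : ℕ) : Commute (y ^ i) t := (Φ.D_comm Φ.yD).pow_left i

/-- All noncentral elements of a member are conjugate in the centralizer. -/
theorem base_orb (T : Three t x) (B : Base t x y R W W' w w') {k : G} (hk : k ∈ W) (h1 : k ≠ 1)
    (ht : k ≠ t) : ∃ g ∈ centralizer ({t} : Set G), g * w * g⁻¹ = k := by
  have hy : ∀ i : ℕ, y ^ i ∈ centralizer ({t} : Set G) := fun i => pow_mem (Φ.S.D_le Φ.yD) i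
  rcases B.all k hk with e | e | ⟨i, e | e⟩
  · exact absurd e h1
  · exact absurd e ht
  · exact ⟨y ^ i, hy i, e.symm⟩
  · refine ⟨y ^ i * w', mul_mem (hy i) (Φ.S.R_le (B.P.le' B.w'W)), ?_⟩
    rw [e]
    calc y ^ i * w' * w * (y ^ i * w')⁻¹ = y ^ i * (w' * w * w'⁻¹) * (y ^ i)⁻¹ := by group
      _ = y ^ i * w * (y ^ i)⁻¹ * (y ^ i * t * (y ^ i)⁻¹) := by rw [Φ.base_flip T B]; group
      _ = _ := by rw [(Φ.y_pow_comm i).eq, mul_inv_cancel_right]

theorem orderOf_two_of {k : G} (h : k * k = 1) (h1 : k ≠ 1) : orderOf k = 2 :=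
  orderOf_eq_prime (by rw [pow_two]; exact h) h1

theorem base_tclass (T : Three t x) (B : Base t x y R W W' w w') {k : G} (hk : k ∈ W)
    (h1 : k ≠ 1) : IsConj t k := by
  by_cases ht : k = t
  · rw [ht]
  obtain ⟨g, -, hg⟩ := Φ.base_orb T B hk h1 ht
  exact (T.twos w (Φ.orderOf_two_of (B.sq w B.wW) fun e => B.wT (Or.inl e)) B.wx).trans
    (isConj_iff.mpr ⟨g, hg⟩)

/-- An involution fixed by `x` lies in a member. -/
theorem fixed_two (T : Three t x) (B : Base t x y R W W' w w') {r : G} (hr : r ∈ R)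
    (hrx : Commute x r) (h2 : r * r = 1) : r ∈ W ∨ r ∈ W' := by
  obtain ⟨u, hu, v, hv, hux, hvx, rfl⟩ := Φ.fixed_split B.P hr hrx
  by_cases huT : u = 1 ∨ u = t
  · exact Or.inr (mul_mem (Φ.t_mem_or B.P.tW' huT) hv)
  by_cases hvT : v = 1 ∨ v = t
  · exact Or.inl (mul_mem hu (Φ.t_mem_or B.P.tW hvT))
  exfalso
  obtain ⟨a, ha, rfl⟩ : ∃ a, (a = 1 ∨ a = t) ∧ u = w * a := by
    rcases B.fixW u hu hux with e | e | e | e
    · exact absurd (Or.inl e) huT
    · exact absurd (Or.inr e) huT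
    · exact ⟨1, Or.inl rfl, by rw [e, mul_one]⟩
    · exact ⟨t, Or.inr rfl, e⟩
  obtain ⟨b, hb, rfl⟩ : ∃ b, (b = 1 ∨ b = t) ∧ v = w' * b := by
    rcases B.fixW' v hv hvx with e | e | e | e
    · exact absurd (Or.inl e) hvT
    · exact absurd (Or.inr e) hvT
    · exact ⟨1, Or.inl rfl, by rw [e, mul_one]⟩
    · exact ⟨t, Or.inr rfl, e⟩
  have hk : kap (w * a) (w' * b) = t := by
    have hwR := B.P.le B.wW
    have hwR' := B.P.le' B.w'W
    have haR := Φ.t_mem_or Φ.S.tR ha
    rw [Φ.kap_left T hwR haR (B.P.le' hv), (Φ.kap_central (B.P.le' hv) ha).2, one_mul,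
      Φ.kap_right T hwR hwR' (Φ.t_mem_or Φ.S.tR hb), (Φ.kap_central hwR hb).1, mul_one,
      Φ.base_kap T B]
  refine Φ.t_ne ?_
  rw [← hk, kap, inv_eq_of_mul_eq_one_right (B.sq _ hu), inv_eq_of_mul_eq_one_right (B.sq' _ hv),
    ← h2]
  group

/-- An element of `R` centralizing a member lies in it. -/
theorem base_cent_R (_T : Three t x) (B : Base t x y R W W' w w') {r : G} (hr : r ∈ R)
    (hc : ∀ k ∈ W, Commute r k) : r ∈ W := by
  obtain ⟨u, hu, v, hv, rfl⟩ := B.P.prod r hr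
  have hcv : ∀ k ∈ W, Commute v k := fun k hk => by
    simpa using (Commute.inv_left (show Commute u k from B.P.ab u hu k hk)).mul_left (hc k hk)
  have key : v = 1 ∨ v = t := by
    by_contra hvT
    obtain ⟨i, hi⟩ : ∃ i : ℕ, Commute (y ^ i * w' * (y ^ i)⁻¹) (y ^ i * w * (y ^ i)⁻¹) := by
      rcases B.all' v hv with e | e | ⟨i, e⟩
      · exact absurd (Or.inl e) hvT
      · exact absurd (Or.inr e) hvT
      refine ⟨i, ?_⟩
      have hk : y ^ i * w * (y ^ i)⁻¹ ∈ W := (mem_normalizer_iff.mp (pow_mem B.P.ny i) w).mp B.wW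
      rcases e with e | e
      · exact e ▸ hcv _ hk
      · have hyt : Commute t (y ^ i * w * (y ^ i)⁻¹) := (Φ.R_comm (B.P.le hk)).symm
        have := (hcv _ hk).mul_left hyt
        rwa [e, Φ.mul_t_cancel] at this
    refine B.ne ?_
    calc w * w' = (y ^ i)⁻¹ * ((y ^ i * w * (y ^ i)⁻¹) * (y ^ i * w' * (y ^ i)⁻¹)) * y ^ i := by
          group
      _ = (y ^ i)⁻¹ * ((y ^ i * w' * (y ^ i)⁻¹) * (y ^ i * w * (y ^ i)⁻¹)) * y ^ i := by rw [hi.eq]
      _ = w' * w := by group
  exact mul_mem hu (Φ.t_mem_or B.P.tW key)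

/-- Outside the two members the involutions form one class. -/
theorem outside_conj (T : Three t x) (B : Base t x y R W W' w w') {r₁ r₂ : G}
    (h1 : r₁ ∈ R) (h2 : r₂ ∈ R) (s1 : r₁ * r₁ = 1) (s2 : r₂ * r₂ = 1)
    (o1 : r₁ ∉ W ∧ r₁ ∉ W') (o2 : r₂ ∉ W ∧ r₂ ∉ W') : IsConj r₁ r₂ := by
  classical
  have red : ∀ r ∈ R, r * r = 1 → r ∉ W → r ∉ W' →
      ∃ v ∈ W', Commute w v ∧ ¬ (v = 1 ∨ v = t) ∧ IsConj r (w * v) := by
    intro r hr hsq hW hW'
    obtain ⟨u, hu, v, hv, rfl⟩ := B.P.prod r hr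
    have huv : Commute u v := by
      have e : u * v = v⁻¹ * u⁻¹ := by rw [← mul_inv_rev]; exact eq_inv_of_mul_eq_one_left hsq
      rwa [inv_eq_of_mul_eq_one_right (B.sq u hu), inv_eq_of_mul_eq_one_right (B.sq' v hv)] at e
    have huT : ¬ (u = 1 ∨ u = t) := fun h => hW' (mul_mem (Φ.t_mem_or B.P.tW' h) hv)
    obtain ⟨i, e, he, rfl⟩ : ∃ i : ℕ, ∃ e, (e = 1 ∨ e = t) ∧ u = y ^ i * w * (y ^ i)⁻¹ * e := by
      rcases B.all u hu with e | e | ⟨i, e | e⟩
      · exact absurd (Or.inl e) huT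
      · exact absurd (Or.inr e) huT
      · exact ⟨i, 1, Or.inl rfl, by rw [e, mul_one]⟩
      · exact ⟨i, t, Or.inr rfl, e⟩
    have hyi := Φ.y_pow_comm i
    have hv' : (y ^ i)⁻¹ * (e * v) * y ^ i ∈ W' := by
      simpa using (mem_normalizer_iff.mp (inv_mem (pow_mem B.P.ny' i)) _).mp
        (mul_mem (Φ.t_mem_or B.P.tW' he) hv)
    refine ⟨_, hv', ?_, ?_, isConj_iff.mpr ⟨(y ^ i)⁻¹, by group⟩⟩
    · have hwt : Commute (y ^ i * w * (y ^ i)⁻¹) e := by
        rcases he with rfl | rfl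
        · exact Commute.one_right _
        · exact Φ.R_comm (B.P.le ((mem_normalizer_iff.mp (pow_mem B.P.ny i) w).mp B.wW))
      have hve : Commute v e := by
        rcases he with rfl | rfl
        · exact Commute.one_right _
        · exact Φ.R_comm (B.P.le' hv)
      have hev : Commute (y ^ i * w * (y ^ i)⁻¹) (e * v) := by
        refine hwt.mul_right ?_
        simpa using huv.mul_left hve.inv_right.symm
      calc w * ((y ^ i)⁻¹ * (e * v) * y ^ i)
          = (y ^ i)⁻¹ * ((y ^ i * w * (y ^ i)⁻¹) * (e * v)) * y ^ i := by group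
        _ = (y ^ i)⁻¹ * ((e * v) * (y ^ i * w * (y ^ i)⁻¹)) * y ^ i := by rw [hev.eq]
        _ = (y ^ i)⁻¹ * (e * v) * y ^ i * w := by group
    · intro h
      refine hW (mul_mem hu ?_)
      have hev : e * v = 1 ∨ e * v = t := by
        have : e * v = y ^ i * ((y ^ i)⁻¹ * (e * v) * y ^ i) * (y ^ i)⁻¹ := by group
        rw [this, Φ.conj_one_or hyi h]
        exact h
      have : v = e * (e * v) := by
        rcases he with rfl | rfl
        · simp
        · rw [← mul_assoc, Φ.t_sq, one_mul]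
      rw [this]
      exact mul_mem (Φ.t_mem_or B.P.tW he) (Φ.t_mem_or B.P.tW hev)
  obtain ⟨v, hv, hwv, hvT, c1⟩ := red r₁ h1 s1 o1.1 o1.2
  obtain ⟨v', hv', hwv', hv'T, c2⟩ := red r₂ h2 s2 o2.1 o2.2
  refine c1.trans (IsConj.trans ?_ c2.symm)
  -- the centralizer of `w` in `W'`
  have hxc : ∀ i : ℕ, Commute (x ^ i) t := fun i => (Φ.D_comm Φ.xD).pow_left i
  have hor : ∃ i : ℕ, v' = x ^ i * v * (x ^ i)⁻¹ ∨ v' = x ^ i * v * (x ^ i)⁻¹ * t := by
    by_contra hno
    push Not at hno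
    have hmem : ∀ i : ℕ, x ^ i * v * (x ^ i)⁻¹ ∈ W' ∧ Commute w (x ^ i * v * (x ^ i)⁻¹) := fun i =>
      ⟨(mem_normalizer_iff.mp (pow_mem B.P.nx' i) v).mp hv,
        (((B.wx.pow_left i).symm.mul_right hwv).mul_right (B.wx.pow_left i).symm.inv_right)⟩
    have hvfix : ¬ Commute x v := by
      intro hxv
      have h1 := Φ.base_flip T B
      have h2 : ∀ e : G, (e = 1 ∨ e = t) → v = w' * e → False := by
        intro e he hve
        refine B.ne ?_
        have : Commute w (w' * e) := hve ▸ hwv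
        have h3 : Commute w e := by
          rcases he with rfl | rfl
          · exact Commute.one_right _
          · exact Φ.R_comm (B.P.le B.wW)
        simpa using (this.mul_right h3.inv_right).eq
      rcases B.fixW' v hv hxv with e | e | e | e
      · exact hvT (Or.inl e)
      · exact hvT (Or.inr e)
      · exact h2 1 (Or.inl rfl) (by rw [e, mul_one])
      · exact h2 t (Or.inr rfl) e
    let S : Set G := {g | g ∈ W' ∧ Commute w g}
    have hS : S.ncard * 2 ≤ 16 := by
      let f : S × Fin 2 → W' := fun p => ⟨(p.1 : G) * w' ^ (p.2 : ℕ),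
        mul_mem p.1.2.1 (pow_mem B.w'W _)⟩
      have hf : Function.Injective f := by
        rintro ⟨⟨a, ha, ha'⟩, i⟩ ⟨⟨b, hb, hb'⟩, j⟩ e
        have e' : a * w' ^ (i : ℕ) = b * w' ^ (j : ℕ) := congrArg Subtype.val e
        fin_cases i <;> fin_cases j <;> simp only [pow_zero, pow_one, mul_one] at e'
        · simp [e']
        · exfalso; refine B.ne ?_
          have := ha'
          rw [e'] at this
          simpa using (hb'.inv_right.mul_right this).eq
        · exfalso; refine B.ne ?_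
          have := hb'
          rw [← e'] at this
          simpa using (ha'.inv_right.mul_right this).eq
        · simp [mul_right_cancel e']
      have := Nat.card_le_card_of_injective f hf
      rwa [Nat.card_prod, Nat.card_fin, B.P.card', Nat.card_coe_set_eq] at this
    let f : Option (Option (Option (Fin 3 × Fin 2))) → S := fun o => match o with
      | none => ⟨1, one_mem _, Commute.one_right _⟩
      | some none => ⟨t, B.P.tW', Φ.R_comm (B.P.le B.wW)⟩
      | some (some none) => ⟨v', hv', hwv'⟩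
      | some (some (some q)) => ⟨x ^ (q.1 : ℕ) * v * (x ^ (q.1 : ℕ))⁻¹ * t ^ (q.2 : ℕ),
          mul_mem (hmem q.1).1 (pow_mem B.P.tW' _),
          (hmem q.1).2.mul_right ((Φ.R_comm (B.P.le B.wW)).pow_right _)⟩
    have hxor : ∀ (i : ℕ) (j : ℕ) (e : G), (e = 1 ∨ e = t) →
        x ^ i * v * (x ^ i)⁻¹ * t ^ j ≠ e := by
      intro i j e he h
      refine hvT ?_
      have h1 : x ^ i * v * (x ^ i)⁻¹ = e * (t ^ j)⁻¹ := by rw [← h]; group
      have h2 : e * (t ^ j)⁻¹ = 1 ∨ e * (t ^ j)⁻¹ = t := by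
        refine Φ.one_or_mul he ?_
        rcases Nat.even_or_odd' j with ⟨k, rfl | rfl⟩
        · left; rw [pow_mul, pow_two, Φ.t_sq, one_pow, inv_one]
        · right; rw [pow_succ, pow_mul, pow_two, Φ.t_sq, one_pow, one_mul, Φ.t_inv]
      have : v = x ^ i * v * (x ^ i)⁻¹ := by
        have h3 : v = (x ^ i)⁻¹ * (e * (t ^ j)⁻¹) * x ^ i := by rw [← h1]; group
        rw [h1]
        conv_lhs => rw [h3, show (x ^ i)⁻¹ * (e * (t ^ j)⁻¹) * x ^ i =
          (x ^ i)⁻¹ * (e * (t ^ j)⁻¹) * ((x ^ i)⁻¹)⁻¹ by rw [inv_inv],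
          Φ.conj_one_or (hxc i).inv_left h2]
      rw [this, h1]
      exact h2
    have hf : Function.Injective f := by
      rintro (_ | _ | _ | ⟨i, j⟩) (_ | _ | _ | ⟨i', j'⟩) e <;>
        replace e := congrArg Subtype.val e <;> simp only [f] at e
      any_goals rfl
      · exact absurd e.symm Φ.t_ne
      · exact absurd (Or.inl e.symm) hv'T
      · exact absurd e.symm (hxor i' j' 1 (Or.inl rfl))
      · exact absurd e Φ.t_ne
      · exact absurd (Or.inr e.symm) hv'T
      · exact absurd e.symm (hxor i' j' t (Or.inr rfl))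
      · exact absurd (Or.inl e) hv'T
      · exact absurd (Or.inr e) hv'T
      · exfalso
        fin_cases j' <;> simp only [pow_zero, pow_one, mul_one] at e
        · exact (hno i').1 e
        · exact (hno i').2 e
      · exact absurd e (hxor i j 1 (Or.inl rfl))
      · exact absurd e (hxor i j t (Or.inr rfl))
      · exfalso
        fin_cases j <;> simp only [pow_zero, pow_one, mul_one] at e
        · exact (hno i).1 e.symm
        · exact (hno i).2 e.symm
      · by_contra hne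
        have hij : ¬ (i : ℕ) = i' := by
          intro hii
          refine hne ?_
          obtain rfl : i = i' := Fin.ext hii
          have := pow_inj_mod.mp (mul_left_cancel e)
          rw [Φ.S.ht] at this
          have : j = j' := Fin.ext (by omega)
          rw [this]
        -- a power of `x` fixes the coset of `v`
        have hne3 : ∀ k : ℕ, k < 3 → k ≠ 0 →
            (x ^ k * v * (x ^ k)⁻¹ = v ∨ x ^ k * v * (x ^ k)⁻¹ = v * t) → False := by
          intro k hk hk0 hc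
          refine hvfix ?_
          have h3 : x ^ 3 = 1 := Φ.ox ▸ pow_orderOf_eq_one x
          obtain rfl | rfl : k = 1 ∨ k = 2 := by omega
          · exact Φ.fix_three (by simpa using hc)
          · refine Φ.fix_three ?_
            have hx2 : x ^ 2 = x⁻¹ := eq_inv_of_mul_eq_one_left (by rw [← pow_succ, h3])
            rw [hx2, inv_inv] at hc
            rcases hc with hc | hc
            · left
              calc x * v * x⁻¹ = x * (x⁻¹ * v * x) * x⁻¹ := by rw [hc]
                _ = v := by group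
            · right
              have hxt : Commute x t := Φ.D_comm Φ.xD
              calc x * v * x⁻¹ = x * (x⁻¹ * v * x * t) * x⁻¹ := by rw [hc, Φ.mul_t_cancel]
                _ = v * (x * t * x⁻¹) := by group
                _ = v * t := by rw [hxt.eq, mul_inv_cancel_right]
        have hcase : ∀ (a b : ℕ) (c d : ℕ), a < b → b < 3 →
            x ^ a * v * (x ^ a)⁻¹ * t ^ c = x ^ b * v * (x ^ b)⁻¹ * t ^ d → False := by
          intro a b c d hab hb h
          refine hne3 (b - a) (by omega) (by omega) ?_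
          have hb' : x ^ b = x ^ a * x ^ (b - a) := by rw [← pow_add]; congr 1; omega
          rw [hb'] at h
          have h1 : x ^ (b - a) * v * (x ^ (b - a))⁻¹ =
              v * ((x ^ a)⁻¹ * (t ^ c * (t ^ d)⁻¹) * x ^ a) := by
            calc _ = (x ^ a)⁻¹ * ((x ^ a * x ^ (b - a)) * v * (x ^ a * x ^ (b - a))⁻¹) * x ^ a := by
                  group
              _ = (x ^ a)⁻¹ * ((x ^ a * v * (x ^ a)⁻¹ * t ^ c) * (t ^ d)⁻¹) * x ^ a := by
                  rw [h]; group
              _ = _ := by group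
          have h2 : t ^ c * (t ^ d)⁻¹ = 1 ∨ t ^ c * (t ^ d)⁻¹ = t :=
            Φ.mem_T (mul_mem (pow_mem (mem_zpowers t) c) (inv_mem (pow_mem (mem_zpowers t) d)))
          rcases h2 with h2 | h2 <;> rw [h2] at h1
          · left; rw [h1]; group
          · right
            rw [h1, mul_assoc, ← (hxc a).eq, inv_mul_cancel_left]
        rcases Nat.lt_or_gt_of_ne hij with hlt | hlt
        · exact hcase _ _ _ _ hlt i'.2 e
        · exact hcase _ _ _ _ hlt i.2 e.symm
    have := Nat.card_le_card_of_injective f hf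
    rw [Nat.card_coe_set_eq] at this
    simp at this
    omega
  obtain ⟨i, hi | hi⟩ := hor
  · refine isConj_iff.mpr ⟨x ^ i, ?_⟩
    calc x ^ i * (w * v) * (x ^ i)⁻¹ = (x ^ i * w * (x ^ i)⁻¹) * (x ^ i * v * (x ^ i)⁻¹) := by group
      _ = w * v' := by rw [(B.wx.pow_left i).eq, mul_inv_cancel_right, hi]
  · refine isConj_iff.mpr ⟨x ^ i * w', ?_⟩
    have hvw : w' * v * w'⁻¹ = v := by rw [B.P.ab' w' B.w'W v hv, mul_inv_cancel_right]
    calc x ^ i * w' * (w * v) * (x ^ i * w')⁻¹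
        = x ^ i * ((w' * w * w'⁻¹) * (w' * v * w'⁻¹)) * (x ^ i)⁻¹ := by group
      _ = x ^ i * (w * t * v) * (x ^ i)⁻¹ := by rw [Φ.base_flip T B, hvw]
      _ = x ^ i * (w * (v * t)) * (x ^ i)⁻¹ := by
          rw [mul_assoc w, (Φ.R_comm (B.P.le' hv)).eq]
      _ = (x ^ i * w * (x ^ i)⁻¹) * ((x ^ i * v * (x ^ i)⁻¹) * (x ^ i * t * (x ^ i)⁻¹)) := by group
      _ = w * v' := by
          rw [hi, (B.wx.pow_left i).eq, mul_inv_cancel_right, (hxc i).eq, mul_inv_cancel_right]

/-- The part of a subgroup of the centralizer lying in `R` has index dividing 168. -/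
theorem card_inter {H : Subgroup G} (hH : H ≤ centralizer ({t} : Set G)) :
    ∃ k, k ∣ 168 ∧ Nat.card H = k * Nat.card ↥(H ⊓ R) := by
  set C := centralizer ({t} : Set G) with hC
  haveI : (R.subgroupOf C).Normal := ⟨fun r hr g => by
    rw [mem_subgroupOf] at hr ⊢
    push_cast
    exact Φ.S.norm g g.2 r hr⟩
  have hidx : (R.subgroupOf C).index = 168 := by
    have h1 := (R.subgroupOf C).card_mul_index
    rw [Nat.card_congr (subgroupOfEquivOfLe Φ.S.R_le).toEquiv, Φ.S.cardR, Φ.S.cardC] at h1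
    omega
  let f : H →* C ⧸ R.subgroupOf C := (QuotientGroup.mk' _).comp (Subgroup.inclusion hH)
  have hker : f.ker = (H ⊓ R).subgroupOf H := by
    ext g
    rw [MonoidHom.mem_ker, mem_subgroupOf, mem_inf]
    show ((_ : C) : C ⧸ R.subgroupOf C) = 1 ↔ _
    rw [QuotientGroup.eq_one_iff, mem_subgroupOf]
    exact ⟨fun h => ⟨g.2, h⟩, fun h => h.2⟩
  refine ⟨Nat.card f.range, ?_, ?_⟩
  · have := Subgroup.card_subgroup_dvd_card f.range
    rwa [← index_eq_card, hidx] at this
  · have h1 := f.ker.card_mul_index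
    rw [Subgroup.index_ker, hker, Nat.card_congr (subgroupOfEquivOfLe inf_le_left).toEquiv] at h1
    rw [← h1, mul_comm]

/-- Some involution of `R` lies in the class of `s`. -/
theorem exists_s_mem (F : M24Nse2.Facts G) {s : G} (hs : InvCount.Classes s t) (T : Three t x) :
    ∃ r ∈ R, IsConj s r := by
  classical
  haveI h2 : Fact (Nat.Prime 2) := ⟨Nat.prime_two⟩
  haveI := Φ.S.simple
  by_contra hno
  push Not at hno
  -- a conjugate with a centralizer of order 512 in `C(t)`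
  obtain ⟨K, hK⟩ := Sylow.exists_subgroup_card_pow_prime (G := centralizer ({t} : Set G)) 2 (n := 10)
    (by rw [Φ.S.cardC]; norm_num)
  obtain ⟨U, hU⟩ := Sylow.exists_subgroup_card_pow_prime (G := centralizer ({s} : Set G)) 2 (n := 9)
    (by rw [hs.card_s]; norm_num)
  set K' := K.map (centralizer ({t} : Set G)).subtype with hK'
  set U' := U.map (centralizer ({s} : Set G)).subtype with hU'
  have cK : Nat.card K' = 2 ^ 10 := by
    rw [hK', Subgroup.card_map_of_injective (Subgroup.subtype_injective _), hK]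
  have cU : Nat.card U' = 2 ^ 9 := by
    rw [hU', Subgroup.card_map_of_injective (Subgroup.subtype_injective _), hU]
  obtain ⟨Q, hQ⟩ := (IsPGroup.of_card cK).exists_le_sylow
  obtain ⟨Q', hQ'⟩ := (IsPGroup.of_card cU).exists_le_sylow
  have hQe : K' = (Q : Subgroup G) := by
    refine eq_of_le_of_card_ge hQ ?_
    obtain ⟨n, hn⟩ := IsPGroup.iff_card.mp Q.isPGroup'
    have hd : (2 : ℕ) ^ n ∣ 244823040 := by
      rw [← hn, ← F.card]; exact Subgroup.card_subgroup_dvd_card _
    rw [cK, hn]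
    refine Nat.pow_le_pow_right (by norm_num) ?_
    by_contra hgt
    have h11 := (Nat.pow_dvd_pow 2 (show 11 ≤ n by omega)).trans hd
    norm_num at h11
  obtain ⟨g, hg⟩ := MulAction.exists_smul_eq G Q' Q
  have hgmem : ∀ u ∈ U', g * u * g⁻¹ ∈ centralizer ({t} : Set G) := by
    intro u hu
    have h1 : g * u * g⁻¹ ∈ (Q : Subgroup G) := by
      rw [← hg, Sylow.coe_subgroup_smul, ← MulAut.conj_apply]
      exact Subgroup.smul_mem_pointwise_smul u (MulAut.conj g) _ (hQ' hu)
    rw [← hQe] at h1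
    exact map_subtype_le K h1
  set V := U'.map (MulAut.conj g).toMonoidHom with hV
  have cV : Nat.card V = 512 := by
    rw [hV, Subgroup.card_map_of_injective (MulAut.conj g).injective, cU]; norm_num
  have hVC : V ≤ centralizer ({t} : Set G) := by
    rintro _ ⟨u, hu, rfl⟩
    exact hgmem u hu
  have hsU : ∀ u ∈ U', Commute u s := fun u hu =>
    mem_centralizer_singleton_iff.mp (map_subtype_le U hu)
  set s' := g * s * g⁻¹ with hs'
  have hconj : IsConj s s' := isConj_iff.mpr ⟨g, rfl⟩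
  have hVs : ∀ v ∈ V, Commute v s' := by
    rintro _ ⟨u, hu, rfl⟩
    exact (hsU u hu).map (MulAut.conj g).toMonoidHom
  have hs'C : s' ∈ centralizer ({t} : Set G) := by
    have hQmax : ∀ z : G, z * z = 1 → (∀ u ∈ U', Commute u z) → z ∈ centralizer ({s} : Set G) →
        z ∈ U' := by
      intro z hz hzU hzC
      by_contra hzn
      let M : Subgroup G := U' ⊔ zpowers z
      have hMle : M ≤ centralizer ({s} : Set G) := sup_le (map_subtype_le U) (zpowers_le.mpr hzC)
      have hMp : IsPGroup 2 M := by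
        refine IsPGroup.to_sup_of_normal_right' (IsPGroup.of_card cU) ?_ ?_
        · refine IsPGroup.iff_card.mpr ⟨1, ?_⟩
          rw [pow_one, Nat.card_zpowers]
          exact orderOf_eq_prime (by rw [pow_two]; exact hz) fun e => hzn (e ▸ one_mem _)
        · intro u hu
          rw [mem_normalizer_iff]
          intro k
          have hc : Commute u z := hzU u hu
          constructor
          · rintro ⟨m, rfl⟩
            exact ⟨m, show z ^ m = u * z ^ m * u⁻¹ by rw [(hc.zpow_right m).eq, mul_inv_cancel_right]⟩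
          · rintro ⟨m, hm⟩
            refine ⟨m, ?_⟩
            show z ^ m = k
            have hm' : z ^ m = u * k * u⁻¹ := hm
            calc z ^ m = u⁻¹ * z ^ m * u := by rw [(hc.inv_left.zpow_right m).eq, inv_mul_cancel_right]
              _ = k := by rw [hm']; group
      obtain ⟨n, hn⟩ := IsPGroup.iff_card.mp hMp
      have hd : 2 ^ n ∣ 7680 := by rw [← hn, ← hs.card_s]; exact card_dvd_of_le hMle
      have h9 : n ≤ 9 := by
        by_contra hgt
        have := (Nat.pow_dvd_pow 2 (show 10 ≤ n by omega)).trans hd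
        norm_num at this
      have : U' = M := eq_of_le_of_card_ge le_sup_left
        (by rw [cU, hn]; exact Nat.pow_le_pow_right (by norm_num) h9)
      exact hzn (this ▸ (le_sup_right : zpowers z ≤ M) (mem_zpowers z))
    exact hgmem s (hQmax s (mul_self_of_order hs.order_s) hsU
      (mem_centralizer_singleton_iff.mpr rfl))
  -- split it
  obtain ⟨r, hr, d, hd, hrd⟩ := Φ.S.split s' hs'C
  have hd1 : d ≠ 1 := by
    rintro rfl
    rw [mul_one] at hrd
    exact hno r hr (hrd ▸ hconj)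
  have hs'2 : s' * s' = 1 := by
    rw [hs']
    calc g * s * g⁻¹ * (g * s * g⁻¹) = g * (s * s) * g⁻¹ := by group
      _ = 1 := by rw [mul_self_of_order hs.order_s]; group
  have hd2 : d * d = 1 := by
    have h1 : r * (d * r * d⁻¹) = (d * d)⁻¹ := by
      refine eq_inv_of_mul_eq_one_left ?_
      calc r * (d * r * d⁻¹) * (d * d) = (r * d) * (r * d) := by group
        _ = 1 := by rw [← hrd, hs'2]
    have h2 := Φ.S.disj _ (mul_mem hr (Φ.D_norm hd hr)) (h1 ▸ inv_mem (mul_mem hd hd))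
    rw [h1] at h2
    exact inv_eq_one.mp h2
  have hk : ∀ k ∈ V ⊓ R, d * k * d⁻¹ = k ∨ d * k * d⁻¹ = k * t := by
    rintro k ⟨hkV, hkR⟩
    have hc : Commute k (r * d) := hrd ▸ hVs k hkV
    have h1 : d * k * d⁻¹ = k * kap k⁻¹ r⁻¹ := by
      calc d * k * d⁻¹ = r⁻¹ * ((r * d) * k) * d⁻¹ := by group
        _ = r⁻¹ * (k * (r * d)) * d⁻¹ := by rw [← hc.eq]
        _ = k * kap k⁻¹ r⁻¹ := by unfold kap; group
    rcases Φ.kap_mem T (inv_mem hkR) (inv_mem hr) with e | e <;> rw [e] at h1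
    · exact Or.inl (by rw [h1, mul_one])
    · exact Or.inr h1
  -- all involutions of `D` fix many cosets
  let Fx : G → Subgroup G := fun c =>
    { carrier := {k | k ∈ R ∧ c * k * c⁻¹ * k⁻¹ ∈ zpowers t}
      one_mem' := ⟨one_mem _, by simp⟩
      mul_mem' := by
        rintro a b ⟨ha, ha'⟩ ⟨hb, hb'⟩
        refine ⟨mul_mem ha hb, ?_⟩
        have e : c * (a * b) * c⁻¹ * (a * b)⁻¹ =
            (c * a * c⁻¹ * a⁻¹) * (a * (c * b * c⁻¹ * b⁻¹) * a⁻¹) := by group
        rw [e, Φ.conj_one_or (Φ.R_comm ha) (Φ.mem_T hb')]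
        exact mul_mem ha' hb'
      inv_mem' := by
        rintro a ⟨ha, ha'⟩
        refine ⟨inv_mem ha, ?_⟩
        have e : c * a⁻¹ * c⁻¹ * a⁻¹⁻¹ = a⁻¹ * (c * a * c⁻¹ * a⁻¹)⁻¹ * a⁻¹⁻¹ := by group
        rw [e, Φ.conj_one_or (Φ.R_comm ha).inv_left (Φ.mem_T (inv_mem ha'))]
        exact inv_mem ha' }
  have hFd : 64 ≤ Nat.card (Fx d) := by
    obtain ⟨k, hk168, hcard⟩ := Φ.card_inter hVC
    rw [cV] at hcard
    have hk8 : k ∣ Nat.gcd 168 512 := Nat.dvd_gcd hk168 ⟨_, hcard⟩
    have : k ≤ 8 := Nat.le_of_dvd (by norm_num) (by simpa using hk8)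
    have hle : V ⊓ R ≤ Fx d := by
      intro a ha
      refine ⟨ha.2, ?_⟩
      rcases hk a ha with e | e <;> rw [e]
      · rw [mul_inv_cancel]; exact one_mem _
      · rw [(Φ.R_comm ha.2).eq, mul_inv_cancel_right]; exact mem_zpowers t
    have := Subgroup.card_le_of_le hle
    nlinarith
  have hFc : ∀ c : G, c ∈ D → orderOf c = 2 → 64 ≤ Nat.card (Fx c) := by
    intro c hc hc2
    have hd' : orderOf d = 2 := orderOf_eq_prime (by rw [pow_two]; exact hd2) hd1
    obtain ⟨⟨e, he⟩, hec⟩ := isConj_iff.mp (SmallGroups.Order168.isConj_two Φ.S.cardD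
      (show orderOf (⟨d, hd⟩ : D) = 2 by rw [Subgroup.orderOf_mk, hd'])
      (show orderOf (⟨c, hc⟩ : D) = 2 by rw [Subgroup.orderOf_mk, hc2]))
    have hec' : e * d * e⁻¹ = c := congrArg Subtype.val hec
    refine hFd.trans ?_
    refine Nat.card_le_card_of_injective (fun a : Fx d => (⟨e * a * e⁻¹, ?_, ?_⟩ : Fx c)) ?_
    · exact Φ.D_norm he a.2.1
    · rw [← hec', show e * d * e⁻¹ * (e * (a : G) * e⁻¹) * (e * d * e⁻¹)⁻¹ * (e * (a : G) * e⁻¹)⁻¹ =
        e * (d * (a : G) * d⁻¹ * (a : G)⁻¹) * e⁻¹ by group,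
        Φ.conj_one_or (Φ.D_comm he) (Φ.mem_T a.2.2)]
      exact a.2.2
    · exact fun a b hab => Subtype.ext (mul_left_cancel (mul_right_cancel
        (congrArg Subtype.val hab)))
  have hh2 : h * h = 1 := mul_self_of_order Φ.oh
  have hxh : orderOf (x * h) = 2 := by
    refine orderOf_eq_prime ?_ ?_
    · rw [pow_two]
      calc x * h * (x * h) = x * (h * x * h⁻¹) * (h * h) := by group
        _ = 1 := by rw [Φ.hx, hh2]; group
    · intro e
      have : h = x⁻¹ := eq_inv_of_mul_eq_one_right e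
      have h3 := Φ.oh
      rw [this, orderOf_inv, Φ.ox] at h3
      omega
  have a1 := hFc h Φ.hD Φ.oh
  have a2 := hFc (x * h) (mul_mem Φ.xD Φ.hD) hxh
  have hle1 : Fx h ≤ R := fun a ha => ha.1
  have hle2 : Fx (x * h) ≤ R := fun a ha => ha.1
  have hinf : Fx h ⊓ Fx (x * h) ≤ R ⊓ centralizer ({x} : Set G) := by
    rintro a ⟨⟨haR, ha1⟩, -, ha2⟩
    refine ⟨haR, mem_centralizer_singleton_iff.mpr (Φ.fix_three ?_).eq.symm⟩
    set e1 := h * a * h⁻¹ * a⁻¹ with he1
    set e2 := x * h * a * (x * h)⁻¹ * a⁻¹ with he2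
    have key : x * a * x⁻¹ = e2 * a * (x * e1⁻¹ * x⁻¹) := by
      have : x * e1⁻¹ * x⁻¹ = e1⁻¹ := Φ.conj_one_or (Φ.D_comm Φ.xD) (Φ.mem_T (inv_mem ha1))
      have hc : Commute a e1⁻¹ := by
        rcases Φ.mem_T (inv_mem ha1) with e | e <;> rw [e]
        exacts [Commute.one_right _, Φ.R_comm haR]
      have hcx : Commute (x * e1 * x⁻¹) (x * a * x⁻¹) := by
        have := hc.symm.inv_left
        rw [inv_inv] at this
        exact this.map (MulAut.conj x).toMonoidHom
      calc x * a * x⁻¹ = (x * e1 * x⁻¹ * (x * a * x⁻¹)) * (x * e1⁻¹ * x⁻¹) := by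
            rw [hcx.eq]; group
        _ = _ := by rw [he1, he2]; group
    have h3 : x * e1⁻¹ * x⁻¹ = e1⁻¹ := Φ.conj_one_or (Φ.D_comm Φ.xD) (Φ.mem_T (inv_mem ha1))
    rw [h3] at key
    rcases Φ.mem_T ha2 with e | e <;> rcases Φ.mem_T (inv_mem ha1) with e' | e' <;>
      rw [e, e'] at key
    · exact Or.inl (by simpa using key)
    · exact Or.inr (by simpa using key)
    · exact Or.inr (by rw [key, mul_one, (Φ.R_comm haR).eq])
    · exact Or.inl (by rw [key, ← (Φ.R_comm haR).eq, Φ.mul_t_cancel])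
  have hrel : ∀ A : Subgroup G, A ≤ R → A.relIndex R * Nat.card A = 128 := by
    intro A hA
    have := (A.subgroupOf R).card_mul_index
    rw [Nat.card_congr (subgroupOfEquivOfLe hA).toEquiv, Φ.S.cardR, mul_comm] at this
    exact this
  have b1 := hrel _ hle1
  have b2 := hrel _ hle2
  have b3 := hrel _ (inf_le_left.trans hle1 : Fx h ⊓ Fx (x * h) ≤ R)
  have b4 : (Fx h ⊓ Fx (x * h)).relIndex R ≤ (Fx h).relIndex R * (Fx (x * h)).relIndex R :=
    Subgroup.relIndex_inf_le
  have b5 := (Subgroup.card_le_of_le hinf).trans (Φ.card_fixed T).le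
  have i1 : (Fx h).relIndex R ≤ 2 := by nlinarith
  have i2 : (Fx (x * h)).relIndex R ≤ 2 := by nlinarith
  have i3 := Nat.mul_le_mul i1 i2
  nlinarith

/-- Outside the two members no involution is in the class of `t`. -/
theorem outside_not (F : M24Nse2.Facts G) {s : G} (hs : InvCount.Classes s t) (T : Three t x)
    (B : Base t x y R W W' w w') {r : G} (hr : r ∈ R) (h2 : r * r = 1) (hc : IsConj t r) :
    r ∈ W ∨ r ∈ W' := by
  by_contra hno
  push Not at hno
  obtain ⟨q, hq, hsq⟩ := Φ.exists_s_mem F hs T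
  have hq2 : q * q = 1 := by
    obtain ⟨g, rfl⟩ := isConj_iff.mp hsq
    calc g * s * g⁻¹ * (g * s * g⁻¹) = g * (s * s) * g⁻¹ := by group
      _ = 1 := by rw [mul_self_of_order hs.order_s]; group
  have hq1 : q ≠ 1 := by
    rintro rfl
    have h1 : s = 1 := isConj_one_left.mp hsq
    have h2 := hs.order_s
    rw [h1, orderOf_one] at h2
    omega
  have hW : q ∉ W := fun h => hs.ne (hsq.trans (Φ.base_tclass T B h hq1).symm)
  have hW' : q ∉ W' := fun h =>
    hs.ne (hsq.trans (Φ.base_tclass T (Φ.base_symm T B) h hq1).symm)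
  exact hs.ne (hsq.trans ((Φ.outside_conj T B hq hr hq2 h2 ⟨hW, hW'⟩ hno).trans hc.symm))

/-- A conjugate under the centralizer of a member lies in one of the two. -/
theorem conj_cases (F : M24Nse2.Facts G) {s : G} (hs : InvCount.Classes s t) (T : Three t x)
    (B : Base t x y R W W' w w') {g : G} (hg : g ∈ centralizer ({t} : Set G)) :
    (∀ k ∈ W, g * k * g⁻¹ ∈ W) ∨ ∀ k ∈ W, g * k * g⁻¹ ∈ W' := by
  have hu : ∀ k ∈ W, g * k * g⁻¹ ∈ W ∨ g * k * g⁻¹ ∈ W' := by
    intro k hk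
    by_cases h1 : k = 1
    · subst h1; left; simp
    refine Φ.outside_not F hs T B (Φ.S.norm g hg k (B.P.le hk)) ?_ ?_
    · calc g * k * g⁻¹ * (g * k * g⁻¹) = g * (k * k) * g⁻¹ := by group
        _ = 1 := by rw [B.sq k hk]; group
    · exact (Φ.base_tclass T B hk h1).trans (isConj_iff.mpr ⟨g, rfl⟩)
  by_contra hno
  push Not at hno
  obtain ⟨⟨a, ha, ha'⟩, ⟨b, hb, hb'⟩⟩ := hno
  have ha2 := (hu a ha).resolve_left ha'
  have hb2 := (hu b hb).resolve_right hb'
  have hab : g * (a * b) * g⁻¹ = g * a * g⁻¹ * (g * b * g⁻¹) := by group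
  rcases hu (a * b) (mul_mem ha hb) with h | h <;> rw [hab] at h
  · exact ha' ((Subgroup.mul_mem_cancel_right _ hb2).mp h)
  · exact hb' ((Subgroup.mul_mem_cancel_left _ ha2).mp h)

/-- Both members are normal in the centralizer. -/
theorem base_normal (F : M24Nse2.Facts G) {s : G} (hs : InvCount.Classes s t) (T : Three t x)
    (B : Base t x y R W W' w w') {g : G} (hg : g ∈ centralizer ({t} : Set G)) :
    g ∈ normalizer (W : Set G) := by
  haveI := Φ.S.simple
  have hR : ∀ r ∈ R, r ∈ normalizer (W : Set G) := fun r hr => mem_normalizer_of_conj fun k hk => by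
    have e : r * k * r⁻¹ = kap r k * k := by unfold kap; group
    rw [e]
    exact mul_mem (Φ.t_mem_or B.P.tW (Φ.kap_mem T hr (B.P.le hk))) hk
  have hsq : ∀ d ∈ D, d * d ∈ normalizer (W : Set G) := by
    intro d hd
    have hdC := Φ.S.D_le hd
    rcases Φ.conj_cases F hs T B hdC with h | h
    · exact mul_mem (mem_normalizer_of_conj h) (mem_normalizer_of_conj h)
    rcases Φ.conj_cases F hs T (Φ.base_symm T B) hdC with h' | h'
    · exfalso
      have hn : d ∈ normalizer (W' : Set G) := mem_normalizer_of_conj h'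
      rcases B.P.inter w B.wW ((mem_normalizer_iff.mp hn w).mpr (h w B.wW)) with e | e
      · exact B.wT (Or.inl e)
      · exact B.wT (Or.inr e)
    · refine mem_normalizer_of_conj fun k hk => ?_
      have : d * d * k * (d * d)⁻¹ = d * (d * k * d⁻¹) * d⁻¹ := by group
      rw [this]
      exact h' _ (h k hk)
  set K : Subgroup D := (normalizer (W : Set G)).subgroupOf D with hK
  have hKn : K.Normal := ⟨fun k hk g => by
    rw [hK, mem_subgroupOf] at hk ⊢
    push_cast
    have e : (g : G) * k * (g : G)⁻¹ =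
        ((g : G) * k * ((g : G) * k)) * (k : G)⁻¹ * ((g : G) * g)⁻¹ := by group
    rw [e]
    exact mul_mem (mul_mem (hsq _ (mul_mem g.2 k.2)) (inv_mem hk)) (inv_mem (hsq _ g.2))⟩
  have hy : (⟨y, Φ.yD⟩ : D) ∈ K := mem_subgroupOf.mpr B.P.ny
  have htop : K = ⊤ := by
    rcases hKn.eq_bot_or_eq_top with e | e
    · rw [e, mem_bot] at hy
      have := Φ.oy
      rw [show y = 1 from congrArg Subtype.val hy, orderOf_one] at this
      omega
    · exact e
  obtain ⟨r, hr, d, hd, rfl⟩ := Φ.S.split g hg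
  refine mul_mem (hR r hr) ?_
  have : (⟨d, hd⟩ : D) ∈ K := htop ▸ mem_top _
  exact mem_subgroupOf.mp this

/-- An element of the centralizer of `t` centralizing a member lies in it. -/
theorem base_cent (F : M24Nse2.Facts G) {s : G} (hs : InvCount.Classes s t) (T : Three t x)
    (B : Base t x y R W W' w w') {g : G} (hg : g ∈ centralizer ({t} : Set G))
    (hc : ∀ k ∈ W, Commute g k) : g ∈ W := by
  haveI := Φ.S.simple
  have hnorm : ∀ d : D, ∀ k ∈ W, (d : G) * k * (d : G)⁻¹ ∈ W := fun d k hk =>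
    (mem_normalizer_iff.mp (Φ.base_normal F hs T B (Φ.S.D_le d.2)) k).mp hk
  let K : Subgroup D :=
    { carrier := {d | ∀ k ∈ W, (d : G) * k * (d : G)⁻¹ * k⁻¹ ∈ zpowers t}
      one_mem' := fun k _ => by simp
      mul_mem' := by
        intro a b ha hb k hk
        have e : ((a * b : D) : G) * k * ((a * b : D) : G)⁻¹ * k⁻¹ =
            ((a : G) * ((b : G) * k * (b : G)⁻¹ * k⁻¹) * (a : G)⁻¹) *
              ((a : G) * k * (a : G)⁻¹ * k⁻¹) := by push_cast; group
        rw [e, Φ.conj_one_or (Φ.D_comm a.2) (Φ.mem_T (hb k hk))]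
        exact mul_mem (hb k hk) (ha k hk)
      inv_mem' := by
        intro a ha k hk
        have hk' : (a : G)⁻¹ * k * (a : G) ∈ W := by simpa using hnorm a⁻¹ k hk
        have h := ha _ hk'
        have e : (a : G) * ((a : G)⁻¹ * k * (a : G)) * (a : G)⁻¹ * ((a : G)⁻¹ * k * (a : G))⁻¹ =
            (((a⁻¹ : D) : G) * k * ((a⁻¹ : D) : G)⁻¹ * k⁻¹ )⁻¹ *
              1 := by push_cast; group
        rw [e, mul_one] at h
        exact inv_mem_iff.mp h }
  have hKn : K.Normal := ⟨fun a ha d k hk => by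
    have hk' : (d : G)⁻¹ * k * (d : G) ∈ W := by simpa using hnorm d⁻¹ k hk
    have h := ha _ hk'
    have e : ((d * a * d⁻¹ : D) : G) * k * ((d * a * d⁻¹ : D) : G)⁻¹ * k⁻¹ =
        (d : G) * ((a : G) * ((d : G)⁻¹ * k * (d : G)) * (a : G)⁻¹ *
          ((d : G)⁻¹ * k * (d : G))⁻¹) * (d : G)⁻¹ := by push_cast; group
    rw [e, Φ.conj_one_or (Φ.D_comm d.2) (Φ.mem_T h)]
    exact h⟩
  obtain ⟨r, hr, d, hd, rfl⟩ := Φ.S.split g hg
  have hdK : (⟨d, hd⟩ : D) ∈ K := by
    intro k hk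
    have h1 : d * k * d⁻¹ * k⁻¹ = kap r⁻¹ k := by
      unfold kap
      calc d * k * d⁻¹ * k⁻¹ = r⁻¹ * ((r * d) * k) * d⁻¹ * k⁻¹ := by group
        _ = r⁻¹ * (k * (r * d)) * d⁻¹ * k⁻¹ := by rw [(hc k hk).eq]
        _ = _ := by group
    show d * k * d⁻¹ * k⁻¹ ∈ zpowers t
    rw [h1]
    rcases Φ.kap_mem T (inv_mem hr) (B.P.le hk) with e | e <;> rw [e]
    exacts [one_mem _, mem_zpowers t]
  rcases hKn.eq_bot_or_eq_top with e | e
  · rw [e, mem_bot] at hdK
    have hd1 : d = 1 := congrArg Subtype.val hdK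
    subst hd1
    rw [mul_one] at hc ⊢
    exact Φ.base_cent_R T B hr hc
  · exfalso
    have hy : (⟨y, Φ.yD⟩ : D) ∈ K := e ▸ mem_top _
    have h1 := hy w B.wW
    have h2 : y ^ 1 * w * (y ^ 1)⁻¹ = y ^ 0 * w * (y ^ 0)⁻¹ ∨
        y ^ 1 * w * (y ^ 1)⁻¹ = y ^ 0 * w * (y ^ 0)⁻¹ * t := by
      simp only [pow_one, pow_zero, one_mul, inv_one, mul_one]
      rcases Φ.mem_T h1 with e | e
      · exact Or.inl (mul_inv_eq_one.mp e)
      · exact Or.inr (by
          have h3 : y * w * y⁻¹ = t * w := mul_inv_eq_iff_eq_mul.mp e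
          rw [h3, (Φ.R_comm (B.P.le B.wW)).eq])
    have := Φ.orbit_eq (B.P.le B.wW) B.wT h2
    omega

end Frame

end Cfsg.Agent.Lib.M24Nse65.LocalA81
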