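import Cfsg.Agent.Lib.M24Nse65.LocalA81Core

/-!
The two abelian subgroups of order sixteen of the normal subgroup of order 128, cut out by the two
cubic factors.
-/

set_option autoImplicit false
set_option linter.unusedSectionVars false
set_option linter.style.haveILetI false
set_option linter.unusedSimpArgs false

namespace Cfsg.Agent.Lib.M24Nse65.LocalA81

open Subgroup

universe u

variable {G : Type u} [Group G] [Finite G]

/-- Two abelian subgroups of order sixteen generating `R`, normalized by `x` and `y`. -/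
structure Pair (t x y : G) (R W W' : Subgroup G) : Prop where
  le : W ≤ R
  le' : W' ≤ R
  card : Nat.card W = 16
  card' : Nat.card W' = 16
  tW : t ∈ W
  tW' : t ∈ W'
  inter : ∀ g : G, g ∈ W → g ∈ W' → g = 1 ∨ g = t
  prod : ∀ r ∈ R, ∃ u ∈ W, ∃ v ∈ W', r = u * v
  ab : ∀ a ∈ W, ∀ b ∈ W, a * b = b * a
  ab' : ∀ a ∈ W', ∀ b ∈ W', a * b = b * a
  nx : x ∈ normalizer (W : Set G)
  nx' : x ∈ normalizer (W' : Set G)
  ny : y ∈ normalizer (W : Set G)
  ny' : y ∈ normalizer (W' : Set G)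

/-- A normalizing element from one inclusion. -/
theorem mem_normalizer_of_conj {W : Subgroup G} {g : G} (h : ∀ k ∈ W, g * k * g⁻¹ ∈ W) :
    g ∈ normalizer (W : Set G) := by
  let f : W → W := fun k => ⟨g * k * g⁻¹, h k k.2⟩
  have hf : Function.Bijective f := (Finite.injective_iff_bijective).mp fun a b e =>
    Subtype.ext (mul_left_cancel (mul_right_cancel (congrArg Subtype.val e)))
  rw [mem_normalizer_iff]
  intro k
  refine ⟨h k, fun hk => ?_⟩
  obtain ⟨a, ha⟩ := hf.2 ⟨_, hk⟩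
  have : (a : G) = k := mul_left_cancel (mul_right_cancel (congrArg Subtype.val ha))
  exact this ▸ a.2

theorem iterate_fA {M : Type*} [CommGroup M] (Y : M →* M)
    (h7 : ∀ m, Y (Y (Y (Y (Y (Y (Y m)))))) = m) (u : M) :
    (Y^[4]) (fA Y u) = u * (Y^[5]) u * (Y^[4]) u := by
  show Y (Y (Y (Y (u * Y u * Y (Y (Y u)))))) = u * Y (Y (Y (Y (Y u)))) * Y (Y (Y (Y u)))
  simp only [map_mul, h7]
  rw [mul_comm _ u, mul_assoc, mul_comm (Y (Y (Y (Y u))))]

theorem iterate_fB {M : Type*} [CommGroup M] (Y : M →* M)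
    (h7 : ∀ m, Y (Y (Y (Y (Y (Y (Y m)))))) = m) (u : M) :
    (Y^[4]) (fB Y u) = u * (Y^[6]) u * (Y^[4]) u := by
  show Y (Y (Y (Y (u * Y (Y u) * Y (Y (Y u)))))) =
    u * Y (Y (Y (Y (Y (Y u))))) * Y (Y (Y (Y u)))
  simp only [map_mul, h7]
  rw [mul_comm _ u, mul_assoc, mul_comm (Y (Y (Y (Y u))))]

namespace Frame

variable {t x y h : G} {R D : Subgroup G} (Φ : Frame t R D x y h)

include Φ

theorem mem_T {g : G} (hg : g ∈ zpowers t) : g = 1 ∨ g = t := by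
  obtain ⟨k, hk⟩ := mem_powers_iff_mem_zpowers.mpr hg
  simp only at hk
  rw [← pow_mod_orderOf, Φ.S.ht] at hk
  obtain e | e : k % 2 = 0 ∨ k % 2 = 1 := by omega
  · exact Or.inl (by rw [← hk, e, pow_zero])
  · exact Or.inr (by rw [← hk, e, pow_one])

theorem kap_right (T : Three t x) {a b c : G} (ha : a ∈ R) (hb : b ∈ R) (hc : c ∈ R) :
    kap a (b * c) = kap a b * kap a c := by
  have e : kap a (b * c) = kap a b * (b * kap a c * b⁻¹) := by unfold kap; group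
  rw [e, Φ.conj_one_or (Φ.R_comm hb) (Φ.kap_mem T ha hc)]

theorem kap_left (T : Three t x) {a b c : G} (ha : a ∈ R) (hb : b ∈ R) (hc : c ∈ R) :
    kap (a * b) c = kap b c * kap a c := by
  rw [kap_mul, Φ.conj_one_or (Φ.R_comm ha) (Φ.kap_mem T hb hc)]

theorem kap_central {a e : G} (ha : a ∈ R) (he : e = 1 ∨ e = t) :
    kap a e = 1 ∧ kap e a = 1 := by
  rcases he with rfl | rfl
  · simp [kap]
  · constructor
    · rw [kap, (Φ.R_comm ha).eq]; group
    · rw [kap, ← (Φ.R_comm ha).eq]; group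

theorem kap_conj (T : Three t x) {g a b : G} (hg : Commute g t) (ha : a ∈ R) (hb : b ∈ R) :
    kap (g * a * g⁻¹) (g * b * g⁻¹) = kap a b := by
  have e : kap (g * a * g⁻¹) (g * b * g⁻¹) = g * kap a b * g⁻¹ := by unfold kap; group
  rw [e, Φ.conj_one_or hg (Φ.kap_mem T ha hb)]

/-- Adjointness of conjugation by powers of `y`. -/
theorem kap_isotropic (T : Three t x) {u w v : G} (hu : u ∈ R) (hw : w ∈ R) (i i' j j' : ℕ)
    (hi : (i + i') % 7 = 0) (hj : (j + j') % 7 = 0)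
    (hv : ∃ e, (e = 1 ∨ e = t) ∧ v = w * (y ^ i * w * (y ^ i)⁻¹) * (y ^ j * w * (y ^ j)⁻¹) * e)
    (h0 : u * (y ^ i' * u * (y ^ i')⁻¹) * (y ^ j' * u * (y ^ j')⁻¹) ∈ zpowers t) :
    kap u v = 1 := by
  obtain ⟨e, he, rfl⟩ := hv
  have hyC : ∀ n : ℕ, y ^ n ∈ centralizer ({t} : Set G) := fun n => pow_mem (Φ.S.D_le Φ.yD) n
  have hr : ∀ (n : ℕ) {r : G}, r ∈ R → y ^ n * r * (y ^ n)⁻¹ ∈ R := fun n r h =>
    Φ.S.norm _ (hyC n) r h
  have heR : e ∈ R := by
    rcases he with rfl | rfl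
    exacts [one_mem _, Φ.S.tR]
  have hinv : ∀ {n n' : ℕ}, (n + n') % 7 = 0 →
      kap u (y ^ n * w * (y ^ n)⁻¹) = kap (y ^ n' * u * (y ^ n')⁻¹) w := by
    intro n n' hn
    rw [← Φ.kap_conj T (g := y ^ n') ((Φ.D_comm Φ.yD).pow_left n') hu (hr n hw)]
    congr 1
    have h1 : y ^ n' * y ^ n = 1 := by
      rw [← pow_add, ← Φ.y_pow_mod, show (n' + n) % 7 = 0 by omega, pow_zero]
    calc y ^ n' * (y ^ n * w * (y ^ n)⁻¹) * (y ^ n')⁻¹ = (y ^ n' * y ^ n) * w * (y ^ n' * y ^ n)⁻¹ := by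
          group
      _ = w := by rw [h1]; group
  rw [Φ.kap_right T hu (mul_mem (mul_mem hw (hr i hw)) (hr j hw)) heR,
    Φ.kap_right T hu (mul_mem hw (hr i hw)) (hr j hw), Φ.kap_right T hu hw (hr i hw),
    (Φ.kap_central hu he).1, mul_one, hinv hi, hinv hj]
  have hc := (Φ.kap_central hw (Φ.mem_T h0)).2
  rw [Φ.kap_left T (mul_mem hu (hr i' hu)) (hr j' hu) hw, Φ.kap_left T hu (hr i' hu) hw] at hc
  have hcomm : ∀ {a b : G}, (a = 1 ∨ a = t) → (b = 1 ∨ b = t) → a * b = b * a := by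
    rintro a b (rfl | rfl) (rfl | rfl) <;> simp
  rw [← hc, hcomm (Φ.kap_mem T hu hw) (Φ.kap_mem T (hr i' hu) hw),
    hcomm (Φ.one_or_mul (Φ.kap_mem T (hr i' hu) hw) (Φ.kap_mem T hu hw))
      (Φ.kap_mem T (hr j' hu) hw)]

/-- The pair exists. -/
theorem exists_pair (T : Three t x) : ∃ W W' : Subgroup G, Pair t x y R W W' := by
  classical
  haveI hTn : ((zpowers t).subgroupOf R).Normal := ⟨fun z hz g => by
    rw [mem_subgroupOf] at hz ⊢
    push_cast
    rw [Φ.conj_one_or (Φ.R_comm g.2) (Φ.mem_T hz)]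
    exact hz⟩
  have hmk : ∀ a b : R, ((a : R ⧸ (zpowers t).subgroupOf R) = b) ↔
      ∃ e, (e = 1 ∨ e = t) ∧ (b : G) = a * e := by
    intro a b
    rw [QuotientGroup.eq, mem_subgroupOf]
    constructor
    · intro h
      refine ⟨_, Φ.mem_T h, ?_⟩
      push_cast
      rw [mul_inv_cancel_left]
    · rintro ⟨e, he, h⟩
      push_cast
      rw [h, inv_mul_cancel_left]
      rcases he with rfl | rfl
      exacts [one_mem _, mem_zpowers _]
  have hsq : ∀ m : R ⧸ (zpowers t).subgroupOf R, m * m = 1 := by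
    intro m
    obtain ⟨r, rfl⟩ := QuotientGroup.mk_surjective m
    rw [← QuotientGroup.mk_mul, ← QuotientGroup.mk_one, hmk]
    refine ⟨((r : G) * r)⁻¹, ?_, by push_cast; rw [mul_inv_cancel]⟩
    rcases Φ.sq_R T r r.2 with e | e <;> rw [e]
    · exact Or.inl inv_one
    · exact Or.inr Φ.t_inv
  have hcomm : ∀ a b : R ⧸ (zpowers t).subgroupOf R, a * b = b * a := fun a b => by
    have hi : ∀ c : R ⧸ (zpowers t).subgroupOf R, c⁻¹ = c := fun c =>
      inv_eq_of_mul_eq_one_right (hsq c)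
    calc a * b = (a * b)⁻¹ := (hi _).symm
      _ = b * a := by rw [mul_inv_rev, hi, hi]
  letI : CommGroup (R ⧸ (zpowers t).subgroupOf R) :=
    { QuotientGroup.Quotient.group ((zpowers t).subgroupOf R) with mul_comm := hcomm }
  let cj : ∀ g : G, g ∈ centralizer ({t} : Set G) →
      (R ⧸ (zpowers t).subgroupOf R →* R ⧸ (zpowers t).subgroupOf R) := fun g hg =>
    QuotientGroup.map _ _
      (((MulAut.conj g).toMonoidHom.comp R.subtype).codRestrict R fun r => Φ.S.norm g hg r r.2)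
      (by
        intro r hr
        rw [mem_comap, mem_subgroupOf]
        rw [mem_subgroupOf] at hr
        show g * (r : G) * g⁻¹ ∈ zpowers t
        rw [Φ.conj_one_or (Φ.comm_t hg) (Φ.mem_T hr)]
        exact hr)
  have hyC : y ∈ centralizer ({t} : Set G) := Φ.S.D_le Φ.yD
  have hxC : x ∈ centralizer ({t} : Set G) := Φ.S.D_le Φ.xD
  set Y := cj y hyC with hY
  set X := cj x hxC with hX
  have hYn : ∀ (n : ℕ) (r : R), (Y^[n]) (r : R ⧸ (zpowers t).subgroupOf R) =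
      ((⟨y ^ n * r * (y ^ n)⁻¹, Φ.S.norm _ (pow_mem hyC n) r r.2⟩ : R) : R ⧸ _) := by
    intro n r
    induction n with
    | zero => simp
    | succ n ih =>
      rw [Function.iterate_succ_apply', ih]
      show ((_ : R) : R ⧸ (zpowers t).subgroupOf R) = _
      refine congrArg _ (Subtype.ext ?_)
      show y * (y ^ n * r * (y ^ n)⁻¹) * y⁻¹ = y ^ (n + 1) * r * (y ^ (n + 1))⁻¹
      rw [pow_succ']; group
  have h7 : ∀ m, Y (Y (Y (Y (Y (Y (Y m)))))) = m := by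
    intro m
    obtain ⟨r, rfl⟩ := QuotientGroup.mk_surjective m
    show (Y^[7]) _ = _
    rw [hYn]
    exact congrArg _ (Subtype.ext (by simp [Φ.y7]))
  have hfix : ∀ m, Y m = m → m = 1 := by
    intro m hm
    obtain ⟨r, rfl⟩ := QuotientGroup.mk_surjective m
    obtain ⟨e, he, h⟩ := (hmk _ _).mp hm.symm
    have hr : y * (r : G) * y⁻¹ = r ∨ y * (r : G) * y⁻¹ = r * t := by
      have h' : y * (r : G) * y⁻¹ = r * e := h
      rcases he with rfl | rfl
      · exact Or.inl (by rw [h', mul_one])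
      · exact Or.inr h'
    rw [← QuotientGroup.mk_one, eq_comm, hmk]
    exact ⟨r, Φ.fix_pow Φ.oy (Φ.comm_t hyC) r.2 hr, by simp⟩
  have hXY : ∀ m, X (Y m) = Y (Y (X m)) := by
    intro m
    obtain ⟨r, rfl⟩ := QuotientGroup.mk_surjective m
    refine congrArg (fun q : R => (q : R ⧸ (zpowers t).subgroupOf R)) (Subtype.ext ?_)
    show x * (y * r * y⁻¹) * x⁻¹ = y * (y * (x * r * x⁻¹) * y⁻¹) * y⁻¹
    calc x * (y * r * y⁻¹) * x⁻¹ = (x * y * x⁻¹) * (x * r * x⁻¹) * (x * y * x⁻¹)⁻¹ := by group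
      _ = _ := by rw [Φ.xy]; group
  obtain ⟨pA, pB, pAB, pdec, pisA, pisB⟩ := poly hsq Y X h7 hfix hXY
  set A : Subgroup G := ((fA Y).ker.comap (QuotientGroup.mk' ((zpowers t).subgroupOf R))).map
    R.subtype with hA
  set B : Subgroup G := ((fB Y).ker.comap (QuotientGroup.mk' ((zpowers t).subgroupOf R))).map
    R.subtype with hB
  have memA : ∀ g, g ∈ A ↔ ∃ r : R, fA Y (r : R ⧸ _) = 1 ∧ (r : G) = g := fun g =>
    ⟨fun ⟨r, hr, e⟩ => ⟨r, hr, e⟩, fun ⟨r, hr, e⟩ => ⟨r, hr, e⟩⟩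
  have memB : ∀ g, g ∈ B ↔ ∃ r : R, fB Y (r : R ⧸ _) = 1 ∧ (r : G) = g := fun g =>
    ⟨fun ⟨r, hr, e⟩ => ⟨r, hr, e⟩, fun ⟨r, hr, e⟩ => ⟨r, hr, e⟩⟩
  have htq : ((⟨t, Φ.S.tR⟩ : R) : R ⧸ (zpowers t).subgroupOf R) = 1 :=
    (QuotientGroup.eq_one_iff _).mpr (mem_subgroupOf.mpr (mem_zpowers t))
  have hone : ∀ r : R, ((r : R ⧸ (zpowers t).subgroupOf R) = 1) → (r : G) = 1 ∨ (r : G) = t :=
    fun r hr => Φ.mem_T (mem_subgroupOf.mp ((QuotientGroup.eq_one_iff r).mp hr))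
  -- isotropy
  have abA : ∀ a ∈ A, ∀ b ∈ A, a * b = b * a := by
    intro a ha b hb
    obtain ⟨u, hu, rfl⟩ := (memA a).mp ha
    obtain ⟨v, hv, rfl⟩ := (memA b).mp hb
    obtain ⟨hw, hvw⟩ := pisA _ hv
    obtain ⟨w, hwe⟩ := QuotientGroup.mk_surjective ((v : R ⧸ _) * Y v)
    rw [← hwe] at hvw
    have h4 : (Y^[4]) (fA Y (u : R ⧸ (zpowers t).subgroupOf R)) = 1 := by
      rw [hu]; simp
    have hu' : (u : R ⧸ (zpowers t).subgroupOf R) * (Y^[5]) u * (Y^[4]) u = 1 := by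
      rw [← iterate_fA Y h7, h4]
    rw [hYn, hYn, ← QuotientGroup.mk_mul, ← QuotientGroup.mk_mul] at hu'
    have hv' : (v : R ⧸ (zpowers t).subgroupOf R) = w * (Y^[2]) w * (Y^[3]) w := hvw
    rw [hYn, hYn, ← QuotientGroup.mk_mul, ← QuotientGroup.mk_mul, eq_comm] at hv'
    obtain ⟨e, he, hve⟩ := (hmk _ _).mp hv'
    have hk := Φ.kap_isotropic T (u := (u : G)) (w := (w : G)) (v := (v : G)) u.2 w.2 2 5 3 4
      (by norm_num) (by norm_num) ⟨e, he, hve⟩
      (mem_subgroupOf.mp ((QuotientGroup.eq_one_iff _).mp hu'))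
    unfold kap at hk
    rw [mul_inv_eq_one, mul_inv_eq_iff_eq_mul] at hk
    exact hk
  have abB : ∀ a ∈ B, ∀ b ∈ B, a * b = b * a := by
    intro a ha b hb
    obtain ⟨u, hu, rfl⟩ := (memB a).mp ha
    obtain ⟨v, hv, rfl⟩ := (memB b).mp hb
    obtain ⟨hw, hvw⟩ := pisB _ hv
    obtain ⟨w, hwe⟩ := QuotientGroup.mk_surjective (Y (v : R ⧸ (zpowers t).subgroupOf R))
    rw [← hwe] at hvw
    have h4 : (Y^[4]) (fB Y (u : R ⧸ (zpowers t).subgroupOf R)) = 1 := by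
      rw [hu]; simp
    have hu' : (u : R ⧸ (zpowers t).subgroupOf R) * (Y^[6]) u * (Y^[4]) u = 1 := by
      rw [← iterate_fB Y h7, h4]
    rw [hYn, hYn, ← QuotientGroup.mk_mul, ← QuotientGroup.mk_mul] at hu'
    have hv' : (v : R ⧸ (zpowers t).subgroupOf R) = w * (Y^[1]) w * (Y^[3]) w := hvw
    rw [hYn, hYn, ← QuotientGroup.mk_mul, ← QuotientGroup.mk_mul, eq_comm] at hv'
    obtain ⟨e, he, hve⟩ := (hmk _ _).mp hv'
    have hk := Φ.kap_isotropic T (u := (u : G)) (w := (w : G)) (v := (v : G)) u.2 w.2 1 6 3 4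
      (by norm_num) (by norm_num) ⟨e, he, hve⟩
      (mem_subgroupOf.mp ((QuotientGroup.eq_one_iff _).mp hu'))
    unfold kap at hk
    rw [mul_inv_eq_one, mul_inv_eq_iff_eq_mul] at hk
    exact hk
  have hprod : ∀ r ∈ R, ∃ u ∈ A, ∃ v ∈ B, r = u * v := by
    intro r hr
    obtain ⟨mu, mv, h1, h2, h3⟩ := pdec ((⟨r, hr⟩ : R) : R ⧸ _)
    obtain ⟨u, rfl⟩ := QuotientGroup.mk_surjective mu
    obtain ⟨v, rfl⟩ := QuotientGroup.mk_surjective mv
    rw [← QuotientGroup.mk_mul, eq_comm] at h3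
    obtain ⟨e, he, h⟩ := (hmk _ _).mp h3
    have heR : e ∈ R := by
      rcases he with rfl | rfl
      exacts [one_mem _, Φ.S.tR]
    refine ⟨u, (memA _).mpr ⟨u, h1, rfl⟩, (v : G) * e, (memB _).mpr ⟨v * ⟨e, heR⟩, ?_, rfl⟩, ?_⟩
    · have : ((⟨e, heR⟩ : R) : R ⧸ (zpowers t).subgroupOf R) = 1 :=
        (QuotientGroup.eq_one_iff _).mpr (mem_subgroupOf.mpr (by
          rcases he with rfl | rfl
          exacts [one_mem _, mem_zpowers _]))
      rw [QuotientGroup.mk_mul, this, mul_one, h2]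
    · rw [← mul_assoc]; exact h
  have hinter : ∀ g, g ∈ A → g ∈ B → g = 1 ∨ g = t := by
    intro g ha hb
    obtain ⟨u, hu, rfl⟩ := (memA g).mp ha
    obtain ⟨v, hv, hvu⟩ := (memB _).mp hb
    rw [Subtype.ext hvu] at hv
    exact hone u (pAB _ hu hv)
  have hAR : A ≤ R := map_subtype_le _
  have hBR : B ≤ R := map_subtype_le _
  have htA : t ∈ A := (memA t).mpr ⟨⟨t, Φ.S.tR⟩, by rw [htq, map_one], rfl⟩
  have htB : t ∈ B := (memB t).mpr ⟨⟨t, Φ.S.tR⟩, by rw [htq, map_one], rfl⟩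
  have nyA : y ∈ normalizer (A : Set G) := mem_normalizer_of_conj fun k hk => by
    obtain ⟨u, hu, rfl⟩ := (memA k).mp hk
    exact (memA _).mpr ⟨⟨_, Φ.S.norm y hyC u u.2⟩, (pA _ hu).1, rfl⟩
  have nyB : y ∈ normalizer (B : Set G) := mem_normalizer_of_conj fun k hk => by
    obtain ⟨u, hu, rfl⟩ := (memB k).mp hk
    exact (memB _).mpr ⟨⟨_, Φ.S.norm y hyC u u.2⟩, (pB _ hu).1, rfl⟩
  have nxA : x ∈ normalizer (A : Set G) := mem_normalizer_of_conj fun k hk => by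
    obtain ⟨u, hu, rfl⟩ := (memA k).mp hk
    exact (memA _).mpr ⟨⟨_, Φ.S.norm x hxC u u.2⟩, (pA _ hu).2, rfl⟩
  have nxB : x ∈ normalizer (B : Set G) := mem_normalizer_of_conj fun k hk => by
    obtain ⟨u, hu, rfl⟩ := (memB k).mp hk
    exact (memB _).mpr ⟨⟨_, Φ.S.norm x hxC u u.2⟩, (pB _ hu).2, rfl⟩
  -- orders
  obtain ⟨u0, v0, hu0, hu0x, hv0, hv0x, hne0⟩ := Φ.fixed_not_comm T
  haveI : Fact (Nat.Prime 7) := ⟨by norm_num⟩
  have hord : ∀ K : Subgroup G, K ≤ R → t ∈ K → y ∈ normalizer (K : Set G) →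
      (∀ a ∈ K, ∀ b ∈ K, a * b = b * a) → Nat.card K ≤ 16 ∧ (Nat.card K = 2 ∨ Nat.card K = 16) := by
    intro K hKR htK hyK habK
    obtain ⟨e, he, hKe⟩ := (Nat.dvd_prime_pow Nat.prime_two).mp
      (show Nat.card K ∣ 2 ^ 7 by
        have := card_dvd_of_le hKR
        rw [Φ.S.cardR] at this
        simpa using this)
    have hm : Nat.card K % 7 = 2 := by
      rw [card_fix_modEq (p := 7) Φ.y7 K hyK]
      have h2 : Nat.card {r : K // Commute y (r : G)} = 2 := by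
        rw [Nat.card_eq_two_iff]
        refine ⟨⟨1, Commute.one_right _⟩, ⟨⟨t, htK⟩, Φ.D_comm Φ.yD⟩, fun h => Φ.t_ne ?_, ?_⟩
        · exact (congrArg (fun q : {r : K // Commute y (r : G)} => ((q.1 : K) : G)) h).symm
        · ext ⟨⟨r, hr⟩, hyr⟩
          simp only [Set.mem_insert_iff, Set.mem_singleton_iff, Set.mem_univ, iff_true]
          rcases Φ.S.fpf y r Φ.oy (Φ.D_comm Φ.yD) (hKR hr) hyr with rfl | rfl
          · exact Or.inl rfl
          · exact Or.inr rfl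
      rw [h2]
    have h128 : Nat.card K ≠ 128 := fun h => by
      have hK := Subgroup.eq_of_le_of_card_ge hKR (by rw [Φ.S.cardR, h])
      exact hne0 (habK u0 (hK ▸ hu0) v0 (hK ▸ hv0))
    rw [hKe] at hm h128 ⊢
    interval_cases e <;> first | (norm_num at hm; done) | (norm_num at h128; done) | norm_num
  obtain ⟨hA16, hA⟩ := hord A hAR htA nyA abA
  obtain ⟨hB16, hB⟩ := hord B hBR htB nyB abB
  have hle : 128 ≤ Nat.card A * Nat.card B := by
    rw [← Φ.S.cardR, ← Nat.card_prod]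
    refine Nat.card_le_card_of_surjective
      (fun q : A × B => (⟨(q.1 : G) * q.2, mul_mem (hAR q.1.2) (hBR q.2.2)⟩ : R)) fun r => ?_
    obtain ⟨u, hu, v, hv, e⟩ := hprod r r.2
    exact ⟨(⟨u, hu⟩, ⟨v, hv⟩), Subtype.ext e.symm⟩
  have hcards : Nat.card A = 16 ∧ Nat.card B = 16 := by
    rcases hA with e | e <;> rcases hB with e' | e' <;> rw [e, e'] at hle <;>
      omega
  exact ⟨A, B, hAR, hBR, hcards.1, hcards.2, htA, htB, hinter, hprod, abA, abB, nxA, nxB, nyA, nyB⟩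

end Frame

end Cfsg.Agent.Lib.M24Nse65.LocalA81
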