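import Cfsg.Agent.Lib.M24Nse65.InvTen
import Cfsg.Agent.Lib.M24Nse65.InvThree
import Cfsg.Agent.Lib.M24Nse65.SimpleSeven
import Cfsg.Agent.Lib.SmallGroups.Order168

/-!
The centralizer of order 21504 is a split extension of a normal subgroup of order 128 by a simple
group of order 168.
-/

set_option autoImplicit false
set_option linter.unusedSectionVars false
set_option linter.style.haveILetI false

namespace Cfsg.Agent.Lib.M24Nse65.LocalA81

open Subgroup

universe u

variable {G : Type u} [Group G] [Finite G]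

/-- `R` and `D` split the centralizer of `t`. -/
structure Setting (t : G) (R D : Subgroup G) : Prop where
  ht : orderOf t = 2
  cardC : Nat.card (centralizer ({t} : Set G)) = 21504
  R_le : R ≤ centralizer ({t} : Set G)
  D_le : D ≤ centralizer ({t} : Set G)
  tR : t ∈ R
  cardR : Nat.card R = 128
  cardD : Nat.card D = 168
  simple : IsSimpleGroup D
  norm : ∀ g ∈ centralizer ({t} : Set G), ∀ r ∈ R, g * r * g⁻¹ ∈ R
  disj : ∀ g : G, g ∈ R → g ∈ D → g = 1
  split : ∀ g ∈ centralizer ({t} : Set G), ∃ r ∈ R, ∃ d ∈ D, g = r * d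
  fpf : ∀ y r : G, orderOf y = 7 → Commute y t → r ∈ R → Commute y r → r = 1 ∨ r = t

/-- A `p`-element normalizing a finite subgroup fixes a number of its elements congruent to the
order of the subgroup modulo `p`. -/
theorem card_fix_modEq {H : Type u} [Group H] [Finite H] {p : ℕ} [Fact p.Prime] {g : H}
    (hg : g ^ p = 1) (X : Subgroup H) (hX : g ∈ normalizer (X : Set H)) :
    Nat.card X % p = Nat.card {r : X // Commute g (r : H)} % p := by
  classical
  haveI := Fintype.ofFinite X
  let f : Function.End X := fun a => ⟨g * a * g⁻¹, (mem_normalizer_iff.mp hX a).mp a.2⟩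
  have hpow : ∀ n : ℕ, ∀ a, ((f ^ n) a : H) = g ^ n * a * (g ^ n)⁻¹ := by
    intro n
    induction n with
    | zero => intro a; simp only [pow_zero, one_mul, inv_one, mul_one]; rfl
    | succ n ih =>
      intro a
      rw [pow_succ']
      change g * ((f ^ n) a : H) * g⁻¹ = _
      rw [ih, pow_succ']
      group
  have hf : f ^ p ^ 1 = 1 := by
    funext a
    apply Subtype.ext
    rw [hpow, pow_one, hg, one_mul, inv_one, mul_one]
    rfl
  have hm := Equiv.Perm.card_fixedPoints_modEq (p := p) (n := 1) hf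
  rw [← Nat.card_eq_fintype_card, ← Nat.card_eq_fintype_card] at hm
  refine Eq.trans hm (congrArg (· % p) (Nat.card_congr (Equiv.subtypeEquivRight fun a => ?_)))
  show f a = a ↔ g * (a : H) = (a : H) * g
  rw [Subtype.ext_iff]
  exact mul_inv_eq_iff_eq_mul

section Quot

variable {C : Type u} [Group C] [Finite C]

/-- The centralizer data of elements of order seven in the centralizer of the involution. -/
def SevenTwo (C : Type u) [Group C] : Prop :=
  ∀ y : C, orderOf y = 7 → Nat.card (centralizer ({y} : Set C)) = 14 ∧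
    Nat.card (normalizer (zpowers y : Set C)) = 42

theorem sevenTwo_of (F : M24Nse2.Facts G) {t : G} (ht : orderOf t = 2) :
    SevenTwo ↥(centralizer ({t} : Set G)) := by
  intro y hy
  have hy' : orderOf (y : G) = 7 := by rw [Subgroup.orderOf_coe, hy]
  have hyt : Commute (y : G) t := mem_centralizer_singleton_iff.mp y.2
  obtain ⟨h1, h2⟩ := Ten.cards_in_cent F ht hy' hyt
  have e1 : (centralizer ({y} : Set ↥(centralizer ({t} : Set G)))) =
      (centralizer ({(y : G)} : Set G) ⊓ centralizer ({t} : Set G)).subgroupOf _ := by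
    ext g
    simp [mem_subgroupOf, mem_centralizer_singleton_iff, Subtype.ext_iff]
  have e2 : zpowers y = (zpowers (y : G)).subgroupOf (centralizer ({t} : Set G)) := by
    apply Subgroup.map_injective (centralizer ({t} : Set G)).subtype_injective
    rw [MonoidHom.map_zpowers, subgroupOf_map_subtype, inf_of_le_left (zpowers_le.mpr y.2)]
    rfl
  refine ⟨?_, ?_⟩
  · rw [e1, Nat.card_congr (subgroupOfEquivOfLe inf_le_right).toEquiv, h1]
  · rw [e2, ← subgroupOf_normalizer_eq (zpowers_le.mpr y.2), ← h2]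
    rw [← inf_subgroupOf_right, Nat.card_congr (subgroupOfEquivOfLe inf_le_right).toEquiv]

theorem card_comap_mk (R : Subgroup C) [R.Normal] (K : Subgroup (C ⧸ R)) :
    Nat.card (K.comap (QuotientGroup.mk' R)) = Nat.card R * Nat.card K := by
  have h1 := (K.comap (QuotientGroup.mk' R)).card_mul_index
  rw [index_comap_of_surjective _ (QuotientGroup.mk'_surjective R)] at h1
  have h2 := K.card_mul_index
  have h3 := R.card_mul_index
  rw [index_eq_card] at h3
  have hpos : 0 < K.index := Nat.pos_of_ne_zero K.index_ne_zero_of_finite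
  refine Nat.eq_of_mul_eq_mul_right hpos ?_
  rw [h1, mul_assoc, h2, h3]

theorem fixed_card_two (hC : SevenTwo C) {t : C} (ht : orderOf t = 2) (htc : ∀ g : C, Commute g t)
    {y r : C} (hy : orderOf y = 7) (hyr : Commute y r) {k : ℕ} (hr : r ^ (2 ^ k) = 1) :
    r = 1 ∨ r = t := by
  classical
  haveI := Fintype.ofFinite C
  haveI h7 : Fact (Nat.Prime 7) := ⟨by norm_num⟩
  set A := centralizer ({y} : Set C)
  have hle : zpowers (y * t) ≤ A := zpowers_le.mpr
    (mem_centralizer_singleton_iff.mpr (((Commute.refl y).mul_left (htc y).symm)).eq)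
  have heq : zpowers (y * t) = A := eq_of_le_of_card_ge hle (by
    rw [(hC y hy).1, Nat.card_zpowers,
      (htc y).orderOf_mul_eq_mul_orderOf_of_coprime (by rw [hy, ht]; norm_num), hy, ht])
  have hrA : r ∈ zpowers (y * t) := heq ▸ mem_centralizer_singleton_iff.mpr hyr.eq.symm
  have ho : orderOf (y * t) = 14 := by
    rw [(htc y).orderOf_mul_eq_mul_orderOf_of_coprime (by rw [hy, ht]; norm_num), hy, ht]
  obtain ⟨i, hi⟩ := mem_powers_iff_mem_zpowers.mpr hrA
  simp only at hi
  rw [← pow_mod_orderOf, ho] at hi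
  have hd : orderOf r ∣ 2 ^ k := orderOf_dvd_of_pow_eq_one hr
  have h7i : 7 ∣ i % 14 := by
    have h14 : orderOf r ∣ 14 := by
      rw [← hi, ← ho]; exact orderOf_pow_dvd _
    have h2 : orderOf r ∣ 2 := by
      have := Nat.dvd_gcd hd h14
      exact (Nat.Coprime.dvd_of_dvd_mul_left (m := 7)
        (((show Nat.Coprime 2 7 by norm_num).pow_left k).coprime_dvd_left (Nat.gcd_dvd_left _ 14))
        (show Nat.gcd (2 ^ k) 14 ∣ 7 * 2 from Nat.gcd_dvd_right _ _)) |> this.trans
    have : (y * t) ^ (i % 14 * 2) = 1 := by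
      rw [pow_mul, hi, orderOf_dvd_iff_pow_eq_one.mp h2]
    have := orderOf_dvd_of_pow_eq_one this
    rw [ho] at this
    omega
  have hlt : i % 14 < 14 := Nat.mod_lt _ (by norm_num)
  obtain h | h : i % 14 = 0 ∨ i % 14 = 7 := by omega
  · left; rw [← hi, h, pow_zero]
  · right
    rw [← hi, h, (htc y).mul_pow, ← hy, pow_orderOf_eq_one, one_mul, hy,
      show (7 : ℕ) = 2 * 3 + 1 from rfl, pow_succ, pow_mul, ← ht, pow_orderOf_eq_one, one_pow,
      one_mul]

/-- The largest normal two-subgroup and the simple quotient of order 168. -/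
theorem exists_core (hC : SevenTwo C) (hcard : Nat.card C = 21504) {t : C} (ht : orderOf t = 2)
    (htc : ∀ g : C, Commute g t) (D : Subgroup C) [IsSimpleGroup D] (hD : Nat.card D = 168) :
    ∃ R : Subgroup C, R.Normal ∧ t ∈ R ∧ Nat.card R = 128 ∧ R ⊓ D = ⊥ := by
  classical
  haveI h7' : Fact (Nat.Prime 7) := ⟨by norm_num⟩
  haveI h3' : Fact (Nat.Prime 3) := ⟨Nat.prime_three⟩
  haveI := Fintype.ofFinite (Subgroup C)
  haveI hTn : (zpowers t).Normal := ⟨fun z hz g => by
    obtain ⟨k, rfl⟩ := hz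
    rw [((htc g).zpow_right k).eq, mul_inv_cancel_right]
    exact zpow_mem (mem_zpowers t) k⟩
  set sR : Finset (Subgroup C) := {K : Subgroup C | K.Normal ∧ ¬ 7 ∣ Nat.card K}
  have hne : sR.Nonempty := ⟨zpowers t, by simp [sR, hTn, Nat.card_zpowers, ht]⟩
  obtain ⟨R, hR, hmax⟩ := sR.exists_max_image (fun K => Nat.card K) hne
  simp only [sR, Finset.mem_filter, Finset.mem_univ, true_and] at hR hmax
  obtain ⟨hRn, hR7⟩ := hR
  haveI := hRn
  have hle : ∀ K : Subgroup C, K.Normal → ¬ 7 ∣ Nat.card K → K ≤ R := by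
    intro K hK hK7
    haveI := hK
    have hd : Nat.card (K ⊔ R : Subgroup C) ∣ Nat.card K * Nat.card R := by
      have e1 := Subgroup.card_mul_index (R.subgroupOf (K ⊔ R))
      rw [Nat.card_congr (Subgroup.subgroupOfEquivOfLe (le_sup_right : R ≤ K ⊔ R)).toEquiv] at e1
      change Nat.card R * R.relIndex (K ⊔ R) = _ at e1
      rw [relIndex_sup_right] at e1
      rw [← e1, mul_comm]
      exact mul_dvd_mul_right (index_dvd_card _) _
    have h7 : ¬ 7 ∣ Nat.card (K ⊔ R : Subgroup C) := fun h =>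
      ((h7'.out.dvd_mul).mp (h.trans hd)).elim hK7 hR7
    have := hmax (K ⊔ R) ⟨inferInstance, h7⟩
    exact le_sup_left.trans (Subgroup.eq_of_le_of_card_ge (le_sup_right : R ≤ K ⊔ R) this).ge
  have htR : t ∈ R := hle _ hTn (by rw [Nat.card_zpowers, ht]; norm_num) (mem_zpowers t)
  have hd : Nat.card R ∣ 2 ^ 10 * 3 := by
    have := card_subgroup_dvd_card R
    rw [hcard, show (21504 : ℕ) = 7 * (2 ^ 10 * 3) by norm_num] at this
    exact ((h7'.out.coprime_iff_not_dvd).mpr hR7).symm.dvd_of_dvd_mul_left this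
  have hidx7 : 7 ∣ R.index := by
    have := R.card_mul_index
    rw [hcard] at this
    exact ((h7'.out.dvd_mul).mp ⟨3072, by rw [this]⟩).resolve_left hR7
  have h3 : ¬ 3 ∣ Nat.card R := by
    intro h
    obtain ⟨X⟩ : Nonempty (Sylow 3 R) := inferInstance
    set X' : Subgroup C := (X : Subgroup R).map R.subtype with hX'
    have hX3 : Nat.card X' = 3 := by
      rw [hX', card_map_of_injective R.subtype_injective]
      refine InvCount.sylow_prime h (fun hh => ?_) X
      have := hh.trans hd
      norm_num at this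
    have h7N : 7 ∣ Nat.card (normalizer (X' : Set C)) := by
      refine hidx7.trans ?_
      rw [← relIndex_top_right R, ← Sylow.normalizer_sup_eq_top X, relIndex_sup_right]
      exact relIndex_dvd_card _ _
    obtain ⟨z, hz⟩ := exists_prime_orderOf_dvd_card' 7 h7N
    have hz' : orderOf (z : C) = 7 := by rw [Subgroup.orderOf_coe, hz]
    have hm := card_fix_modEq (p := 7) (g := (z : C))
      (by rw [← hz']; exact pow_orderOf_eq_one _) X' z.2
    rw [hX3] at hm
    have hfixle := Nat.card_le_card_of_injective (fun r : {r : X' // Commute (z : C) (r : C)} => r.1)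
      Subtype.val_injective
    rw [hX3] at hfixle
    have hall : ∀ r : X', Commute (z : C) (r : C) := by
      have he : Nat.card {r : X' // Commute (z : C) (r : C)} = Nat.card X' := by rw [hX3]; omega
      intro r
      obtain ⟨⟨r', hr'⟩, e⟩ := ((Nat.bijective_iff_injective_and_card _).mpr
        ⟨Subtype.val_injective, he⟩).2 r
      rw [← show r' = r from e]; exact hr'
    obtain ⟨w, hw⟩ := exists_prime_orderOf_dvd_card' (G := X') 3 (by rw [hX3])
    have hwd := Subgroup.orderOf_dvd_natCard (centralizer ({(z : C)} : Set C))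
      (mem_centralizer_singleton_iff.mpr (hall w).eq.symm)
    rw [(hC _ hz').1, Subgroup.orderOf_coe, hw] at hwd
    norm_num at hwd
  have hd2 : Nat.card R ∣ 2 ^ 10 :=
    ((Nat.prime_three.coprime_iff_not_dvd).mpr h3).symm.dvd_of_dvd_mul_right hd
  obtain ⟨e, he, hRe⟩ := (Nat.dvd_prime_pow Nat.prime_two).mp hd2
  -- fixed points of an element of order seven
  obtain ⟨y, hy⟩ := exists_prime_orderOf_dvd_card' (G := C) 7 (by rw [hcard]; norm_num)
  have hm := card_fix_modEq (p := 7) (g := y) (by rw [← hy]; exact pow_orderOf_eq_one _) R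
    (by rw [normalizer_eq_top_iff.mpr hRn]; trivial)
  have hpow2 : ∀ r ∈ R, r ^ (2 ^ e) = 1 := fun r hr =>
    orderOf_dvd_iff_pow_eq_one.mp (hRe ▸ Subgroup.orderOf_dvd_natCard R hr)
  have hfix : Nat.card {r : R // Commute y (r : C)} = 2 := by
    have ht1 : (1 : C) ≠ t := fun h => by rw [← h, orderOf_one] at ht; norm_num at ht
    rw [Nat.card_eq_two_iff]
    refine ⟨⟨1, Commute.one_right _⟩, ⟨⟨t, htR⟩, htc y⟩, fun h => ht1 ?_, ?_⟩
    · exact congrArg (fun q : {r : R // Commute y (r : C)} => ((q.1 : R) : C)) h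
    · ext ⟨⟨r, hr⟩, hyr⟩
      simp only [Set.mem_insert_iff, Set.mem_singleton_iff, Set.mem_univ, iff_true]
      rcases fixed_card_two hC ht htc hy hyr (hpow2 r hr) with rfl | rfl
      · exact Or.inl rfl
      · exact Or.inr rfl
  rw [hfix, hRe] at hm
  -- the simple subgroup meets `R` trivially
  have hRD : R ⊓ D = ⊥ := by
    have hn : (R.subgroupOf D).Normal := inferInstance
    rcases IsSimpleGroup.eq_bot_or_eq_top_of_normal _ hn with hb | htop
    · rw [subgroupOf_eq_bot] at hb
      exact hb.eq_bot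
    · exfalso
      rw [subgroupOf_eq_top] at htop
      have := card_dvd_of_le htop
      rw [hD, hRe] at this
      exact hR7 (hRe ▸ (show (7 : ℕ) ∣ 168 by norm_num).trans this)
  have hprod : Nat.card R * 168 ≤ 21504 := by
    rw [← hD, ← hcard, ← Nat.card_prod]
    refine Nat.card_le_card_of_injective (fun p : R × D => (p.1 : C) * p.2) fun p q h => ?_
    have hmem : (q.1 : C)⁻¹ * p.1 ∈ R ⊓ D := by
      refine ⟨R.mul_mem (R.inv_mem q.1.2) p.1.2, ?_⟩
      have : (q.1 : C)⁻¹ * p.1 = q.2 * (p.2 : C)⁻¹ := by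
        rw [inv_mul_eq_iff_eq_mul, ← mul_assoc, eq_mul_inv_iff_mul_eq]
        exact h
      rw [this]
      exact D.mul_mem q.2.2 (D.inv_mem p.2.2)
    rw [hRD, mem_bot, inv_mul_eq_one] at hmem
    have h1 : p.1 = q.1 := Subtype.ext hmem.symm
    have h' : (p.1 : C) * p.2 = (q.1 : C) * q.2 := h
    rw [h1] at h'
    exact Prod.ext h1 (Subtype.ext (mul_left_cancel h'))
  have he7 : e ≤ 7 := by
    by_contra hh
    rw [hRe] at hprod
    have : 2 ^ 8 ≤ 2 ^ e := Nat.pow_le_pow_right (by norm_num) (by omega)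
    omega
  refine ⟨R, hRn, htR, ?_, hRD⟩
  -- otherwise the quotient is a simple group of order 1344 or 10752
  by_contra h128
  have hco : ∀ z : C, orderOf z = 7 → centralizer ({z} : Set C) ⊓ R = zpowers t ∧
      normalizer (zpowers z : Set C) ⊓ R = zpowers t := by
    intro z hz
    have h1 : ∀ r ∈ R, Commute z r → r ∈ zpowers t := fun r hr hzr => by
      rcases fixed_card_two hC ht htc hz hzr (hpow2 r hr) with rfl | rfl
      · exact one_mem _
      · exact mem_zpowers _
    refine ⟨le_antisymm (fun r hr => h1 r hr.2 (mem_centralizer_singleton_iff.mp hr.1).symm)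
      (le_inf (zpowers_le.mpr (mem_centralizer_singleton_iff.mpr (htc z).eq.symm))
        (zpowers_le.mpr htR)), le_antisymm (fun r hr => h1 r hr.2 ?_)
      (le_inf (zpowers_le.mpr ?_) (zpowers_le.mpr htR))⟩
    · have hk : r * z * r⁻¹ * z⁻¹ ∈ zpowers z ⊓ R :=
        ⟨(zpowers z).mul_mem ((mem_normalizer_iff.mp hr.1 z).mp (mem_zpowers z))
            ((zpowers z).inv_mem (mem_zpowers z)), by
          rw [show r * z * r⁻¹ * z⁻¹ = r * (z * r⁻¹ * z⁻¹) by group]
          exact R.mul_mem hr.2 (hRn.conj_mem _ (R.inv_mem hr.2) z)⟩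
      have hb : zpowers z ⊓ R = ⊥ := (Subgroup.disjoint_of_coprime_natCard (by
        rw [Nat.card_zpowers, hz]
        exact (Nat.Prime.coprime_iff_not_dvd (by norm_num)).mpr hR7)).eq_bot
      rw [hb, mem_bot, mul_inv_eq_one, mul_inv_eq_iff_eq_mul] at hk
      exact hk.symm
    · exact centralizer_le_normalizer _ (by
        rw [zpowers_eq_closure, centralizer_closure]
        exact mem_centralizer_singleton_iff.mpr (htc z).eq.symm)
  have hs : Ten.SevenFree (C ⧸ R) := by
    intro q hq
    obtain ⟨z, hz, hzq⟩ := Ten.exists_lift_seven R hR7 hq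
    set f := QuotientGroup.mk' R
    have hmap : (zpowers z).map f = zpowers q := by rw [MonoidHom.map_zpowers, ← hzq]; rfl
    have hquot : ∀ A : Subgroup C, A ⊓ R = zpowers t → Nat.card A = 2 * Nat.card (A.map f) := by
      intro A hA
      have h1 := (R.subgroupOf A).card_mul_index
      rw [← Nat.card_congr ((R.subgroupOf A).equivMapOfInjective _ A.subtype_injective).toEquiv.symm,
        subgroupOf_map_subtype, inf_comm, hA, Nat.card_zpowers, ht] at h1
      have h2 : (R.subgroupOf A).index = Nat.card (A.map f) := by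
        rw [show R.subgroupOf A = (f.comp A.subtype).ker by
          rw [← MonoidHom.comap_ker, QuotientGroup.ker_mk']; rfl, index_ker, MonoidHom.range_comp,
          Subgroup.range_subtype]
      rw [← h1, h2]
    refine ⟨?_, ?_⟩
    · have hco' : (Nat.card (zpowers z)).Coprime (Nat.card (f.ker ⊓ ⊤ : Subgroup C)) := by
        rw [inf_top_eq, QuotientGroup.ker_mk', Nat.card_zpowers, hz]
        exact (Nat.Prime.coprime_iff_not_dvd (by norm_num)).mpr hR7
      have e' := Coprime.map_inf_centralizer (A := zpowers z) (K := (⊤ : Subgroup C)) f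
        (by rw [normalizer_eq_top_iff.mpr inferInstance]; exact le_top) hco' (Or.inl inferInstance)
      rw [hmap, top_inf_eq, map_top_of_surjective f (QuotientGroup.mk'_surjective R), top_inf_eq,
        zpowers_eq_closure z, centralizer_closure, zpowers_eq_closure q, centralizer_closure] at e'
      rw [← e']
      have := hquot _ (hco z hz).1
      rw [(hC z hz).1] at this
      omega
    · obtain ⟨P⟩ : Nonempty (Sylow 7 C) := inferInstance
      have hP : Nat.card (P : Subgroup C) = 7 := InvCount.sylow_prime (by rw [hcard]; norm_num)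
        (by rw [hcard]; norm_num) P
      obtain ⟨Q, hQ, -⟩ := SmallGroups.existsUnique_sylow_of_orderOf P hP hz
      have e' := Ten.map_normalizer_sylow f (QuotientGroup.mk'_surjective R) Q
      rw [hQ, hmap] at e'
      rw [← e']
      have := hquot _ (hco z hz).2
      rw [(hC z hz).2] at this
      omega
  have hK : R.index * Nat.card R = 21504 := hcard ▸ R.index_mul_card
  rw [index_eq_card, hRe] at hK
  have hcases : Nat.card (C ⧸ R) = 10752 ∧ e = 1 ∨ Nat.card (C ⧸ R) = 1344 ∧ e = 4 := by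
    rw [hRe] at h128
    interval_cases e <;> first | (norm_num at hm; done) | (norm_num at h128; done) | (norm_num at hK ⊢; omega)
  haveI : IsSimpleGroup (C ⧸ R) := by
    refine Ten.isSimple_of_sevenFree hs ?_ ?_ ?_ fun K hK hK7 => ?_
    · rcases hcases with ⟨h, -⟩ | ⟨h, -⟩ <;> rw [h] <;> norm_num
    · rcases hcases with ⟨h, -⟩ | ⟨h, -⟩ <;> rw [h] <;> norm_num
    · rcases hcases with ⟨h, -⟩ | ⟨h, -⟩ <;> rw [h] <;> norm_num
    haveI := hK
    rw [← comap_injective (QuotientGroup.mk'_surjective R) |>.eq_iff]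
    refine le_antisymm ?_ (comap_mono bot_le)
    rw [MonoidHom.comap_bot, QuotientGroup.ker_mk']
    refine hle _ inferInstance ?_
    rw [card_comap_mk]
    exact fun h => (h7'.out.dvd_mul.mp h).elim hR7 hK7
  obtain ⟨q, hq⟩ := exists_prime_orderOf_dvd_card' (G := C ⧸ R) 7
    (by rcases hcases with ⟨h, -⟩ | ⟨h, -⟩ <;> rw [h] <;> norm_num)
  rcases hcases with ⟨h, -⟩ | ⟨h, -⟩
  · exact false_of_seven (L := C ⧸ R) 9 1 (by rw [h]; norm_num) (by simp) q hq (hs q hq).1
      (hs q hq).2 (fun hh => absurd hh (by norm_num))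
  · exact false_of_seven (L := C ⧸ R) 6 1 (by rw [h]; norm_num) (by simp) q hq (hs q hq).1
      (hs q hq).2 (fun hh => absurd hh (by norm_num))

end Quot

/-- The setting exists. -/
theorem exists_setting (F : M24Nse2.Facts G) {s t : G} (h : InvCount.Classes s t)
    (hC : Nat.card (centralizer ({t} : Set G)) = 21504)
    (hall : ∀ u : G, orderOf u = 2 → IsConj s u ∨ IsConj t u) :
    ∃ R D : Subgroup G, Setting t R D := by
  obtain ⟨D, hDle, hD, hsim⟩ := InvThree.exists_simple_le F h hC hall
  set C := centralizer ({t} : Set G) with hCdef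
  set t' : C := ⟨t, mem_centralizer_singleton_iff.mpr rfl⟩
  have ht' : orderOf t' = 2 := by rw [Subgroup.orderOf_mk]; exact h.order_t
  have htc : ∀ g : C, Commute g t' := fun g =>
    Subtype.ext (mem_centralizer_singleton_iff.mp g.2)
  haveI := hsim
  haveI : IsSimpleGroup (D.subgroupOf C) := (subgroupOfEquivOfLe hDle).isSimpleGroup
  obtain ⟨R, hRn, htR, hR, hRD⟩ := exists_core (sevenTwo_of F h.order_t) hC ht' htc (D.subgroupOf C)
    (by rw [Nat.card_congr (subgroupOfEquivOfLe hDle).toEquiv, hD])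
  refine ⟨R.map C.subtype, D, h.order_t, hC, map_subtype_le R, hDle, ⟨t', htR, rfl⟩,
    by rw [card_map_of_injective C.subtype_injective, hR], hD, hsim, ?_, ?_, ?_, ?_⟩
  · rintro g hg _ ⟨r, hr, rfl⟩
    exact ⟨⟨g, hg⟩ * r * ⟨g, hg⟩⁻¹, hRn.conj_mem _ hr _, rfl⟩
  · rintro _ ⟨r, hr, rfl⟩ hgD
    have : r ∈ R ⊓ D.subgroupOf C := ⟨hr, hgD⟩
    rw [hRD, mem_bot] at this
    rw [this]; rfl
  · intro g hg
    haveI := hRn
    have hcomp : IsComplement' R (D.subgroupOf C) := by
      refine isComplement'_of_card_mul_and_disjoint ?_ (disjoint_iff.mpr hRD)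
      rw [hR, Nat.card_congr (subgroupOfEquivOfLe hDle).toEquiv, hD, hC]
    obtain ⟨⟨⟨r, hr⟩, ⟨d, hd⟩⟩, e⟩ := hcomp.2 ⟨g, hg⟩
    exact ⟨(r : G), ⟨r, hr, rfl⟩, (d : G), hd, (congrArg Subtype.val e).symm⟩
  · rintro y _ hy hyt ⟨r, hr, rfl⟩ hyr
    have hyC : y ∈ C := mem_centralizer_singleton_iff.mpr hyt
    have h7 : orderOf (⟨y, hyC⟩ : C) = 7 := by rw [Subgroup.orderOf_mk]; exact hy
    have hr2 : r ^ (2 ^ 7) = 1 := orderOf_dvd_iff_pow_eq_one.mp
      ((show (2 : ℕ) ^ 7 = Nat.card R by rw [hR]; norm_num) ▸ Subgroup.orderOf_dvd_natCard R hr)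
    rcases fixed_card_two (sevenTwo_of F h.order_t) ht' htc h7 (Subtype.ext hyr.eq) hr2 with e | e
    · exact Or.inl (congrArg Subtype.val e)
    · exact Or.inr (congrArg Subtype.val e)

end Cfsg.Agent.Lib.M24Nse65.LocalA81
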