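import Cfsg.Agent.Lib.M24Nse65.InvThree
import Cfsg.Agent.Lib.SmallGroups.Conj

/-!
The two classes of elements of order three: the one commuting with an involution of the 21504 class has
centralizer of order 1080, and its Sylow three-subgroups are extraspecial.
-/

set_option autoImplicit false
set_option linter.unusedSectionVars false

namespace Cfsg.Agent.Lib.M24Nse65.LocalA81Types

open Subgroup
open Cfsg.Agent.Lib.SmallGroups
open InvThree (Rel)

universe u

variable {G : Type u} [Group G] [Finite G] {s t : G}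

/-- The common hypotheses. -/
structure Hyp (s t : G) : Prop where
  facts : M24Nse2.Facts G
  cls : InvCount.Classes s t
  card_t : Nat.card (centralizer ({t} : Set G)) = 21504
  all : ∀ u : G, orderOf u = 2 → IsConj s u ∨ IsConj t u

theorem conj_commute {g a b : G} (h : Commute a b) : Commute (g * a * g⁻¹) (g * b * g⁻¹) :=
  (h.map (MulAut.conj g).toMonoidHom :)

theorem order_conj (g a : G) : orderOf (g * a * g⁻¹) = orderOf a := by
  rw [← MulAut.conj_apply, MulEquiv.orderOf_eq]

theorem rel_inv {a c : G} (h : Rel a c) : Rel a c⁻¹ := by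
  rcases h with h | h
  · exact Or.inr (InvThree.isConj_inv h)
  · exact Or.inl (by simpa using InvThree.isConj_inv h)

theorem rel_conj (g a : G) : Rel a (g * a * g⁻¹) := Or.inl (isConj_iff.2 ⟨g, rfl⟩)

theorem card_cent_of_rel {a c : G} (h : Rel a c) :
    Nat.card (centralizer ({a} : Set G)) = Nat.card (centralizer ({c} : Set G)) := by
  have key : ∀ {e f : G}, IsConj e f →
      Nat.card (centralizer ({e} : Set G)) = Nat.card (centralizer ({f} : Set G)) := by
    intro e f hef
    have h1 := card_isConj_mul_card_centralizer e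
    have h2 := card_isConj_mul_card_centralizer f
    have he : Nat.card {z : G // IsConj f z} = Nat.card {z : G // IsConj e z} :=
      Nat.card_congr (Equiv.subtypeEquivRight fun z => ⟨hef.trans, hef.symm.trans⟩)
    rw [he, ← h1] at h2
    refine (Nat.eq_of_mul_eq_mul_left (Nat.pos_of_ne_zero fun e0 => ?_) h2).symm
    rw [e0, zero_mul] at h1
    exact Nat.card_pos.ne' h1.symm
  rcases h with h | h
  · exact key h
  · rw [← key h]
    congr 2
    ext x
    simp only [mem_centralizer_singleton_iff]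
    exact ⟨fun e => (show Commute x a from e).inv_right.eq,
      fun e => by simpa using (show Commute x a⁻¹ from e).inv_right.eq⟩

theorem card_cent_conj_two (H : Hyp (G := G) s t) {u : G} (hu : orderOf u = 2) :
    ¬ 3 ^ 2 ∣ Nat.card (centralizer ({u} : Set G)) := by
  rcases H.all u hu with h | h
  · rw [← card_cent_of_rel (Or.inl h), H.cls.card_s]; norm_num
  · rw [← card_cent_of_rel (Or.inl h), H.card_t]; norm_num

/-- A class of involutions determines the elements of order three commuting with it. -/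
theorem rel_of_twos (H : Hyp (G := G) s t) {u v a c : G} (hv : orderOf v = 2)
    (huv : IsConj u v) (ha : orderOf a = 3) (hau : Commute a u) (hc : orderOf c = 3)
    (hcv : Commute c v) : Rel a c := by
  obtain ⟨g, rfl⟩ := isConj_iff.1 huv
  refine InvThree.Rel.trans (rel_conj g a) (InvThree.rel_three (card_cent_conj_two H hv) ?_ hc
    (mem_centralizer_singleton_iff.2 (conj_commute hau).eq)
    (mem_centralizer_singleton_iff.2 hcv.eq))
  rw [order_conj, ha]

/-- An element of order three with conjugate commuting elements in a subgroup of order 27. -/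
theorem exists_translate {P : Subgroup G} (hP : Nat.card P = 27) {z c e : G} (hz : orderOf z = 3)
    (hzP : z ∈ P) (hzc : ∀ a ∈ P, Commute z a) (hcP : c ∈ P) (heP : e ∈ P) (hne : ¬ Commute e c) :
    ∀ k : ℤ, IsConj c (c * z ^ k) := by
  haveI : Fact (Nat.Prime 3) := ⟨Nat.prime_three⟩
  let zP : P := ⟨z, hzP⟩
  have hcz : zP ∈ center P := Subgroup.mem_center_iff.2 fun a => Subtype.ext (hzc a.1 a.2).eq.symm
  haveI : (zpowers zP).Normal := ⟨fun n hn g => by
    have hn' : n ∈ center P := (zpowers_le.2 hcz) hn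
    rw [Subgroup.mem_center_iff.1 hn' g, mul_inv_cancel_right]
    exact hn⟩
  have hq : Nat.card (P ⧸ zpowers zP) = 3 ^ 2 := by
    have h := Subgroup.card_eq_card_quotient_mul_card_subgroup (zpowers zP)
    rw [hP, Nat.card_zpowers, Subgroup.orderOf_mk, hz] at h
    omega
  have hcomm := IsPGroup.commutative_of_card_eq_prime_sq hq
  have hm : c⁻¹ * e * c * e⁻¹ ∈ zpowers z := by
    have h1 : ((⟨c, hcP⟩⁻¹ * ⟨e, heP⟩ * ⟨c, hcP⟩ * ⟨e, heP⟩⁻¹ : P) : P ⧸ zpowers zP) = 1 := by
      simp only [QuotientGroup.mk_mul, QuotientGroup.mk_inv]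
      rw [hcomm ((⟨c, hcP⟩ : P) : P ⧸ zpowers zP)⁻¹]
      group
    obtain ⟨k, hk⟩ := (QuotientGroup.eq_one_iff _).1 h1
    exact ⟨k, by simpa [zP] using congrArg (Subtype.val : P → G) hk⟩
  have hne1 : c⁻¹ * e * c * e⁻¹ ≠ 1 := fun h1 => hne (by
    show e * c = c * e
    calc e * c = c * (c⁻¹ * e * c * e⁻¹) * e := by group
      _ = c * e := by rw [h1, mul_one])
  intro k
  have hk : z ^ k ∈ zpowers (c⁻¹ * e * c * e⁻¹) := by
    rw [SmallGroups.zpowers_eq_of_prime (by rw [Nat.card_zpowers, hz]) hm hne1]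
    exact zpow_mem (mem_zpowers z) k
  obtain ⟨m, hm'⟩ := hk
  -- powers of `e` multiply `c` by powers of the commutator
  have hconj : ∀ n : ℕ, e ^ n * c * (e ^ n)⁻¹ = c * (c⁻¹ * e * c * e⁻¹) ^ n := by
    intro n
    induction n with
    | zero => simp
    | succ n ih =>
      have hce : Commute e ((c⁻¹ * e * c * e⁻¹) ^ n) := by
        obtain ⟨r, hr⟩ := hm
        refine Commute.pow_right ?_ n
        rw [← hr]
        exact ((hzc e heP).symm).zpow_right r
      calc e ^ (n + 1) * c * (e ^ (n + 1))⁻¹ = e * (e ^ n * c * (e ^ n)⁻¹) * e⁻¹ := by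
            rw [pow_succ']; group
        _ = e * c * ((c⁻¹ * e * c * e⁻¹) ^ n * e⁻¹) := by rw [ih]; group
        _ = e * c * (e⁻¹ * (c⁻¹ * e * c * e⁻¹) ^ n) := by rw [hce.inv_left.eq]
        _ = c * (c⁻¹ * e * c * e⁻¹) ^ (n + 1) := by
            rw [pow_succ']
            exact (show ∀ X : G, e * c * (e⁻¹ * X) = c * (c⁻¹ * e * c * e⁻¹ * X) from
              fun X => by group) _
  obtain ⟨n, hn⟩ := (mem_powers_iff_mem_zpowers).2 ⟨m, hm'⟩
  exact isConj_iff.2 ⟨e ^ n, by rw [hconj n]; exact congrArg (c * ·) hn⟩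

theorem exists_seven_data (H : Hyp (G := G) s t) :
    ∃ y c x' : G, orderOf y = 7 ∧ orderOf c = 3 ∧ orderOf x' = 3 ∧ Commute y c ∧ Commute y t ∧
      t * c * t⁻¹ = c⁻¹ ∧ Commute x' t ∧ Commute x' c ∧ x' ∉ zpowers c := by
  classical
  haveI := Fintype.ofFinite G
  obtain ⟨y, hy, hty⟩ := H.cls.seven
  have hty' : Commute y t := hty.symm
  obtain ⟨t0, c, ht0, hc, hyt0, hyc, hinv0, hall⟩ := seven_struct H.facts hy
  obtain ⟨i, hi⟩ := hall t H.cls.order_t hty'
  have hinv : t * c * t⁻¹ = c⁻¹ := by
    rw [hi]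
    calc c ^ i * t0 * (c ^ i)⁻¹ * c * (c ^ i * t0 * (c ^ i)⁻¹)⁻¹
        = c ^ i * (t0 * c * t0⁻¹) * (c ^ i)⁻¹ := by group
      _ = c⁻¹ := by rw [hinv0]; group
  have hnc : ¬ Commute t c := not_commute_two_three H.facts (Or.inr rfl) hy H.cls.order_t hc hty' hyc
  set N := normalizer (zpowers y : Set G) with hN
  have hyN : ∀ n ∈ N, ∀ u : G, Commute y u → Commute y (n * u * n⁻¹) := by
    intro n hn u hyu
    have hmem : n⁻¹ * y * n ∈ zpowers y := (mem_normalizer_iff''.1 hn y).1 (mem_zpowers y)
    obtain ⟨k, hk⟩ := hmem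
    simp only at hk
    have := conj_commute (g := n) (hyu.zpow_left k)
    rw [show n * y ^ k * n⁻¹ = y by rw [hk]; group] at this
    exact this
  set M := (centralizer ({t} : Set G)).subgroupOf N with hM
  have hidx : M.index ≤ 3 := by
    rw [← InvCount.card_twos (InvCount.good_seven H.facts) hy]
    refine Nat.card_le_card_of_injective (fun q : N ⧸ M => Quotient.liftOn q
      (fun n => (⟨(n : G) * t * (n : G)⁻¹, by rw [order_conj]; exact H.cls.order_t,
        (hyN n n.2 t hty').eq.symm⟩ : {u : G // orderOf u = 2 ∧ u * y = y * u}))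
      (fun a b hab => Subtype.ext ?_)) ?_
    · have hab' := mem_centralizer_singleton_iff.1 (mem_subgroupOf.1
        (QuotientGroup.leftRel_apply.1 hab))
      rw [Subgroup.coe_mul, Subgroup.coe_inv] at hab'
      show (a : G) * t * (a : G)⁻¹ = (b : G) * t * (b : G)⁻¹
      calc (a : G) * t * (a : G)⁻¹
          = (a : G) * (t * ((a : G)⁻¹ * b)) * (b : G)⁻¹ := by group
        _ = (a : G) * ((a : G)⁻¹ * b * t) * (b : G)⁻¹ := by rw [hab']
        _ = _ := by group
    · intro q q' e
      induction q using QuotientGroup.induction_on with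
      | H a =>
        induction q' using QuotientGroup.induction_on with
        | H b =>
          have e' : (a : G) * t * (a : G)⁻¹ = (b : G) * t * (b : G)⁻¹ := congrArg Subtype.val e
          refine QuotientGroup.eq.2 (mem_subgroupOf.2 (mem_centralizer_singleton_iff.2 ?_))
          rw [Subgroup.coe_mul, Subgroup.coe_inv]
          calc (a : G)⁻¹ * b * t = (a : G)⁻¹ * ((b : G) * t * (b : G)⁻¹) * b := by group
            _ = (a : G)⁻¹ * ((a : G) * t * (a : G)⁻¹) * b := by rw [e']
            _ = _ := by group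
  have h3 : 3 ∣ Nat.card M := by
    have h := Subgroup.card_mul_index M
    have hc126 : Nat.card N = 126 := (cent_seven H.facts hy).2
    rw [hc126] at h
    have h0 := Subgroup.index_ne_zero_of_finite (H := M)
    revert h h0 hidx
    generalize M.index = k
    intro hk hle h0
    interval_cases k <;> omega
  haveI : Fact (Nat.Prime 3) := ⟨Nat.prime_three⟩
  obtain ⟨m, hm⟩ := exists_prime_orderOf_dvd_card' 3 h3
  set x' : G := ((m : N) : G) with hx'
  have hx'3 : orderOf x' = 3 := by rw [hx', Subgroup.orderOf_coe, Subgroup.orderOf_coe, hm]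
  have hx't : Commute x' t := mem_centralizer_singleton_iff.1 (mem_subgroupOf.1 m.2)
  have hthree : ∀ e : G, orderOf e = 3 → Commute y e → e = c ∨ e = c⁻¹ := by
    intro e he hye
    have h2 := (SevenFive.cnt_cent H.facts (Or.inr rfl) hy).2
    rw [if_neg (by norm_num)] at h2
    set C := centralizer ({y} : Set G)
    let cC : C := ⟨c, mem_centralizer_singleton_iff.2 hyc.eq.symm⟩
    have hcC : orderOf cC = 3 := by rw [Subgroup.orderOf_mk, hc]
    have hne : cC ≠ cC⁻¹ := fun e0 => by
      have := orderOf_dvd_of_pow_eq_one (show cC ^ 2 = 1 by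
        rw [pow_two]; nth_rewrite 2 [e0]; exact mul_inv_cancel cC)
      rw [hcC] at this; norm_num at this
    have hsub : ({cC, cC⁻¹} : Finset C) = ({g : C | orderOf g = 3} : Finset C) := by
      refine Finset.eq_of_subset_of_card_le (fun g hg => ?_) ?_
      · simp only [Finset.mem_insert, Finset.mem_singleton] at hg
        rcases hg with rfl | rfl <;> simp [hcC]
      · rw [← M22Nse57.Hist.cnt_eq_card, h2, Finset.card_pair hne]
    have hmem : (⟨e, mem_centralizer_singleton_iff.2 hye.eq.symm⟩ : C) ∈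
        ({cC, cC⁻¹} : Finset C) := by
      rw [hsub]; simp [Subgroup.orderOf_mk, he]
    simp only [Finset.mem_insert, Finset.mem_singleton] at hmem
    exact hmem.imp (congrArg Subtype.val) (congrArg Subtype.val)
  have hx'c : Commute x' c := by
    rcases hthree (x' * c * x'⁻¹) (by rw [order_conj, hc]) (hyN x' (m : N).2 c hyc) with e | e
    · exact mul_inv_eq_iff_eq_mul.1 e
    · exfalso
      have e2 : x' * c⁻¹ * x'⁻¹ = c := by
        rw [show x' * c⁻¹ * x'⁻¹ = (x' * c * x'⁻¹)⁻¹ by group, e, inv_inv]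
      have hp : x' ^ 3 = 1 := hx'3 ▸ pow_orderOf_eq_one x'
      have h3' : x' ^ 3 * c * (x' ^ 3)⁻¹ = c⁻¹ := by
        calc x' ^ 3 * c * (x' ^ 3)⁻¹ = x' * (x' * (x' * c * x'⁻¹) * x'⁻¹) * x'⁻¹ := by
              rw [show x' ^ 3 = x' * x' * x' by rw [pow_succ, pow_two]]; group
          _ = c⁻¹ := by rw [e, e2, e]
      rw [hp, one_mul, inv_one, mul_one] at h3'
      have := orderOf_dvd_of_pow_eq_one (show c ^ 2 = 1 by
        rw [pow_two]; nth_rewrite 2 [h3']; exact mul_inv_cancel c)
      rw [hc] at this; norm_num at this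
  refine ⟨y, c, x', hy, hc, hx'3, hyc, hty', hinv, hx't, hx'c, fun hmem => hnc ?_⟩
  have hne1 : x' ≠ 1 := fun e => by rw [e, orderOf_one] at hx'3; norm_num at hx'3
  have hc' : c ∈ zpowers x' := by
    rw [SmallGroups.zpowers_eq_of_prime (by rw [Nat.card_zpowers, hc]) hmem hne1]
    exact mem_zpowers c
  obtain ⟨k, hk⟩ := hc'
  rw [← hk]
  exact hx't.symm.zpow_right k

/-- The element `x` lies in the class with centralizer order 1080. -/
structure Data (s t x : G) : Prop where
  hyp : Hyp s t
  order : orderOf x = 3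
  comm : Commute x t
  card : Nat.card (centralizer ({x} : Set G)) = 1080
  twos : ∀ e u : G, Rel x e → orderOf u = 2 → Commute e u → IsConj t u
  split : ∃ y b a : G, orderOf y = 7 ∧ orderOf b = 3 ∧ orderOf a = 3 ∧ Commute b y ∧ ¬ Rel a b ∧
    (∀ c : G, orderOf c = 3 → Rel a c ∨ Rel b c) ∧ Rel a x ∧
    Nat.card (centralizer ({b} : Set G)) = 504 ∧ Nat.card {c : G // Rel b c} = 485760 ∧
    InvThree.cm 7 b = 48
  nonabelian : ∀ P : Subgroup G, Nat.card P = 27 → ∃ e ∈ P, ∃ f ∈ P, ¬ Commute e f

theorem data (H : Hyp (G := G) s t) {x g : G} (hx : orderOf x = 3) (hxt : Commute x t)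
    (hg : g * x * g⁻¹ = x⁻¹) : Data s t x := by
  classical
  haveI : Fact (Nat.Prime 3) := ⟨Nat.prime_three⟩
  obtain ⟨y, c, x', hy, hc, hx', hyc, hyt, hinv, hx't, hx'c, hx'n⟩ := exists_seven_data H
  obtain ⟨hX, hB, h48, a, ha, hne, hcov⟩ :=
    InvThree.card_cent_three H.facts H.cls H.card_t H.all hc hy hyc.symm hinv
  have hxx' : Rel x x' := rel_of_twos H H.cls.order_t (IsConj.refl t) hx hxt hx' hx't
  -- a subgroup of order 27 containing both
  let W : Subgroup G := (zpowers x') ⊔ (zpowers c)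
  have hinW : x' ∈ W ∧ c ∈ W :=
    ⟨(le_sup_left : zpowers x' ≤ W) (mem_zpowers x'), (le_sup_right : zpowers c ≤ W) (mem_zpowers c)⟩
  let f : zpowers x' × zpowers c →* G :=
    MonoidHom.noncommCoprod (zpowers x').subtype (zpowers c).subtype fun u v => by
      obtain ⟨i, hi⟩ := u.2
      obtain ⟨j, hj⟩ := v.2
      simp only [Subgroup.coe_subtype, ← hi, ← hj]
      exact (hx'c.zpow_left i).zpow_right j
  have hf : Function.Injective f := by
    rw [injective_iff_map_eq_one]
    rintro ⟨u, v⟩ he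
    have he' : (u : G) * v = 1 := he
    have hu : (u : G) ∈ zpowers c := by
      rw [eq_inv_of_mul_eq_one_left he']; exact inv_mem v.2
    have hu1 : (u : G) = 1 := by
      by_contra hu1
      have := SmallGroups.zpowers_eq_of_prime (by rw [Nat.card_zpowers, hx']) u.2 hu1
      exact hx'n (zpowers_le.2 hu (by rw [this]; exact mem_zpowers x'))
    rw [hu1, one_mul] at he'
    exact Prod.ext (Subtype.ext hu1) (Subtype.ext he')
  have hR : f.range = W := by
    simp only [f, MonoidHom.noncommCoprod_range, Subgroup.range_subtype, W]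
  have hW : Nat.card W = 9 := by
    rw [← hR, ← Nat.card_congr (MonoidHom.ofInjective hf).toEquiv, Nat.card_prod,
      Nat.card_zpowers, Nat.card_zpowers, hx', hc]
  obtain ⟨P0, hP0⟩ := (IsPGroup.of_card (p := 3) (n := 2) (by rw [hW]; norm_num) :
    IsPGroup 3 W).exists_le_sylow
  have h27 : ∀ Q : Sylow 3 G, Nat.card (Q : Subgroup G) = 27 := fun Q => by
    rw [SmallGroups.card_sylow_eq Q (k := 3) (m := 9067520) (by rw [H.facts.card]; norm_num)
      (by norm_num)]
    norm_num
  set P : Subgroup G := (P0 : Subgroup G) with hPdef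
  have hP : Nat.card P = 27 := h27 P0
  -- the centralizer of c in P is W
  have hCP : ∀ e ∈ P, Commute e c → e ∈ W := by
    have hle : W ≤ P ⊓ centralizer ({c} : Set G) := le_inf hP0 (sup_le
      (zpowers_le.2 (mem_centralizer_singleton_iff.2 hx'c.eq))
      (zpowers_le.2 (mem_centralizer_singleton_iff.2 rfl)))
    have h1 := card_dvd_of_le (inf_le_left : P ⊓ centralizer ({c} : Set G) ≤ P)
    have h2 := card_dvd_of_le (inf_le_right : P ⊓ centralizer ({c} : Set G) ≤ centralizer ({c} : Set G))
    rw [hP] at h1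
    rw [hX] at h2
    have h3 : Nat.card (P ⊓ centralizer ({c} : Set G) : Subgroup G) ∣ 9 := Nat.dvd_gcd h1 h2
    have heq := Subgroup.eq_of_le_of_card_ge hle (by rw [hW]; exact Nat.le_of_dvd (by norm_num) h3)
    intro e he hec
    rw [heq]
    exact ⟨he, mem_centralizer_singleton_iff.2 hec.eq⟩
  obtain ⟨e, he, hec⟩ : ∃ e ∈ P, ¬ Commute e c := by
    by_contra hall
    push Not at hall
    have := Subgroup.card_le_of_le (fun e he => hCP e he (hall e he) : P ≤ W)
    rw [hP, hW] at this
    omega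
  haveI : Nontrivial P := Finite.one_lt_card_iff_nontrivial.1 (by rw [hP]; norm_num)
  haveI : Nontrivial (center P) := IsPGroup.center_nontrivial (G := P) P0.2
  obtain ⟨⟨zP, hzc⟩, hz1⟩ := exists_ne (1 : center P)
  set z : G := (zP : G) with hzdef
  have hzcomm : ∀ b ∈ P, Commute z b := fun b hb =>
    (congrArg Subtype.val (Subgroup.mem_center_iff.1 hzc ⟨b, hb⟩)).symm
  have hz1' : z ≠ 1 := fun e0 => hz1 (Subtype.ext (Subtype.ext e0))
  have hcP : c ∈ P := hP0 hinW.2
  have hzW : z ∈ W := hCP z zP.2 (hzcomm c hcP)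
  obtain ⟨⟨u, v⟩, huv⟩ := hR.symm ▸ hzW
  obtain ⟨i, hi⟩ := u.2
  obtain ⟨j, hj⟩ := v.2
  have huv' : x' ^ i * c ^ j = z := by simp only at hi hj; rw [hi, hj]; exact huv
  have hz3 : orderOf z = 3 := by
    refine orderOf_eq_prime ?_ hz1'
    rw [← huv', ((hx'c.zpow_left i).zpow_right j).mul_pow, ← zpow_natCast, ← zpow_natCast,
      ← zpow_mul, ← zpow_mul, mul_comm i, mul_comm j, zpow_mul, zpow_mul, zpow_natCast, zpow_natCast,
      show x' ^ 3 = 1 from hx' ▸ pow_orderOf_eq_one x',
      show c ^ 3 = 1 from hc ▸ pow_orderOf_eq_one c, one_zpow, one_zpow, one_mul]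
  have hnot : ∀ w : G, (∀ b ∈ P, Commute w b) → ¬ Rel c w := by
    intro w hw hr
    have h1 := card_dvd_of_le (fun b hb => mem_centralizer_singleton_iff.2 (hw b hb).eq.symm :
      P ≤ centralizer ({w} : Set G))
    rw [← card_cent_of_rel hr, hX, hP] at h1
    norm_num at h1
  have hxA : ¬ Rel c x' := by
    intro hcx'
    have hi0 : x' ^ i ≠ 1 := fun e0 => by
      rw [e0, one_mul] at huv'
      have : c ∈ zpowers z := by
        rw [SmallGroups.zpowers_eq_of_prime (x := z) (by rw [Nat.card_zpowers, hc])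
          (huv' ▸ zpow_mem (mem_zpowers c) j) hz1']
        exact mem_zpowers c
      obtain ⟨k, hk⟩ := this
      exact hec (hk ▸ ((hzcomm e he).symm.zpow_right k))
    have hj0 : c ^ j ≠ 1 := fun e0 => by
      rw [e0, mul_one] at huv'
      have : x' ∈ zpowers z := by
        rw [SmallGroups.zpowers_eq_of_prime (x := z) (by rw [Nat.card_zpowers, hx'])
          (huv' ▸ zpow_mem (mem_zpowers x') i) hz1']
        exact mem_zpowers x'
      obtain ⟨k, hk⟩ := this
      exact hnot x' (fun b hb => hk ▸ (hzcomm b hb).zpow_left k) hcx'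
    have hT := exists_translate hP hz3 zP.2 hzcomm hcP he hec
    -- `t` conjugates `z` to `z * c ^ j`, which is conjugate to `c` or its inverse
    have htz : t * z * t⁻¹ = z * c ^ j := by
      have h3 : c ^ (3 * j) = 1 := by
        rw [zpow_mul, show (3 : ℤ) = ((3 : ℕ) : ℤ) from rfl, zpow_natCast,
          show c ^ 3 = 1 from hc ▸ pow_orderOf_eq_one c, one_zpow]
      have e1 : t * x' ^ i * t⁻¹ = x' ^ i :=
        mul_inv_eq_iff_eq_mul.2 (hx't.symm.zpow_right i).eq
      have e2 : t * c ^ j * t⁻¹ = c ^ (-j) := by rw [← conj_zpow, hinv, inv_zpow, zpow_neg]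
      have e3 : c ^ (-j) = c ^ j * c ^ j := by
        rw [← zpow_add, ← mul_one (c ^ (-j)), ← h3, ← zpow_add]
        congr 1
        ring
      calc t * z * t⁻¹ = (t * x' ^ i * t⁻¹) * (t * c ^ j * t⁻¹) := by rw [← huv']; group
        _ = x' ^ i * c ^ j * c ^ j := by rw [e1, e2, e3, mul_assoc]
        _ = z * c ^ j := by rw [huv']
    have hrel : Rel c (z * c ^ j) := by
      have hzc' : Commute z c := hzcomm c hcP
      have hcj : c ^ j = c ∨ c ^ j = c⁻¹ := by
        have hj3 : c ^ (j % 3) = c ^ j := by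
          have : c ^ (j % ((3 : ℕ) : ℤ)) = c ^ j := by rw [← hc]; exact zpow_mod_orderOf c j
          exact_mod_cast this
        rcases (by omega : j % 3 = 0 ∨ j % 3 = 1 ∨ j % 3 = 2) with h | h | h <;> rw [h] at hj3
        · exact absurd (by rw [← hj3, zpow_zero]) hj0
        · exact Or.inl (by rw [← hj3, zpow_one])
        · refine Or.inr (hj3.symm.trans (eq_inv_of_mul_eq_one_left ?_))
          rw [← zpow_add_one, show (2 : ℤ) + 1 = ((3 : ℕ) : ℤ) by norm_num, zpow_natCast,
            ← hc, pow_orderOf_eq_one]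
      rcases hcj with e0 | e0 <;> rw [e0]
      · rw [hzc'.eq]
        exact Or.inl (by simpa using hT 1)
      · rw [show z * c⁻¹ = (c * z⁻¹)⁻¹ by group]
        exact rel_inv (Or.inl (by simpa using hT (-1)))
    exact hnot z hzcomm (hrel.trans (htz ▸ rel_conj t z).symm)
  have haxx : Rel a x' := (hcov x' hx').resolve_right hxA
  have hax : Rel a x := haxx.trans hxx'.symm
  have hAcard : Nat.card {e : G // Rel a e} = 226688 := by
    haveI := Fintype.ofFinite G
    have hsum := Nat.card_congr
      (Equiv.sumCompl fun e : {e : G // orderOf e = 3} => Rel a e.1)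
    rw [Nat.card_sum, Nat.card_congr (Equiv.subtypeSubtypeEquivSubtype
        (p := fun e : G => orderOf e = 3) (fun {e} (he : Rel a e) => he.order.trans ha)),
      Nat.card_congr (Equiv.subtypeSubtypeEquivSubtypeInter (fun e : G => orderOf e = 3)
        fun e => ¬ Rel a e), H.facts.c3,
      Nat.card_congr (Equiv.subtypeEquivRight (p := fun e : G => orderOf e = 3 ∧ ¬ Rel a e)
        (q := fun e : G => Rel c e) fun e =>
        ⟨fun h => (hcov e h.1).resolve_left h.2,
          fun h => ⟨h.order.trans hc, fun h' => hne (h'.trans h.symm)⟩⟩), hB] at hsum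
    show Nat.card (Subtype (Rel a)) = 226688; omega
  have hcard : Nat.card (centralizer ({x} : Set G)) = 1080 := by
    have hcls : Nat.card {e : G // IsConj x e} = 226688 := by
      rw [← hAcard]
      refine Nat.card_congr (Equiv.subtypeEquivRight fun e => ⟨fun h => hax.trans (Or.inl h), ?_⟩)
      intro h
      rcases hax.symm.trans h with h' | h'
      · exact h'
      · exact IsConj.trans (isConj_iff.2 ⟨g, hg⟩) h'
    have h := card_isConj_mul_card_centralizer x
    rw [hcls, H.facts.card] at h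
    omega
  refine ⟨H, hx, hxt, hcard, fun e u he hu heu => ?_,
    ⟨y, c, a, hy, hc, ha, hyc.symm, hne, hcov, hax, hX, hB, h48⟩, fun Q hQ => ?_⟩
  · rcases H.all u hu with hs | ht'
    · exfalso
      obtain ⟨v, hv, hcv⟩ := InvThree.exists_two H.facts hc
      have hrA : Rel c e := by
        rcases H.all v hv with hsv | htv
        · exact rel_of_twos H hu (hsv.symm.trans hs) hc hcv (he.order.trans hx) heu
        · exact (rel_of_twos H H.cls.order_t htv.symm hc hcv hx hxt).trans he
      exact hne ((hax.trans he).trans hrA.symm)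
    · exact ht'
  · obtain ⟨Q', hQ'⟩ := (IsPGroup.of_card (p := 3) (n := 3) (by rw [hQ]; norm_num) :
      IsPGroup 3 Q).exists_le_sylow
    have hQeq : Q = (Q' : Subgroup G) :=
      Subgroup.eq_of_le_of_card_ge hQ' (by rw [hQ, h27 Q'])
    obtain ⟨k, hk⟩ := MulAction.exists_smul_eq G P0 Q'
    have hmem : ∀ {w : G}, w ∈ P → k * w * k⁻¹ ∈ Q := by
      intro w hw
      rw [hQeq, ← hk, Sylow.coe_subgroup_smul]
      exact ⟨w, hw, rfl⟩
    refine ⟨k * e * k⁻¹, hmem he, k * c * k⁻¹, hmem hcP, fun h => hec ?_⟩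
    have := conj_commute (g := k⁻¹) h
    simpa [mul_assoc] using this

end Cfsg.Agent.Lib.M24Nse65.LocalA81Types
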