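import Cfsg.Agent.Lib.M24Nse65.SecondLab

/-!
Adjacency among the first 311 vertices: the three neighbours of rank four of a vertex of rank four
are the thirds of its three edges to the vertices below 31, and there are no others.
-/

set_option autoImplicit false
set_option linter.unusedSectionVars false
set_option maxRecDepth 100000

namespace Cfsg.Agent.Lib.M24Nse65.Second

universe u

/-- The three neighbours of vertex 31 below 31. -/
def low31 : List ℕ := [7, 15, 23]

/-- The three neighbours of vertex 31 of rank four. -/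
def high31 : List ℕ := [36, 37, 38]

/-- The mask of the vertices 31..310. -/
def midMask : ℕ := (1 <<< 311) - (1 <<< 31)

theorem adj31_checks :
    (low31.all (fun x => adj0 31 x) && (List.range 31).all fun i => decide (i ∈ low31) || !adj0 31 i
      || decide (i = 0)) = true := by decide +kernel

theorem kill_checks : (List.range 311).all (fun z =>
    !decide (32 ≤ z) || !adj0 z 7 || killWords.any (fun w => !decide (vmapW w z = z)) ||
      decide (z = 32) || decide (z = 35) || decide (z = 36)) = true := by decide +kernel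

theorem kill_fix : killWords.all (fun w =>
    letters w && decide (vmapW w 31 = 31) && decide (vmapW w 7 = 7)) = true := by decide +kernel

theorem share35 : (adj0 35 7 && adj0 35 15) = true := by decide +kernel

theorem sel_checks : (List.range 3).all (fun k =>
    letters (wordsSel.getD k []) && decide (vmapW (wordsSel.getD k []) 31 = 31) &&
      decide (vmapW (wordsSel.getD k []) 7 = low31.getD k 0) &&
      decide (vmapW (wordsSel.getD k []) 36 = high31.getD k 0)) = true := by decide +kernel

theorem bad_checks : (letters badWord && decide (vmapW badWord 31 = 32) &&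
    decide (vmapW badWord 32 = 33) && decide (vmapW (wordsSel.getD 1 []) 32 = 33)) = true := by
  decide +kernel

/-- The words spreading a representative. -/
def otherW (r : ℕ) : List (List ℕ) :=
  if r = 0 then otherWords0 else if r = 1 then otherWords1 else otherWords2

/-- The images of a representative. -/
def otherImgs (r : ℕ) : List ℕ :=
  (otherW r).map fun w => vmapW w (otherReps.getD r 0)

theorem other_words : (List.range 3).all (fun r => decide (31 ≤ otherReps.getD r 0) &&
    decide (otherReps.getD r 0 ≤ 310) &&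
    (otherW r).all fun w => letters w && decide (vmapW w 31 = 31)) = true := by decide +kernel

theorem other_cover : (List.range 311).all (fun z =>
    decide (z ≤ 31) || decide (z ∈ high31) || low31.any (fun x => adj0 z x) ||
      (List.range 3).any fun r => decide (z ∈ otherImgs r)) = true := by decide +kernel

theorem other_many : (List.range 3).all (fun r =>
    decide (31 ≤ (low31 ++ high31 ++ otherImgs r).dedup.length) &&
      (low31 ++ high31 ++ otherImgs r).all fun z => decide (z ≤ 310) && decide (z ≠ 31)) = true := by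
  decide +kernel

theorem row_checks : (List.range 280).all (fun y =>
    decide (nbMask (31 + y) &&& midMask =
      (1 <<< vmapW (words280.getD y []) 36 ||| 1 <<< vmapW (words280.getD y []) 37 |||
        1 <<< vmapW (words280.getD y []) 38))) = true := by decide +kernel

theorem low_checks : ((List.range 311).all (fun i => decide (i = 0) ||
      (adj0 0 i == decide (i ≤ 30)) && (adj0 i 0 == decide (i ≤ 30))) &&
    (List.range 30).all (fun i => (List.range 30).all fun k => decide (i = k) ||
      adj0 (i + 1) (k + 1) == decide (k + 1 = flip30 (i + 1))) &&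
    (List.range 30).all (fun i => (List.range 280).all fun y =>
      adj0 (i + 1) (31 + y) == adj0 (31 + y) (i + 1))) = true := by decide +kernel

theorem vmap_lt : [0, 1, 2].all (fun j => (List.range 311).all fun i =>
    decide (vmap j i ≤ 310)) = true := by decide +kernel

theorem vmapW_lt : ∀ {w : List ℕ}, letters w = true → ∀ {i : ℕ}, i ≤ 310 → vmapW w i ≤ 310
  | [], _, _, hi => hi
  | j :: w, hw, i, hi => by
    simp only [letters, List.all_cons, Bool.and_eq_true, decide_eq_true_eq] at hw
    have h := vmap_lt
    simp only [List.all_eq_true, List.mem_range, decide_eq_true_eq] at h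
    have hj : j ∈ [0, 1, 2] := by
      rcases (show j = 0 ∨ j = 1 ∨ j = 2 by omega) with rfl | rfl | rfl <;> simp
    exact h j hj _ (by have := vmapW_lt hw.2 hi; omega)

variable {G : Type u} [Group G] [Finite G] {A : Subgroup G} {lab : ℕ → Subgroup G}

theorem cj_word {C : Coord A} (P : Pre310 C lab) : ∀ {w : List ℕ}, letters w = true →
    ∀ {i : ℕ}, i ≤ 310 → cj (C.ev w) (lab i) = lab (vmapW w i)
  | [], _, i, _ => by simp [Coord.ev, vmapW, cj_one]
  | j :: w, hw, i, hi => by
    simp only [letters, List.all_cons, Bool.and_eq_true, decide_eq_true_eq] at hw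
    rw [Coord.ev, ← cj_cj, cj_word P hw.2 hi, vmapW]
    exact P.equiv j _ hw.1 (vmapW_lt hw.2 hi)

theorem rel_word {C : Coord A} (P : Pre310 C lab) {w : List ℕ} (hw : letters w = true) {i k : ℕ}
    (hi : i ≤ 310) (hk : k ≤ 310) :
    Rel A 8 (lab (vmapW w i)) (lab (vmapW w k)) ↔ Rel A 8 (lab i) (lab k) := by
  rw [← cj_word P hw hi, ← cj_word P hw hk]
  refine ⟨fun h => ?_, rel_cj _⟩
  have := rel_cj (C.ev w)⁻¹ h
  rwa [cj_cj, cj_cj, inv_mul_cancel, cj_one, cj_one] at this

/-- Two vertices with two common neighbours are not joined. -/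
theorem third_unique {C : Coord A} (N : Near30 A lab) (P : Pre310 C lab) {a b c d : ℕ}
    (hc : c ≤ 310) (hd : d ≤ 310) (hab : Rel A 8 (lab a) (lab b)) (h1 : Rel A 8 (lab a) (lab c))
    (h2 : Rel A 8 (lab b) (lab c)) (h3 : Rel A 8 (lab a) (lab d)) (h4 : Rel A 8 (lab b) (lab d)) :
    c = d :=
  P.inj c d hc hd (N.uniq _ _ _ _ hab h1 h2 h3 h4)

theorem rel31_low (O : Orbits A) {C : Coord A} (P : Pre310 C lab) {x : ℕ} (hx : x ∈ low31) :
    Rel A 8 (lab 31) (lab x) := by
  have h := adj31_checks
  simp only [Bool.and_eq_true, List.all_eq_true] at h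
  have hx' : 1 ≤ x ∧ x ≤ 30 := by
    simp only [low31, List.mem_cons, List.not_mem_nil, or_false] at hx; omega
  exact rel_symm O ((P.adjX x 31 hx'.1 hx'.2 le_rfl (by norm_num)).2 (h.1 x hx))

theorem rel_high (L : Local A) (O : Orbits A) {C : Coord A} (N : Near30 A lab)
    (P : Pre310 C lab) {k : ℕ} (hk : k < 3) :
    Rel A 8 (lab 31) (lab (high31.getD k 0)) ∧
      Rel A 8 (lab (low31.getD k 0)) (lab (high31.getD k 0)) := by
  have h7 := rel31_low O P (x := 7) (by simp [low31])
  obtain ⟨R, hR1, hR2⟩ := N.ex _ _ h7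
  have hRA : R ≠ A := by
    rintro rfl
    have := rel_unique (P.rel4 31 le_rfl (by norm_num)) (rel_symm O hR1)
    omega
  obtain ⟨z, hz0, hz1, rfl⟩ : ∃ z, 31 ≤ z ∧ z ≤ 310 ∧ lab z = R := by
    have hr : Rel A (rk A R) A R := ⟨self_mem_conjs, hR1.2.1, Ne.symm hRA, rfl⟩
    rcases rel_to_base O hr with e | e | e <;> rw [e] at hr
    · exact absurd hR2 (N.no_far 7 R (by norm_num) (by norm_num) hr)
    · exact P.surj R hr
    · exfalso
      obtain ⟨i, i1, i2, rfl⟩ := P.l30.surj R hr
      have hi := N.only 7 i (by norm_num) (by norm_num) i1 i2 hR2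
      have h70 : Rel A 8 (lab 7) A := rel_symm O (P.l30.rel 7 (by norm_num) (by norm_num))
      have hi0 : Rel A 8 (lab i) A := rel_symm O (P.l30.rel i i1 i2)
      have := N.uniq (lab 7) (lab i) A (lab 31) hR2 h70 hi0 (rel_symm O h7) (rel_symm O hR1)
      exact (rel_A.1 (P.rel4 31 le_rfl (by norm_num))).2.1 this.symm
  have hz31 : z ≠ 31 := fun e => hR1.2.2.1 (by rw [e])
  have hadj : adj0 z 7 = true :=
    (P.adjX 7 z (by norm_num) (by norm_num) hz0 hz1).1 hR2
  have hfix : ∀ w ∈ killWords, vmapW w z = z := by
    intro w hw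
    have h := kill_fix
    simp only [List.all_eq_true, Bool.and_eq_true, decide_eq_true_eq] at h
    obtain ⟨⟨hl, h31⟩, h7'⟩ := h w hw
    have r1 := (rel_word P hl (by norm_num) hz1).2 hR1
    have r2 := (rel_word P hl (by norm_num) hz1).2 hR2
    rw [h31] at r1
    rw [h7'] at r2
    exact third_unique N P (vmapW_lt hl hz1) hz1 h7 r1 r2 hR1 hR2
  have hz : z = 36 := by
    have h := kill_checks
    simp only [List.all_eq_true, List.any_eq_true, List.mem_range, Bool.or_eq_true,
      decide_eq_true_eq, Bool.not_eq_true', decide_eq_false_iff_not] at h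
    rcases h z (by omega) with ((((e | e) | ⟨w, hw, e⟩) | e) | e) | e
    · omega
    · rw [hadj] at e; exact absurd e (by decide)
    · exact absurd (hfix w hw) e
    · exfalso
      subst e
      obtain ⟨⟨⟨hb, hb1⟩, hb2⟩, hs⟩ : ((letters badWord = true ∧ vmapW badWord 31 = 32) ∧
          vmapW badWord 32 = 33) ∧ vmapW (wordsSel.getD 1 []) 32 = 33 := by
        simpa only [Bool.and_eq_true, decide_eq_true_eq] using bad_checks
      have hsel := sel_checks
      simp only [List.all_eq_true, List.mem_range, Bool.and_eq_true, decide_eq_true_eq] at hsel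
      obtain ⟨⟨⟨hl, hl31⟩, -⟩, -⟩ := hsel 1 (by norm_num)
      have r1 := (rel_word P hl (by norm_num) hz1).2 hR1
      rw [hl31, hs] at r1
      have r2 := (rel_word P hb (by norm_num) hz1).2 hR1
      rw [hb1, hb2] at r2
      have := third_unique N P (show 7 ≤ 310 by norm_num) (show 33 ≤ 310 by norm_num) hR1 h7
        (rel_symm O hR2) r1 r2
      omega
    · exfalso
      subst e
      have h35 := share35
      simp only [Bool.and_eq_true] at h35
      have a1 := rel_symm O ((P.adjX 7 35 (by norm_num) (by norm_num) (by norm_num) hz1).2 h35.1)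
      have a2 := rel_symm O ((P.adjX 15 35 (by norm_num) (by norm_num) (by norm_num) hz1).2 h35.2)
      have := third_unique N P (show 7 ≤ 310 by norm_num) (show 15 ≤ 310 by norm_num) hR1 h7
        a1 (rel31_low O P (x := 15) (by simp [low31])) a2
      omega
    · exact e
  subst hz
  have h := sel_checks
  simp only [List.all_eq_true, List.mem_range, Bool.and_eq_true, decide_eq_true_eq] at h
  obtain ⟨⟨⟨hl, e31⟩, e7⟩, e36⟩ := h k hk
  have r1 := (rel_word P hl (by norm_num) hz1).2 hR1
  have r2 := (rel_word P hl (by norm_num) hz1).2 hR2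
  rw [e31, e36] at r1
  rw [e7, e36] at r2
  exact ⟨r1, r2⟩

theorem rel31_iff (L : Local A) (O : Orbits A) {C : Coord A} (N : Near30 A lab)
    (P : Pre310 C lab) {z : ℕ} (h1 : 31 ≤ z) (h2 : z ≤ 310) :
    Rel A 8 (lab 31) (lab z) ↔ z ∈ high31 := by
  classical
  have hH : ∀ z, z ∈ high31 → Rel A 8 (lab 31) (lab z) := by
    intro z hz
    simp only [high31, List.mem_cons, List.not_mem_nil, or_false] at hz
    rcases hz with rfl | rfl | rfl
    · exact (rel_high L O N P (k := 0) (by norm_num)).1
    · exact (rel_high L O N P (k := 1) (by norm_num)).1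
    · exact (rel_high L O N P (k := 2) (by norm_num)).1
  refine ⟨fun hz => ?_, hH z⟩
  have h := other_cover
  simp only [List.all_eq_true, List.any_eq_true, List.mem_range, Bool.or_eq_true,
    decide_eq_true_eq] at h
  rcases h z (by omega) with ((e | e) | ⟨x, hx, e⟩) | ⟨r, hr, e⟩
  · obtain rfl : z = 31 := by omega
    exact absurd rfl hz.2.2.1
  · exact e
  · have hx' : 1 ≤ x ∧ x ≤ 30 := by
      simp only [low31, List.mem_cons, List.not_mem_nil, or_false] at hx; omega
    have hxz := (P.adjX x z hx'.1 hx'.2 h1 h2).2 e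
    obtain ⟨k, hk, hxk⟩ : ∃ k, k < 3 ∧ low31.getD k 0 = x := by
      simp only [low31, List.mem_cons, List.not_mem_nil, or_false] at hx
      rcases hx with rfl | rfl | rfl
      · exact ⟨0, by norm_num, rfl⟩
      · exact ⟨1, by norm_num, rfl⟩
      · exact ⟨2, by norm_num, rfl⟩
    obtain ⟨r1, r2⟩ := rel_high L O N P hk
    rw [hxk] at r2
    have hmem : high31.getD k 0 ∈ high31 := by
      rw [List.getD_eq_getElem _ _ (by simp only [high31, List.length_cons, List.length_nil]; omega)]
      exact List.getElem_mem _
    have hle : high31.getD k 0 ≤ 310 := by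
      have := hmem
      simp only [high31, List.mem_cons, List.not_mem_nil, or_false] at this ⊢
      omega
    rw [third_unique N P h2 hle (rel31_low O P hx) hz hxz r1 r2]
    exact hmem
  · exfalso
    obtain ⟨w, hw, rfl⟩ := List.mem_map.1 e
    have ho := other_words
    simp only [List.all_eq_true, List.mem_range, Bool.and_eq_true, decide_eq_true_eq] at ho
    obtain ⟨⟨hr0, hr1⟩, hws⟩ := ho r hr
    have hrep : Rel A 8 (lab 31) (lab (otherReps.getD r 0)) := by
      refine (rel_word P (hws w hw).1 (by norm_num) hr1).1 ?_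
      rw [(hws w hw).2]
      exact hz
    have hm := other_many
    simp only [List.all_eq_true, List.mem_range, Bool.and_eq_true, decide_eq_true_eq] at hm
    obtain ⟨hcard, hbd⟩ := hm r hr
    set S := low31 ++ high31 ++ otherImgs r with hS
    have hall : ∀ s ∈ S, Rel A 8 (lab 31) (lab s) := by
      intro s hs
      rcases List.mem_append.1 hs with hs | hs
      · rcases List.mem_append.1 hs with hs | hs
        · exact rel31_low O P hs
        · exact hH s hs
      · obtain ⟨v, hv, rfl⟩ := List.mem_map.1 hs
        have := (rel_word P (hws v hv).1 (by norm_num) hr1).2 hrep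
        rwa [(hws v hv).2] at this
    have hinj : Function.Injective (fun s : {s : ℕ // s ∈ S.toFinset} =>
        (⟨lab s.1, hall _ (List.mem_toFinset.1 s.2)⟩ : {Q : Subgroup G // Rel A 8 (lab 31) Q})) := by
      intro s t hst
      exact Subtype.ext (P.inj _ _ (hbd _ (List.mem_toFinset.1 s.2)).1
        (hbd _ (List.mem_toFinset.1 t.2)).1 (congrArg Subtype.val hst))
    have hle := Nat.card_le_card_of_injective _ hinj
    rw [N.deg _ (P.rel4 31 le_rfl (by norm_num)).2.1, Nat.card_eq_finsetCard,
      List.card_toFinset] at hle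
    omega

theorem rel_mid (L : Local A) (O : Orbits A) {C : Coord A} (N : Near30 A lab)
    (P : Pre310 C lab) {y y' : ℕ} (h1 : 31 ≤ y) (h2 : y ≤ 310) (h3 : 31 ≤ y') (h4 : y' ≤ 310) :
    Rel A 8 (lab y) (lab y') ↔ adj0 y y' = true := by
  have hw := word_checks
  simp only [List.all_eq_true, List.mem_range, Bool.and_eq_true, decide_eq_true_eq] at hw
  obtain ⟨⟨⟨hl, hy⟩, -⟩, -⟩ := hw (y - 31) (by omega)
  rw [show 31 + (y - 31) = y by omega] at hy
  have hr := row_checks
  simp only [List.all_eq_true, List.mem_range, decide_eq_true_eq] at hr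
  have hrow := congrArg (fun m => m.testBit y') (hr (y - 31) (by omega))
  have hmid : midMask.testBit y' = true := by
    have hc : (List.range 311).all (fun i => decide (i < 31) || midMask.testBit i) = true := by
      decide +kernel
    simp only [List.all_eq_true, List.mem_range, Bool.or_eq_true, decide_eq_true_eq] at hc
    exact (hc y' (by omega)).resolve_left (by omega)
  simp only [Nat.testBit_and, hmid, Bool.and_true, Nat.testBit_or, Nat.one_shiftLeft,
    Nat.testBit_two_pow, show 31 + (y - 31) = y by omega] at hrow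
  rw [adj0, hrow]
  simp only [Bool.or_eq_true, decide_eq_true_eq]
  set w := words280.getD (y - 31) [] with hwdef
  have hfwd : ∀ s ∈ high31, Rel A 8 (lab y) (lab (vmapW w s)) := by
    intro s hs
    have hs' : 31 ≤ s ∧ s ≤ 310 := by
      simp only [high31, List.mem_cons, List.not_mem_nil, or_false] at hs; omega
    have := (rel_word P hl (show 31 ≤ 310 by norm_num) hs'.2).2
      ((rel31_iff L O N P hs'.1 hs'.2).2 hs)
    rwa [hy] at this
  constructor
  · intro h
    obtain ⟨z, hz0, hz1, hze⟩ : ∃ z, 31 ≤ z ∧ z ≤ 310 ∧ lab z = cj (C.ev w)⁻¹ (lab y') := by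
      refine P.surj _ ?_
      have := rel_cj (C.ev w)⁻¹ (P.rel4 y' h3 h4)
      rwa [norm_cj_A ((Subgroup.normalizer (A : Set G)).inv_mem (C.ev_norm w))] at this
    have hzy : vmapW w z = y' := by
      refine P.inj _ _ (vmapW_lt hl hz1) h4 ?_
      rw [← cj_word P hl hz1, hze, cj_cj, mul_inv_cancel, cj_one]
    have h31 : Rel A 8 (lab 31) (lab z) := by
      refine (rel_word P hl (by norm_num) hz1).1 ?_
      rw [hy, hzy]; exact h
    have hm := (rel31_iff L O N P hz0 hz1).1 h31
    simp only [high31, List.mem_cons, List.not_mem_nil, or_false] at hm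
    rcases hm with rfl | rfl | rfl <;> simp [hzy]
  · rintro ((e | e) | e) <;> rw [← e]
    · exact hfwd 36 (by simp [high31])
    · exact hfwd 37 (by simp [high31])
    · exact hfwd 38 (by simp [high31])

theorem lab310_of_pre (L : Local A) (O : Orbits A) (C : Coord A) (N : Near30 A lab)
    (P : Pre310 C lab) : Lab310 C lab := by
  refine ⟨P.l30, P.rel4, P.inj, P.surj, P.equiv, fun i j hi hj hne => ?_⟩
  have hmem : ∀ k, k ≤ 310 → lab k ∈ Conjs A := by
    intro k hk
    rcases Nat.eq_zero_or_pos k with rfl | h0
    · rw [P.l30.base]; exact self_mem_conjs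
    rcases Nat.lt_or_ge 30 k with h | h
    · exact (P.rel4 k (by omega) hk).2.1
    · exact (P.l30.rel k h0 h).2.1
  have hrel : rk (lab i) (lab j) = 8 ↔ Rel A 8 (lab i) (lab j) :=
    ⟨fun h => ⟨hmem i hi, hmem j hj, fun e => hne (P.inj i j hi hj e), h⟩, fun h => h.2.2.2⟩
  rw [hrel]
  obtain ⟨⟨c0, c30⟩, cy⟩ : (((List.range 311).all (fun i => decide (i = 0) ||
      (adj0 0 i == decide (i ≤ 30)) && (adj0 i 0 == decide (i ≤ 30))) = true) ∧
    ((List.range 30).all (fun i => (List.range 30).all fun k => decide (i = k) ||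
      adj0 (i + 1) (k + 1) == decide (k + 1 = flip30 (i + 1))) = true)) ∧
    ((List.range 30).all (fun i => (List.range 280).all fun y =>
      adj0 (i + 1) (31 + y) == adj0 (31 + y) (i + 1)) = true) := by
    simpa only [Bool.and_eq_true] using low_checks
  simp only [List.all_eq_true, List.mem_range, Bool.or_eq_true, decide_eq_true_eq,
    Bool.and_eq_true, beq_iff_eq] at c0 c30 cy
  have hzero : ∀ k, 1 ≤ k → k ≤ 310 → (Rel A 8 A (lab k) ↔ k ≤ 30) := by
    intro k h1 h2
    refine ⟨fun r => ?_, fun h => P.l30.rel k h1 h⟩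
    by_contra hgt
    have := rel_unique (P.rel4 k (by omega) h2) r
    omega
  rcases Nat.eq_zero_or_pos i with rfl | i1
  · rcases c0 j (by omega) with e | ⟨e, -⟩
    · exact absurd e.symm hne
    · rw [P.l30.base, hzero j (by omega) hj, e, decide_eq_true_eq]
  rcases Nat.eq_zero_or_pos j with rfl | j1
  · rcases c0 i (by omega) with e | ⟨-, e⟩
    · omega
    · rw [P.l30.base, e, decide_eq_true_eq, ← hzero i i1 hi]
      exact ⟨rel_symm O, rel_symm O⟩
  rcases Nat.lt_or_ge 30 i with i2 | i2 <;> rcases Nat.lt_or_ge 30 j with j2 | j2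
  · exact rel_mid L O N P (by omega) hi (by omega) hj
  · rw [← P.adjX j i j1 j2 (by omega) hi]
    exact ⟨rel_symm O, rel_symm O⟩
  · have e := cy (i - 1) (by omega) (j - 31) (by omega)
    rw [show i - 1 + 1 = i by omega, show 31 + (j - 31) = j by omega] at e
    rw [e]
    exact P.adjX i j i1 i2 (by omega) hj
  · rcases c30 (i - 1) (by omega) (j - 1) (by omega) with e | e
    · omega
    · rw [show i - 1 + 1 = i by omega, show j - 1 + 1 = j by omega] at e
      rw [e, decide_eq_true_eq]
      exact ⟨N.only i j i1 i2 j1 j2, fun h => h ▸ N.mate i i1 i2⟩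

end Cfsg.Agent.Lib.M24Nse65.Second
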