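import Cfsg.Agent.Lib.M24Nse65.SecondDefs

/-!
The invariant of a conjugate of rank four: its three neighbours of rank eight and the triple of
involutions it induces on `A`.
-/

set_option autoImplicit false
set_option linter.unusedSectionVars false
set_option maxRecDepth 100000

namespace Cfsg.Agent.Lib.M24Nse65.Second

universe u

variable {G : Type u} [Group G] [Finite G] {A : Subgroup G}

/-- What is needed about the base vertex and its neighbours. -/
structure Near30 (A : Subgroup G) (lab : ℕ → Subgroup G) : Prop where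
  deg : ∀ P, P ∈ Conjs A → Nat.card {Q : Subgroup G // Rel A 8 P Q} = 30
  mate : ∀ i, 1 ≤ i → i ≤ 30 → Rel A 8 (lab i) (lab (flip30 i))
  only : ∀ i j, 1 ≤ i → i ≤ 30 → 1 ≤ j → j ≤ 30 → Rel A 8 (lab i) (lab j) → j = flip30 i
  uniq : ∀ P Q R R', Rel A 8 P Q → Rel A 8 P R → Rel A 8 Q R → Rel A 8 P R' → Rel A 8 Q R' →
    R = R'
  ex : ∀ P Q, Rel A 8 P Q → ∃ R, Rel A 8 P R ∧ Rel A 8 Q R
  no_far : ∀ i Q, 1 ≤ i → i ≤ 30 → Rel A 1 A Q → ¬ Rel A 8 (lab i) Q
  three : ∀ Q, Rel A 4 A Q →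
    Nat.card {i : Fin 31 // 1 ≤ i.1 ∧ Rel A 8 (lab i.1) Q} = 3

/-- The table of the action of an element of the normalizer. -/
def IsTab (C : Coord A) (u : G) (T : ℕ) : Prop :=
  isLin T = true ∧ ∀ v, v < 16 → u * C.e v * u⁻¹ = C.e (app T v)

theorem packFn_congr {f g : ℕ → ℕ} (h : ∀ v, v < 16 → f v = g v) : packFn f = packFn g := by
  unfold packFn
  suffices ∀ l : List ℕ, (∀ v ∈ l, v < 16) →
      l.foldr (fun v m => m ||| (f v <<< (4 * v))) 0 =
        l.foldr (fun v m => m ||| (g v <<< (4 * v))) 0 by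
    exact this _ fun v hv => List.mem_range.1 hv
  intro l hl
  induction l with
  | nil => rfl
  | cons v l ih =>
    simp only [List.foldr_cons]
    rw [ih fun w hw => hl w (List.mem_cons_of_mem _ hw), h v (hl v List.mem_cons_self)]

theorem isLin_norm {T : ℕ} (hT : isLin T = true) : packFn (app T) = T := by
  simp only [isLin, Bool.and_eq_true, decide_eq_true_eq] at hT
  exact hT.1.1

theorem tab_ext {S T : ℕ} (hS : isLin S = true) (hT : isLin T = true)
    (h : ∀ v, v < 16 → app S v = app T v) : S = T := by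
  rw [← isLin_norm hS, ← isLin_norm hT, packFn_congr h]

theorem tab_unique (C : Coord A) {u : G} {S T : ℕ} (hS : IsTab C u S) (hT : IsTab C u T) :
    S = T :=
  tab_ext hS.1 hT.1 fun v hv =>
    C.inj _ _ (app_lt S v) (app_lt T v) ((hS.2 v hv).symm.trans (hT.2 v hv))

theorem exists_tab (L : Local A) (C : Coord A) {u : G}
    (hu : u ∈ Subgroup.normalizer (A : Set G)) : ∃ T, IsTab C u T := by
  obtain ⟨T, w, hT, hw, rfl⟩ := C.onto u hu
  refine ⟨T, hT, fun v hv => ?_⟩
  rw [show C.e w * C.k T * C.e v * (C.e w * C.k T)⁻¹ =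
    C.e w * (C.k T * C.e v * (C.k T)⁻¹) * (C.e w)⁻¹ by group, C.k_act T v hT hv,
    C.e_swap L hw (app_lt T v)]
  group

/-- The triple `w` is the one induced by `Y`. -/
def HasW (C : Coord A) (Y : Subgroup G) (w : ℕ) : Prop :=
  ∀ u, u ∈ Y → u ∈ Subgroup.normalizer (A : Set G) → u ≠ 1 →
    ∀ T, IsTab C u T → T ∈ wTables.getD w []

theorem mul_self_of_mem_conjs (L : Local A) {Y : Subgroup G} (hY : Y ∈ Conjs A) {u : G}
    (hu : u ∈ Y) : u * u = 1 := by
  obtain ⟨g, rfl⟩ := hY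
  have h := L.sq _ (mem_cj.1 hu)
  calc u * u = g * ((g⁻¹ * u * g) * (g⁻¹ * u * g)) * g⁻¹ := by group
    _ = 1 := by rw [h]; group

theorem comm_of_mem_conjs (L : Local A) {Y : Subgroup G} (hY : Y ∈ Conjs A) {u v : G}
    (hu : u ∈ Y) (hv : v ∈ Y) : u * v = v * u := by
  have h1 := mul_self_of_mem_conjs L hY (Y.mul_mem hu hv)
  have h2 := mul_self_of_mem_conjs L hY hu
  have h3 := mul_self_of_mem_conjs L hY hv
  calc u * v = u * ((u * v) * (u * v)) * v := by rw [h1, mul_one]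
    _ = (u * u) * (v * u) * (v * v) := by simp only [mul_assoc]
    _ = v * u := by rw [h2, h3, one_mul, mul_one]

theorem cent_le_conjs (L : Local A) {Y : Subgroup G} (hY : Y ∈ Conjs A) {u x : G}
    (hu : u ∈ Y) (hu1 : u ≠ 1) (hx : x * u = u * x) :
    x ∈ Subgroup.normalizer (Y : Set G) := by
  obtain ⟨g, rfl⟩ := hY
  rw [mem_norm_cj]
  refine L.cent_le _ (mem_cj.1 hu) ?_ ?_
  · intro e
    apply hu1
    calc u = g * (g⁻¹ * u * g) * g⁻¹ := by group
      _ = 1 := by rw [e]; group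
  · rw [Subgroup.mem_centralizer_singleton_iff]
    calc g⁻¹ * x * g * (g⁻¹ * u * g) = g⁻¹ * (x * u) * g := by group
      _ = g⁻¹ * (u * x) * g := by rw [hx]
      _ = g⁻¹ * u * g * (g⁻¹ * x * g) := by group

/-- Elements of `Y` normalizing `A` commute with the elements of `A` fixing `Y`. -/
theorem comm_cross (L : Local A) {Y : Subgroup G} (hY : Y ∈ Conjs A) (hne : Y ≠ A) {u a : G}
    (hu : u ∈ Y) (hun : u ∈ Subgroup.normalizer (A : Set G)) (ha : a ∈ fixA A Y) :
    u * a * u⁻¹ = a := by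
  obtain ⟨haA, haY⟩ := Subgroup.mem_inf.1 ha
  have h1 : u * a * u⁻¹ * a⁻¹ ∈ A :=
    A.mul_mem ((Subgroup.mem_normalizer_iff.1 hun a).1 haA) (A.inv_mem haA)
  have h2 : u * a * u⁻¹ * a⁻¹ ∈ Y := by
    rw [show u * a * u⁻¹ * a⁻¹ = u * (a * u⁻¹ * a⁻¹) by group]
    exact Y.mul_mem hu ((Subgroup.mem_normalizer_iff.1 haY u⁻¹).1 (Y.inv_mem hu))
  exact mul_inv_eq_one.1 (disjoint_conjs L hY self_mem_conjs hne h2 h1)

variable {lab : ℕ → Subgroup G}

/-- The vertices below 31 joined to a vertex of rank four, as an element of `A` sees them. -/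
theorem fix_nbr (L : Local A) (O : Orbits A) (C : Coord A) (h : Lab30 C lab) (N : Near30 A lab) {Y : Subgroup G}
    (hY : Rel A 4 A Y) {v i : ℕ} (hv : v < 16) (h1 : 1 ≤ i) (h2 : i ≤ 30)
    (hfix : C.e v ∈ fixA A Y) (hi : Rel A 8 (lab i) Y) : dot (pOf i) v = false := by
  by_contra hd
  have hne : cj (C.e v) (lab i) ≠ lab i := fun e =>
    hd ((h.fix i v h1 h2 hv).1 ((C.cj_e_fix hv).1 e))
  have hA := norm_cj_A (C.e_norm hv)
  have hYfix : cj (C.e v) Y = Y := (C.cj_e_fix hv).2 hfix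
  have r1 : Rel A 8 A (cj (C.e v) (lab i)) := by
    have := rel_cj (C.e v) (h.rel i h1 h2); rwa [hA] at this
  have r2 : Rel A 8 (cj (C.e v) (lab i)) Y := by
    have := rel_cj (C.e v) hi; rwa [hYfix] at this
  obtain ⟨j, j1, j2, hj⟩ := h.surj _ r1
  have hp : pOf j = pOf i := by
    have hsep := Thirty.dot_sep
    simp only [List.all_eq_true, List.any_eq_true, List.mem_range, Bool.or_eq_true,
      decide_eq_true_eq] at hsep
    have b1 : 1 ≤ pOf i ∧ pOf i < 16 ∧ 1 ≤ pOf j ∧ pOf j < 16 := by unfold pOf; omega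
    rcases hsep (pOf i - 1) (by omega) (pOf j - 1) (by omega) with e | ⟨x, hx, e⟩
    · omega
    · exfalso
      rw [show pOf i - 1 + 1 = pOf i by omega, show pOf j - 1 + 1 = pOf j by omega] at e
      have a := h.fix j x j1 j2 hx
      rw [hj, fixA_cj (C.e_norm hv), cj_A_fix L (C.mem v hv) (H := fixA A (lab i)) inf_le_left]
        at a
      have b := h.fix i x h1 h2 hx
      cases d1 : dot (pOf i) x <;> cases d2 : dot (pOf j) x <;> simp_all
  have hji : j = flip30 i := by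
    rcases Nat.lt_trichotomy i j with c | c | c
    · unfold flip30; unfold pOf at hp; split_ifs <;> omega
    · exact absurd (c ▸ hj.symm) hne
    · unfold flip30; unfold pOf at hp; split_ifs <;> omega
  subst hji
  rw [← hj] at r2
  have := N.uniq _ _ A Y (N.mate i h1 h2) (rel_symm O (h.rel i h1 h2))
    (rel_symm O (h.rel _ j1 j2)) hi r2
  exact (rel_A.1 hY).2.1 this.symm

end Cfsg.Agent.Lib.M24Nse65.Second
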