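import Cfsg.Agent.Lib.M24Nse65.Near
import Cfsg.Agent.Lib.M24Nse65.SecondCode

/-!
A numbering of the conjugates of rank four with the right neighbours among the first thirty.
-/

set_option autoImplicit false

namespace Cfsg.Agent.Lib.M24Nse65.Second

universe u

/-- A numbering of the conjugates of rank four by the vertices 31..310, right below 31. -/
structure Pre310 {G : Type u} [Group G] {A : Subgroup G} (C : Coord A) (lab : ℕ → Subgroup G) :
    Prop where
  l30 : Lab30 C lab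
  rel4 : ∀ i, 31 ≤ i → i ≤ 310 → Rel A 4 A (lab i)
  inj : ∀ i j, i ≤ 310 → j ≤ 310 → lab i = lab j → i = j
  surj : ∀ B, Rel A 4 A B → ∃ i, 31 ≤ i ∧ i ≤ 310 ∧ lab i = B
  equiv : ∀ j i, j < 3 → i ≤ 310 → cj (C.gen j) (lab i) = lab (vmap j i)
  adjX : ∀ i y, 1 ≤ i → i ≤ 30 → 31 ≤ y → y ≤ 310 →
    (Rel A 8 (lab i) (lab y) ↔ adj0 y i = true)

end Cfsg.Agent.Lib.M24Nse65.Second
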