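import Cfsg.Agent.Lib.M24Nse65.SecondW
import Cfsg.Agent.Lib.M24Nse65.SecondPre

/-!
The conjugates of rank four are numbered by their triple and their three neighbours of rank eight.
-/

set_option autoImplicit false
set_option linter.unusedSectionVars false
set_option maxRecDepth 100000
set_option maxHeartbeats 1000000

namespace Cfsg.Agent.Lib.M24Nse65.Second

universe u

/-- The triple of a vertex of rank four. -/
def yW (y : ℕ) : ℕ := tget yTriple 7 (y - 31)

/-- The vertex reached by a word. -/
def vmapW : List ℕ → ℕ → ℕ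
  | [], i => i
  | j :: w, i => vmap j (vmapW w i)

/-- The letters of a word name generators. -/
def letters (w : List ℕ) : Bool := w.all fun j => decide (j < 3)

/-- The dual vectors vanishing on a line. -/
def perpL (l : ℕ) : List ℕ :=
  (List.range 16).filter fun k =>
    decide (1 ≤ k) && (List.range 16).all fun v => !inLine l v || !dot k v

/-- The vertex over `k` selected by a bit. -/
def pick (k : ℕ) (b : Bool) : ℕ := if b then 2 * k - 1 else 2 * k

/-- The three selected vertices. -/
def picks (l : ℕ) (bs : List Bool) : List ℕ :=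
  [pick ((perpL l).getD 0 0) (bs.getD 0 false), pick ((perpL l).getD 1 0) (bs.getD 1 false),
    pick ((perpL l).getD 2 0) (bs.getD 2 false)]

theorem perp_checks : (List.range 35).all (fun l =>
    decide ((perpL l).length = 3) && decide ((perpL l).Nodup)) = true := by decide +kernel

theorem pick_checks : (List.range 70).all (fun w => [true, false].all fun a => [true, false].all
    fun b => [true, false].all fun c => (List.range 280).any fun y =>
      decide (yW (31 + y) = w) &&
        (((picks (lineOf w) [a, b, c]).all fun i => adj0 (31 + y) i) ||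
          ((picks (lineOf w) [a, b, c]).all fun i => adj0 (31 + y) (flip30 i)))) = true := by
  decide +kernel

theorem y_checks : (List.range 280).all (fun y => decide (yW (31 + y) < 70) &&
    decide (((List.range 31).filter fun i => decide (1 ≤ i) && adj0 (31 + y) i).length = 3)) =
    true := by decide +kernel

theorem code_sep : (List.range 280).all (fun y => (List.range 280).all fun y' => decide (y = y') ||
    !decide (yW (31 + y) = yW (31 + y')) ||
    (List.range 30).any fun i => adj0 (31 + y) (i + 1) != adj0 (31 + y') (i + 1)) = true := by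
  decide +kernel

theorem gen_checks : [0, 1, 2].all (fun j => (List.range 280).all fun y =>
    decide (31 ≤ vmap j (31 + y)) && decide (vmap j (31 + y) ≤ 310) &&
    decide (yW (vmap j (31 + y)) = wMap j (yW (31 + y))) &&
    (List.range 30).all fun i =>
      adj0 (vmap j (31 + y)) (vmap j (i + 1)) == adj0 (31 + y) (i + 1)) = true := by
  decide +kernel

theorem gen_onto : [0, 1, 2].all (fun j => (List.range 30).all fun i => (List.range 30).any fun k =>
    decide (vmap j (k + 1) = i + 1)) = true := by decide +kernel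

theorem word_checks : (List.range 280).all (fun y =>
    letters (words280.getD y []) && decide (vmapW (words280.getD y []) 31 = 31 + y) &&
    letters (back280.getD y []) && decide (vmapW (back280.getD y []) (31 + y) = 31)) = true := by
  decide +kernel

variable {G : Type u} [Group G] [Finite G] {A : Subgroup G}

/-- The conjugate `Y` has the invariants of vertex `y`. -/
def Is (C : Coord A) (lab : ℕ → Subgroup G) (Y : Subgroup G) (y : ℕ) : Prop :=
  31 ≤ y ∧ y ≤ 310 ∧ Rel A 4 A Y ∧ HasW C Y (yW y) ∧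
    ∀ i, 1 ≤ i → i ≤ 30 → (Rel A 8 (lab i) Y ↔ adj0 y i = true)

theorem is_unique (L : Local A) (O : Orbits A) (C : Coord A) {lab : ℕ → Subgroup G}
    {Y : Subgroup G} {y y' : ℕ} (h : Is C lab Y y) (h' : Is C lab Y y') : y = y' := by
  obtain ⟨a1, a2, hY, hW, hs⟩ := h
  obtain ⟨b1, b2, -, hW', hs'⟩ := h'
  have hc := y_checks
  simp only [List.all_eq_true, List.mem_range, Bool.and_eq_true, decide_eq_true_eq] at hc
  have c1 := (hc (y - 31) (by omega)).1
  have c2 := (hc (y' - 31) (by omega)).1
  rw [show 31 + (y - 31) = y by omega] at c1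
  rw [show 31 + (y' - 31) = y' by omega] at c2
  have e := hasW_unique L O C hY c1 c2 hW hW'
  have hd := code_sep
  simp only [List.all_eq_true, List.any_eq_true, List.mem_range, Bool.or_eq_true,
    decide_eq_true_eq, Bool.not_eq_true', decide_eq_false_iff_not, bne_iff_ne] at hd
  rcases hd (y - 31) (by omega) (y' - 31) (by omega) with (q | q) | ⟨i, hi, q⟩
  · omega
  · rw [show 31 + (y - 31) = y by omega, show 31 + (y' - 31) = y' by omega] at q
    exact absurd e q
  · rw [show 31 + (y - 31) = y by omega, show 31 + (y' - 31) = y' by omega] at q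
    exact absurd (Bool.eq_iff_iff.2 ((hs (i + 1) (by omega) (by omega)).symm.trans
      (hs' (i + 1) (by omega) (by omega)))) q

theorem is_gen (L : Local A) (C : Coord A) {lab : ℕ → Subgroup G} (h30 : Lab30 C lab)
    {Y : Subgroup G} {j y : ℕ} (hj : j < 3) (h : Is C lab Y y) :
    Is C lab (cj (C.gen j) Y) (vmap j y) := by
  obtain ⟨a1, a2, hY, hW, hs⟩ := h
  have hc := gen_checks
  simp only [List.all_eq_true, List.mem_range, Bool.and_eq_true, decide_eq_true_eq,
    beq_iff_eq] at hc
  have hj' : j ∈ [0, 1, 2] := by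
    rcases (show j = 0 ∨ j = 1 ∨ j = 2 by omega) with rfl | rfl | rfl <;> simp
  obtain ⟨⟨⟨c1, c2⟩, c3⟩, c4⟩ := hc j hj' (y - 31) (by omega)
  rw [show 31 + (y - 31) = y by omega] at c1 c2 c3 c4
  have hyc := y_checks
  simp only [List.all_eq_true, List.mem_range, Bool.and_eq_true, decide_eq_true_eq] at hyc
  have hw := (hyc (y - 31) (by omega)).1
  rw [show 31 + (y - 31) = y by omega] at hw
  refine ⟨c1, c2, ?_, c3 ▸ hasW_gen L C hj hw hW, fun i h1 h2 => ?_⟩
  · have := rel_cj (C.gen j) hY
    rwa [norm_cj_A (C.gen_norm j)] at this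
  · have ho := gen_onto
    simp only [List.all_eq_true, List.any_eq_true, List.mem_range, decide_eq_true_eq] at ho
    obtain ⟨k, hk, hke⟩ := ho j hj' (i - 1) (by omega)
    rw [show i - 1 + 1 = i by omega] at hke
    rw [← hke, ← h30.equiv j (k + 1) hj (by omega), c4 k hk, ← hs (k + 1) (by omega) (by omega)]
    constructor
    · intro r
      have := rel_cj (C.gen j)⁻¹ r
      rwa [cj_cj, cj_cj, inv_mul_cancel, cj_one, cj_one] at this
    · exact rel_cj _

theorem is_word (L : Local A) (C : Coord A) {lab : ℕ → Subgroup G} (h30 : Lab30 C lab) :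
    ∀ {w : List ℕ}, letters w = true → ∀ {Y : Subgroup G} {y : ℕ}, Is C lab Y y →
      Is C lab (cj (C.ev w) Y) (vmapW w y)
  | [], _, Y, y, h => by simpa [Coord.ev, vmapW, cj_one] using h
  | j :: w, hw, Y, y, h => by
    simp only [letters, List.all_cons, Bool.and_eq_true, decide_eq_true_eq] at hw
    rw [Coord.ev, vmapW, ← cj_cj]
    exact is_gen L C h30 hw.1 (is_word L C h30 hw.2 h)

/-- Every conjugate of rank four has the invariants of a vertex, for one of the two numberings. -/
theorem exists_is (tri : TripleFact) (L : Local A) (O : Orbits A) (C : Coord A)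
    {lab : ℕ → Subgroup G} (h30 : Lab30 C lab) (N : Near30 A lab) {Y : Subgroup G}
    (hY : Rel A 4 A Y) :
    ∃ y, Is C lab Y y ∨ Is C (fun i => lab (flip30 i)) Y y := by
  classical
  obtain ⟨l, hl, hline⟩ := exists_line C (U := fixA A Y) inf_le_left hY.2.2.2
  obtain ⟨w, hw, hwl, hW⟩ := exists_hasW tri L O C hY hl hline
  subst hwl
  have hp := perp_checks
  simp only [List.all_eq_true, List.mem_range, Bool.and_eq_true, decide_eq_true_eq] at hp
  obtain ⟨hlen, hnd⟩ := hp _ hl
  set ks := perpL (lineOf w) with hks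
  set S : Finset (Fin 31) := Finset.univ.filter fun i => 1 ≤ i.1 ∧ Rel A 8 (lab i.1) Y with hS
  have hScard : S.card = 3 := by
    have := N.three Y hY
    rw [Nat.card_eq_fintype_card, Fintype.card_subtype] at this
    exact this
  have hpin : ∀ i ∈ S, pOf i.1 ∈ ks.toFinset := by
    intro i hi
    simp only [hS, Finset.mem_filter, Finset.mem_univ, true_and] at hi
    simp only [hks, List.mem_toFinset, perpL, List.mem_filter, List.mem_range, Bool.and_eq_true,
      decide_eq_true_eq, List.all_eq_true, Bool.or_eq_true, Bool.not_eq_true']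
    refine ⟨by unfold pOf; omega, by unfold pOf; omega, fun v hv => ?_⟩
    cases hb : inLine (lineOf w) v
    · exact Or.inl rfl
    · exact Or.inr (fix_nbr L O C h30 N hY hv hi.1 (by omega) ((hline v hv).2 hb) hi.2)
  have hpinj : Set.InjOn (fun i : Fin 31 => pOf i.1) S := by
    intro i hi k hk e
    simp only [hS, Finset.coe_filter, Finset.mem_univ, true_and, Set.mem_setOf_eq] at hi hk
    by_contra hne
    have hne' : i.1 ≠ k.1 := fun q => hne (Fin.ext q)
    have hf : k.1 = flip30 i.1 := by
      unfold flip30; unfold pOf at e; simp only at e; split_ifs <;> omega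
    have hm := N.mate i.1 hi.1 (by omega)
    rw [← hf] at hm
    have := N.uniq _ _ A Y hm (rel_symm O (h30.rel i.1 hi.1 (by omega)))
      (rel_symm O (h30.rel k.1 hk.1 (by omega))) hi.2 hk.2
    exact (rel_A.1 hY).2.1 this.symm
  have himg : S.image (fun i => pOf i.1) = ks.toFinset :=
    Finset.eq_of_subset_of_card_le (Finset.image_subset_iff.2 hpin)
      (by rw [Finset.card_image_of_injOn hpinj, hScard, List.toFinset_card_of_nodup hnd, hlen])
  let b : ℕ → Bool := fun k => decide (Rel A 8 (lab (2 * k - 1)) Y)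
  have hpick : ∀ k ∈ ks, 1 ≤ pick k (b k) ∧ pick k (b k) ≤ 30 ∧ pOf (pick k (b k)) = k ∧
      Rel A 8 (lab (pick k (b k))) Y := by
    intro k hk
    have hk' : k ∈ S.image (fun i => pOf i.1) := by rw [himg]; exact List.mem_toFinset.2 hk
    obtain ⟨i, hi, rfl⟩ := Finset.mem_image.1 hk'
    simp only [hS, Finset.mem_filter, Finset.mem_univ, true_and] at hi
    by_cases hodd : Rel A 8 (lab (2 * pOf i.1 - 1)) Y
    · simp only [pick, b, decide_eq_true hodd, if_true]
      refine ⟨by unfold pOf; omega, by unfold pOf; omega, by unfold pOf; omega, hodd⟩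
    · simp only [pick, b, decide_eq_false hodd, Bool.false_eq_true, if_false]
      have : i.1 = 2 * pOf i.1 := by
        by_contra q
        apply hodd
        rw [show 2 * pOf i.1 - 1 = i.1 by unfold pOf at *; omega]
        exact hi.2
      refine ⟨by omega, by omega, by unfold pOf at *; omega, ?_⟩
      rw [← this]; exact hi.2
  have hget : ∀ r, r < 3 → ks.getD r 0 ∈ ks := fun r hr => by
    rw [List.getD_eq_getElem _ _ (by omega)]; exact List.getElem_mem _
  let bs := [b (ks.getD 0 0), b (ks.getD 1 0), b (ks.getD 2 0)]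
  have hsub : ∀ i ∈ picks (lineOf w) bs, 1 ≤ i ∧ i ≤ 30 ∧ Rel A 8 (lab i) Y := by
    intro i hi
    simp only [picks, bs, ← hks, List.getD_cons_zero, List.getD_cons_succ, List.mem_cons,
      List.not_mem_nil, or_false] at hi
    rcases hi with rfl | rfl | rfl
    · exact ⟨(hpick _ (hget 0 (by norm_num))).1, (hpick _ (hget 0 (by norm_num))).2.1,
        (hpick _ (hget 0 (by norm_num))).2.2.2⟩
    · exact ⟨(hpick _ (hget 1 (by norm_num))).1, (hpick _ (hget 1 (by norm_num))).2.1,
        (hpick _ (hget 1 (by norm_num))).2.2.2⟩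
    · exact ⟨(hpick _ (hget 2 (by norm_num))).1, (hpick _ (hget 2 (by norm_num))).2.1,
        (hpick _ (hget 2 (by norm_num))).2.2.2⟩
  have hpnd : (picks (lineOf w) bs).Nodup := by
    obtain ⟨k0, k1, k2, hk3⟩ : ∃ a b c, ks = [a, b, c] := by
      match ks, hlen with
      | [a, b, c], _ => exact ⟨a, b, c, rfl⟩
    have h0 := hpick k0 (by rw [hk3]; simp)
    have h1 := hpick k1 (by rw [hk3]; simp)
    have h2 := hpick k2 (by rw [hk3]; simp)
    have hnd' := hnd
    rw [hk3] at hnd'
    simp only [List.nodup_cons, List.mem_cons, List.not_mem_nil, or_false, not_or] at hnd'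
    simp only [picks, bs, ← hks, hk3, List.getD_cons_zero, List.getD_cons_succ, List.nodup_cons,
      List.mem_cons, List.not_mem_nil, or_false, not_or, List.nodup_nil, not_false_eq_true,
      and_true]
    refine ⟨⟨fun e => hnd'.1.1 ?_, fun e => hnd'.1.2 ?_⟩, fun e => hnd'.2.1 ?_⟩
    · rw [← h0.2.2.1, e, h1.2.2.1]
    · rw [← h0.2.2.1, e, h2.2.2.1]
    · rw [← h1.2.2.1, e, h2.2.2.1]
  have hc := pick_checks
  simp only [List.all_eq_true, List.any_eq_true, List.mem_range, Bool.or_eq_true,
    decide_eq_true_eq, Bool.and_eq_true] at hc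
  have bmem : ∀ x : Bool, x ∈ [true, false] := by decide
  obtain ⟨y, hy, hyw, hpat⟩ := hc w hw (b (ks.getD 0 0)) (bmem _) (b (ks.getD 1 0)) (bmem _)
    (b (ks.getD 2 0)) (bmem _)
  have hyc := y_checks
  simp only [List.all_eq_true, List.mem_range, Bool.and_eq_true, decide_eq_true_eq] at hyc
  have hT : ((List.range 31).filter fun i => decide (1 ≤ i) && adj0 (31 + y) i).toFinset.card = 3 := by
    rw [List.toFinset_card_of_nodup (List.nodup_range.filter _)]
    exact (hyc y hy).2
  have key : ∀ f : ℕ → ℕ, (∀ i, 1 ≤ i → i ≤ 30 → 1 ≤ f i ∧ f i ≤ 30 ∧ f (f i) = i) →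
      (∀ i ∈ picks (lineOf w) bs, adj0 (31 + y) (f i) = true) →
      Is C (fun i => lab (f i)) Y (31 + y) := by
    intro f hf hall
    refine ⟨by omega, by omega, hY, hyw ▸ hW, fun i h1 h2 => ?_⟩
    have e1 : (picks (lineOf w) bs).toFinset = S.image Fin.val := by
      refine Finset.eq_of_subset_of_card_le (fun i hi => ?_) ?_
      · obtain ⟨a, b', c⟩ := hsub i (List.mem_toFinset.1 hi)
        exact Finset.mem_image.2 ⟨⟨i, by omega⟩, by simp [hS, a, c], rfl⟩
      · rw [Finset.card_image_of_injective _ Fin.val_injective, hScard,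
          List.toFinset_card_of_nodup hpnd]
        simp [picks]
    have e2 : (picks (lineOf w) bs).toFinset.image f =
        ((List.range 31).filter fun i => decide (1 ≤ i) && adj0 (31 + y) i).toFinset := by
      refine Finset.eq_of_subset_of_card_le (fun i hi => ?_) ?_
      · obtain ⟨x, hx, rfl⟩ := Finset.mem_image.1 hi
        obtain ⟨x1, x2, -⟩ := hsub x (List.mem_toFinset.1 hx)
        obtain ⟨f1, f2, -⟩ := hf x x1 x2
        simp only [List.mem_toFinset, List.mem_filter, List.mem_range, Bool.and_eq_true,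
          decide_eq_true_eq]
        exact ⟨by omega, f1, hall x (List.mem_toFinset.1 hx)⟩
      · rw [hT, Finset.card_image_of_injOn, List.toFinset_card_of_nodup hpnd]
        · simp [picks]
        · intro p hp q hq e
          obtain ⟨p1, p2, -⟩ := hsub p (List.mem_toFinset.1 hp)
          obtain ⟨q1, q2, -⟩ := hsub q (List.mem_toFinset.1 hq)
          rw [← (hf p p1 p2).2.2, e, (hf q q1 q2).2.2]
    obtain ⟨g1, g2, g3⟩ := hf i h1 h2
    constructor
    · intro r
      have : f i ∈ (picks (lineOf w) bs).toFinset := by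
        rw [e1]
        exact Finset.mem_image.2 ⟨⟨f i, by omega⟩, by simp [hS, g1]; exact r, rfl⟩
      have h' := Finset.mem_image_of_mem f this
      rw [e2, g3] at h'
      simp only [List.mem_toFinset, List.mem_filter, List.mem_range, Bool.and_eq_true,
        decide_eq_true_eq] at h'
      exact h'.2.2
    · intro r
      have hi : i ∈ (picks (lineOf w) bs).toFinset.image f := by
        rw [e2]
        simp only [List.mem_toFinset, List.mem_filter, List.mem_range, Bool.and_eq_true,
          decide_eq_true_eq]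
        exact ⟨by omega, h1, r⟩
      obtain ⟨x, hx, hxi⟩ := Finset.mem_image.1 hi
      obtain ⟨x1, x2, x3⟩ := hsub x (List.mem_toFinset.1 hx)
      have : f i = x := by rw [← hxi, (hf x x1 x2).2.2]
      show Rel A 8 (lab (f i)) Y
      rw [this]; exact x3
  have hflip : ∀ i, i < 31 → 1 ≤ i → 1 ≤ flip30 i ∧ flip30 i ≤ 30 ∧ flip30 (flip30 i) = i := by
    decide +kernel
  refine ⟨31 + y, ?_⟩
  rcases hpat with q | q
  · exact Or.inl (key (fun i => i) (fun i a b' => ⟨a, b', rfl⟩) q)
  · exact Or.inr (key flip30 (fun i a b' => hflip i (by omega) a) q)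

/-- The conjugates of rank four can be numbered compatibly with the vertices 31..310. -/
theorem exists_pre310 (tri : TripleFact) (L : Local A) (O : Orbits A) (C : Coord A)
    {lab : ℕ → Subgroup G} (h30 : Lab30 C lab) (N : Near30 A lab)
    (N' : Near30 A fun i => lab (flip30 i)) :
    ∃ lab', Pre310 C lab' ∧ Near30 A lab' := by
  classical
  have h280 : Nat.card {B : Subgroup G // Rel A 4 A B} = 280 := by
    rw [← O.card_four]
    exact Nat.card_congr (Equiv.subtypeEquivRight fun B => rel_A)
  have hne : Nonempty {B : Subgroup G // Rel A 4 A B} := (Nat.card_pos_iff.1 (by omega)).1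
  obtain ⟨⟨Y0, hY0⟩⟩ := hne
  obtain ⟨lab0, y0, hl0, hn0, hy0⟩ : ∃ (lab0 : ℕ → Subgroup G) (y0 : ℕ),
      Lab30 C lab0 ∧ Near30 A lab0 ∧ Is C lab0 Y0 y0 := by
    obtain ⟨y0, q | q⟩ := exists_is tri L O C h30 N hY0
    · exact ⟨lab, y0, h30, N, q⟩
    · exact ⟨_, y0, h30.flip, N', q⟩
  have hwc := word_checks
  simp only [List.all_eq_true, List.mem_range, Bool.and_eq_true, decide_eq_true_eq] at hwc
  have hbase : ∃ Y, Is C lab0 Y 31 := by
    obtain ⟨⟨⟨-, -⟩, b1⟩, b2⟩ := hwc (y0 - 31) (by have := hy0.2.1; omega)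
    rw [show 31 + (y0 - 31) = y0 by have := hy0.1; omega] at b2
    exact ⟨_, b2 ▸ is_word L C hl0 b1 hy0⟩
  have hall : ∀ y, 31 ≤ y → y ≤ 310 → ∃ Y, Is C lab0 Y y := by
    intro y h1 h2
    obtain ⟨⟨⟨a1, a2⟩, -⟩, -⟩ := hwc (y - 31) (by omega)
    rw [show 31 + (y - 31) = y by omega] at a2
    obtain ⟨Y, hY⟩ := hbase
    exact ⟨_, a2 ▸ is_word L C hl0 a1 hY⟩
  choose f hf using hall
  let lab' : ℕ → Subgroup G := fun i => if h : 31 ≤ i ∧ i ≤ 310 then f i h.1 h.2 else lab0 i
  have hlow : ∀ i, i ≤ 30 → lab' i = lab0 i := fun i hi => by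
    simp only [lab']; rw [dif_neg (by omega)]
  have hhigh : ∀ i, 31 ≤ i → i ≤ 310 → Is C lab0 (lab' i) i := fun i h1 h2 => by
    simp only [lab']; rw [dif_pos ⟨h1, h2⟩]; exact hf i h1 h2
  have hinjY : ∀ y y', 31 ≤ y → y ≤ 310 → 31 ≤ y' → y' ≤ 310 → lab' y = lab' y' → y = y' := by
    intro y y' a b c d e
    have q := hhigh y' c d
    rw [← e] at q
    exact is_unique L O C (hhigh y a b) q
  have hsurjY : ∀ B, Rel A 4 A B → ∃ i, 31 ≤ i ∧ i ≤ 310 ∧ lab' i = B := by
    intro B hB
    haveI : Fintype {B : Subgroup G // Rel A 4 A B} := Fintype.ofFinite _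
    let φ : Fin 280 → {B : Subgroup G // Rel A 4 A B} := fun i =>
      ⟨lab' (31 + i.1), (hhigh (31 + i.1) (by omega) (by omega)).2.2.1⟩
    have hφ : Function.Injective φ := fun i k e => Fin.ext (by
      have := hinjY _ _ (by omega) (by omega) (by omega) (by omega) (congrArg Subtype.val e)
      omega)
    have hφs : Function.Surjective φ :=
      ((Fintype.bijective_iff_injective_and_card φ).2 ⟨hφ, by
        rw [Fintype.card_fin, ← Nat.card_eq_fintype_card, h280]⟩).2
    obtain ⟨i, hi⟩ := hφs ⟨B, hB⟩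
    exact ⟨31 + i.1, by omega, by omega, congrArg Subtype.val hi⟩
  have hmem : ∀ i, i ≤ 310 → (i = 0 ∧ lab' i = A) ∨ (1 ≤ i ∧ i ≤ 30 ∧ Rel A 8 A (lab' i)) ∨
      (31 ≤ i ∧ Rel A 4 A (lab' i)) := by
    intro i hi
    rcases Nat.eq_zero_or_pos i with rfl | hp
    · exact Or.inl ⟨rfl, by rw [hlow 0 (by omega)]; exact hl0.base⟩
    by_cases h : i ≤ 30
    · exact Or.inr (Or.inl ⟨hp, h, by rw [hlow i h]; exact hl0.rel i hp h⟩)
    · exact Or.inr (Or.inr ⟨by omega, (hhigh i (by omega) hi).2.2.1⟩)
  refine ⟨lab', ⟨⟨by rw [hlow 0 (by omega)]; exact hl0.base,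
      fun i a b => by rw [hlow i b]; exact hl0.rel i a b,
      fun i v a b c => by rw [hlow i b]; exact hl0.fix i v a b c,
      fun i j a b e => hl0.inj i j a b (by rwa [hlow i a, hlow j b] at e),
      fun B hB => by
        obtain ⟨i, a, b, c⟩ := hl0.surj B hB
        exact ⟨i, a, b, by rw [hlow i b]; exact c⟩,
      fun j i hj hi => ?_⟩,
    fun i a b => (hhigh i a b).2.2.1, ?_, hsurjY, fun j i hj hi => ?_,
    fun i y a b c d => ?_⟩, ⟨hn0.deg, ?_, ?_, hn0.uniq, hn0.ex, ?_, ?_⟩⟩
  · have hfc := Thirty.flip_checks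
    simp only [List.all_eq_true, List.mem_range, Bool.and_eq_true, decide_eq_true_eq] at hfc
    have hlt := (hfc j (by rcases (show j = 0 ∨ j = 1 ∨ j = 2 by omega) with rfl | rfl | rfl <;> simp)
      i (by omega)).2
    rw [hlow i hi, hl0.equiv j i hj hi, hlow _ hlt]
  · intro i j hi hj e
    rcases hmem i hi with ⟨i0, eA⟩ | ⟨i1, i2, r⟩ | ⟨i1, r⟩ <;>
      rcases hmem j hj with ⟨j0, eA'⟩ | ⟨j1, j2, r'⟩ | ⟨j1, r'⟩
    · omega
    · exact absurd (e ▸ eA : lab' j = A) (Ne.symm r'.2.2.1)
    · exact absurd (e ▸ eA : lab' j = A) (Ne.symm r'.2.2.1)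
    · exact absurd (e.trans eA') (Ne.symm r.2.2.1)
    · exact hl0.inj i j i2 j2 (by rwa [hlow i i2, hlow j j2] at e)
    · exact absurd (rel_unique r (e ▸ r')) (by norm_num)
    · exact absurd (e.trans eA') (Ne.symm r.2.2.1)
    · exact absurd (rel_unique r (e ▸ r')) (by norm_num)
    · exact hinjY i j i1 hi j1 hj e
  · by_cases h : i ≤ 30
    · have hfc := Thirty.flip_checks
      simp only [List.all_eq_true, List.mem_range, Bool.and_eq_true, decide_eq_true_eq] at hfc
      have hlt := (hfc j (by rcases (show j = 0 ∨ j = 1 ∨ j = 2 by omega) with rfl | rfl | rfl <;> simp)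
        i (by omega)).2
      rw [hlow i h, hl0.equiv j i hj h, hlow _ hlt]
    · have q := is_gen L C hl0 hj (hhigh i (by omega) hi)
      obtain ⟨k, k1, k2, hk⟩ := hsurjY _ q.2.2.1
      have q' := hhigh k k1 k2
      rw [hk] at q'
      rw [← is_unique L O C q' q, hk]
  · rw [hlow i b]; exact (hhigh y c d).2.2.2.2 i a b
  · intro i a b
    rw [hlow i b, hlow (flip30 i) (by unfold flip30; split_ifs <;> omega)]
    exact hn0.mate i a b
  · intro i k a b c d
    rw [hlow i b, hlow k d]; exact hn0.only i k a b c d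
  · intro i Q a b
    rw [hlow i b]; exact hn0.no_far i Q a b
  · intro Q hQ
    rw [← hn0.three Q hQ]
    exact Nat.card_congr (Equiv.subtypeEquivRight fun i => by rw [hlow i.1 (by omega)])

end Cfsg.Agent.Lib.M24Nse65.Second
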