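import Cfsg.Agent.Lib.M24Nse65.Facts
import Cfsg.Agent.Lib.Gaschutz

/-!
The normalizer of an octad subgroup splits over it: the stabilizer of a trio has a subgroup of
index dividing 315 over the octad subgroup which meets it trivially, and Gaschütz applies.
-/

set_option autoImplicit false
set_option linter.unusedSectionVars false
set_option linter.style.haveILetI false

namespace Cfsg.Agent.Lib.M24Nse65

open Subgroup
open scoped Pointwise

universe u

namespace Split

variable {G : Type u} [Group G]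

theorem mem_cj {g x : G} {A : Subgroup G} : x ∈ cj g A ↔ g⁻¹ * x * g ∈ A := by
  constructor
  · rintro ⟨a, ha, rfl⟩
    simpa [mul_assoc] using ha
  · intro h
    exact ⟨g⁻¹ * x * g, h, by simp [mul_assoc]⟩

theorem conj_mem_cj {g x : G} {A : Subgroup G} (h : x ∈ A) : g * x * g⁻¹ ∈ cj g A := by
  rw [mem_cj]; simpa [mul_assoc] using h

theorem cj_mul_apply (g h : G) (A : Subgroup G) : cj g (cj h A) = cj (g * h) A := by
  ext x
  rw [mem_cj, mem_cj, mem_cj]
  simp [mul_assoc]

theorem cj_one_apply (A : Subgroup G) : cj (1 : G) A = A := by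
  ext x; rw [mem_cj]; simp

theorem cj_inj {g : G} {A B : Subgroup G} (h : cj g A = cj g B) : A = B :=
  Subgroup.map_injective (MulAut.conj g).injective h

theorem card_cj (g : G) (A : Subgroup G) : Nat.card (cj g A) = Nat.card A :=
  Subgroup.card_map_of_injective (MulAut.conj g).injective

theorem cj_inf (g : G) (A B : Subgroup G) : cj g (A ⊓ B) = cj g A ⊓ cj g B :=
  Subgroup.map_inf _ _ _ (MulAut.conj g).injective

theorem cj_normalizer (g : G) (A : Subgroup G) :
    cj g (normalizer (A : Set G)) = normalizer (cj g A : Set G) :=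
  Subgroup.map_equiv_normalizer_eq A (MulAut.conj g)

theorem cj_eq_iff {g : G} {A : Subgroup G} : cj g A = A ↔ g ∈ normalizer (A : Set G) := by
  rw [mem_normalizer_iff]
  constructor
  · intro h x
    conv_rhs => rw [← h, mem_cj]
    simp [mul_assoc]
  · intro h
    ext x
    rw [mem_cj, h (g⁻¹ * x * g)]
    simp [mul_assoc]

theorem cj_mem_conjs {A D : Subgroup G} (g : G) (h : D ∈ Conjs A) : cj g D ∈ Conjs A := by
  obtain ⟨a, rfl⟩ := h
  exact ⟨g * a, cj_mul_apply _ _ _⟩

theorem rk_cj_eq {A : Subgroup G} (g : G) (D : Subgroup G) :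
    rk (cj g A) (cj g D) = rk A D := by
  rw [rk, rk, ← cj_normalizer, ← cj_inf, card_cj]

theorem inf_eq_bot {A D : Subgroup G} (L : Local A) (hD : D ∈ Conjs A) (hne : D ≠ A) :
    A ⊓ D = ⊥ := by
  obtain ⟨g, rfl⟩ := hD
  rw [eq_bot_iff]
  rintro x ⟨hx, hxg⟩
  rw [mem_bot]
  by_contra h1
  have ha := mem_cj.mp hxg
  refine hne (cj_eq_iff.mpr (L.ti g (g⁻¹ * x * g) ha (by simpa [mul_assoc] using hx) ?_))
  intro h
  apply h1
  have := congrArg (fun z => g * z * g⁻¹) h
  simpa [mul_assoc] using this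

/-- The parts of two disjoint subgroups normalizing each other commute. -/
theorem commute_of_mem {A B : Subgroup G} (h : A ⊓ B = ⊥) {a b : G}
    (ha : a ∈ A ⊓ normalizer (B : Set G)) (hb : b ∈ B ⊓ normalizer (A : Set G)) :
    a * b = b * a := by
  obtain ⟨ha1, ha2⟩ := mem_inf.mp ha
  obtain ⟨hb1, hb2⟩ := mem_inf.mp hb
  have h1 : a * b * a⁻¹ * b⁻¹ ∈ A ⊓ B := by
    refine mem_inf.mpr ⟨?_, mul_mem ((mem_normalizer_iff.mp ha2 b).mp hb1) (inv_mem hb1)⟩
    have := mul_mem ha1 ((mem_normalizer_iff.mp hb2 a⁻¹).mp (inv_mem ha1))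
    simpa [mul_assoc] using this
  rw [h, mem_bot] at h1
  calc a * b = (a * b * a⁻¹ * b⁻¹) * (b * a) := by group
    _ = b * a := by rw [h1, one_mul]

/-- An automorphism of order three fixing an element of order seven which is not normal has a
fixed subgroup of order divisible by eight, in a group of order 168. -/
theorem fixed_eight {Q : Type*} [Group Q] [Finite Q] (hQ : Nat.card Q = 168) (σ : Q ≃* Q)
    (h3 : ∀ q, σ (σ (σ q)) = q) {t : Q} (ht : orderOf t = 7) (hσ : σ t = t)
    (hn : ¬ (zpowers t).Normal) :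
    8 ∣ Nat.card (MonoidHom.eqLocus σ.toMonoidHom (MonoidHom.id Q)) := by
  classical
  haveI : Fact (Nat.Prime 7) := ⟨by norm_num⟩
  have hf : (Nat.card Q).factorization 7 = 1 := by
    rw [hQ]
    have h : (168 : ℕ) = 7 ^ 1 * 24 := by norm_num
    rw [h, Nat.factorization_mul (by norm_num) (by norm_num), Finsupp.add_apply,
      Nat.Prime.factorization_pow (by norm_num), Finsupp.single_eq_same,
      Nat.factorization_eq_zero_of_not_dvd (by norm_num)]
  obtain ⟨P0, hP0⟩ : ∃ P : Sylow 7 Q, (P : Subgroup Q) = zpowers t :=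
    ⟨Sylow.ofCard (zpowers t) (by rw [Nat.card_zpowers, ht, hf, pow_one]), rfl⟩
  have hcardP : ∀ P : Sylow 7 Q, Nat.card (P : Subgroup Q) = 7 := by
    intro P; rw [Sylow.card_eq_multiplicity, hf, pow_one]
  -- elements of order seven normalizing `⟨t⟩` lie in it
  have hnorm : ∀ q : Q, orderOf q = 7 → q ∈ normalizer (zpowers t : Set Q) → q ∈ zpowers t := by
    intro q hq hqn
    have hp : IsPGroup 7 (zpowers q) :=
      IsPGroup.of_card (n := 1) (by rw [Nat.card_zpowers, hq, pow_one])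
    have h := hp.inf_normalizer_sylow P0
    rw [hP0] at h
    have hqn' : q ∈ normalizer (P0 : Set Q) := by
      rw [← Sylow.coe_coe, hP0]; exact hqn
    exact (mem_inf.mp (h.le (mem_inf.mpr ⟨mem_zpowers q, hqn'⟩))).2
  have hn7 : Nat.card (Sylow 7 Q) = 8 := by
    have h1 := card_sylow_modEq_one 7 Q
    have h2 : Nat.card (Sylow 7 Q) ∣ 24 := by
      have h := P0.card_dvd_index
      have h' := (P0 : Subgroup Q).card_mul_index
      rw [hcardP, hQ] at h'
      have : (P0 : Subgroup Q).index = 24 := by omega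
      rwa [this] at h
    have h3' : Nat.card (Sylow 7 Q) ≠ 1 := by
      intro h
      haveI := (Nat.card_eq_one_iff_unique.mp h).1
      exact hn (hP0 ▸ P0.normal_of_subsingleton)
    have hle := Nat.le_of_dvd (by norm_num) h2
    unfold Nat.ModEq at h1
    rcases h2 with ⟨k, hk⟩
    generalize Nat.card (Sylow 7 Q) = n at *
    interval_cases n <;> omega
  have htp : ∀ k : ℕ, σ (t ^ k) = t ^ k := fun k => by rw [map_pow, hσ]
  -- the orbit of `t` on the other subgroups of order seven is all of them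
  have horb : ∀ P R : Subgroup Q, Nat.card P = 7 → Nat.card R = 7 → P ≠ zpowers t →
      R ≠ zpowers t → ∃ k : ℕ, R = cj (t ^ k) P := by
    intro P R hP hR hPt hRt
    have hfix : ∀ k : ℕ, cj (t ^ k) P = P → 7 ∣ k := by
      intro k hk
      by_contra h7
      have hgen : t ∈ zpowers (t ^ k) := by
        rw [← mem_powers_iff_mem_zpowers]
        obtain ⟨m, hm⟩ := exists_pow_eq_self_of_coprime (x := t) (n := k)
          (by rw [ht]; exact ((Nat.Prime.coprime_iff_not_dvd (by norm_num)).mpr h7).symm)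
        exact ⟨m, hm⟩
      have htn : t ∈ normalizer (P : Set Q) :=
        (zpowers_le.mpr (cj_eq_iff.mp hk)) hgen
      have hp : IsPGroup 7 (zpowers t) :=
        IsPGroup.of_card (n := 1) (by rw [Nat.card_zpowers, ht, pow_one])
      obtain ⟨P', hP'⟩ : ∃ P' : Sylow 7 Q, (P' : Subgroup Q) = P :=
        ⟨Sylow.ofCard P (by rw [hP, hf, pow_one]), rfl⟩
      have h := hp.inf_normalizer_sylow P'
      rw [hP'] at h
      have htn' : t ∈ normalizer (P' : Set Q) := by
        rw [← Sylow.coe_coe, hP']; exact htn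
      have htP : t ∈ P := (mem_inf.mp (h.le (mem_inf.mpr ⟨mem_zpowers t, htn'⟩))).2
      refine hPt (Subgroup.eq_of_le_of_card_ge (zpowers_le.mpr htP) ?_).symm
      rw [hP, Nat.card_zpowers, ht]
    have hzc : ∀ k : ℕ, cj (t ^ k) (zpowers t) = zpowers t := fun k =>
      cj_eq_iff.mpr (le_normalizer (pow_mem (mem_zpowers t) k))
    let f : Fin 7 → {S : Sylow 7 Q // S ≠ P0} := fun i =>
      ⟨Sylow.ofCard (cj (t ^ (i : ℕ)) P) (by rw [card_cj, hP, hf, pow_one]), fun h => by
        have := congrArg (fun S : Sylow 7 Q => (S : Subgroup Q)) h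
        simp only [hP0] at this
        exact hPt (cj_inj (this.trans (hzc i).symm))⟩
    have hinj : Function.Injective f := by
      intro i j hij
      have h : cj (t ^ (i : ℕ)) P = cj (t ^ (j : ℕ)) P :=
        congrArg (fun S : {S : Sylow 7 Q // S ≠ P0} => ((S : Sylow 7 Q) : Subgroup Q)) hij
      have key : ∀ a b : ℕ, a ≤ b → b < 7 → cj (t ^ a) P = cj (t ^ b) P → a = b := by
        intro a b hab hb hh
        rw [← Nat.add_sub_cancel' hab, pow_add, ← cj_mul_apply] at hh
        have := hfix _ (cj_inj hh).symm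
        omega
      rcases le_total (i : ℕ) j with hl | hl
      · exact Fin.ext (key _ _ hl j.2 h)
      · exact Fin.ext (key _ _ hl i.2 h.symm).symm
    haveI := Fintype.ofFinite (Sylow 7 Q)
    have hcard : Fintype.card {S : Sylow 7 Q // S ≠ P0} = 7 := by
      rw [Fintype.card_subtype_compl, Fintype.card_subtype_eq, ← Nat.card_eq_fintype_card, hn7]
    have hbij : Function.Bijective f :=
      (Fintype.bijective_iff_injective_and_card f).mpr ⟨hinj, by rw [Fintype.card_fin, hcard]⟩
    obtain ⟨R', hR'⟩ : ∃ R' : Sylow 7 Q, (R' : Subgroup Q) = R :=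
      ⟨Sylow.ofCard R (by rw [hR, hf, pow_one]), rfl⟩
    obtain ⟨i, hi⟩ := hbij.2 ⟨R', fun h => hRt (by rw [← hR', h, hP0])⟩
    refine ⟨i, ?_⟩
    rw [← hR']
    exact (congrArg (fun S : {S : Sylow 7 Q // S ≠ P0} => ((S : Sylow 7 Q) : Subgroup Q)) hi).symm
  -- hence every one of them is fixed
  have hmapcj : ∀ (k : ℕ) (P : Subgroup Q),
      (cj (t ^ k) P).map σ.toMonoidHom = cj (t ^ k) (P.map σ.toMonoidHom) := by
    intro k P
    ext x
    simp only [Subgroup.mem_map, MulEquiv.coe_toMonoidHom]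
    constructor
    · rintro ⟨_, ⟨p, hp, rfl⟩, rfl⟩
      exact ⟨σ p, ⟨p, hp, rfl⟩, by simp only [MulAut.conj_apply, map_mul, map_inv, htp]⟩
    · rintro ⟨_, ⟨p, hp, rfl⟩, rfl⟩
      exact ⟨_, ⟨p, hp, rfl⟩, by simp only [MulAut.conj_apply, map_mul, map_inv, htp]⟩
  have hall : ∀ P : Subgroup Q, Nat.card P = 7 → P.map σ.toMonoidHom = P := by
    intro P hP
    have hmz : (zpowers t).map σ.toMonoidHom = zpowers t := by
      rw [MonoidHom.map_zpowers]; simp [hσ]
    by_cases hPt : P = zpowers t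
    · rw [hPt, hmz]
    have hinj : Function.Injective σ.toMonoidHom := σ.injective
    obtain ⟨k, hk⟩ := horb P (P.map σ.toMonoidHom) hP
      (by rw [Subgroup.card_map_of_injective hinj, hP]) hPt
      (fun h => hPt (Subgroup.map_injective hinj (h.trans hmz.symm)))
    have h33 : cj (t ^ (k + (k + k))) P = P := by
      have e : ((P.map σ.toMonoidHom).map σ.toMonoidHom).map σ.toMonoidHom = P := by
        ext x
        simp only [Subgroup.mem_map, MulEquiv.coe_toMonoidHom]
        constructor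
        · rintro ⟨_, ⟨_, ⟨p, hp, rfl⟩, rfl⟩, rfl⟩
          rw [h3]; exact hp
        · exact fun hx => ⟨_, ⟨_, ⟨x, hx, rfl⟩, rfl⟩, h3 x⟩
      conv_rhs => rw [← e]
      simp only [hk, hmapcj]
      rw [cj_mul_apply, cj_mul_apply, ← pow_add, ← pow_add, Nat.add_assoc]
    have h7 : 7 ∣ k + (k + k) := by
      by_contra hc
      obtain ⟨k', hk'⟩ := exists_pow_eq_self_of_coprime (x := t) (n := k + (k + k))
        (by rw [ht]; exact ((Nat.Prime.coprime_iff_not_dvd (by norm_num)).mpr hc).symm)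
      have htP : t ∈ normalizer (P : Set Q) := by
        rw [← hk']; exact pow_mem (cj_eq_iff.mp h33) k'
      have hp : IsPGroup 7 (zpowers t) :=
        IsPGroup.of_card (n := 1) (by rw [Nat.card_zpowers, ht, pow_one])
      obtain ⟨P', hP'⟩ : ∃ P' : Sylow 7 Q, (P' : Subgroup Q) = P :=
        ⟨Sylow.ofCard P (by rw [hP, hf, pow_one]), rfl⟩
      have h := hp.inf_normalizer_sylow P'
      rw [hP'] at h
      have htn' : t ∈ normalizer (P' : Set Q) := by
        rw [← Sylow.coe_coe, hP']; exact htP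
      refine hPt (Subgroup.eq_of_le_of_card_ge
        (zpowers_le.mpr (mem_inf.mp (h.le (mem_inf.mpr ⟨mem_zpowers t, htn'⟩))).2) ?_).symm
      rw [hP, Nat.card_zpowers, ht]
    have h7k : 7 ∣ k := by omega
    rw [hk]
    obtain ⟨m, rfl⟩ := h7k
    rw [pow_mul, ← ht, pow_orderOf_eq_one, one_pow, cj_one_apply]
  set R := MonoidHom.eqLocus σ.toMonoidHom (MonoidHom.id Q) with hRdef
  -- elements of order seven outside `⟨t⟩` are fixed
  have hfixed : ∀ q : Q, orderOf q = 7 → q ∉ zpowers t → σ q = q := by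
    intro q hq hqt
    have hq7 : Nat.card (cj q (zpowers t)) = 7 := by rw [card_cj, Nat.card_zpowers, ht]
    have h := hall _ hq7
    have hconj : (cj q (zpowers t)).map σ.toMonoidHom = cj (σ q) (zpowers t) := by
      simp only [cj, MonoidHom.map_zpowers]
      simp [hσ]
    rw [hconj] at h
    have hmem : q⁻¹ * σ q ∈ normalizer (zpowers t : Set Q) := by
      rw [← cj_eq_iff, ← cj_mul_apply, h, cj_mul_apply, inv_mul_cancel, cj_one_apply]
    have hσq : (zpowers q).map σ.toMonoidHom = zpowers q :=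
      hall _ (by rw [Nat.card_zpowers, hq])
    have hmq : σ q ∈ zpowers q := hσq.le ⟨q, mem_zpowers q, rfl⟩
    by_contra hne
    apply hqt
    refine hnorm q hq ?_
    have hd : q⁻¹ * σ q ∈ zpowers q := mul_mem (inv_mem (mem_zpowers q)) hmq
    have hd1 : q⁻¹ * σ q ≠ 1 := fun h1 => hne (inv_mul_eq_one.mp h1).symm
    have hgen : zpowers (q⁻¹ * σ q) = zpowers q := by
      refine Subgroup.eq_of_le_of_card_ge (zpowers_le.mpr hd) ?_
      rw [Nat.card_zpowers, Nat.card_zpowers, hq]
      have h7' : orderOf (q⁻¹ * σ q) ∣ 7 := by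
        rw [← hq, ← Nat.card_zpowers q]
        exact orderOf_dvd_natCard _ hd
      rcases (Nat.dvd_prime (by norm_num)).mp h7' with h' | h'
      · exact absurd (orderOf_eq_one_iff.mp h') hd1
      · omega
    exact (hgen ▸ zpowers_le.mpr hmem) (mem_zpowers q)
  -- some subgroup of order seven other than `⟨t⟩`
  obtain ⟨P, hP⟩ : ∃ P : Sylow 7 Q, P ≠ P0 := by
    haveI : Nontrivial (Sylow 7 Q) := Finite.one_lt_card_iff_nontrivial.mp (by omega)
    exact exists_ne P0
  obtain ⟨q, hqP, hqt⟩ : ∃ q ∈ (P : Subgroup Q), q ∉ zpowers t := by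
    by_contra h
    push Not at h
    exact hP (Sylow.ext (by
      rw [hP0]
      exact Subgroup.eq_of_le_of_card_ge h (by rw [hcardP, Nat.card_zpowers, ht])))
  have hq : orderOf q = 7 := by
    have h := Subgroup.orderOf_dvd_natCard (P : Subgroup Q) hqP
    rw [hcardP] at h
    rcases (Nat.dvd_prime (by norm_num)).mp h with h' | h'
    · exact absurd (orderOf_eq_one_iff.mp h' ▸ one_mem _) hqt
    · exact h'
  have hqR : q ∈ R := hfixed q hq hqt
  have htR : t ∈ R := hσ
  -- the fixed subgroup has two subgroups of order seven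
  have hRdvd : Nat.card R ∣ 168 := hQ ▸ Subgroup.card_subgroup_dvd_card R
  have h7R : 7 ∣ Nat.card R := ht ▸ Subgroup.orderOf_dvd_natCard R htR
  have hfR : (Nat.card R).factorization 7 = 1 := by
    obtain ⟨m, hm⟩ := h7R
    have hm0 : m ≠ 0 := fun h => (Nat.card_pos (α := R)).ne' (by rw [hm, h, mul_zero])
    have hm24 : m ∣ 24 := by
      have h : 7 * m ∣ 7 * 24 := by rw [← hm]; exact hRdvd
      exact Nat.dvd_of_mul_dvd_mul_left (by norm_num) h
    rw [hm, Nat.factorization_mul (by norm_num) hm0, Finsupp.add_apply,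
      Nat.Prime.factorization_self (by norm_num),
      Nat.factorization_eq_zero_of_not_dvd fun h => by
        have := h.trans hm24; norm_num at this]
  let T1 : Sylow 7 R := Sylow.ofCard (zpowers (⟨t, htR⟩ : R))
    (by rw [Nat.card_zpowers, Subgroup.orderOf_mk, ht, hfR, pow_one])
  let T2 : Sylow 7 R := Sylow.ofCard (zpowers (⟨q, hqR⟩ : R))
    (by rw [Nat.card_zpowers, Subgroup.orderOf_mk, hq, hfR, pow_one])
  have hT : T1 ≠ T2 := by
    intro h
    have h' : zpowers (⟨t, htR⟩ : R) = zpowers (⟨q, hqR⟩ : R) :=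
      congrArg (fun S : Sylow 7 R => (S : Subgroup R)) h
    obtain ⟨k, hk⟩ := h'.ge (mem_zpowers _)
    exact hqt ⟨k, congrArg Subtype.val hk⟩
  haveI : Nontrivial (Sylow 7 R) := ⟨⟨T1, T2, hT⟩⟩
  have h1 := card_sylow_modEq_one 7 R
  have hone := Finite.one_lt_card_iff_nontrivial.mpr (inferInstance : Nontrivial (Sylow 7 R))
  have h2 : Nat.card (Sylow 7 R) ∣ 24 := by
    refine T1.card_dvd_index.trans ?_
    have h' := (T1 : Subgroup R).card_mul_index
    rw [Sylow.card_eq_multiplicity, hfR, pow_one] at h'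
    have h : 7 * (T1 : Subgroup R).index ∣ 7 * 24 := by rw [h']; exact hRdvd
    exact Nat.dvd_of_mul_dvd_mul_left (by norm_num) h
  have h8 : Nat.card (Sylow 7 R) = 8 := by
    have hle := Nat.le_of_dvd (by norm_num) h2
    unfold Nat.ModEq at h1
    rcases h2 with ⟨k, hk⟩
    generalize Nat.card (Sylow 7 R) = n at *
    interval_cases n <;> omega
  exact h8 ▸ T1.card_dvd_index.trans (T1 : Subgroup R).index_dvd_card

/-- An element of order seven acting without fixed points is transitive on seven points. -/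
theorem transitive_seven {U : Subgroup G} [Finite G] (hU : Nat.card U = 8) {y : G}
    (hy : y ∈ normalizer (U : Set G)) (h7 : y ^ 7 = 1) {v : G} (hv : v ∈ U)
    (hne : y * v * y⁻¹ ≠ v) :
    (∀ u ∈ U, u ≠ 1 → ∀ w ∈ U, w ≠ 1 → ∃ k : ℕ, w = y ^ k * u * (y ^ k)⁻¹) ∧
      ∀ u ∈ U, u ≠ 1 → y * u * y⁻¹ ≠ u := by
  classical
  haveI := Fintype.ofFinite U
  have hv1 : v ≠ 1 := fun h => hne (by simp [h])
  let F : Subgroup G := U ⊓ centralizer {y}
  have hinj : ∀ u ∈ U, y * u * y⁻¹ ≠ u → ∀ a b : Fin 7,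
      y ^ (a : ℕ) * u * (y ^ (a : ℕ))⁻¹ = y ^ (b : ℕ) * u * (y ^ (b : ℕ))⁻¹ → a = b := by
    intro u _ hu a b hab
    have key : ∀ i j : ℕ, i ≤ j → j < 7 →
        y ^ i * u * (y ^ i)⁻¹ = y ^ j * u * (y ^ j)⁻¹ → i = j := by
      intro i j hij hj h
      by_contra hne'
      have hc : Commute (y ^ (j - i)) u := by
        obtain ⟨d, rfl⟩ := Nat.exists_eq_add_of_le hij
        rw [Nat.add_sub_cancel_left]
        have h2 : u = y ^ d * u * (y ^ d)⁻¹ := by
          have h' := congrArg (fun z => (y ^ i)⁻¹ * z * y ^ i) h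
          simpa [pow_add, mul_assoc] using h'
        calc y ^ d * u = y ^ d * u * (y ^ d)⁻¹ * y ^ d := by group
          _ = u * y ^ d := by rw [← h2]
      obtain ⟨m, hm⟩ := exists_pow_eq_self_of_coprime (x := y) (n := j - i) (by
        refine Nat.Coprime.coprime_dvd_right (orderOf_dvd_of_pow_eq_one h7) ?_
        exact ((Nat.Prime.coprime_iff_not_dvd (by norm_num)).mpr fun hd => by omega).symm)
      have : Commute y u := by
        have := hc.pow_left m
        rwa [hm] at this
      exact hu (by rw [this.eq]; group)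
    rcases le_total (a : ℕ) b with h | h
    · exact Fin.ext (key _ _ h b.2 hab)
    · exact Fin.ext (key _ _ h a.2 hab.symm).symm
  -- the orbit of `v` is everything
  let f : Fin 7 → {w : U // (w : G) ≠ 1} := fun i =>
    ⟨⟨y ^ (i : ℕ) * v * (y ^ (i : ℕ))⁻¹,
      (mem_normalizer_iff.mp (pow_mem hy _) v).mp hv⟩, fun h => hv1 (conj_eq_one_iff.mp h)⟩
  have hf : Function.Injective f := fun a b h =>
    hinj v hv hne a b (congrArg (fun w : {w : U // (w : G) ≠ 1} => ((w : U) : G)) h)
  have hcard : Fintype.card {w : U // (w : G) ≠ 1} = 7 := by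
    rw [Fintype.card_congr (Equiv.subtypeEquivRight (q := fun w : U => w ≠ 1) fun w => by simp),
      Fintype.card_subtype_compl, Fintype.card_subtype_eq, ← Nat.card_eq_fintype_card, hU]
  have hbij : Function.Bijective f :=
    (Fintype.bijective_iff_injective_and_card f).mpr ⟨hf, by rw [Fintype.card_fin, hcard]⟩
  have hfix : ∀ u ∈ U, u ≠ 1 → y * u * y⁻¹ ≠ u := by
    intro u hu hu1 h
    obtain ⟨i, hi⟩ := hbij.2 ⟨⟨u, hu⟩, hu1⟩
    have hi' : y ^ (i : ℕ) * v * (y ^ (i : ℕ))⁻¹ = u :=
      congrArg (fun w : {w : U // (w : G) ≠ 1} => ((w : U) : G)) hi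
    apply hne
    rw [← hi'] at h
    have := congrArg (fun z => (y ^ (i : ℕ))⁻¹ * z * y ^ (i : ℕ)) h
    have hcomm : y ^ (i : ℕ) * y = y * y ^ (i : ℕ) := (Commute.pow_self y _).eq
    calc y * v * y⁻¹
        = (y ^ (i : ℕ))⁻¹ * (y ^ (i : ℕ) * y) * v * (y⁻¹ * (y ^ (i : ℕ))⁻¹) * y ^ (i : ℕ) := by
          group
      _ = (y ^ (i : ℕ))⁻¹ * (y * y ^ (i : ℕ)) * v * ((y * y ^ (i : ℕ))⁻¹) * y ^ (i : ℕ) := by
          rw [← hcomm, mul_inv_rev]
      _ = (y ^ (i : ℕ))⁻¹ * (y * (y ^ (i : ℕ) * v * (y ^ (i : ℕ))⁻¹) * y⁻¹) * y ^ (i : ℕ) := by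
          group
      _ = v := by rw [h]; group
  refine ⟨fun u hu hu1 w hw hw1 => ?_, hfix⟩
  let g : Fin 7 → {w : U // (w : G) ≠ 1} := fun i =>
    ⟨⟨y ^ (i : ℕ) * u * (y ^ (i : ℕ))⁻¹,
      (mem_normalizer_iff.mp (pow_mem hy _) u).mp hu⟩, fun h => hu1 (conj_eq_one_iff.mp h)⟩
  have hg : Function.Injective g := fun a b h => hinj u hu (hfix u hu hu1) a b
    (congrArg (fun w : {w : U // (w : G) ≠ 1} => ((w : U) : G)) h)
  obtain ⟨i, hi⟩ := ((Fintype.bijective_iff_injective_and_card g).mpr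
    ⟨hg, by rw [Fintype.card_fin, hcard]⟩).2 ⟨⟨w, hw⟩, hw1⟩
  exact ⟨i, (congrArg (fun w : {w : U // (w : G) ≠ 1} => ((w : U) : G)) hi).symm⟩

variable [Finite G] {A B C : Subgroup G} {y c : G}

theorem hyper_le (L : Local A) (O : Orbits A) (T : Trio A B C y c) :
    ∀ D ∈ Conjs A, D ≠ A → rk A D = 8 →
      A ⊓ normalizer (D : Set G) = A ⊓ normalizer (B : Set G) → D = B ∨ D = C := by
  classical
  haveI := Fintype.ofFinite G
  haveI := Fintype.ofFinite (Subgroup G)
  set R : Finset (Subgroup G) :=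
    Finset.univ.filter fun D => D ∈ Conjs A ∧ D ≠ A ∧ rk A D = 8 with hR
  have hR30 : R.card = 30 := by
    rw [← O.card_eight, Nat.card_eq_fintype_card, Fintype.card_subtype]
  let f : Subgroup G → Subgroup G := fun D => A ⊓ normalizer (D : Set G)
  have hRm : ∀ D, D ∈ R ↔ D ∈ Conjs A ∧ D ≠ A ∧ rk A D = 8 := fun D => by simp [hR]
  have hmove : ∀ n ∈ normalizer (A : Set G), ∀ D ∈ R, cj n D ∈ R ∧ f (cj n D) = cj n (f D) := by
    intro n hn D hD
    obtain ⟨h1, h2, h3⟩ := (hRm D).mp hD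
    have hA : cj n A = A := cj_eq_iff.mpr hn
    refine ⟨(hRm _).mpr ⟨cj_mem_conjs n h1, fun h => h2 (cj_inj (h.trans hA.symm)), ?_⟩, ?_⟩
    · have := rk_cj_eq (A := A) n D
      rwa [hA, h3] at this
    · simp only [f]; rw [cj_inf, hA, cj_normalizer]
  have hBR : B ∈ R := (hRm B).mpr ⟨T.mem_B, T.ne.1, T.rk_B⟩
  have hCR : C ∈ R := (hRm C).mpr ⟨T.cj_B ▸ cj_mem_conjs c T.mem_B, T.ne.2.1, T.rk_C⟩
  set s := (R.filter fun D => f D = f B).card with hs
  have hfib : ∀ D ∈ R, (R.filter fun E => f E = f D).card = s := by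
    have hle : ∀ D ∈ R, ∀ D' ∈ R,
        (R.filter fun E => f E = f D).card ≤ (R.filter fun E => f E = f D').card := by
      intro D hD D' hD'
      obtain ⟨h1, h2, h3⟩ := (hRm D).mp hD
      obtain ⟨h1', h2', h3'⟩ := (hRm D').mp hD'
      obtain ⟨n, hn, hnD⟩ := O.trans D h1 D' h1' h2 h2' (h3.trans h3'.symm)
      refine Finset.card_le_card_of_injOn (fun E => cj n E) (fun E hE => ?_)
        (fun E _ E' _ h => cj_inj h)
      simp only [Finset.coe_filter, Set.mem_ofPred_eq] at hE ⊢
      refine ⟨(hmove n hn E hE.1).1, ?_⟩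
      rw [(hmove n hn E hE.1).2, hE.2, ← (hmove n hn D hD).2, hnD]
    exact fun D hD => le_antisymm (hle D hD B hBR) (hle B hBR D hD)
  have hs30 : s ∣ 30 := by
    rw [← hR30, Finset.card_eq_sum_card_image f R, Finset.sum_const_nat (m := s)]
    · exact dvd_mul_left _ _
    · intro V hV
      obtain ⟨D, hD, rfl⟩ := Finset.mem_image.mp hV
      exact hfib D hD
  set X : Finset G := Finset.univ.filter fun a => a ∈ A ∧ a ≠ 1 with hX
  have hfin : ∀ V : Subgroup G, (Finset.univ.filter fun a : G => a ∈ V ∧ a ≠ 1).card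
      = Nat.card V - 1 := by
    intro V
    have h1 : (Finset.univ.filter fun a : G => a ∈ V ∧ a ≠ 1)
        = (Finset.univ.filter fun a : G => a ∈ V).erase 1 := by
      ext a; simp [and_comm]
    rw [h1, Finset.card_erase_of_mem (by simp), Nat.card_eq_fintype_card, Fintype.card_subtype]
  have hX15 : X.card = 15 := by rw [hX, hfin, L.card]
  set P : G → Finset (Subgroup G) := fun a => R.filter fun D => a ∈ f D with hP
  have hPle : ∀ a ∈ X, ∀ b ∈ X, (P a).card ≤ (P b).card := by
    intro a ha b hb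
    simp only [hX, Finset.mem_filter, Finset.mem_univ, true_and] at ha hb
    obtain ⟨n, hn, hab⟩ := L.trans a ha.1 b hb.1 ha.2 hb.2
    refine Finset.card_le_card_of_injOn (fun D => cj n D) (fun D hD => ?_)
      (fun D _ D' _ h => cj_inj h)
    simp only [hP, Finset.coe_filter, Set.mem_ofPred_eq] at hD ⊢
    refine ⟨(hmove n hn D hD.1).1, ?_⟩
    rw [(hmove n hn D hD.1).2, ← hab]
    exact conj_mem_cj hD.2
  obtain ⟨a0, ha0⟩ : X.Nonempty := Finset.card_pos.mp (by omega)
  have hm14 : (P a0).card = 14 := by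
    have h := Finset.sum_card_bipartiteAbove_eq_sum_card_bipartiteBelow
      (fun (a : G) (D : Subgroup G) => a ∈ f D) (s := X) (t := R)
    change ∑ a ∈ X, (P a).card = _ at h
    rw [Finset.sum_const_nat (m := (P a0).card) (fun a ha => le_antisymm (hPle a ha a0 ha0)
      (hPle a0 ha0 a ha)), hX15, Finset.sum_const_nat (m := 7) (fun D hD => ?_), hR30] at h
    · omega
    · have e : X.bipartiteBelow (fun (a : G) (D : Subgroup G) => a ∈ f D) D
          = Finset.univ.filter fun a => a ∈ f D ∧ a ≠ 1 := by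
        ext a
        simp only [Finset.mem_bipartiteBelow, hX, Finset.mem_filter, Finset.mem_univ, true_and]
        exact ⟨fun h => ⟨h.2, h.1.2⟩, fun h => ⟨⟨(mem_inf.mp h.1).1, h.2⟩, h.1⟩⟩
      have h8 : Nat.card (f D) = 8 := ((hRm D).mp hD).2.2
      rw [e, hfin, h8]
  have hs14 : s ∣ 14 := by
    rw [← hm14, Finset.card_eq_sum_card_image f (P a0), Finset.sum_const_nat (m := s)]
    · exact dvd_mul_left _ _
    · intro V hV
      obtain ⟨D, hD, rfl⟩ := Finset.mem_image.mp hV
      simp only [hP, Finset.mem_filter] at hD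
      rw [← hfib D hD.1]
      congr 1
      ext E
      simp only [hP, Finset.mem_filter]
      exact ⟨fun h => ⟨h.1.1, h.2⟩, fun h => ⟨⟨h.1, h.2 ▸ hD.2⟩, h.2⟩⟩
  have hs2 : s ≤ 2 := Nat.le_of_dvd (by norm_num) (by
    have := Nat.dvd_gcd hs14 hs30
    norm_num at this
    exact this)
  intro D hD hDA h8 hU
  have hpair : ({B, C} : Finset (Subgroup G)) = R.filter fun E => f E = f B := by
    refine Finset.eq_of_subset_of_card_le ?_ (by rw [Finset.card_pair T.ne.2.2]; exact hs2)
    intro E hE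
    simp only [Finset.mem_insert, Finset.mem_singleton] at hE
    rcases hE with rfl | rfl
    · simp [hBR]
    · simp [hCR, f, T.same]
  have hmem : D ∈ ({B, C} : Finset (Subgroup G)) := by
    rw [hpair, Finset.mem_filter]
    exact ⟨(hRm D).mpr ⟨hD, hDA, h8⟩, hU⟩
  simpa using hmem

/-- The stabilizer of the two subgroups. -/
theorem card_stab (L : Local A) (O : Orbits A) (T : Trio A B C y c) :
    Nat.card ↥(normalizer (A : Set G) ⊓ normalizer (B : Set G)) = 10752 := by
  classical
  haveI := Fintype.ofFinite G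
  haveI := Fintype.ofFinite (Subgroup G)
  set N := normalizer (A : Set G) with hN
  set S := N ⊓ normalizer (B : Set G) with hS
  have hcard : ∀ V : Subgroup G, (Finset.univ.filter fun a : G => a ∈ V).card = Nat.card V :=
    fun V => by rw [Nat.card_eq_fintype_card, Fintype.card_subtype]
  have hmaps : Set.MapsTo (fun n : G => cj n B) ↑(Finset.univ.filter fun a : G => a ∈ N)
      ↑(Finset.univ.filter fun D : Subgroup G => D ∈ Conjs A ∧ D ≠ A ∧ rk A D = 8) := by
    intro n hn
    simp only [Finset.coe_filter, Finset.mem_univ, true_and, Set.mem_ofPred_eq] at hn ⊢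
    have hA : cj n A = A := cj_eq_iff.mpr hn
    refine ⟨cj_mem_conjs n T.mem_B, fun h => T.ne.1 (cj_inj (h.trans hA.symm)), ?_⟩
    have := rk_cj_eq (A := A) n B
    rwa [hA, T.rk_B] at this
  have h := Finset.card_eq_sum_card_fiberwise hmaps
  rw [hcard, L.card_norm, Finset.sum_const_nat (m := Nat.card S), ← Fintype.card_subtype,
    ← Nat.card_eq_fintype_card, O.card_eight] at h
  · omega
  intro D hD
  simp only [Finset.mem_filter, Finset.mem_univ, true_and] at hD
  obtain ⟨n, hn, rfl⟩ := O.trans B T.mem_B D hD.1 T.ne.1 hD.2.1 (T.rk_B.trans hD.2.2.symm)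
  rw [← hcard, ← Finset.card_map ⟨fun s : G => n * s, mul_right_injective n⟩
    (s := Finset.univ.filter fun a : G => a ∈ S)]
  congr 1
  ext g
  simp only [Finset.mem_filter, Finset.mem_univ, true_and, Finset.mem_map,
    Function.Embedding.coeFn_mk]
  constructor
  · rintro ⟨hg, hgB⟩
    refine ⟨n⁻¹ * g, mem_inf.mpr ⟨mul_mem (inv_mem hn) hg, cj_eq_iff.mp ?_⟩, by simp⟩
    rw [← cj_mul_apply, hgB, cj_mul_apply, inv_mul_cancel, cj_one_apply]
  · rintro ⟨s, hs, rfl⟩
    obtain ⟨hs1, hs2⟩ := mem_inf.mp hs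
    exact ⟨mul_mem hn hs1, by rw [← cj_mul_apply, cj_eq_iff.mpr hs2]⟩

/-- A subgroup of the stabilizer of a trio meeting the octad subgroup trivially, of order divisible
by sixty-four. -/
theorem exists_large (L : Local A) (O : Orbits A) (T : Trio A B C y c) :
    ∃ H ≤ normalizer (A : Set G), A ⊓ H = ⊥ ∧ 64 ∣ Nat.card H := by
  classical
  haveI := Fintype.ofFinite G
  set N := normalizer (A : Set G) with hN
  set S := N ⊓ normalizer (B : Set G) with hSdef
  set U := A ⊓ normalizer (B : Set G) with hUdef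
  set U' := B ⊓ normalizer (A : Set G) with hU'def
  have hAB : A ⊓ B = ⊥ := inf_eq_bot L T.mem_B T.ne.1
  have hAn : A ≤ N := le_normalizer
  have hU8 : Nat.card U = 8 := T.rk_B
  have hU'8 : Nat.card U' = 8 := (O.rk_symm B T.mem_B T.ne.1).trans T.rk_B
  have hS : Nat.card S = 10752 := card_stab L O T
  have hAS : A ⊓ S = U := by
    rw [hSdef, ← inf_assoc, inf_eq_left.mpr hAn]
  have hUS : U ≤ S := by
    intro u hu
    obtain ⟨h1, h2⟩ := mem_inf.mp hu
    exact mem_inf.mpr ⟨hAn h1, h2⟩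
  have hU'S : U' ≤ S := by
    intro u hu
    obtain ⟨h1, h2⟩ := mem_inf.mp hu
    exact mem_inf.mpr ⟨h2, le_normalizer h1⟩
  have hSU : ∀ s ∈ S, cj s U = U := by
    intro s hs
    obtain ⟨h1, h2⟩ := mem_inf.mp hs
    rw [hUdef, cj_inf, cj_normalizer, cj_eq_iff.mpr h1, cj_eq_iff.mpr h2]
  have hSU' : ∀ s ∈ S, cj s U' = U' := by
    intro s hs
    obtain ⟨h1, h2⟩ := mem_inf.mp hs
    rw [hU'def, cj_inf, cj_normalizer, cj_eq_iff.mpr h1, cj_eq_iff.mpr h2]
  -- the third subgroup is fixed by the stabilizer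
  have hSC : S ≤ normalizer (C : Set G) := by
    intro s hs
    obtain ⟨h1, h2⟩ := mem_inf.mp hs
    have hA : cj s A = A := cj_eq_iff.mpr h1
    have hB : cj s B = B := cj_eq_iff.mpr h2
    rw [← cj_eq_iff]
    rcases hyper_le L O T (cj s C) (cj_mem_conjs s (T.cj_B ▸ cj_mem_conjs c T.mem_B))
      (fun h => T.ne.2.1 (cj_inj (h.trans hA.symm)))
      (by have := rk_cj_eq (A := A) s C; rwa [hA, T.rk_C] at this)
      (by
        rw [← cj_normalizer, ← hA, ← cj_inf, hA, ← T.same]
        exact hSU s hs) with h | h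
    · exact absurd (cj_inj (h.trans hB.symm)) T.ne.2.2.symm
    · exact h
  have hcS : cj c S = S := by
    refine (Subgroup.eq_of_le_of_card_ge ?_ (card_cj c S).le).symm
    rw [hSdef, hN, cj_inf, cj_normalizer, cj_normalizer, T.cj_A, T.cj_B]
    exact fun s hs => mem_inf.mpr ⟨(mem_inf.mp hs).2, hSC hs⟩
  have hcU : cj c U = U' := by
    have h2 : cj c (A ⊓ normalizer (C : Set G)) = U' := by
      rw [cj_inf, cj_normalizer, T.cj_A, T.cj_C]
    rw [← h2, hUdef, T.same]
  -- `U` and `U'`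
  have hUc : ∀ u ∈ U, ∀ v ∈ U', u * v = v * u := fun u hu v hv => commute_of_mem hAB hu hv
  set M := S ⊓ centralizer (U : Set G) with hMdef
  have hUinv : ∀ u ∈ U, u⁻¹ = u := fun u hu =>
    inv_eq_of_mul_eq_one_right (L.sq u (mem_inf.mp hu).1)
  have hUab : ∀ u ∈ U, ∀ v ∈ U, u * v = v * u := by
    intro u hu v hv
    have h := hUinv _ (mul_mem hu hv)
    rw [mul_inv_rev, hUinv u hu, hUinv v hv] at h
    exact h.symm
  have hUM : U ≤ M := fun u hu => mem_inf.mpr ⟨hUS hu, mem_centralizer_iff.mpr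
    fun v hv => hUab v hv u hu⟩
  have hU'M : U' ≤ M := fun u hu => mem_inf.mpr ⟨hU'S hu, mem_centralizer_iff.mpr
    fun v hv => hUc v hv u hu⟩
  let μ : U × U' → M := fun p => ⟨(p.1 : G) * p.2, mul_mem (hUM p.1.2) (hU'M p.2.2)⟩
  have hμ : Function.Injective μ := by
    intro p q h
    have h' : (p.1 : G) * p.2 = q.1 * q.2 := congrArg Subtype.val h
    have h1 : (q.1 : G)⁻¹ * p.1 = q.2 * (p.2 : G)⁻¹ := by
      calc (q.1 : G)⁻¹ * p.1 = (q.1 : G)⁻¹ * (p.1 * p.2) * (p.2 : G)⁻¹ := by group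
        _ = _ := by rw [h']; group
    have hmem : (q.1 : G)⁻¹ * p.1 ∈ A ⊓ B := mem_inf.mpr
      ⟨(mem_inf.mp (mul_mem (inv_mem q.1.2) p.1.2)).1,
        h1 ▸ (mem_inf.mp (mul_mem q.2.2 (inv_mem p.2.2))).1⟩
    rw [hAB, mem_bot, inv_mul_eq_one] at hmem
    have e1 : p.1 = q.1 := Subtype.ext hmem.symm
    rw [e1] at h'
    exact Prod.ext e1 (Subtype.ext (mul_left_cancel h'))
  have hM64 : Nat.card M ≤ 64 := by
    obtain ⟨a0, ha0A, ha0U⟩ : ∃ a ∈ A, a ∉ U := by
      by_contra h
      push Not at h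
      have := Subgroup.card_le_of_le (show A ≤ U from h)
      rw [L.card, hU8] at this
      omega
    have hind : (U.subgroupOf A).index = 2 := by
      have h := (U.subgroupOf A).card_mul_index
      rw [Nat.card_congr (Subgroup.subgroupOfEquivOfLe (inf_le_left : U ≤ A)).toEquiv, hU8,
        L.card] at h
      omega
    have hcard : ∀ V : Subgroup G, (Finset.univ.filter fun a : G => a ∈ V).card = Nat.card V :=
      fun V => by rw [Nat.card_eq_fintype_card, Fintype.card_subtype]
    have hsA : ∀ s ∈ M, ∀ a ∈ A, s * a * s⁻¹ ∈ A := fun s hs a ha =>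
      (mem_normalizer_iff.mp (mem_inf.mp (mem_inf.mp hs).1).1 a).mp ha
    have himg : (Finset.univ.filter fun a : G => a ∈ M).image (fun s => a0⁻¹ * (s * a0 * s⁻¹))
        ⊆ Finset.univ.filter fun a : G => a ∈ U := by
      intro z hz
      simp only [Finset.mem_image, Finset.mem_filter, Finset.mem_univ, true_and] at hz ⊢
      obtain ⟨s, hs, rfl⟩ := hz
      have hnot : s * a0 * s⁻¹ ∉ U := fun h => ha0U (by
        rw [← hSU s (mem_inf.mp hs).1] at h
        simpa [mem_cj, mul_assoc] using h)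
      have := (Subgroup.mul_mem_iff_of_index_two hind (a := ⟨a0⁻¹, inv_mem ha0A⟩)
        (b := ⟨_, hsA s hs a0 ha0A⟩)).mpr (by
          simp only [mem_subgroupOf]
          exact iff_of_false (fun h => ha0U (by simpa using inv_mem h)) hnot)
      exact mem_subgroupOf.mp this
    refine (hcard M).symm.le.trans ?_
    refine le_trans (Finset.card_le_mul_card_image (f := fun s => a0⁻¹ * (s * a0 * s⁻¹)) _ 8
      fun z hz => ?_) ?_
    · obtain ⟨s0, hs0, rfl⟩ := Finset.mem_image.mp hz
      simp only [Finset.mem_filter, Finset.mem_univ, true_and] at hs0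
      refine (Finset.card_le_card_of_injOn (fun s => s0⁻¹ * s) (fun s hs => ?_)
        (fun a _ b _ h => mul_left_cancel h)).trans ((hcard U).le.trans hU8.le)
      simp only [Finset.coe_filter, Finset.mem_filter, Finset.mem_univ, true_and,
        Set.mem_ofPred_eq] at hs ⊢
      obtain ⟨hsM, hse⟩ := hs
      rw [← hAS]
      have hm : s0⁻¹ * s ∈ M := mul_mem (inv_mem hs0) hsM
      refine mem_inf.mpr ⟨L.cent (mem_centralizer_iff.mpr fun a ha => ?_), (mem_inf.mp hm).1⟩
      have hconj : s * a0 * s⁻¹ = s0 * a0 * s0⁻¹ := mul_left_cancel hse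
      have ha0c : a0 * (s0⁻¹ * s) = (s0⁻¹ * s) * a0 := by
        calc a0 * (s0⁻¹ * s) = s0⁻¹ * (s0 * a0 * s0⁻¹) * s := by group
          _ = _ := by rw [← hconj]; group
      have hu : ∀ u ∈ U, u * (s0⁻¹ * s) = (s0⁻¹ * s) * u := fun u hu =>
        mem_centralizer_iff.mp (mem_inf.mp hm).2 u hu
      by_cases haU : a ∈ U
      · exact hu a haU
      · have h2 := (Subgroup.mul_mem_iff_of_index_two hind (a := ⟨a0⁻¹, inv_mem ha0A⟩)
          (b := ⟨a, ha⟩)).mpr (by
            simp only [mem_subgroupOf]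
            exact iff_of_false (fun h => ha0U (by simpa using inv_mem h)) haU)
        have h3 := hu _ (mem_subgroupOf.mp h2)
        simp only [Subgroup.coe_mul] at h3
        calc a * (s0⁻¹ * s) = a0 * (a0⁻¹ * a * (s0⁻¹ * s)) := by group
          _ = a0 * (s0⁻¹ * s) * (a0⁻¹ * a) := by rw [h3]; group
          _ = _ := by rw [ha0c]; group
    · exact (Nat.mul_le_mul_left 8
        ((Finset.card_le_card himg).trans ((hcard U).trans hU8).le)).trans (by norm_num)
  have hbij : Function.Bijective μ := by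
    haveI := Fintype.ofFinite M
    haveI := Fintype.ofFinite (U × U')
    refine (Fintype.bijective_iff_injective_and_card μ).mpr ⟨hμ, le_antisymm
      (Fintype.card_le_of_injective μ hμ) ?_⟩
    rw [← Nat.card_eq_fintype_card, ← Nat.card_eq_fintype_card, Nat.card_prod, hU8, hU'8]
    exact hM64
  have hM : Nat.card M = 64 := by
    rw [← Nat.card_eq_of_bijective μ hbij, Nat.card_prod, hU8, hU'8]
  have hU'ab : ∀ u ∈ U', ∀ v ∈ U', u * v = v * u := by
    intro u hu v hv
    rw [← hcU, mem_cj] at hu hv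
    calc u * v = c * (c⁻¹ * u * c * (c⁻¹ * v * c)) * c⁻¹ := by group
      _ = c * (c⁻¹ * v * c * (c⁻¹ * u * c)) * c⁻¹ := by rw [hUab _ hu _ hv]
      _ = v * u := by group
  have hMcent : ∀ m ∈ M, ∀ v ∈ U', v * m = m * v := by
    intro m hm v hv
    obtain ⟨⟨u, u'⟩, h⟩ := hbij.2 ⟨m, hm⟩
    have h' : (u : G) * u' = m := congrArg Subtype.val h
    rw [← h', ← mul_assoc, ← hUc u u.2 v hv, mul_assoc, hU'ab v hv u' u'.2, mul_assoc]
  have hcM : cj c M = M := by
    refine (Subgroup.eq_of_le_of_card_ge ?_ (card_cj c M).le).symm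
    intro m hm
    rw [mem_cj, hMdef]
    refine mem_inf.mpr ⟨?_, mem_centralizer_iff.mpr fun u hu => ?_⟩
    · rw [← mem_cj, hcS]; exact (mem_inf.mp hm).1
    · have := hMcent m hm (c * u * c⁻¹) (hcU.le (conj_mem_cj hu))
      calc u * (c⁻¹ * m * c) = c⁻¹ * (c * u * c⁻¹ * m) * c := by group
        _ = c⁻¹ * m * c * u := by rw [this]; group
  -- the element of order seven
  obtain ⟨hyA, hyB, -⟩ := T.fix
  have hyS : y ∈ S := mem_inf.mpr ⟨cj_eq_iff.mp hyA, cj_eq_iff.mp hyB⟩
  have hyM : y ∉ M := fun h => by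
    have := Subgroup.orderOf_dvd_natCard M h
    rw [T.order_y, hM] at this
    norm_num at this
  have hy7 : y ^ 7 = 1 := by rw [← T.order_y]; exact pow_orderOf_eq_one y
  obtain ⟨v, hvU, hyv⟩ : ∃ v ∈ U, y * v * y⁻¹ ≠ v := by
    by_contra h
    push Not at h
    refine hyM (mem_inf.mpr ⟨hyS, mem_centralizer_iff.mpr fun u hu => ?_⟩)
    conv_lhs => rw [← h u hu]
    group
  obtain ⟨htr, hfree⟩ := transitive_seven hU8 (cj_eq_iff.mp (hSU y hyS)) hy7 hvU hyv
  have hfreeM : ∀ m ∈ M, y * m * y⁻¹ = m → m = 1 := by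
    intro m hm hym
    obtain ⟨⟨u, u'⟩, h⟩ := hbij.2 ⟨m, hm⟩
    have h' : (u : G) * u' = m := congrArg Subtype.val h
    have hu2 : y * u * y⁻¹ ∈ U := (hSU y hyS).le (conj_mem_cj u.2)
    have hu2' : y * u' * y⁻¹ ∈ U' := (hSU' y hyS).le (conj_mem_cj u'.2)
    have hp : μ (⟨_, hu2⟩, ⟨_, hu2'⟩) = μ (u, u') := by
      refine Subtype.ext ?_
      show y * u * y⁻¹ * (y * u' * y⁻¹) = (u : G) * u'
      rw [h', ← hym, ← h']; group
    have hp' := hμ hp
    have e1 : y * u * y⁻¹ = u := congrArg (fun p : U × U' => (p.1 : G)) hp'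
    have e2 : y * u' * y⁻¹ = u' := congrArg (fun p : U × U' => (p.2 : G)) hp'
    have hu1 : (u : G) = 1 := by_contra fun hne => hfree u u.2 hne e1
    have hu'1 : (u' : G) = 1 := by
      have hw : c⁻¹ * u' * c ∈ U := mem_cj.mp (hcU.ge u'.2)
      by_contra hne
      refine hfree _ hw (fun h1 => hne (by
        calc (u' : G) = c * (c⁻¹ * u' * c) * c⁻¹ := by group
          _ = 1 := by rw [h1]; group)) ?_
      have hyc : y * c⁻¹ = c⁻¹ * y := (Commute.inv_right T.comm).eq
      calc y * (c⁻¹ * u' * c) * y⁻¹ = (y * c⁻¹) * u' * (y * c⁻¹)⁻¹ := by group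
        _ = c⁻¹ * (y * u' * y⁻¹) * c := by rw [hyc]; group
        _ = _ := by rw [e2]
    rw [← h', hu1, hu'1, one_mul]
  -- the quotient of order 168
  set M' := M.subgroupOf S with hM'
  have hMS : M ≤ S := inf_le_left
  have hM'card : Nat.card M' = 64 := by
    rw [hM', Nat.card_congr (Subgroup.subgroupOfEquivOfLe hMS).toEquiv, hM]
  have hMconj : ∀ s ∈ S, ∀ m ∈ M, s * m * s⁻¹ ∈ M := by
    intro s hs m hm
    have hs' : cj s M = M := by
      rw [hMdef, cj_inf, cj_eq_iff.mpr (le_normalizer hs)]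
      congr 1
      ext g
      rw [mem_cj, mem_centralizer_iff, mem_centralizer_iff]
      constructor
      · intro h u hu
        have := h (s⁻¹ * u * s) (mem_cj.mp ((hSU s hs).ge hu))
        calc u * g = s * (s⁻¹ * u * s * (s⁻¹ * g * s)) * s⁻¹ := by group
          _ = g * u := by rw [this]; group
      · intro h u hu
        have := h (s * u * s⁻¹) ((hSU s hs).le (conj_mem_cj hu))
        calc u * (s⁻¹ * g * s) = s⁻¹ * (s * u * s⁻¹ * g) * s := by group
          _ = _ := by rw [this]; group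
    exact hs'.le (conj_mem_cj hm)
  haveI hM'n : M'.Normal := ⟨fun m hm s => by
    rw [hM', mem_subgroupOf] at hm ⊢
    exact hMconj s s.2 m hm⟩
  let π : S →* S ⧸ M' := QuotientGroup.mk' M'
  have hπ : ∀ a b : S, π a = π b ↔ (a : G)⁻¹ * b ∈ M := fun a b => by
    rw [show (π a = π b) = ((a : S ⧸ M') = b) from rfl, QuotientGroup.eq, hM', mem_subgroupOf]
    rfl
  have hQ : Nat.card (S ⧸ M') = 168 := by
    have := M'.card_eq_card_quotient_mul_card_subgroup
    rw [hM'card, hS] at this
    omega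
  have hcS1 : ∀ s ∈ S, c * s * c⁻¹ ∈ S := fun s hs => hcS.le (conj_mem_cj hs)
  have hcS2 : ∀ s ∈ S, c⁻¹ * s * c ∈ S := fun s hs => mem_cj.mp (hcS.ge hs)
  let σ0 : S ≃* S :=
    { toFun := fun s => ⟨c * s * c⁻¹, hcS1 s s.2⟩
      invFun := fun s => ⟨c⁻¹ * s * c, hcS2 s s.2⟩
      left_inv := fun s => Subtype.ext (by simp [mul_assoc])
      right_inv := fun s => Subtype.ext (by simp [mul_assoc])
      map_mul' := fun a b => Subtype.ext (by simp [mul_assoc]) }
  have hσ0 : Subgroup.map (σ0 : S →* S) M' = M' := by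
    refine Subgroup.eq_of_le_of_card_ge ?_ (Subgroup.card_map_of_injective σ0.injective).ge
    rintro x ⟨m, hm, rfl⟩
    have hm' : (m : G) ∈ M := mem_subgroupOf.mp hm
    exact mem_subgroupOf.mpr (show c * (m : G) * c⁻¹ ∈ M from hcM.le (conj_mem_cj hm'))
  let σ : S ⧸ M' ≃* S ⧸ M' := QuotientGroup.congr M' M' σ0 hσ0
  have hσπ : ∀ s : S, σ (π s) = π (σ0 s) := fun s => rfl
  have hπsurj : Function.Surjective π := QuotientGroup.mk'_surjective M'
  have hc3 : c * c * c = 1 := by
    rw [mul_assoc, ← pow_three, ← T.order_c]; exact pow_orderOf_eq_one c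
  have hσ0three : ∀ s : S, σ0 (σ0 (σ0 s)) = s := fun s => by
    refine Subtype.ext ?_
    show c * (c * (c * (s : G) * c⁻¹) * c⁻¹) * c⁻¹ = s
    calc c * (c * (c * (s : G) * c⁻¹) * c⁻¹) * c⁻¹ = (c * c * c) * s * (c * c * c)⁻¹ := by group
      _ = s := by rw [hc3]; simp
  let t : S ⧸ M' := π ⟨y, hyS⟩
  have ht : orderOf t = 7 := by
    have h1 : orderOf t ∣ 7 := by
      refine orderOf_dvd_of_pow_eq_one ?_
      rw [← map_pow]
      convert map_one π
      exact Subtype.ext hy7
    rcases (Nat.dvd_prime (by norm_num)).mp h1 with h | h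
    · exfalso
      have h2 := orderOf_eq_one_iff.mp h
      rw [show (1 : S ⧸ M') = π 1 from (map_one π).symm, hπ] at h2
      exact hyM (by simpa using inv_mem h2)
    · exact h
  have hcomm : c * y * c⁻¹ = y := by rw [← T.comm]; group
  have hσt : σ t = t := by
    rw [hσπ]
    exact congrArg π (Subtype.ext hcomm)
  have hnn : ¬ (zpowers t).Normal := by
    intro hn
    have hcard : ∀ V : Subgroup G, (Finset.univ.filter fun a : G => a ∈ V).card = Nat.card V :=
      fun V => by rw [Nat.card_eq_fintype_card, Fintype.card_subtype]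
    have hj : ∀ s ∈ S, ∃ j : Fin 7, (y ^ (j : ℕ))⁻¹ * (s * y * s⁻¹) ∈ M := by
      intro s hs
      have h := hn.conj_mem t (mem_zpowers t) (π ⟨s, hs⟩)
      rw [← mem_powers_iff_mem_zpowers] at h
      obtain ⟨j, hj⟩ := h
      refine ⟨⟨j % 7, Nat.mod_lt _ (by norm_num)⟩, ?_⟩
      have hj' : t ^ (j % 7) = π (⟨s, hs⟩ * ⟨y, hyS⟩ * ⟨s, hs⟩⁻¹) := by
        simp only [map_mul, map_inv]
        rw [← ht, pow_mod_orderOf]
        exact hj
      rw [← map_pow, hπ] at hj'
      simpa using hj'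
    choose j hj using hj
    let key : G → Fin 7 × G := fun s => if hs : s ∈ S then (j s hs, s * v * s⁻¹) else (0, 1)
    have hsub : (Finset.univ.filter fun a : G => a ∈ S).image key ⊆
        Finset.univ ×ˢ (Finset.univ.filter fun a : G => a ∈ U) := by
      intro z hz
      simp only [Finset.mem_image, Finset.mem_filter, Finset.mem_univ, true_and] at hz
      obtain ⟨s, hs, rfl⟩ := hz
      simp only [key, dif_pos hs, Finset.mem_product, Finset.mem_filter, Finset.mem_univ, true_and]
      exact (hSU s hs).le (conj_mem_cj hvU)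
    have hle : (Finset.univ.filter fun a : G => a ∈ S).card ≤ 64 * (7 * 8) := by
      refine (Finset.card_le_mul_card_image (f := key) _ 64 fun z hz => ?_).trans
        (Nat.mul_le_mul_left 64 ((Finset.card_le_card hsub).trans ?_))
      · obtain ⟨s0, hs0, rfl⟩ := Finset.mem_image.mp hz
        simp only [Finset.mem_filter, Finset.mem_univ, true_and] at hs0
        refine (Finset.card_le_card_of_injOn (fun s => s0⁻¹ * s) (fun s hs => ?_)
          (fun a _ b _ h => mul_left_cancel h)).trans ((hcard M).le.trans hM.le)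
        simp only [Finset.coe_filter, Finset.mem_filter, Finset.mem_univ, true_and,
          Set.mem_ofPred_eq] at hs ⊢
        obtain ⟨hsS, hse⟩ := hs
        simp only [key, dif_pos hsS, dif_pos hs0, Prod.mk.injEq] at hse
        obtain ⟨hej, hev⟩ := hse
        set x := s0⁻¹ * s with hx
        have hxS : x ∈ S := mul_mem (inv_mem hs0) hsS
        have hxv : x * v * x⁻¹ = v := by
          calc x * v * x⁻¹ = s0⁻¹ * (s * v * s⁻¹) * s0 := by rw [hx]; group
            _ = v := by rw [hev]; group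
        -- `x` commutes with `y` modulo `M`
        have hz : x * y * x⁻¹ * y⁻¹ ∈ M := by
          have h1 := hj s hsS
          have h2 := hj s0 hs0
          rw [hej] at h1
          have h3 := mul_mem (inv_mem h2) h1
          have h4 : (s0 * y * s0⁻¹)⁻¹ * (s * y * s⁻¹) ∈ M := by
            convert h3 using 1
            group
          have h5 := hMconj y hyS _ (hMconj s0⁻¹ (inv_mem hs0) _ h4)
          convert h5 using 1
          rw [hx]; group
        refine mem_inf.mpr ⟨hxS, mem_centralizer_iff.mpr fun u hu => ?_⟩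
        have hstep : ∀ w ∈ U, x * w * x⁻¹ = w →
            x * (y * w * y⁻¹) * x⁻¹ = y * w * y⁻¹ := by
          intro w hw hxw
          have hyw : y * w * y⁻¹ ∈ U := (hSU y hyS).le (conj_mem_cj hw)
          have hzc := mem_centralizer_iff.mp (mem_inf.mp hz).2 _ hyw
          calc x * (y * w * y⁻¹) * x⁻¹
              = x * y * x⁻¹ * (x * w * x⁻¹) * (x * y * x⁻¹)⁻¹ := by group
            _ = x * y * x⁻¹ * y⁻¹ * (y * w * y⁻¹) * (x * y * x⁻¹ * y⁻¹)⁻¹ := by
              rw [hxw]; group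
            _ = _ := by rw [← hzc, mul_inv_cancel_right]
        have hall : ∀ k : ℕ, x * (y ^ k * v * (y ^ k)⁻¹) * x⁻¹ = y ^ k * v * (y ^ k)⁻¹ := by
          intro k
          induction k with
          | zero => simpa using hxv
          | succ k ih =>
            have hmem : y ^ k * v * (y ^ k)⁻¹ ∈ U := (hSU _ (pow_mem hyS k)).le (conj_mem_cj hvU)
            have := hstep _ hmem ih
            rw [pow_succ']
            simpa [mul_assoc] using this
        have hxu : x * u * x⁻¹ = u := by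
          by_cases hu1 : u = 1
          · simp [hu1]
          · obtain ⟨k, rfl⟩ := htr v hvU (fun h => hyv (by simp [h])) u hu hu1
            exact hall k
        calc u * x = x * u * x⁻¹ * x := by rw [hxu]
          _ = x * u := by group
      · rw [Finset.card_product, Finset.card_univ, Fintype.card_fin, hcard, hU8]
    rw [hcard, hS] at hle
    norm_num at hle
  have h8 := fixed_eight hQ σ (fun q => by
    obtain ⟨s, rfl⟩ := hπsurj q
    rw [hσπ, hσπ, hσπ, hσ0three]) ht hσt hnn
  -- fixed cosets have fixed elements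
  let H0 := S ⊓ centralizer ({c} : Set G)
  let π0 : H0 →* S ⧸ M' := π.comp (Subgroup.inclusion (inf_le_left : H0 ≤ S))
  have hR : MonoidHom.eqLocus σ.toMonoidHom (MonoidHom.id _) ≤ π0.range := by
    intro q hq
    obtain ⟨s, rfl⟩ := hπsurj q
    have hq' : π (σ0 s) = π s := (hσπ s).symm.trans hq
    have hs1 : (s : G)⁻¹ * (c * s * c⁻¹) ∈ M := (hπ s (σ0 s)).mp hq'.symm
    haveI : Fact (Nat.Prime 3) := ⟨by norm_num⟩
    haveI := Fintype.ofFinite M
    let e : M → M := fun m => ⟨(s : G)⁻¹ * (c * s * c⁻¹) * (c * m * c⁻¹),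
      mul_mem hs1 (hcM.le (conj_mem_cj m.2))⟩
    have he : ∀ m, e (e (e m)) = m := fun m => by
      refine Subtype.ext ?_
      show (s : G)⁻¹ * (c * s * c⁻¹) * (c * ((s : G)⁻¹ * (c * s * c⁻¹) *
        (c * ((s : G)⁻¹ * (c * s * c⁻¹) * (c * (m : G) * c⁻¹)) * c⁻¹)) * c⁻¹) = m
      calc _ = (s : G)⁻¹ * ((c * c * c) * (s * m) * (c * c * c)⁻¹) := by group
        _ = _ := by rw [hc3]; group
    let E : Equiv.Perm M :=
      { toFun := e
        invFun := fun m => e (e m)
        left_inv := he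
        right_inv := he }
    have hE : E ^ 3 ^ 1 = 1 := Equiv.ext fun m => by
      simp only [pow_succ, pow_zero, one_mul, Equiv.Perm.coe_mul, Function.comp_apply,
        Equiv.Perm.coe_one, id_eq]
      exact he m
    obtain ⟨m, hm⟩ := Equiv.Perm.exists_fixed_point_of_prime (p := 3) (n := 1)
      (by rw [← Nat.card_eq_fintype_card, hM]; norm_num) hE
    have hm' : (s : G)⁻¹ * (c * s * c⁻¹) * (c * m * c⁻¹) = m := congrArg Subtype.val hm
    have hsm : (s : G) * m ∈ H0 := by
      refine mem_inf.mpr ⟨mul_mem s.2 (hMS m.2), mem_centralizer_singleton_iff.mpr ?_⟩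
      conv_lhs => rw [← hm']
      group
    refine ⟨⟨_, hsm⟩, ?_⟩
    refine (hπ _ _).mpr ?_
    show ((s : G) * m)⁻¹ * s ∈ M
    simpa [mul_assoc] using inv_mem m.2
  have h8r : 8 ∣ Nat.card π0.range := h8.trans (Subgroup.card_dvd_of_le hR)
  let W := M ⊓ centralizer ({c} : Set G)
  have hkerW : ∀ x : H0, x ∈ π0.ker ↔ (x : G) ∈ W := by
    intro x
    have h1 : (π0 x = 1) ↔ (x : G) ∈ M := by
      rw [show (1 : S ⧸ M') = π 1 from (map_one π).symm]
      show π (Subgroup.inclusion _ x) = π 1 ↔ _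
      rw [hπ]
      simp
    rw [MonoidHom.mem_ker, h1]
    exact ⟨fun h => mem_inf.mpr ⟨h, (mem_inf.mp x.2).2⟩, fun h => (mem_inf.mp h).1⟩
  have hWH : W ≤ H0 := fun w hw => mem_inf.mpr ⟨hMS (mem_inf.mp hw).1, (mem_inf.mp hw).2⟩
  have hH0card : Nat.card H0 = Nat.card W * Nat.card π0.range := by
    have h := π0.ker.card_mul_index
    rw [Subgroup.index_ker] at h
    have hker : π0.ker = W.subgroupOf H0 := by
      ext x; rw [hkerW, mem_subgroupOf]
    rw [hker, Nat.card_congr (Subgroup.subgroupOfEquivOfLe hWH).toEquiv] at h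
    exact h.symm
  have hAH0 : A ⊓ H0 = ⊥ := by
    rw [eq_bot_iff]
    intro x hx
    obtain ⟨hxA, hx'⟩ := mem_inf.mp hx
    obtain ⟨hxS, hxc⟩ := mem_inf.mp hx'
    have hxU : x ∈ U := hAS ▸ mem_inf.mpr ⟨hxA, hxS⟩
    have hxc' := mem_centralizer_singleton_iff.mp hxc
    have hxU' : x ∈ U' := by
      have := hcU.le (conj_mem_cj (g := c) hxU)
      rwa [show c * x * c⁻¹ = x by rw [← hxc']; group] at this
    rw [← hAB]
    exact mem_inf.mpr ⟨hxA, (mem_inf.mp hxU').1⟩
  have hH0N : H0 ≤ N := fun x hx => (mem_inf.mp (mem_inf.mp hx).1).1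
  by_cases hW : W = ⊥
  · -- enlarge by `U'`
    have hn : H0 ≤ normalizer (U' : Set G) := fun x hx =>
      cj_eq_iff.mp (hSU' x (mem_inf.mp hx).1)
    refine ⟨U' ⊔ H0, sup_le (fun x hx => (mem_inf.mp hx).2) hH0N, ?_, ?_⟩
    · rw [eq_bot_iff]
      intro x hx
      obtain ⟨hxA, hx'⟩ := mem_inf.mp hx
      rw [← SetLike.mem_coe, Subgroup.coe_mul_of_right_le_normalizer_left U' H0 hn] at hx'
      obtain ⟨u, hu, h, hh, rfl⟩ := hx'
      have hu' : u ∈ U' := hu
      have hh' : h ∈ H0 := hh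
      have hxU : u * h ∈ U := hAS ▸ mem_inf.mpr ⟨hxA, mul_mem (hU'S hu') (mem_inf.mp hh').1⟩
      have hhM : h ∈ M := by simpa using mul_mem (inv_mem (hU'M hu')) (hUM hxU)
      have hh1 : h = 1 := by
        rw [← mem_bot, ← hW]
        exact mem_inf.mpr ⟨hhM, (mem_inf.mp hh').2⟩
      subst hh1
      simp only [mul_one] at hxA ⊢
      rw [← hAB]
      exact mem_inf.mpr ⟨hxA, (mem_inf.mp hu').1⟩
    · have hd : U' ⊓ H0 = ⊥ := by
        rw [eq_bot_iff, ← hW]
        exact fun x hx => mem_inf.mpr ⟨hU'M (mem_inf.mp hx).1, (mem_inf.mp (mem_inf.mp hx).2).2⟩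
      let ν : U' × H0 → ↥(U' ⊔ H0) := fun p =>
        ⟨(p.1 : G) * p.2, mul_mem (mem_sup_left p.1.2) (mem_sup_right p.2.2)⟩
      have hν : Function.Bijective ν := by
        refine ⟨fun p q h => ?_, fun x => ?_⟩
        · have := Subgroup.mul_injective_of_disjoint (disjoint_iff.mpr hd) (congrArg Subtype.val h :)
          exact this
        · have hx : (x : G) ∈ ((U' : Set G) * (H0 : Set G)) := by
            rw [← Subgroup.coe_mul_of_right_le_normalizer_left U' H0 hn]; exact x.2
          obtain ⟨u, hu, h, hh, hx'⟩ := hx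
          exact ⟨(⟨u, hu⟩, ⟨h, hh⟩), Subtype.ext hx'⟩
      rw [← Nat.card_eq_of_bijective ν hν, Nat.card_prod, hU'8, hH0card, hW,
        Subgroup.card_bot, one_mul]
      exact mul_dvd_mul_left 8 h8r
  · refine ⟨H0, hH0N, hAH0, ?_⟩
    obtain ⟨w, hw, hw1⟩ : ∃ w ∈ W, w ≠ 1 := by
      by_contra h
      push Not at h
      exact hW (eq_bot_iff.mpr fun w hw => mem_bot.mpr (h w hw))
    have hyW : ∀ z ∈ W, y * z * y⁻¹ ∈ W := by
      intro z hz
      obtain ⟨hzM, hzc⟩ := mem_inf.mp hz
      refine mem_inf.mpr ⟨hMconj y hyS z hzM, ?_⟩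
      refine mul_mem (mul_mem ?_ hzc) (inv_mem ?_) <;>
        exact mem_centralizer_singleton_iff.mpr T.comm
    have hW8 : 7 < Nat.card W := by
      have horb : ∀ k : ℕ, y ^ k * w * (y ^ k)⁻¹ ∈ W := by
        intro k
        induction k with
        | zero => simpa using hw
        | succ k ih => rw [pow_succ']; simpa [mul_assoc] using hyW _ ih
      let F : Option (Fin 7) → W := fun o => o.elim 1 fun i => ⟨_, horb i⟩
      have hF : Function.Injective F := by
        have hne : ∀ i : Fin 7, F (some i) ≠ F none := fun i h => hw1 (by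
          have h' : y ^ (i : ℕ) * w * (y ^ (i : ℕ))⁻¹ = 1 := congrArg Subtype.val h
          exact conj_eq_one_iff.mp h')
        rintro (_ | a) (_ | b) hab
        · rfl
        · exact absurd hab.symm (hne b)
        · exact absurd hab (hne a)
        · congr 1
          have h' : y ^ (a : ℕ) * w * (y ^ (a : ℕ))⁻¹ = y ^ (b : ℕ) * w * (y ^ (b : ℕ))⁻¹ :=
            congrArg Subtype.val hab
          have key : ∀ i j : ℕ, i ≤ j → j < 7 →
              y ^ i * w * (y ^ i)⁻¹ = y ^ j * w * (y ^ j)⁻¹ → i = j := by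
            intro i j hij hj h
            by_contra hne'
            obtain ⟨d, rfl⟩ := Nat.exists_eq_add_of_le hij
            have hc' : Commute (y ^ d) w := by
              have h' := congrArg (fun z => (y ^ i)⁻¹ * z * y ^ i) h
              have h2 : w = y ^ d * w * (y ^ d)⁻¹ := by simpa [pow_add, mul_assoc] using h'
              calc y ^ d * w = y ^ d * w * (y ^ d)⁻¹ * y ^ d := by group
                _ = w * y ^ d := by rw [← h2]
            obtain ⟨m, hm⟩ := exists_pow_eq_self_of_coprime (x := y) (n := d) (by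
              rw [T.order_y]
              exact ((Nat.Prime.coprime_iff_not_dvd (by norm_num)).mpr fun hd => by omega).symm)
            have hyw : Commute y w := hm ▸ hc'.pow_left m
            exact hw1 (hfreeM w (mem_inf.mp hw).1 (by rw [hyw.eq]; group))
          rcases le_total (a : ℕ) b with h | h
          · exact Fin.ext (key _ _ h b.2 h')
          · exact Fin.ext (key _ _ h a.2 h'.symm).symm
      have := Nat.card_le_card_of_injective F hF
      rw [Nat.card_eq_fintype_card, Fintype.card_option, Fintype.card_fin] at this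
      omega
    have hWd : 8 ∣ Nat.card W := by
      have h : Nat.card W ∣ 2 ^ 6 := by
        rw [show (2 : ℕ) ^ 6 = 64 by norm_num, ← hM]
        exact Subgroup.card_dvd_of_le inf_le_left
      obtain ⟨k, hk6, hk⟩ := (Nat.dvd_prime_pow Nat.prime_two).mp h
      have hk3 : 3 ≤ k := by
        by_contra hlt
        have := Nat.pow_le_pow_right (show 1 ≤ 2 by norm_num) (show k ≤ 2 by omega)
        omega
      rw [hk, show (8 : ℕ) = 2 ^ 3 by norm_num]
      exact Nat.pow_dvd_pow 2 hk3
    rw [hH0card]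
    exact mul_dvd_mul hWd h8r

end Split

variable {G : Type u} [Group G]

/-- The normalizer of an octad subgroup splits over it. -/
theorem exists_complement [Finite G] {A B C : Subgroup G} {y c : G} (L : Local A) (O : Orbits A)
    (T : Trio A B C y c) :
    ∃ K ≤ normalizer (A : Set G), A ⊓ K = ⊥ ∧ A ⊔ K = normalizer (A : Set G) := by
  obtain ⟨H, hHN, hAH, h64⟩ := Split.exists_large L O T
  set N := normalizer (A : Set G) with hN
  have hAN : A ≤ N := le_normalizer
  haveI : (A.subgroupOf N).Normal := Subgroup.normal_in_normalizer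
  haveI : IsMulCommutative (A.subgroupOf N) := ⟨⟨fun a b => by
    refine Subtype.ext (Subtype.ext ?_)
    have inv_self : ∀ x ∈ A, x⁻¹ = x := fun x hx =>
      inv_eq_of_mul_eq_one_right (L.sq x hx)
    have ha : ((a : N) : G) ∈ A := mem_subgroupOf.mp a.2
    have hb : ((b : N) : G) ∈ A := mem_subgroupOf.mp b.2
    have h := inv_self _ (mul_mem ha hb)
    rw [mul_inv_rev, inv_self _ ha, inv_self _ hb] at h
    simpa using h.symm⟩⟩
  have hsup : A ⊔ H ≤ N := sup_le hAN hHN
  have hcop : (Nat.card (A.subgroupOf N)).Coprime ((A ⊔ H).subgroupOf N).index := by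
    rw [Nat.card_congr (Subgroup.subgroupOfEquivOfLe hAN).toEquiv, L.card]
    have hc := ((A ⊔ H).subgroupOf N).card_mul_index
    rw [Nat.card_congr (Subgroup.subgroupOfEquivOfLe hsup).toEquiv, L.card_norm] at hc
    let ν : A × H → ↥(A ⊔ H) := fun p =>
      ⟨(p.1 : G) * p.2, mul_mem (mem_sup_left p.1.2) (mem_sup_right p.2.2)⟩
    have hν : Function.Bijective ν := by
      refine ⟨fun p q h => ?_, fun x => ?_⟩
      · exact Subgroup.mul_injective_of_disjoint (disjoint_iff.mpr hAH)
          (congrArg Subtype.val h :)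
      · have hx : (x : G) ∈ ((A : Set G) * (H : Set G)) := by
          rw [← Subgroup.coe_mul_of_right_le_normalizer_left A H hHN]; exact x.2
        obtain ⟨a, ha, h, hh, hx'⟩ := hx
        exact ⟨(⟨a, ha⟩, ⟨h, hh⟩), Subtype.ext hx'⟩
    rw [← Nat.card_eq_of_bijective ν hν, Nat.card_prod, L.card] at hc
    obtain ⟨k, hk⟩ := h64
    rw [hk] at hc
    have h315 : ((A ⊔ H).subgroupOf N).index ∣ 315 := ⟨k, by
      generalize ((A ⊔ H).subgroupOf N).index = i at *
      have e : 16 * (64 * k) * i = 1024 * (i * k) := by ring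
      omega⟩
    exact Nat.Coprime.coprime_dvd_right h315 (by norm_num)
  obtain ⟨K', hK'⟩ := Cfsg.Agent.Lib.Gaschutz.exists_complement (A.subgroupOf N)
    ((A ⊔ H).subgroupOf N) (Subgroup.comap_mono le_sup_left) hcop (H.subgroupOf N)
    (Subgroup.comap_mono le_sup_right)
    (by
      rw [eq_bot_iff]
      intro x hx
      obtain ⟨hxH, hxA⟩ := mem_inf.mp hx
      have h : (x : G) ∈ A ⊓ H := mem_inf.mpr ⟨mem_subgroupOf.mp hxA, mem_subgroupOf.mp hxH⟩
      rw [hAH, mem_bot] at h
      exact mem_bot.mpr (Subtype.ext h))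
    (Subgroup.subgroupOf_sup hAN hHN).symm
  refine ⟨K'.map N.subtype, Subgroup.map_subtype_le K', ?_, ?_⟩
  · rw [eq_bot_iff]
    intro x hx
    obtain ⟨hxA, hxK⟩ := mem_inf.mp hx
    obtain ⟨x', hx', rfl⟩ := mem_map.mp hxK
    have h := hK'.disjoint.le_bot (mem_inf.mpr ⟨mem_subgroupOf.mpr hxA, hx'⟩)
    rw [mem_bot] at h
    simp [h]
  · calc A ⊔ K'.map N.subtype = (A.subgroupOf N).map N.subtype ⊔ K'.map N.subtype := by
          rw [Subgroup.map_subgroupOf_eq_of_le hAN]
      _ = (A.subgroupOf N ⊔ K').map N.subtype := (Subgroup.map_sup _ _ _).symm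
      _ = N := by rw [hK'.sup_eq_top, ← MonoidHom.range_eq_map, Subgroup.range_subtype]

end Cfsg.Agent.Lib.M24Nse65
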