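import Cfsg.Agent.Lib.M24Nse65.SecondDefs
import Cfsg.Agent.Lib.M24Nse65.Linear

/-!
Three commuting involutions of the sixteen element space with the same fixed line form one of the
seventy listed triples.
-/

set_option autoImplicit false
set_option maxRecDepth 20000

namespace Cfsg.Agent.Lib.M24Nse65.Second

/-- The basis vector in slot `i` of the basis adapted to the line `l`. -/
def basVec (l i : ℕ) : ℕ := tget (lineBasis.getD l (0, 0)).1 4 i

/-- The coordinates of `v` in the basis adapted to the line `l`. -/
def coordOf (l v : ℕ) : ℕ := tget (lineBasis.getD l (0, 0)).2 4 v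

/-- The combination of four vectors selected by the bits of `k`. -/
def sel (a b c d k : ℕ) : ℕ :=
  (if k.testBit 0 then a else 0) ^^^ (if k.testBit 1 then b else 0) ^^^
    (if k.testBit 2 then c else 0) ^^^ (if k.testBit 3 then d else 0)

/-- The table fixing the line with the given images of the two other basis vectors. -/
def candT (l p q : ℕ) : ℕ :=
  packFn fun v => sel (basVec l 0) (basVec l 1) p q (coordOf l v)

/-- An involution with fixed points exactly the line. -/
def goodT (l T : ℕ) : Bool :=
  (List.range 16).all fun v =>
    decide (app T (app T v) = v) && (decide (app T v = v) == inLine l v)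

/-- All tables in the triples on the line. -/
def rowsOf (l : ℕ) : List ℕ :=
  ((List.range 70).filter fun w => decide (lineOf w = l)).flatMap fun w => wTables.getD w []

/-- The basis really is one and its first two vectors lie on the line. -/
def basisCheck : Bool :=
  (List.range 35).all fun l =>
    inLine l (basVec l 0) && inLine l (basVec l 1) &&
      (List.range 16).all fun v =>
        decide (sel (basVec l 0) (basVec l 1) (basVec l 2) (basVec l 3) (coordOf l v) = v)

theorem basisCheck_true : basisCheck = true := by decide +kernel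

/-- Every involution with fixed points exactly a line is listed. -/
def candCheck : Bool :=
  (List.range 35).all fun l => (List.range 16).all fun p => (List.range 16).all fun q =>
    !goodT l (candT l p q) || (rowsOf l).contains (candT l p q)

theorem candCheck_true : candCheck = true := by decide +kernel

/-- Two commuting listed involutions with product of the same kind are in one triple. -/
def pairCheck : Bool :=
  (List.range 35).all fun l => (rowsOf l).all fun S => (rowsOf l).all fun T =>
    decide (S = T) || !(goodT l (comp S T)) || !(decide (comp S T = comp T S)) ||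
      (List.range 70).any fun w => decide (lineOf w = l) && (wTables.getD w []).contains S &&
        (wTables.getD w []).contains T && (wTables.getD w []).contains (comp S T)

theorem pairCheck_true : pairCheck = true := by decide +kernel

/-- Different rows have no common table. -/
def rowCheck : Bool :=
  (List.range 70).all fun w => (List.range 70).all fun w' => decide (w = w') ||
    (wTables.getD w []).all fun T => !(wTables.getD w' []).contains T

theorem rowCheck_true : rowCheck = true := by decide +kernel

theorem wTables_disjoint {w w' : ℕ} (hw : w < 70) (hw' : w' < 70) (hne : w ≠ w') {T : ℕ}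
    (hT : T ∈ wTables.getD w []) : T ∉ wTables.getD w' [] := by
  have h := rowCheck_true
  simp only [rowCheck, List.all_eq_true, List.mem_range, Bool.or_eq_true, decide_eq_true_eq,
    Bool.not_eq_true', List.contains_iff_mem] at h
  rcases h w hw w' hw' with h | h
  · exact absurd h hne
  · intro hmem
    have := h T hT
    rw [← Bool.not_eq_true, List.contains_iff_mem] at this
    exact this hmem

theorem packFn_ext16 {f g : ℕ → ℕ} (h : ∀ v, v < 16 → f v = g v) : packFn f = packFn g := by
  have hgen : ∀ l : List ℕ, (∀ v ∈ l, v < 16) →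
      l.foldr (fun v m => m ||| (f v <<< (4 * v))) 0 = l.foldr (fun v m => m ||| (g v <<< (4 * v))) 0 := by
    intro l
    induction l with
    | nil => intro _; rfl
    | cons a r ih =>
      intro hl
      simp only [List.foldr_cons]
      rw [ih fun v hv => hl v (List.mem_cons_of_mem _ hv), h a (hl a List.mem_cons_self)]
  exact hgen _ fun v hv => List.mem_range.1 hv

theorem pack_app_eq {T : ℕ} (hT : isLin T = true) : packFn (app T) = T := by
  simp only [isLin, Bool.and_eq_true, decide_eq_true_eq] at hT
  exact hT.1.1

theorem app_lin_zero {T : ℕ} (hT : isLin T = true) : app T 0 = 0 := by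
  have h := isLin_add hT (v := 0) (w := 0) (by norm_num) (by norm_num)
  simpa using h

theorem mem_rowsOf {l T : ℕ} (hl : l < 35) (hT : isLin T = true)
    (h : ∀ v, v < 16 → app T (app T v) = v ∧ (app T v = v ↔ inLine l v = true)) :
    T ∈ rowsOf l := by
  have hb := basisCheck_true
  simp only [basisCheck, List.all_eq_true, List.mem_range, Bool.and_eq_true,
    decide_eq_true_eq] at hb
  obtain ⟨⟨ha, hb1⟩, hrep⟩ := hb l hl
  have hlt : ∀ i, basVec l i < 16 := fun i => tget_lt _ 4 i
  have happ : ∀ v, v < 16 →
      app T v = sel (basVec l 0) (basVec l 1) (app T (basVec l 2)) (app T (basVec l 3)) (coordOf l v) := by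
    intro v hv
    conv_lhs => rw [← hrep v hv]
    have hite : ∀ (b : Bool) (x : ℕ), x < 16 →
        (if b then x else 0) < 16 ∧ app T (if b then x else 0) = if b then app T x else 0 := by
      intro b x hx
      cases b <;> simp [hx, app_lin_zero hT]
    set k := coordOf l v
    obtain ⟨l0, e0⟩ := hite (k.testBit 0) _ (hlt 0)
    obtain ⟨l1, e1⟩ := hite (k.testBit 1) _ (hlt 1)
    obtain ⟨l2, e2⟩ := hite (k.testBit 2) _ (hlt 2)
    obtain ⟨l3, e3⟩ := hite (k.testBit 3) _ (hlt 3)
    unfold sel
    rw [isLin_add hT (xor_lt16 (xor_lt16 l0 l1) l2) l3, isLin_add hT (xor_lt16 l0 l1) l2,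
      isLin_add hT l0 l1, e0, e1, e2, e3, (h _ (hlt 0)).2.2 ha, (h _ (hlt 1)).2.2 hb1]
  have hT' : T = candT l (app T (basVec l 2)) (app T (basVec l 3)) := by
    conv_lhs => rw [← pack_app_eq hT]
    exact packFn_ext16 happ
  have hgood : goodT l T = true := by
    simp only [goodT, List.all_eq_true, List.mem_range, Bool.and_eq_true, decide_eq_true_eq,
      beq_iff_eq]
    intro v hv
    refine ⟨(h v hv).1, ?_⟩
    rw [Bool.eq_iff_iff, decide_eq_true_eq]
    exact (h v hv).2
  have hc := candCheck_true
  simp only [candCheck, List.all_eq_true, List.mem_range, Bool.or_eq_true,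
    Bool.not_eq_true', List.contains_iff_mem] at hc
  rcases hc l hl _ (app_lt T (basVec l 2)) _ (app_lt T (basVec l 3)) with h' | h'
  · rw [← hT', hgood] at h'
    exact absurd h' (by decide)
  · rwa [← hT'] at h'

theorem triple_of_involutions {l T1 T2 T3 : ℕ} (hl : l < 35)
    (h : ∀ T ∈ [T1, T2, T3], isLin T = true ∧
      ∀ v < 16, app T (app T v) = v ∧ (app T v = v ↔ inLine l v = true))
    (h12 : T1 ≠ T2)
    (hc : ∀ v < 16, app T1 (app T2 v) = app T3 v ∧ app T2 (app T1 v) = app T3 v) :
    ∃ w < 70, lineOf w = l ∧ ∀ T ∈ [T1, T2, T3], T ∈ wTables.getD w [] := by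
  obtain ⟨hl1, hg1⟩ := h T1 (by simp)
  obtain ⟨hl2, hg2⟩ := h T2 (by simp)
  obtain ⟨hl3, hg3⟩ := h T3 (by simp)
  have h1 := mem_rowsOf hl hl1 hg1
  have h2 := mem_rowsOf hl hl2 hg2
  have e12 : comp T1 T2 = T3 :=
    (packFn_ext16 fun v hv => (hc v hv).1).trans (pack_app_eq hl3)
  have e21 : comp T2 T1 = T3 :=
    (packFn_ext16 fun v hv => (hc v hv).2).trans (pack_app_eq hl3)
  have hgood : goodT l T3 = true := by
    simp only [goodT, List.all_eq_true, List.mem_range, Bool.and_eq_true, decide_eq_true_eq,
      beq_iff_eq]
    intro v hv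
    refine ⟨(hg3 v hv).1, ?_⟩
    rw [Bool.eq_iff_iff, decide_eq_true_eq]
    exact (hg3 v hv).2
  have hp := pairCheck_true
  simp only [pairCheck, List.all_eq_true, List.mem_range, Bool.or_eq_true, decide_eq_true_eq,
    Bool.not_eq_true', List.any_eq_true, Bool.and_eq_true, List.contains_iff_mem,
    decide_eq_false_iff_not] at hp
  rcases hp l hl T1 h1 T2 h2 with ((he | he) | he) | ⟨w, hw, ⟨⟨hwl, hm1⟩, hm2⟩, hm3⟩
  · exact absurd he h12
  · rw [e12, hgood] at he
    exact absurd he (by decide)
  · exact absurd (e12.trans e21.symm) he
  · refine ⟨w, hw, hwl, ?_⟩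
    rw [e12] at hm3
    simp only [List.forall_mem_cons, List.not_mem_nil, IsEmpty.forall_iff, implies_true, and_true]
    exact ⟨hm1, hm2, hm3⟩

end Cfsg.Agent.Lib.M24Nse65.Second
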