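import Cfsg.Agent.Lib.M24Nse65.Orbits
import Cfsg.Agent.Lib.M24Nse65.CoordExists
import Cfsg.Agent.Lib.M24Nse65.AutBound
import Cfsg.Agent.Lib.M24Nse65.Triples
import Cfsg.Agent.Lib.M24Nse65.SecondLab
import Cfsg.Agent.Lib.M24Nse65.Base30
import Cfsg.Agent.Lib.M24Nse65.SecondAdj
import Cfsg.Agent.Lib.M24Nse65.Split
import Cfsg.Agent.Lib.M24Nse65.Far
import Cfsg.Agent.Lib.M24Nse2.Model

/-!
Assembly: every group with `Facts` is the automorphism group of the graph on 759 vertices.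
-/

set_option autoImplicit false

namespace Cfsg.Agent.Lib.M24Nse65

universe u

/-- The existence of an octad subgroup. -/
def LocalStep : Prop :=
  ∀ {G : Type u} [Group G] [Finite G], M24Nse2.Facts G → ∃ A : Subgroup G, Local A

theorem nonempty_mulEquiv_of_facts (hl : LocalStep.{u}) {G : Type u} [Group G] [Finite G]
    (F : M24Nse2.Facts G) :
    Nonempty (G ≃* autGraph) := by
  obtain ⟨A, L⟩ := hl F
  obtain ⟨B, C, y, c, T⟩ := exists_trio F L
  have O := orbits F L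
  obtain ⟨K, hK, hi, hs⟩ := exists_complement L O T
  obtain ⟨Cd⟩ := exists_coord L K hK hi hs
  obtain ⟨lab, h30⟩ := Thirty.exists_lab30 L O Cd
  have tri : Second.TripleFact := fun l T1 T2 T3 hl h h12 hc =>
    Second.triple_of_involutions hl h h12 hc
  obtain ⟨lab1, P, N⟩ := Second.exists_pre310 tri L O Cd h30 (Second.near30 L O T h30)
    (Second.near30 L O T h30.flip)
  obtain ⟨lab2, h1, h2, h3, h4⟩ := exists_lab759 L O Cd (Second.lab310_of_pre L O Cd N P)
  exact nonempty_mulEquiv_autGraph F.simple F.card A lab2 h1 h2 h3 h4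

theorem nonempty_mulEquiv_m24 (hl : LocalStep.{u})
    (hl0 : LocalStep.{0}) {G : Type u} [Group G] [Finite G]
    (hcard : Nat.card G = Nat.card ↥Cfsg.M24)
    (hnse : {c : ℕ | 0 < c ∧ ∃ n : ℕ, c = Nat.card {g : G // orderOf g = n}} =
      {c : ℕ | 0 < c ∧ ∃ n : ℕ, c = Nat.card {g : ↥Cfsg.M24 // orderOf g = n}}) :
    Nonempty (G ≃* ↥Cfsg.M24) := by
  obtain ⟨e⟩ := nonempty_mulEquiv_of_facts hl
    (M24Nse2.Model.facts_of_same_counts hcard hnse)
  obtain ⟨e'⟩ := nonempty_mulEquiv_of_facts hl0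
    (M24Nse2.Model.facts_of_same_counts (G := ↥Cfsg.M24) rfl rfl)
  exact ⟨e.trans e'.symm⟩

end Cfsg.Agent.Lib.M24Nse65
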