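import Cfsg.Agent.Lib.M24Nse65.OrbitsFive

/-!
# The normalizer is transitive on the conjugates of rank one
-/

set_option autoImplicit false

namespace Cfsg.Agent.Lib.M24Nse65.OrbitsAux

open Subgroup
open Cfsg.Agent.Lib.M24Nse2 (Facts)

universe u
variable {G : Type u} [Group G] [Finite G] {A B C : Subgroup G}

theorem sixteen_dvd (L : Local A) (X : Subgroup G → Prop)
    (h1 : ∀ B, X B → rk A B = 1) (hA : ∀ a ∈ A, ∀ B, X B → X (cj a B)) :
    16 ∣ Nat.card {B : Subgroup G // X B} := by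
  refine ⟨Nat.card (Set.range fun B : {B : Subgroup G // X B} =>
    {C : Subgroup G | ∃ a ∈ A, cj a B.1 = C}), ?_⟩
  rw [mul_comm]
  refine card_mul_of_fiber (Set.rangeFactorization fun B : {B : Subgroup G // X B} =>
    {C : Subgroup G | ∃ a ∈ A, cj a B.1 = C}) fun q => ?_
  obtain ⟨_, B, rfl⟩ := q
  have h := card_class L B.1
  rw [h1 _ B.2, mul_one] at h
  rw [← h]
  refine Nat.card_congr
    { toFun := fun C => ⟨C.1.1, ?_⟩
      invFun := fun C => ⟨⟨C.1, ?_⟩, Subtype.ext ?_⟩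
      left_inv := fun C => rfl
      right_inv := fun C => rfl }
  · have e : {D : Subgroup G | ∃ a ∈ A, cj a C.1.1 = D} = {D | ∃ a ∈ A, cj a B.1 = D} :=
      congrArg Subtype.val C.2
    have hm : C.1.1 ∈ {D : Subgroup G | ∃ a ∈ A, cj a C.1.1 = D} := ⟨1, A.one_mem, cj_one⟩
    rw [e] at hm
    exact hm
  · obtain ⟨a, ha, e⟩ := C.2
    exact e ▸ hA a ha _ B.2
  · obtain ⟨a, ha, e⟩ := C.2
    show {D : Subgroup G | ∃ b ∈ A, cj b C.1 = D} = {D | ∃ b ∈ A, cj b B.1 = D}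
    ext D
    constructor
    · rintro ⟨b, hb, rfl⟩
      exact ⟨b * a, A.mul_mem hb ha, by rw [← cj_cj, e]⟩
    · rintro ⟨b, hb, rfl⟩
      refine ⟨b * a⁻¹, A.mul_mem hb (A.inv_mem ha), ?_⟩
      rw [← e, cj_cj, inv_mul_cancel_right]

theorem dvd_of_no_fix {p : ℕ} [Fact p.Prime] {g : G} (hg : orderOf g = p)
    (X : Subgroup G → Prop) (hX : ∀ B, X (cj g B) ↔ X B) (hno : ∀ B, X B → cj g B ≠ B) :
    p ∣ Nat.card {B : Subgroup G // X B} := by
  by_contra h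
  obtain ⟨B, hB, he⟩ := exists_fix cjP p
    (show cjP g ^ p = 1 by rw [← map_pow, ← hg, pow_orderOf_eq_one, map_one]) X hX h
  exact hno B hB he

/-- The orbit of a conjugate under the normalizer. -/
def NOrb (A B : Subgroup G) (C : Subgroup G) : Prop :=
  ∃ n ∈ normalizer (A : Set G), cj n B = C

omit [Finite G] in
theorem NOrb.cj_iff {n : G} (hn : n ∈ normalizer (A : Set G)) (C : Subgroup G) :
    NOrb A B (cj n C) ↔ NOrb A B C := by
  constructor
  · rintro ⟨m, hm, e⟩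
    exact ⟨n⁻¹ * m, mul_mem (inv_mem hn) hm, by rw [← cj_cj, e, cj_inv_cj]⟩
  · rintro ⟨m, hm, rfl⟩
    exact ⟨n * m, mul_mem hn hm, (cj_cj n m).symm⟩

theorem trans_rank_one (F : Facts G) (L : Local A) (hB : B ∈ Conjs A) (hBne : B ≠ A)
    (hB1 : rk A B = 1) (hC : C ∈ Conjs A) (hCne : C ≠ A) (hC1 : rk A C = 1) :
    ∃ n ∈ normalizer (A : Set G), cj n B = C := by
  haveI : Fact (Nat.Prime 5) := ⟨by norm_num⟩
  haveI : Fact (Nat.Prime 7) := ⟨by norm_num⟩
  obtain ⟨y, hy, hy7⟩ := exists_seven L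
  obtain ⟨H, -, -, hfx⟩ := fixed_seven F L hy hy7
  obtain ⟨g, z, hg, hz, hg5, hz3, hgz⟩ := exists_fifteen L
  obtain ⟨B₁, hB₁, hgB₁, hzB₁⟩ := exists_moved F L hg hz hg5 hz3 hgz
  have hB₁ne : B₁ ≠ A := fun e => hzB₁ (by rw [e]; exact cj_eq_self_iff.mpr hz)
  -- every orbit contains the conjugate moved by the element of order three
  suffices key : ∀ D ∈ Conjs A, D ≠ A → rk A D = 1 → NOrb A D B₁ by
    obtain ⟨n, hn, e⟩ := key B hB hBne hB1
    obtain ⟨m, hm, e'⟩ := key C hC hCne hC1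
    exact ⟨m⁻¹ * n, mul_mem (inv_mem hm) hn, by rw [← cj_cj, e, ← e', cj_inv_cj]⟩
  intro D hD hDne hD1
  by_contra hno
  have hX : ∀ E, NOrb A D E → E ∈ Conjs A ∧ E ≠ A ∧ rk A E = 1 := by
    rintro E ⟨n, hn, rfl⟩
    exact Tk_cj ⟨hD, hDne, hD1⟩ hn
  have h16 := sixteen_dvd L (NOrb A D) (fun E h => (hX E h).2.2)
    (fun a ha E h => (NOrb.cj_iff (le_normalizer ha) E).mpr h)
  have h7 := dvd_of_no_fix hy7 (NOrb A D) (NOrb.cj_iff hy) fun E h e => by
    obtain ⟨h1, h2, h3⟩ := hX E h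
    have := (hfx E h1 h2 (cj_eq_self_iff.mp e)).1
    omega
  have hgA : ∀ {E : Subgroup G}, g ∈ normalizer (E : Set G) →
      g ∈ normalizer ((cj z E : Subgroup G) : Set G) := fun {E} h => cj_eq_self_iff.mp (by
    rw [cj_cj, hgz.eq, ← cj_cj, cj_eq_self_iff.mpr h])
  have hz2 : cj z (cj z (cj z B₁)) = B₁ := by
    have e : z * (z * z) = 1 := by
      have := pow_orderOf_eq_one z
      rwa [hz3, pow_three] at this
    rw [cj_cj, cj_cj, mul_assoc, e, cj_one]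
  let f : Fin 3 → {E : Subgroup G // (E ∈ Conjs A ∧ g ∈ normalizer (E : Set G)) ∧ E ≠ A} :=
    ![⟨B₁, ⟨hB₁, hgB₁⟩, hB₁ne⟩,
      ⟨cj z B₁, ⟨cj_mem_conjs hB₁ z, hgA hgB₁⟩, fun e => hB₁ne (by
        rw [← cj_inv_cj (A := B₁) z, e, cj_eq_self_iff.mpr (inv_mem hz)])⟩,
      ⟨cj z (cj z B₁), ⟨cj_mem_conjs (cj_mem_conjs hB₁ z) z, hgA (hgA hgB₁)⟩, fun e =>
        hB₁ne (by rw [← hz2, e, cj_eq_self_iff.mpr hz])⟩]
  have h12 : cj z (cj z B₁) ≠ cj z B₁ := fun e => hzB₁ (by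
    have := congrArg (cj z⁻¹) e
    rwa [cj_inv_cj, cj_inv_cj] at this)
  have h02 : cj z (cj z B₁) ≠ B₁ := fun e => hzB₁ (by
    have := congrArg (cj z) e
    rw [hz2] at this
    exact this.symm)
  have hf : Function.Injective f := by
    intro i j e
    have e' := congrArg Subtype.val e
    fin_cases i <;> fin_cases j <;> simp [f] at e' <;>
      first | rfl | exact absurd e' hzB₁ | exact absurd e'.symm hzB₁ | exact absurd e' h12 |
        exact absurd e'.symm h12 | exact absurd e' h02 | exact absurd e'.symm h02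
  have hsurj := ((Nat.bijective_iff_injective_and_card f).mpr ⟨hf, by
    rw [Nat.card_fin, card_fixed_ne L hg, card_fixed_five F L hg hz hg5 hz3 hgz]⟩).2
  have h5 := dvd_of_no_fix hg5 (NOrb A D) (NOrb.cj_iff hg) fun E h e => by
    obtain ⟨h1, h2, -⟩ := hX E h
    obtain ⟨i, hi⟩ := hsurj ⟨E, ⟨h1, cj_eq_self_iff.mp e⟩, h2⟩
    have hi' : (f i).1 = E := congrArg Subtype.val hi
    refine hno ?_
    fin_cases i <;> simp [f] at hi' <;> subst hi'
    · exact h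
    · exact (NOrb.cj_iff hz _).mp h
    · exact (NOrb.cj_iff hz _).mp ((NOrb.cj_iff hz _).mp h)
  have hle : Nat.card {E : Subgroup G // NOrb A D E} ≤ Nat.card (Tk A 1) :=
    Nat.card_le_card_of_injective (fun E => (⟨E.1, hX E.1 E.2⟩ : Tk A 1))
      fun E E' e => Subtype.ext (congrArg Subtype.val e :)
  have hpos : 0 < Nat.card {E : Subgroup G // NOrb A D E} := by
    haveI : Nonempty {E : Subgroup G // NOrb A D E} := ⟨⟨D, 1, one_mem _, cj_one⟩⟩
    exact Nat.card_pos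
  rw [(counts F L).2.2.1] at hle
  omega

end Cfsg.Agent.Lib.M24Nse65.OrbitsAux
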