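import Cfsg.Agent.Lib.M24Nse65.OrbitsFixed

/-!
# The normalizer is transitive on the conjugates of rank eight and of rank four
-/

set_option autoImplicit false

namespace Cfsg.Agent.Lib.M24Nse65.OrbitsAux

open Subgroup
open Cfsg.Agent.Lib.M24Nse2 (Facts)

universe u
variable {G : Type u} [Group G] [Finite G] {A B C : Subgroup G}

theorem trans_rank_eight (F : Facts G) (L : Local A) (hB : B ∈ Conjs A) (hBne : B ≠ A)
    (hB8 : rk A B = 8) (hC : C ∈ Conjs A) (hCne : C ≠ A) (hC8 : rk A C = 8) :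
    ∃ n ∈ normalizer (A : Set G), cj n B = C := by
  obtain ⟨n, hn, en⟩ := trans_eight L (inf_le_left : meet A B ≤ A) hB8
    (inf_le_left : meet A C ≤ A) hC8
  have h2 := (counts F L).2.2.2 (meet A C) inf_le_left hC8
  by_cases he : cj n B = C
  · exact ⟨n, hn, he⟩
  have hn' := Tk_cj ⟨hB, hBne, hB8⟩ hn
  have hmn : meet A (cj n B) = meet A C := by rw [meet_cj hn, en]
  obtain ⟨d, hd, hdH⟩ := exists_not_mem (H := meet A C) (K := A) (by
    show rk A C < Nat.card A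
    rw [hC8, L.card]
    norm_num)
  have hdN : d ∈ normalizer (A : Set G) := le_normalizer hd
  have hmd : meet A (cj d (cj n B)) = meet A C := by
    rw [meet_cj hdN, hmn, cj_eq_self_iff.mpr
      (le_normalizer_of_le L (inf_le_left : meet A C ≤ A) hd)]
  refine ⟨d * n, mul_mem hdN hn, ?_⟩
  rw [← cj_cj]
  by_contra hne
  have hdne : cj d (cj n B) ≠ cj n B := fun e => hdH (hmn ▸ ⟨hd, cj_eq_self_iff.mp e⟩)
  let f : Fin 3 → Fibre A 8 (meet A C) :=
    ![⟨cj n B, hn', hmn⟩, ⟨cj d (cj n B), Tk_cj hn' hdN, hmd⟩, ⟨C, ⟨hC, hCne, hC8⟩, rfl⟩]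
  have hf : Function.Injective f := by
    intro i j e
    have e' := congrArg Subtype.val e
    fin_cases i <;> fin_cases j <;> simp [f] at e' <;>
      first | rfl | exact absurd e' hdne | exact absurd e'.symm hdne | exact absurd e' he |
        exact absurd e'.symm he | exact absurd e' hne | exact absurd e'.symm hne
  have := Nat.card_le_card_of_injective f hf
  rw [Nat.card_fin, h2] at this
  omega

theorem axisInv_two (L : Local A) {H : Subgroup G} {x c d : G} (hH : H ≤ A) (hx : AxisInv A H x)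
    (hc : c ∈ A) (hd : d ∈ A) (hcH : c ∉ H) (hdH : d ∉ H) (hcdH : d * c ∉ H) :
    IsTwo H (x * c * x⁻¹ * c, x * d * x⁻¹ * d) := by
  have hmem : ∀ {w : G}, w ∈ A → w ∉ H → x * w * x⁻¹ * w ∈ H ∧ x * w * x⁻¹ * w ≠ 1 := by
    intro w hw hwH
    refine ⟨le_of_eq hx.2.2.2 (shift_mem L hx.1 hx.2.2.1 hw), fun h1 => hwH ?_⟩
    refine le_of_eq hx.2.2.2 ⟨hw, mem_centralizer_singleton_iff.mpr ?_⟩
    rw [mul_eq_one_iff_eq_inv, inv_eq_self L hw] at h1
    exact (mul_inv_eq_iff_eq_mul.mp h1).symm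
  refine ⟨hmem hc hcH, (hmem hd hdH).1, fun h1 => ?_⟩
  have hle : s1 (x * c * x⁻¹ * c) ≤ zpowers (x * c * x⁻¹ * c) :=
    adj_le bot_le (mem_zpowers _)
  obtain ⟨i, hi⟩ := mem_zpowers_iff.mp (hle h1)
  have hsq : (x * c * x⁻¹ * c) * (x * c * x⁻¹ * c) = 1 := L.sq _ (hH (hmem hc hcH).1)
  rcases Int.even_or_odd i with ⟨j, hj⟩ | ⟨j, hj⟩
  · rw [hj, ← two_mul, zpow_mul, zpow_two, hsq, one_zpow] at hi
    exact (hmem hd hdH).2 hi.symm
  · rw [hj, zpow_add, zpow_mul, zpow_two, hsq, one_zpow, one_mul, zpow_one] at hi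
    refine hcdH (le_of_eq hx.2.2.2 ⟨mul_mem hd hc, mem_centralizer_singleton_iff.mpr ?_⟩)
    refine (Commute.eq (Commute.symm (mul_inv_eq_iff_eq_mul.mp ?_)))
    have e1 : x * d * x⁻¹ = x * c * x⁻¹ * c * d := by
      rw [hi, mul_assoc _ d d, L.sq d hd, mul_one]
    rw [show x * (d * c) * x⁻¹ = (x * d * x⁻¹) * (x * c * x⁻¹) by group, e1,
      mul_assoc (x * c * x⁻¹) c d, (commute_of_mem L hc hd).eq,
      (commute_of_mem L (conj_mem' hx.1 hc) (mul_mem hd hc)).eq, mul_assoc,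
      ← show x * (c * c) * x⁻¹ = x * c * x⁻¹ * (x * c * x⁻¹) by group,
      L.sq c hc, mul_one, mul_inv_cancel, mul_one]

/-- A frame attached to a conjugate of rank four. -/
theorem exists_frame_axis (L : Local A) (hB : B ∈ Conjs A) (hne : B ≠ A) (h4 : rk A B = 4) :
    ∃ u ∈ B, ∃ c d : G, u ≠ 1 ∧ AxisInv A (meet A B) u ∧ c ∈ A ∧ d ∈ A ∧
      IsFrame A (((u * c * u⁻¹ * c, u * d * u⁻¹ * d), c), d) ∧
      s2 (u * c * u⁻¹ * c) (u * d * u⁻¹ * d) = meet A B := by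
  obtain ⟨u, hu, hu1⟩ := exists_meet L hB (by omega)
  have hx := axisInv_of_meet L hB hne hu hu1
  obtain ⟨a, b, c, d, hf, hs⟩ := exists_frame_four L (inf_le_left : meet A B ≤ A) h4
  change s2 a b = meet A B at hs
  have hc : c ∈ A := hf.1.2.1
  have hd : d ∈ A := hf.2.1
  have hcH : c ∉ meet A B := hs ▸ hf.1.2.2
  have hdH : d ∉ meet A B := fun h => hf.2.2 (le_adj (s2 a b) c (le_of_eq hs.symm h))
  have hcdH : d * c ∉ meet A B := fun h => hf.2.2 (by
    have h' : d * c ∈ s3 a b c := le_adj (s2 a b) c (le_of_eq hs.symm h)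
    simpa using (s3 a b c).mul_mem h' ((s3 a b c).inv_mem (mem_adj (s2 a b) c)))
  have h2 := axisInv_two L inf_le_left hx hc hd hcH hdH hcdH
  have he : s2 (u * c * u⁻¹ * c) (u * d * u⁻¹ * d) = meet A B :=
    eq_of_le_of_card_ge (s2_le h2.1.1 h2.2.1)
      (by rw [show Nat.card ↥(meet A B) = 4 from h4, card_s2 L inf_le_left h2])
  refine ⟨u, hu.1, c, d, hu1, hx, hc, hd,
    ⟨⟨⟨⟨h2.1.1.1, h2.1.2⟩, h2.2.1.1, h2.2.2⟩, hc, ?_⟩, hd, ?_⟩, he⟩
  · show c ∉ s2 (u * c * u⁻¹ * c) (u * d * u⁻¹ * d)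
    rw [he]
    exact hcH
  · show d ∉ adj (s2 (u * c * u⁻¹ * c) (u * d * u⁻¹ * d)) c
    rw [he, ← hs]
    exact hf.2.2

theorem trans_rank_four (L : Local A) (hB : B ∈ Conjs A) (hBne : B ≠ A)
    (hB4 : rk A B = 4) (hC : C ∈ Conjs A) (hCne : C ≠ A) (hC4 : rk A C = 4) :
    ∃ n ∈ normalizer (A : Set G), cj n B = C := by
  obtain ⟨u, huB, c, d, -, hx, hc, hd, hf, hs⟩ := exists_frame_axis L hB hBne hB4
  obtain ⟨v, hvC, c', d', hv1, hy, hc', hd', hf', hs'⟩ := exists_frame_axis L hC hCne hC4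
  obtain ⟨n, hn, ea, eb, ec, ed⟩ := frame_trans L hf hf'
  have hU : cj n (meet A B) = meet A C := by rw [← hs, cj_s2, ea, eb, hs']
  set x := n * u * n⁻¹ with hxdef
  have hN := normalizer (A : Set G)
  have hx' : AxisInv A (meet A C) x := by
    refine ⟨mul_mem (mul_mem hn hx.1) (inv_mem hn), fun h => hx.2.1 ?_, ?_, ?_⟩
    · have := conj_mem' (inv_mem hn) h
      simpa [hxdef, mul_assoc] using this
    · rw [hxdef, show n * u * n⁻¹ * (n * u * n⁻¹) = n * (u * u) * n⁻¹ by group, hx.2.2.1]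
      group
    · rw [← hU, ← hx.2.2.2, cj_inf, cj_eq_self_iff.mpr hn]
      congr 1
      ext w
      rw [mem_cj, mem_centralizer_singleton_iff, mem_centralizer_singleton_iff]
      constructor
      · intro h
        have h2 := congrArg (fun t => n⁻¹ * t * n) h
        simpa [hxdef, mul_assoc] using h2
      · intro h
        have h2 := congrArg (fun t => n * t * n⁻¹) h
        simpa [hxdef, mul_assoc] using h2
  have key : ∀ {w : G}, n * (u * w * u⁻¹ * w) * n⁻¹ =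
      x * (n * w * n⁻¹) * x⁻¹ * (n * w * n⁻¹) := by
    intro w
    rw [hxdef]
    group
  have e1 : v * c' * v⁻¹ * c' = x * c' * x⁻¹ * c' := by
    conv_lhs => rw [← ea, key, ec]
  have e2 : v * d' * v⁻¹ * d' = x * d' * x⁻¹ * d' := by
    conv_lhs => rw [← eb, key, ed]
  have hA : v⁻¹ * x ∈ A := mem_of_fix_frame L hf'
    (axisInv_fixed hy hx' (le_of_eq hs' (le_adj _ _ (mem_adj _ _))))
    (axisInv_fixed hy hx' (le_of_eq hs' (mem_adj _ _)))
    (axisInv_mem hy hx' hc' e1 rfl) (axisInv_mem hy hx' hd' e2 rfl)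
  have hh : v⁻¹ * x ∈ meet A C := axisInv_diff L hy hx' hA
  let φ : ↥A →* G :=
    { toFun := fun a => v * a * v⁻¹ * a
      map_one' := by simp
      map_mul' := fun a a' => by
        show v * ((a : G) * a') * v⁻¹ * ((a : G) * a') = v * a * v⁻¹ * a * (v * a' * v⁻¹ * a')
        rw [show v * ((a : G) * a') * v⁻¹ = (v * a * v⁻¹) * (v * a' * v⁻¹) by group]
        exact Commute.mul_mul_mul_comm
          (commute_of_mem L (conj_mem' hy.1 a'.2) a.2) (v * (a : G) * v⁻¹) (a' : G) }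
  have hrange : meet A C ≤ φ.range := by
    rw [← hs']
    exact s2_le ⟨⟨c', hc'⟩, rfl⟩ ⟨⟨d', hd'⟩, rfl⟩
  obtain ⟨⟨a, ha⟩, hφ⟩ := hrange hh
  have e : a * v * a⁻¹ = x := by
    have hv : v⁻¹ = v := inv_eq_of_mul_eq_one_right hy.2.2.1
    have hφ' : v * a * v⁻¹ * a = v⁻¹ * x := hφ
    calc a * v * a⁻¹ = v * (v * a * v⁻¹ * a) := by
          rw [inv_eq_self L ha, hv, ← mul_assoc v (v * a * v) a, ← mul_assoc v (v * a) v,
            ← mul_assoc v v a, hy.2.2.1, one_mul]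
      _ = v * (v⁻¹ * x) := by rw [hφ']
      _ = x := mul_inv_cancel_left v x
  have haN : a ∈ normalizer (A : Set G) := le_normalizer ha
  refine ⟨a⁻¹ * n, mul_mem (inv_mem haN) hn, ?_⟩
  refine unique_conj L hC (cj_mem_conjs hB _) hvC ?_ hv1
  rw [mem_cj]
  have h3 : (a⁻¹ * n)⁻¹ * v * (a⁻¹ * n) = u := by
    rw [mul_inv_rev, inv_inv, show n⁻¹ * a * v * (a⁻¹ * n) = n⁻¹ * (a * v * a⁻¹) * n by group, e,
      hxdef]
    group
  rw [h3]
  exact huB

end Cfsg.Agent.Lib.M24Nse65.OrbitsAux
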