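import Cfsg.Agent.Lib.M24Nse65.OrbitsTrio
import Cfsg.Agent.Lib.M24Nse65.OrbitsTrans
import Cfsg.Agent.Lib.M24Nse65.OrbitsOne

/-!
# The relations between the octad subgroups
-/

set_option autoImplicit false

namespace Cfsg.Agent.Lib.M24Nse65

open Subgroup OrbitsAux

universe u
variable {G : Type u} [Group G] [Finite G] {A : Subgroup G}

/-- The normalizer of an octad subgroup has three orbits on the other conjugates. -/
theorem orbits (F : M24Nse2.Facts G) (L : Local A) : Orbits A where
  card_conjs := card_conjs F L
  rk_mem B hB hne := by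
    rcases OrbitsAux.rk_mem L hB hne with e | e | e <;> rw [e] <;> decide
  rk_symm B hB hne := OrbitsAux.rk_symm L hB hne
  card_eight := (counts F L).1
  card_four := (counts F L).2.1
  card_one := (counts F L).2.2.1
  trans B hB C hC hBne hCne he := by
    rcases OrbitsAux.rk_mem L hB hBne with e | e | e
    · exact trans_rank_one F L hB hBne e hC hCne (he ▸ e)
    · exact trans_rank_four L hB hBne e hC hCne (he ▸ e)
    · exact trans_rank_eight F L hB hBne e hC hCne (he ▸ e)

/-- A trio exists. -/
theorem exists_trio (F : M24Nse2.Facts G) (L : Local A) :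
    ∃ B C : Subgroup G, ∃ y c : G, Trio A B C y c := exists_trio' F L

end Cfsg.Agent.Lib.M24Nse65
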