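import Mathlib
import Cfsg.Agent.Lib.M24Nse65.Facts

/-!
# Conjugates of an octad subgroup: basic lemmas
-/

set_option autoImplicit false

namespace Cfsg.Agent.Lib.M24Nse65.OrbitsAux

open Subgroup

universe u
variable {G : Type u} [Group G] {A B C : Subgroup G}

theorem mem_cj {g x : G} : x ∈ cj g A ↔ g⁻¹ * x * g ∈ A := by
  constructor
  · rintro ⟨a, ha, rfl⟩
    have : g⁻¹ * ((MulAut.conj g).toMonoidHom a) * g = a := by
      show g⁻¹ * (g * a * g⁻¹) * g = a
      group
    rwa [this]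
  · intro h
    refine ⟨_, h, ?_⟩
    show g * (g⁻¹ * x * g) * g⁻¹ = x
    group

theorem conj_mem_cj {g a : G} (ha : a ∈ A) : g * a * g⁻¹ ∈ cj g A := ⟨a, ha, rfl⟩

theorem cj_one : cj (1 : G) A = A := by
  ext x
  simp [mem_cj]

theorem cj_cj (g h : G) : cj g (cj h A) = cj (g * h) A := by
  ext x
  rw [mem_cj, mem_cj, mem_cj]
  simp [mul_assoc]

theorem cj_inv_cj (g : G) : cj g⁻¹ (cj g A) = A := by rw [cj_cj, inv_mul_cancel, cj_one]

theorem cj_cj_inv (g : G) : cj g (cj g⁻¹ A) = A := by rw [cj_cj, mul_inv_cancel, cj_one]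

theorem cj_eq_self_iff {g : G} : cj g A = A ↔ g ∈ normalizer (A : Set G) := by
  rw [mem_normalizer_iff'']
  constructor
  · intro h x
    conv_lhs => rw [← h]
    rw [mem_cj]
  · intro h
    ext x
    rw [mem_cj]
    exact (h x).symm

theorem cj_inf (g : G) (H K : Subgroup G) : cj g (H ⊓ K) = cj g H ⊓ cj g K := by
  ext x
  simp only [mem_inf, mem_cj]

theorem conj_mem' {g c : G} (hg : g ∈ normalizer (A : Set G)) (hc : c ∈ A) : g * c * g⁻¹ ∈ A :=
  (mem_normalizer_iff.mp hg c).mp hc

theorem cj_normalizer (g : G) (A : Subgroup G) :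
    cj g (normalizer (A : Set G)) = normalizer ((cj g A : Subgroup G) : Set G) := by
  ext x
  rw [mem_cj, ← cj_eq_self_iff, ← cj_eq_self_iff, cj_cj]
  constructor
  · intro h
    have := congrArg (cj g) h
    rw [cj_cj] at this
    simpa [mul_assoc] using this
  · intro h
    have := congrArg (cj g⁻¹) h
    rwa [cj_cj, cj_cj, inv_mul_cancel, cj_one, ← mul_assoc] at this

theorem card_cj (g : G) (A : Subgroup G) : Nat.card ↥(cj g A) = Nat.card A :=
  (Nat.card_congr (A.equivMapOfInjective _ (MulAut.conj g).injective).toEquiv).symm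

theorem cj_le {g : G} {H : Subgroup G} (hg : g ∈ normalizer (A : Set G)) (h : H ≤ A) :
    cj g H ≤ A := by
  rintro _ ⟨x, hx, rfl⟩
  exact conj_mem' hg (h hx)

theorem self_mem_conjs (A : Subgroup G) : A ∈ Conjs A := ⟨1, cj_one.symm⟩

theorem cj_mem_conjs (hB : B ∈ Conjs A) (g : G) : cj g B ∈ Conjs A := by
  obtain ⟨h, rfl⟩ := hB
  exact ⟨g * h, cj_cj g h⟩

theorem conjs_of_mem (hB : B ∈ Conjs A) : Conjs B = Conjs A := by
  obtain ⟨g, rfl⟩ := hB
  ext C
  constructor
  · rintro ⟨h, rfl⟩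
    exact ⟨h * g, cj_cj h g⟩
  · rintro ⟨h, rfl⟩
    refine ⟨h * g⁻¹, ?_⟩
    rw [cj_cj, inv_mul_cancel_right]

theorem mem_conjs_symm (hB : B ∈ Conjs A) : A ∈ Conjs B := by
  rw [conjs_of_mem hB]
  exact self_mem_conjs A

/-- The local structure is inherited by conjugates. -/
theorem local_cj (L : Local A) (g : G) : Local (cj g A) := by
  have hconj : ∀ {x a : G}, x * (g * a * g⁻¹) = (g * a * g⁻¹) * x →
      (g⁻¹ * x * g) * a = a * (g⁻¹ * x * g) := by
    intro x a h
    have := congrArg (fun z => g⁻¹ * z * g) h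
    simpa [mul_assoc] using this
  have hne : ∀ {x : G}, x ≠ 1 → g⁻¹ * x * g ≠ 1 := by
    intro x hx h
    refine hx ?_
    have := congrArg (fun z => g * z * g⁻¹) h
    simpa [mul_assoc] using this
  have hN : ∀ {x : G}, g⁻¹ * x * g ∈ normalizer (A : Set G) →
      x ∈ normalizer ((cj g A : Subgroup G) : Set G) := by
    intro x h
    rw [← cj_normalizer, mem_cj]
    exact h
  refine ⟨(card_cj g A).trans L.card, ?_, ?_, ?_, ?_, ?_, ?_, ?_⟩
  · intro x hx
    rw [mem_cj] at hx
    have h := L.sq _ hx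
    have : g * ((g⁻¹ * x * g) * (g⁻¹ * x * g)) * g⁻¹ = x * x := by group
    rw [← this, h]
    group
  · intro x hx
    rw [mem_cj]
    refine L.cent (mem_centralizer_iff.mpr fun a ha => ?_)
    exact (hconj (mem_centralizer_iff.mp hx _ (conj_mem_cj ha)).symm).symm
  · rw [← cj_normalizer, card_cj, L.card_norm]
  · intro x hx hx1 y hy
    refine hN (L.cent_le _ (mem_cj.mp hx) (hne hx1) ?_)
    rw [mem_centralizer_singleton_iff] at hy ⊢
    have e : g * (g⁻¹ * x * g) * g⁻¹ = x := by group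
    exact hconj (by rw [e]; exact hy)
  · intro x hx hx1
    rw [← L.card_cent _ (mem_cj.mp hx) (hne hx1)]
    refine Nat.card_congr (Equiv.subtypeEquiv (MulAut.conj g⁻¹).toEquiv fun y => ?_)
    simp only [mem_centralizer_singleton_iff]
    constructor
    · intro h
      have := congrArg (fun z => g⁻¹ * z * g) h
      simpa [mul_assoc] using this
    · intro h
      have := congrArg (fun z => g * z * g⁻¹) h
      simpa [mul_assoc] using this
  · intro x hx y hy hx1 hy1
    obtain ⟨n, hn, e⟩ := L.trans _ (mem_cj.mp hx) _ (mem_cj.mp hy) (hne hx1) (hne hy1)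
    refine ⟨g * n * g⁻¹, hN (by simpa [mul_assoc] using hn), ?_⟩
    have := congrArg (fun z => g * z * g⁻¹) e
    simpa [mul_assoc] using this
  · intro h x hx hh hx1
    refine hN (L.ti _ _ (mem_cj.mp hx) ?_ (hne hx1))
    have e : (g⁻¹ * h * g) * (g⁻¹ * x * g) * (g⁻¹ * h * g)⁻¹ = g⁻¹ * (h * x * h⁻¹) * g := by group
    rw [e]
    exact mem_cj.mp hh

theorem local_of_mem (L : Local A) (hB : B ∈ Conjs A) : Local B := by
  obtain ⟨g, rfl⟩ := hB
  exact local_cj L g

theorem inv_eq_self (L : Local A) {a : G} (ha : a ∈ A) : a⁻¹ = a :=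
  inv_eq_of_mul_eq_one_right (L.sq a ha)

theorem commute_of_mem (L : Local A) {a b : G} (ha : a ∈ A) (hb : b ∈ A) : Commute a b := by
  have h := inv_eq_self L (mul_mem ha hb)
  rw [mul_inv_rev, inv_eq_self L ha, inv_eq_self L hb] at h
  exact h.symm

theorem mem_normalizer_of_commute (L : Local A) {a x : G} (ha : a ∈ A) (ha1 : a ≠ 1)
    (h : Commute x a) : x ∈ normalizer (A : Set G) :=
  L.cent_le a ha ha1 (mem_centralizer_singleton_iff.mpr h.eq)

theorem le_normalizer_of_le (L : Local A) {H : Subgroup G} (h : H ≤ A) :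
    A ≤ normalizer (H : Set G) := by
  intro a ha
  rw [mem_normalizer_iff]
  intro x
  refine ⟨fun hx => ?_, fun hx => ?_⟩
  · rwa [(commute_of_mem L ha (h hx)).eq, mul_inv_cancel_right]
  · have hxA : x ∈ A := by
      have := conj_mem' (inv_mem (le_normalizer ha : a ∈ normalizer (A : Set G))) (h hx)
      simpa [mul_assoc] using this
    rwa [(commute_of_mem L ha hxA).eq, mul_inv_cancel_right] at hx

theorem orderOf_eq_two (L : Local A) {a : G} (ha : a ∈ A) (ha1 : a ≠ 1) : orderOf a = 2 :=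
  orderOf_eq_prime (by rw [pow_two]; exact L.sq a ha) ha1

/-- Two conjugates with a common involution are equal. -/
theorem eq_of_mem (L : Local A) (hB : B ∈ Conjs A) {b : G} (hbA : b ∈ A) (hbB : b ∈ B)
    (hb : b ≠ 1) : B = A := by
  obtain ⟨g, rfl⟩ := hB
  have h := mem_cj.mp hbB
  refine cj_eq_self_iff.mpr (L.ti g _ h ?_ fun e => hb ?_)
  · have e : g * (g⁻¹ * b * g) * g⁻¹ = b := by group
    rwa [e]
  · have := congrArg (fun z => g * z * g⁻¹) e
    simpa [mul_assoc] using this

theorem unique_conj (L : Local A) {B' : Subgroup G} (hB : B ∈ Conjs A) (hB' : B' ∈ Conjs A)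
    {x : G} (hx : x ∈ B) (hx' : x ∈ B') (hx1 : x ≠ 1) : B' = B :=
  eq_of_mem (local_of_mem L hB) (by rw [conjs_of_mem hB]; exact hB') hx hx' hx1

/-- The number of nontrivial elements. -/
theorem card_ne_one (H : Subgroup G) [Finite G] :
    Nat.card {x : G // x ∈ H ∧ x ≠ 1} = Nat.card H - 1 := by
  have e : {x : G | x ∈ H ∧ x ≠ 1} = (H : Set G) \ {1} := by
    ext x
    simp
  show Nat.card ↥{x : G | x ∈ H ∧ x ≠ 1} = _
  rw [Nat.card_coe_set_eq, e, Set.ncard_sdiff_singleton_of_mem H.one_mem]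
  rfl

theorem exists_ne_one [Finite G] {H : Subgroup G} (h : 1 < Nat.card H) :
    ∃ x ∈ H, x ≠ 1 := by
  have := card_ne_one H
  obtain ⟨⟨x, hx⟩⟩ := (Nat.card_ne_zero.mp
    (show Nat.card {x : G // x ∈ H ∧ x ≠ 1} ≠ 0 by omega)).1
  exact ⟨x, hx.1, hx.2⟩

/-- The permutation of the elements given by conjugation. -/
def conjP : G →* Equiv.Perm G where
  toFun g := (MulAut.conj g).toEquiv
  map_one' := Equiv.ext fun x => by simp
  map_mul' g h := Equiv.ext fun x => by simp

theorem conjP_apply (g x : G) : conjP g x = g * x * g⁻¹ := rfl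

/-- The permutation of the subgroups given by conjugation. -/
def cjP : G →* Equiv.Perm (Subgroup G) where
  toFun g := ⟨cj g, cj g⁻¹, fun _ => cj_inv_cj g, fun _ => cj_cj_inv g⟩
  map_one' := Equiv.ext fun C => cj_one
  map_mul' g h := Equiv.ext fun C => (cj_cj g h).symm

theorem cjP_apply (g : G) (C : Subgroup G) : cjP g C = cj g C := rfl

/-- A fixed point of an element of prime power order acting on a set of size prime to `p`. -/
theorem exists_fix {M : Type u} [Group M] {α : Type u} (φ : M →* Equiv.Perm α) (p : ℕ)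
    [Fact p.Prime] {y : M} (hy : φ y ^ p = 1) (P : α → Prop) [Finite {x // P x}]
    (hP : ∀ x, P (φ y x) ↔ P x) (hc : ¬ p ∣ Nat.card {x // P x}) : ∃ x, P x ∧ φ y x = x := by
  classical
  haveI := Fintype.ofFinite {x // P x}
  rw [Nat.card_eq_fintype_card] at hc
  obtain ⟨⟨x, hx⟩, hfix⟩ := Equiv.Perm.exists_fixed_point_of_prime (n := 1) hc
    (σ := (φ y).subtypePerm hP) (by
      rw [pow_one, Equiv.Perm.subtypePerm_pow]
      refine Equiv.ext fun x => Subtype.ext ?_
      simp [hy])
  exact ⟨x, hx, congrArg Subtype.val hfix⟩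

/-- A map whose fibres all have `k` elements. -/
theorem card_mul_of_fiber {α β : Type*} [Finite α] [Finite β] (f : α → β) {k : ℕ}
    (h : ∀ b, Nat.card {a // f a = b} = k) : Nat.card α = Nat.card β * k := by
  classical
  haveI := Fintype.ofFinite β
  rw [← Nat.card_congr (Equiv.sigmaFiberEquiv f), Nat.card_sigma,
    Finset.sum_congr rfl (fun b _ => h b), Finset.sum_const, Finset.card_univ, smul_eq_mul,
    ← Nat.card_eq_fintype_card]

/-- A map whose fibres have at most `k` elements. -/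
theorem card_le_of_fiber {α β : Type*} [Finite α] [Finite β] (f : α → β) {k : ℕ}
    (h : ∀ b, Nat.card {a // f a = b} ≤ k) : Nat.card α ≤ Nat.card β * k := by
  classical
  haveI := Fintype.ofFinite β
  rw [← Nat.card_congr (Equiv.sigmaFiberEquiv f), Nat.card_sigma, Nat.card_eq_fintype_card,
    ← Finset.card_univ, ← smul_eq_mul]
  exact Finset.sum_le_card_nsmul _ _ _ fun b _ => h b

/-- A map whose fibres have at least `k` elements. -/
theorem mul_le_card_of_fiber {α β : Type*} [Finite α] [Finite β] (f : α → β) {k : ℕ}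
    (h : ∀ b, k ≤ Nat.card {a // f a = b}) : Nat.card β * k ≤ Nat.card α := by
  classical
  haveI := Fintype.ofFinite β
  rw [← Nat.card_congr (Equiv.sigmaFiberEquiv f), Nat.card_sigma, Nat.card_eq_fintype_card,
    ← Finset.card_univ, ← smul_eq_mul]
  exact Finset.card_nsmul_le_sum _ _ _ fun b _ => h b

end Cfsg.Agent.Lib.M24Nse65.OrbitsAux
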