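import Cfsg.Agent.Lib.M24Nse65.OrbitsRank
import Cfsg.Agent.Lib.SmallGroups.PrimeSylow

/-!
# Counting the conjugates of an octad subgroup
-/

set_option autoImplicit false

namespace Cfsg.Agent.Lib.M24Nse65.OrbitsAux

open Subgroup
open scoped Pointwise
open Cfsg.Agent.Lib.M24Nse2 (Facts)

universe u
variable {G : Type u} [Group G] [Finite G] {A B : Subgroup G}

theorem card_conjs (F : Facts G) (L : Local A) : Nat.card ↥(Conjs A) = 759 := by
  set N := normalizer (A : Set G) with hN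
  have hi : N.index = 759 := by
    have := N.card_mul_index
    rw [L.card_norm, F.card] at this
    omega
  rw [← hi]
  refine (Nat.card_congr (Equiv.ofBijective
    (fun q : G ⧸ N => (⟨cj q.out A, q.out, rfl⟩ : ↥(Conjs A))) ⟨fun q r e => ?_, ?_⟩)).symm
  · have e' : cj q.out A = cj r.out A := congrArg Subtype.val e
    have h : q.out⁻¹ * r.out ∈ N := cj_eq_self_iff.mp (by rw [← cj_cj, ← e', cj_inv_cj])
    rw [← QuotientGroup.eq, QuotientGroup.out_eq', QuotientGroup.out_eq'] at h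
    exact h
  · rintro ⟨C, g, rfl⟩
    refine ⟨(g : G ⧸ N), Subtype.ext ?_⟩
    show cj (g : G ⧸ N).out A = cj g A
    have h : (g : G ⧸ N).out⁻¹ * g ∈ N := QuotientGroup.eq.mp (QuotientGroup.out_eq' _)
    conv_lhs => rw [← cj_eq_self_iff.mpr h]
    rw [cj_cj, mul_inv_cancel_left]

/-- The conjugates other than `A` with a given rank. -/
abbrev Tk (A : Subgroup G) (k : ℕ) := {B : Subgroup G // B ∈ Conjs A ∧ B ≠ A ∧ rk A B = k}

theorem card_Tk_add (F : Facts G) (L : Local A) :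
    Nat.card (Tk A 1) + Nat.card (Tk A 4) + Nat.card (Tk A 8) = 758 := by
  classical
  have h : Nat.card {B : Subgroup G // B ∈ Conjs A ∧ B ≠ A} = 758 := by
    show Nat.card ↥{B : Subgroup G | B ∈ Conjs A ∧ B ≠ A} = 758
    have e : {B : Subgroup G | B ∈ Conjs A ∧ B ≠ A} = Conjs A \ {A} := by
      ext
      simp
    rw [Nat.card_coe_set_eq, e, Set.ncard_sdiff_singleton_of_mem (self_mem_conjs A),
      ← Nat.card_coe_set_eq, card_conjs F L]
  rw [← h]
  show Nat.card ↥{B : Subgroup G | B ∈ Conjs A ∧ B ≠ A ∧ rk A B = 1} +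
      Nat.card ↥{B : Subgroup G | B ∈ Conjs A ∧ B ≠ A ∧ rk A B = 4} +
      Nat.card ↥{B : Subgroup G | B ∈ Conjs A ∧ B ≠ A ∧ rk A B = 8} =
    Nat.card ↥{B : Subgroup G | B ∈ Conjs A ∧ B ≠ A}
  simp only [Nat.card_coe_set_eq]
  rw [← Set.ncard_union_eq, ← Set.ncard_union_eq]
  · congr 1
    ext B
    simp only [Set.mem_union, Set.mem_setOf_eq]
    constructor
    · rintro ((h | h) | h) <;> exact ⟨h.1, h.2.1⟩
    · intro h
      rcases rk_mem L h.1 h.2 with e | e | e <;> simp [h.1, h.2, e]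
  · rw [Set.disjoint_left]
    rintro B (h | h) h' <;> have := h.2.2.symm.trans h'.2.2 <;> omega
  · rw [Set.disjoint_left]
    intro B h h'
    have := h.2.2.symm.trans h'.2.2
    omega

omit [Finite G] in
theorem Tk_cj {k : ℕ} (hB : B ∈ Conjs A ∧ B ≠ A ∧ rk A B = k) {n : G}
    (hn : n ∈ normalizer (A : Set G)) :
    cj n B ∈ Conjs A ∧ cj n B ≠ A ∧ rk A (cj n B) = k := by
  refine ⟨cj_mem_conjs hB.1 n, fun e => hB.2.1 ?_, (rk_cj hn B).trans hB.2.2⟩
  rw [← cj_inv_cj (A := B) n, e, cj_eq_self_iff.mpr (inv_mem hn)]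

/-- Being in the same orbit of `A`. -/
def aSetoid (A : Subgroup G) (k : ℕ) : Setoid (Tk A k) where
  r B C := ∃ a ∈ A, cj a B.1 = C.1
  iseqv :=
    { refl := fun B => ⟨1, A.one_mem, cj_one⟩
      symm := fun ⟨a, ha, e⟩ => ⟨a⁻¹, inv_mem ha, by rw [← e, cj_inv_cj]⟩
      trans := fun ⟨a, ha, e⟩ ⟨b, hb, e'⟩ => ⟨b * a, mul_mem hb ha, by rw [← cj_cj, e, e']⟩ }

/-- The orbits of `A` on the conjugates of a given rank. -/
abbrev AOrb (A : Subgroup G) (k : ℕ) := Quotient (aSetoid A k)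

theorem card_class (L : Local A) (B : Subgroup G) :
    Nat.card {C : Subgroup G // ∃ a ∈ A, cj a B = C} * rk A B = 16 := by
  rw [← L.card, ← card_mul_index ((meet A B).subgroupOf A),
    Nat.card_congr (subgroupOfEquivOfLe (inf_le_left : meet A B ≤ A)).toEquiv, index_eq_card,
    mul_comm (Nat.card ↥(meet A B))]
  congr 1
  refine (Nat.card_congr (Equiv.ofBijective
    (fun q : A ⧸ (meet A B).subgroupOf A =>
      (⟨cj (q.out : G) B, q.out, q.out.2, rfl⟩ : {C : Subgroup G // ∃ a ∈ A, cj a B = C}))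
    ⟨fun q r e => ?_, ?_⟩)).symm
  · have e' : cj (q.out : G) B = cj (r.out : G) B := congrArg Subtype.val e
    rw [← QuotientGroup.out_eq' q, ← QuotientGroup.out_eq' r, QuotientGroup.eq]
    refine mem_subgroupOf.mpr ?_
    show (q.out : G)⁻¹ * r.out ∈ meet A B
    exact ⟨A.mul_mem (A.inv_mem q.out.2) r.out.2,
      cj_eq_self_iff.mp (by rw [← cj_cj, ← e', cj_inv_cj])⟩
  · rintro ⟨C, a, ha, rfl⟩
    refine ⟨((⟨a, ha⟩ : ↥A) : A ⧸ (meet A B).subgroupOf A), Subtype.ext ?_⟩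
    set q : A ⧸ (meet A B).subgroupOf A := ((⟨a, ha⟩ : ↥A) : A ⧸ (meet A B).subgroupOf A) with hq
    show cj (q.out : G) B = cj a B
    have h : (q.out)⁻¹ * (⟨a, ha⟩ : ↥A) ∈ (meet A B).subgroupOf A :=
      QuotientGroup.eq.mp ((QuotientGroup.out_eq' q).trans hq)
    have h' : (q.out : G)⁻¹ * a ∈ meet A B := mem_subgroupOf.mp h
    exact (congrArg (cj (q.out : G)) (cj_eq_self_iff.mpr h'.2)).symm.trans
      (by rw [cj_cj, mul_inv_cancel_left])

theorem card_Tk (L : Local A) (k m : ℕ) (hkm : m * k = 16) :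
    Nat.card (Tk A k) = Nat.card (AOrb A k) * m := by
  refine card_mul_of_fiber (Quotient.mk (aSetoid A k)) fun q => ?_
  induction q using Quotient.inductionOn with
  | h B =>
    have h := card_class L B.1
    rw [B.2.2.2] at h
    have hk : k ≠ 0 := by rintro rfl; simp at hkm
    rw [← Nat.eq_of_mul_eq_mul_right (Nat.pos_of_ne_zero hk) (h.trans hkm.symm)]
    refine Nat.card_congr
      { toFun := fun C => ⟨C.1.1, ?_⟩
        invFun := fun C => ⟨⟨C.1, ?_⟩, ?_⟩
        left_inv := fun C => rfl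
        right_inv := fun C => rfl }
    · obtain ⟨a, ha, e⟩ := Quotient.exact C.2.symm
      exact ⟨a, ha, e⟩
    · obtain ⟨a, ha, e⟩ := C.2
      exact e ▸ Tk_cj B.2 (le_normalizer ha)
    · obtain ⟨a, ha, e⟩ := C.2
      exact (Quotient.sound (s := aSetoid A k) (a := B) ⟨a, ha, e⟩).symm

/-- The fibre of the map to the meeting subgroups. -/
abbrev Fibre (A : Subgroup G) (k : ℕ) (H : Subgroup G) :=
  {B : Subgroup G // (B ∈ Conjs A ∧ B ≠ A ∧ rk A B = k) ∧ meet A B = H}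

omit [Finite G] in
theorem card_fibre_eq {k : ℕ} {H H' : Subgroup G} {n : G} (hn : n ∈ normalizer (A : Set G))
    (e : cj n H = H') : Nat.card (Fibre A k H) = Nat.card (Fibre A k H') := by
  refine Nat.card_congr
    { toFun := fun B => ⟨cj n B.1, Tk_cj B.2.1 hn, by rw [meet_cj hn, B.2.2, e]⟩
      invFun := fun B => ⟨cj n⁻¹ B.1, Tk_cj B.2.1 (inv_mem hn), by
        rw [meet_cj (inv_mem hn), B.2.2, ← e, cj_inv_cj]⟩
      left_inv := fun B => Subtype.ext (cj_inv_cj n)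
      right_inv := fun B => Subtype.ext (cj_cj_inv n) }

theorem card_Tk_fibre (k : ℕ) (H₀ : Subgroup G)
    (htrans : ∀ H : Subgroup G, H ≤ A → Nat.card H = k →
      ∃ n ∈ normalizer (A : Set G), cj n H = H₀) :
    Nat.card (Tk A k) =
      Nat.card {H : Subgroup G // H ≤ A ∧ Nat.card H = k} * Nat.card (Fibre A k H₀) := by
  refine card_mul_of_fiber (fun B : Tk A k =>
    (⟨meet A B.1, inf_le_left, B.2.2.2⟩ : {H : Subgroup G // H ≤ A ∧ Nat.card H = k})) fun H => ?_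
  obtain ⟨H, hH, hk⟩ := H
  obtain ⟨n, hn, e⟩ := htrans H hH hk
  rw [← card_fibre_eq hn e]
  exact Nat.card_congr
    { toFun := fun B => ⟨B.1.1, B.1.2, congrArg Subtype.val B.2⟩
      invFun := fun B => ⟨⟨B.1, B.2.1⟩, Subtype.ext B.2.2⟩
      left_inv := fun B => rfl
      right_inv := fun B => rfl }

theorem card_fibre_mul_le (L : Local A) {k : ℕ} (H : Subgroup G) :
    Nat.card (Fibre A k H) * (k - 1) ≤ Nat.card {x : G // AxisInv A H x} := by
  rw [← card_extend (α := Subgroup G)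
    (P := fun B => (B ∈ Conjs A ∧ B ≠ A ∧ rk A B = k) ∧ meet A B = H)
    (Q := fun B x => x ∈ meet B A ∧ x ≠ 1) (k := k - 1) fun B hB => by
      rw [card_ne_one]
      show rk B A - 1 = k - 1
      rw [rk_symm L hB.1.1 hB.1.2.1, hB.1.2.2]]
  refine Nat.card_le_card_of_injective
    (fun p => (⟨p.1.2, ?_⟩ : {x : G // AxisInv A H x})) fun p q e => ?_
  · have h := axisInv_of_meet L p.2.1.1.1 p.2.1.1.2.1 p.2.2.1 p.2.2.2
    rw [p.2.1.2] at h
    exact h
  · have e' : p.1.2 = q.1.2 := congrArg Subtype.val e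
    refine Subtype.ext (Prod.ext ?_ e')
    have hm : p.1.2 ∈ q.1.1 := by
      rw [e']
      exact q.2.2.1.1
    exact unique_conj L q.2.1.1.1 p.2.1.1.1 hm p.2.2.1.1 p.2.2.2

theorem counts_pre (F : Facts G) (L : Local A) {H₈ H₄ : Subgroup G} (h8 : H₈ ≤ A)
    (h8' : Nat.card H₈ = 8) (h4 : H₄ ≤ A) (h4' : Nat.card H₄ = 4) :
    Nat.card (Tk A 1) = Nat.card (AOrb A 1) * 16 ∧
    Nat.card (Tk A 4) = Nat.card (Fibre A 4 H₄) * 35 ∧
    Nat.card (Tk A 8) = Nat.card (Fibre A 8 H₈) * 15 ∧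
    ((Nat.card (Fibre A 8 H₈) = 2 ∧ Nat.card (Fibre A 4 H₄) = 8 ∧ Nat.card (AOrb A 1) = 28) ∨
      (Nat.card (Fibre A 8 H₈) = 6 ∧ Nat.card (Fibre A 4 H₄) = 4)) := by
  have e1 := card_Tk (A := A) L 1 16 rfl
  have e4 := card_Tk (A := A) L 4 4 rfl
  have e8 := card_Tk (A := A) L 8 2 rfl
  have f8 := card_Tk_fibre (A := A) 8 H₈ fun H hH hk => trans_eight L hH hk h8 h8'
  have f4 := card_Tk_fibre (A := A) 4 H₄ fun H hH hk => trans_four L hH hk h4 h4'
  rw [card_eights L] at f8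
  rw [card_fours L] at f4
  have g8 := (card_fibre_mul_le (k := 8) L H₈).trans (card_axisInv_eight L h8 h8')
  have g4 := (card_fibre_mul_le (k := 4) L H₄).trans (card_axisInv_four L h4 h4')
  have hsum := card_Tk_add F L
  refine ⟨e1, by omega, by omega, ?_⟩
  omega

/-! ### Fixed conjugates of elements of prime order -/

omit [Finite G] in
theorem cj_zpowers (g x : G) : cj g (zpowers x) = zpowers (g * x * g⁻¹) :=
  MonoidHom.map_zpowers _ x

theorem exists_conj_zpowers {N : Subgroup G} {p m : ℕ} [Fact p.Prime]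
    (hN : Nat.card N = p * m) (hm : ¬ p ∣ m) {g g' : G} (hg : g ∈ N) (hg' : g' ∈ N)
    (hgp : orderOf g = p) (hgp' : orderOf g' = p) :
    ∃ n ∈ N, cj n (zpowers g') = zpowers g := by
  set P : Sylow p ↥N := default
  have hP : Nat.card (P : Subgroup ↥N) = p := by
    rw [SmallGroups.card_sylow_eq P (k := 1) (m := m) (by rw [hN, pow_one]) hm, pow_one]
  obtain ⟨Q, hQ, -⟩ := SmallGroups.existsUnique_sylow_of_orderOf P hP (y := (⟨g, hg⟩ : ↥N))
    (by rw [Subgroup.orderOf_mk]; exact hgp)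
  obtain ⟨Q', hQ', -⟩ := SmallGroups.existsUnique_sylow_of_orderOf P hP (y := (⟨g', hg'⟩ : ↥N))
    (by rw [Subgroup.orderOf_mk]; exact hgp')
  obtain ⟨n, rfl⟩ := MulAction.exists_smul_eq (↥N) Q' Q
  refine ⟨n, n.2, ?_⟩
  have h1 : (⟨(n : G) * g' * (n : G)⁻¹, N.mul_mem (N.mul_mem n.2 hg') (N.inv_mem n.2)⟩ : ↥N) ∈
      zpowers (⟨g, hg⟩ : ↥N) := by
    rw [← hQ]
    change _ ∈ MulAut.conj n • (Q' : Subgroup ↥N)
    rw [Subgroup.mem_pointwise_smul_iff_inv_smul_mem, hQ']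
    convert mem_zpowers (⟨g', hg'⟩ : ↥N) using 1
    apply Subtype.ext
    simp [mul_assoc]
  obtain ⟨i, hi⟩ := mem_zpowers_iff.mp h1
  have h2 : (n : G) * g' * (n : G)⁻¹ ∈ zpowers g :=
    mem_zpowers_iff.mpr ⟨i, by simpa using congrArg Subtype.val hi⟩
  rw [cj_zpowers]
  refine eq_of_le_of_card_ge (zpowers_le.mpr h2) ?_
  rw [Nat.card_zpowers, Nat.card_zpowers, hgp,
    show orderOf ((n : G) * g' * (n : G)⁻¹) = orderOf g' from
      MulEquiv.orderOf_eq (MulAut.conj (n : G)) g', hgp']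

omit [Finite G] in
theorem cj_zpowers_self {h g : G} (hh : h ∈ normalizer ((zpowers g : Subgroup G) : Set G)) :
    cj h (zpowers g) = zpowers g := cj_eq_self_iff.mpr hh

/-- The number of conjugates normalised by an element of prime order. -/
theorem card_fixed (L : Local A) {p m : ℕ} [Fact p.Prime] (hm : 322560 = p * m) (hm' : ¬ p ∣ m)
    {g : G} (hg : g ∈ normalizer (A : Set G)) (hgp : orderOf g = p) :
    Nat.card {B : Subgroup G // B ∈ Conjs A ∧ g ∈ normalizer (B : Set G)} *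
        Nat.card ↥(normalizer ((zpowers g : Subgroup G) : Set G) ⊓ normalizer (A : Set G)) =
      Nat.card ↥(normalizer ((zpowers g : Subgroup G) : Set G)) := by
  set M := normalizer ((zpowers g : Subgroup G) : Set G) with hM
  set N := normalizer (A : Set G) with hN
  have hmem : ∀ h : ↥M, g ∈ normalizer ((cj (h : G) A : Subgroup G) : Set G) := fun h => by
    rw [← cj_normalizer, mem_cj]
    have h1 : (h : G)⁻¹ * g * (h : G) ∈ cj (h : G)⁻¹ (zpowers g) := ⟨g, mem_zpowers g, by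
      show (h : G)⁻¹ * g * (h : G)⁻¹⁻¹ = _
      rw [inv_inv]⟩
    rw [cj_zpowers_self (M.inv_mem h.2)] at h1
    exact (zpowers_le.mpr hg) h1
  symm
  refine card_mul_of_fiber (fun h : ↥M => (⟨cj (h : G) A, cj_mem_conjs (self_mem_conjs A) _,
    hmem h⟩ : {B : Subgroup G // B ∈ Conjs A ∧ g ∈ normalizer (B : Set G)})) fun B => ?_
  obtain ⟨B, ⟨k, rfl⟩, hgB⟩ := B
  rw [← cj_normalizer, mem_cj] at hgB
  have hk : orderOf (k⁻¹ * g * k) = p := by
    rw [← hgp]
    have := MulEquiv.orderOf_eq (MulAut.conj k⁻¹) g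
    rwa [MulAut.conj_apply, inv_inv] at this
  obtain ⟨n, hn, e⟩ := exists_conj_zpowers (N := N) (p := p) (m := m) (by rw [hN, L.card_norm, hm])
    hm' hg hgB hgp hk
  have hh : k * n⁻¹ ∈ M := by
    rw [hM, ← cj_eq_self_iff, ← cj_cj]
    conv_lhs => rw [← e, cj_inv_cj, cj_zpowers]
    congr 1
    group
  have hA : cj (k * n⁻¹) A = cj k A := by rw [← cj_cj, cj_eq_self_iff.mpr (N.inv_mem hn)]
  refine Nat.card_congr
    { toFun := fun h => ⟨(k * n⁻¹)⁻¹ * (h.1 : G), M.mul_mem (M.inv_mem hh) h.1.2, ?_⟩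
      invFun := fun x => ⟨⟨k * n⁻¹ * (x : G), M.mul_mem hh x.2.1⟩, Subtype.ext ?_⟩
      left_inv := fun h => Subtype.ext (Subtype.ext (mul_inv_cancel_left _ _))
      right_inv := fun x => Subtype.ext (inv_mul_cancel_left _ _) }
  · refine cj_eq_self_iff.mp ?_
    have hh' : cj (h.1 : G) A = cj k A := congrArg Subtype.val h.2
    rw [← cj_cj, hh', ← hA, cj_inv_cj]
  · show cj (k * n⁻¹ * (x : G)) A = cj k A
    rw [← cj_cj, cj_eq_self_iff.mpr x.2.2, hA]

/-- The Sylow congruence inside the normalizer of `A`. -/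
theorem exists_sylow_count (L : Local A) {p m : ℕ} [Fact p.Prime] (hm : 322560 = p * m)
    (hm' : ¬ p ∣ m) {g : G} (hg : g ∈ normalizer (A : Set G)) (hgp : orderOf g = p) :
    ∃ s : ℕ, s % p = 1 % p ∧
      Nat.card ↥(normalizer ((zpowers g : Subgroup G) : Set G) ⊓ normalizer (A : Set G)) * s =
        322560 := by
  set N := normalizer (A : Set G) with hN
  set P : Sylow p ↥N := default
  have hP : Nat.card (P : Subgroup ↥N) = p := by
    rw [SmallGroups.card_sylow_eq P (k := 1) (m := m) (by rw [hN, L.card_norm, pow_one, hm]) hm',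
      pow_one]
  obtain ⟨Q, hQ, -⟩ := SmallGroups.existsUnique_sylow_of_orderOf P hP (y := (⟨g, hg⟩ : ↥N))
    (by rw [Subgroup.orderOf_mk]; exact hgp)
  refine ⟨Nat.card (Sylow p ↥N), card_sylow_modEq_one p ↥N, ?_⟩
  have h2 := SmallGroups.card_normalizer_sylow_mul Q
  have e : (zpowers g : Subgroup G) = (Q : Subgroup ↥N).map N.subtype := by
    rw [hQ, MonoidHom.map_zpowers]
    rfl
  have hiff : ∀ x : ↥N, x ∈ normalizer ((Q : Subgroup ↥N) : Set ↥N) ↔
      (x : G) ∈ normalizer ((zpowers g : Subgroup G) : Set G) := by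
    intro x
    rw [mem_normalizer_iff, mem_normalizer_iff, e]
    constructor
    · intro h y
      constructor
      · rintro ⟨z, hz, rfl⟩
        exact ⟨x * z * x⁻¹, (h z).mp hz, rfl⟩
      · rintro ⟨z, hz, ez⟩
        refine ⟨x⁻¹ * z * x, (h _).mpr ?_, ?_⟩
        · rwa [show x * (x⁻¹ * z * x) * x⁻¹ = z by group]
        show (x : G)⁻¹ * z * x = y
        rw [show (z : G) = x * y * (x : G)⁻¹ from ez]
        group
    · intro h y
      have hy := h y
      constructor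
      · intro hm1
        obtain ⟨z, hz, ez⟩ := hy.mp ⟨y, hm1, rfl⟩
        exact (N.subtype_injective (ez.trans (by rfl)) : z = x * y * x⁻¹) ▸ hz
      · intro hm1
        obtain ⟨z, hz, ez⟩ := hy.mpr ⟨x * y * x⁻¹, hm1, rfl⟩
        exact (N.subtype_injective ez : z = y) ▸ hz
  have hcN : Nat.card ↥N = 322560 := L.card_norm
  rw [hcN] at h2
  rw [← h2]
  congr 1
  exact Nat.card_congr
    { toFun := fun x => ⟨⟨x.1, x.2.2⟩, (hiff _).mpr x.2.1⟩
      invFun := fun x => ⟨(x.1 : G), (hiff _).mp x.2, x.1.2⟩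
      left_inv := fun x => rfl
      right_inv := fun x => rfl }

end Cfsg.Agent.Lib.M24Nse65.OrbitsAux
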