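import Cfsg.Agent.Lib.M24Nse65.OrbitsFixed

/-!
# An element of order five in the normalizer of an octad subgroup
-/

set_option autoImplicit false

namespace Cfsg.Agent.Lib.M24Nse65.OrbitsAux

open Subgroup
open Cfsg.Agent.Lib.M24Nse2 (Facts)

universe u
variable {G : Type u} [Group G] [Finite G] {A B : Subgroup G}

theorem exists_fifteen (L : Local A) : ∃ g z : G, g ∈ normalizer (A : Set G) ∧
    z ∈ normalizer (A : Set G) ∧ orderOf g = 5 ∧ orderOf z = 3 ∧ Commute g z := by
  haveI : Fact (Nat.Prime 5) := ⟨by norm_num⟩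
  haveI : Fact (Nat.Prime 3) := ⟨by norm_num⟩
  obtain ⟨U, hU, hU4⟩ := exists_four L
  obtain ⟨a, b, c, d, hf, -⟩ := exists_frame_four L hU hU4
  have ha : a ∈ A := hf.1.1.1.1
  have hb : b ∈ A := hf.1.1.2.1
  have hc : c ∈ A := hf.1.2.1
  have hd : d ∈ A := hf.2.1
  have ha' : a ∈ s3 a b c := le_adj _ _ (le_adj _ _ (mem_adj _ _))
  have hb' : b ∈ s3 a b c := le_adj _ _ (mem_adj _ _)
  have hc' : c ∈ s3 a b c := mem_adj _ _
  have hle : s3 b c d ≤ A := s3_le hb hc hd
  have hb1 : b ≠ 1 := fun e => hf.1.1.2.2 (e ▸ one_mem _)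
  have hcb : c ∉ s1 b := fun h => hf.1.2.2 (s1_le (mem_adj (s1 a) b) h)
  have hdbc : d ∉ s2 b c := fun h => hf.2.2 (s2_le hb' hc' h)
  have hle' : s3 b c d ≤ adj (s2 b c) d := le_rfl
  have habd : a * b ∉ s3 b c d := fun h => by
    have hA : A ≤ s3 b c d := by
      conv_lhs => rw [← frame_span L hf]
      refine adj_le (s3_le ?_ ?_ ?_) (mem_adj _ _)
      · simpa using (s3 b c d).mul_mem h ((s3 b c d).inv_mem
          (le_adj _ _ (le_adj _ _ (mem_adj _ _)) : b ∈ s3 b c d))
      · exact le_adj _ _ (le_adj _ _ (mem_adj _ _))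
      · exact le_adj _ _ (mem_adj _ _)
    have hh := card_le_of_le hA
    rw [L.card, card_s3 L le_rfl (p := ((b, c), d)) ⟨⟨⟨hb, hb1⟩, hc, hcb⟩, hd, hdbc⟩] at hh
    omega
  obtain ⟨n, hn, ea, eb, ec, ed⟩ := frame_trans L hf
    (a' := b) (b' := c) (c' := d) (d' := a * b)
    ⟨⟨⟨⟨hb, hb1⟩, hc, hcb⟩, hd, hdbc⟩, mul_mem ha hb, habd⟩
  set f : ℕ → G := fun i => n ^ i * a * (n ^ i)⁻¹ with hfdef
  have hstep : ∀ i, f (i + 1) = n * f i * n⁻¹ := fun i => by
    simp only [hfdef, pow_succ', mul_inv_rev, mul_assoc]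
  have f0 : f 0 = a := by simp [hfdef]
  have f1 : f 1 = b := by rw [hstep, f0, ea]
  have f2 : f 2 = c := by rw [hstep, f1, eb]
  have f3 : f 3 = d := by rw [hstep, f2, ec]
  have f4 : f 4 = a * b := by rw [hstep, f3, ed]
  have hfA : ∀ i, f i ∈ A := fun i => conj_mem' (pow_mem hn i) ha
  have hrec : ∀ i, f (i + 4) = f i * f (i + 1) := fun i => by
    induction i with
    | zero => rw [f4, f0, f1]
    | succ i ih =>
      rw [show i + 1 + 4 = i + 4 + 1 by omega, hstep, ih,
        show n * (f i * f (i + 1)) * n⁻¹ = (n * f i * n⁻¹) * (n * f (i + 1) * n⁻¹) by group,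
        ← hstep, ← hstep]
  have hrec8 : ∀ i, f (i + 8) = f i * f (i + 2) := fun i => by
    rw [show i + 8 = i + 4 + 4 by omega, hrec, hrec, show i + 4 + 1 = i + 1 + 4 by omega, hrec,
      mul_assoc, ← mul_assoc (f (i + 1)) (f (i + 1)), L.sq _ (hfA _), one_mul]
  have f15 : f 15 = a := by
    rw [show (15 : ℕ) = 7 + 8 from rfl, hrec8, show (7 : ℕ) = 3 + 4 from rfl, hrec,
      show 3 + 4 + 2 = 1 + 8 from rfl, hrec8, f3, show (3 : ℕ) + 1 = 4 from rfl, f4, f1]
    rw [mul_assoc d, mul_assoc a b, ← mul_assoc b b, L.sq b hb, one_mul, ← mul_assoc d a,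
      (commute_of_mem L hd ha).eq, mul_assoc, L.sq d hd, mul_one]
  have f5 : f 5 = b * c := by rw [show (5 : ℕ) = 1 + 4 from rfl, hrec, f1, f2]
  have hfix : ∀ i, f 15 = a → f (i + 15) = f i := fun i h => by
    induction i with
    | zero => rw [zero_add, h, f0]
    | succ i ih => rw [show i + 1 + 15 = i + 15 + 1 by omega, hstep, ih, hstep i]
  have hcomm : ∀ i, Commute (n ^ 15) (f i) := fun i => by
    refine mul_inv_eq_iff_eq_mul.mp ?_
    refine Eq.trans ?_ (hfix i f15)
    simp only [hfdef]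
    rw [add_comm i 15, pow_add]
    group
  have h15 : n ^ 15 ∈ A := mem_of_fix_frame L hf (f0 ▸ hcomm 0) (f1 ▸ hcomm 1) (f2 ▸ hcomm 2)
    (f3 ▸ hcomm 3)
  have h30 : n ^ 30 = 1 := by
    rw [show (30 : ℕ) = 15 + 15 from rfl, pow_add, L.sq _ h15]
  have hout : ∀ {k : ℕ}, n ^ k ∈ A → f k = a := fun {k} h => by
    show n ^ k * a * (n ^ k)⁻¹ = a
    rw [(commute_of_mem L h ha).eq, mul_inv_cancel_right]
  have h5 : n ^ 5 ∉ A := fun h => by
    have e := hout h
    rw [f5] at e
    refine hf.1.2.2 ?_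
    have hc2 : c = b⁻¹ * a := by rw [← e, inv_mul_cancel_left]
    rw [hc2]
    exact (s2 a b).mul_mem ((s2 a b).inv_mem (mem_adj _ _)) (le_adj _ _ (mem_adj _ _))
  have h3 : n ^ 3 ∉ A := fun h => by
    have e := hout h
    rw [f3] at e
    exact hf.2.2 (e ▸ ha')
  refine ⟨n ^ 6, n ^ 10, pow_mem hn 6, pow_mem hn 10, orderOf_eq_prime ?_ ?_,
    orderOf_eq_prime ?_ ?_, (Commute.refl n).pow_pow 6 10⟩
  · rw [← pow_mul]; exact h30
  · intro h
    refine h3 ?_
    have e : n ^ 3 = n ^ 15 := by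
      rw [show (15 : ℕ) = 6 * 2 + 3 from rfl, pow_add, pow_mul, h, one_pow, one_mul]
    rw [e]
    exact h15
  · rw [← pow_mul]; exact h30
  · intro h
    refine h5 ?_
    have e : n ^ 5 = n ^ 15 := by
      rw [show (15 : ℕ) = 10 + 5 from rfl, pow_add, h, one_mul]
    rw [e]
    exact h15

theorem eq_one_of_commute_five (L : Local A) {g a : G} (hg5 : orderOf g = 5) (ha : a ∈ A)
    (h : Commute g a) : a = 1 := by
  by_contra ha1
  have hd := card_dvd_of_le (zpowers_le.mpr
    (mem_centralizer_singleton_iff.mpr h.eq) : zpowers g ≤ centralizer ({a} : Set G))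
  rw [Nat.card_zpowers, hg5, L.card_cent a ha ha1] at hd
  omega

theorem card_fixed_five (F : Facts G) (L : Local A) {g z : G} (hg : g ∈ normalizer (A : Set G))
    (hz : z ∈ normalizer (A : Set G)) (hg5 : orderOf g = 5) (hz3 : orderOf z = 3)
    (hgz : Commute g z) : Nat.card (Fixed A g) = 4 := by
  haveI : Fact (Nat.Prime 5) := ⟨by norm_num⟩
  obtain ⟨s, hs, hds⟩ := exists_sylow_count L (p := 5) (m := 64512) (by norm_num) (by norm_num)
    hg hg5
  have hd := card_dvd_of_le (inf_le_left : normalizer ((zpowers g : Subgroup G) : Set G) ⊓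
    normalizer (A : Set G) ≤ normalizer ((zpowers g : Subgroup G) : Set G))
  have hz' : zpowers z ≤ normalizer ((zpowers g : Subgroup G) : Set G) ⊓
      normalizer (A : Set G) := by
    refine zpowers_le.mpr ⟨cj_eq_self_iff.mp ?_, hz⟩
    rw [cj_zpowers, ← hgz.eq, mul_inv_cancel_right]
  have h3 := card_dvd_of_le hz'
  have hmul := card_fixed L (p := 5) (m := 64512) (by norm_num) (by norm_num) hg hg5
  rw [(cent_five F hg5).2] at hd hmul
  rw [Nat.card_zpowers, hz3] at h3
  generalize Nat.card ↥(normalizer ((zpowers g : Subgroup G) : Set G) ⊓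
    normalizer (A : Set G)) = d at hd hds hmul h3
  show Nat.card {B : Subgroup G // B ∈ Conjs A ∧ g ∈ normalizer (B : Set G)} = 4
  have hle := Nat.le_of_dvd (by norm_num) hd
  interval_cases d <;> omega

theorem rk_fixed_five (L : Local A) {g : G} (hg : g ∈ normalizer (A : Set G))
    (hg5 : orderOf g = 5) (hB : B ∈ Conjs A) (hne : B ≠ A)
    (hgB : g ∈ normalizer (B : Set G)) : rk A B = 1 := by
  haveI : Fact (Nat.Prime 5) := ⟨by norm_num⟩
  by_contra h
  have hiff : ∀ x, g * x * g⁻¹ ∈ meet A B ↔ x ∈ meet A B := fun x => by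
    show _ ∧ g * x * g⁻¹ ∈ normalizer (B : Set G) ↔ _ ∧ x ∈ normalizer (B : Set G)
    refine and_congr (mem_normalizer_iff.mp hg x).symm ?_
    constructor
    · intro hx
      have := mul_mem (mul_mem (inv_mem hgB) hx) hgB
      simpa [mul_assoc] using this
    · exact fun hx => mul_mem (mul_mem hgB hx) (inv_mem hgB)
  obtain ⟨a, ⟨ha, ha1⟩, hfix⟩ := exists_fix conjP 5
    (show conjP g ^ 5 = 1 by rw [← map_pow, ← hg5, pow_orderOf_eq_one, map_one])
    (fun x => x ∈ meet A B ∧ x ≠ 1)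
    (fun x => by
      rw [conjP_apply, hiff]
      exact and_congr_right fun _ => not_congr conj_eq_one_iff)
    (by
      rw [card_ne_one]
      rcases rk_mem L hB hne with e | e | e
      · exact absurd e h
      · rw [show Nat.card ↥(meet A B) = 4 from e]; norm_num
      · rw [show Nat.card ↥(meet A B) = 8 from e]; norm_num)
  exact ha1 (eq_one_of_commute_five L hg5 ha.1 (mul_inv_eq_iff_eq_mul.mp hfix))

/-- The part of the centralizer of an element of order five inside the normalizer. -/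
abbrev centN (A : Subgroup G) (g : G) : Subgroup G :=
  centralizer ({g} : Set G) ⊓ normalizer (A : Set G)

theorem card_centN_le (L : Local A) {g : G} (hg : g ∈ normalizer (A : Set G))
    (hg5 : orderOf g = 5) : Nat.card ↥(centN A g) ≤ 15 := by
  haveI : Fact (Nat.Prime 5) := ⟨by norm_num⟩
  obtain ⟨a, ha, ha1⟩ := exists_ne_one (H := A) (by rw [L.card]; norm_num)
  have h15 : Nat.card {x : G // x ∈ A ∧ x ≠ 1} = 15 := by rw [card_ne_one, L.card]
  rw [← h15]
  refine Nat.card_le_card_of_injective (fun h => (⟨(h : G) * a * (h : G)⁻¹, conj_mem' h.2.2 ha,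
    fun e => ha1 (conj_eq_one_iff.mp e)⟩ : {x : G // x ∈ A ∧ x ≠ 1})) fun h h' e => ?_
  have e' : (h : G) * a * (h : G)⁻¹ = h' * a * (h' : G)⁻¹ := congrArg Subtype.val e
  have hd : (h' : G)⁻¹ * h ∈ centN A g := (centN A g).mul_mem ((centN A g).inv_mem h'.2) h.2
  have hgd : Commute g ((h' : G)⁻¹ * h) :=
    (mem_centralizer_singleton_iff.mp hd.1 : _ = _).symm
  set K := A ⊓ centralizer ({(h' : G)⁻¹ * h} : Set G) with hK
  have haK : a ∈ K := ⟨ha, mem_centralizer_singleton_iff.mpr (Commute.eq (Commute.symm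
    (mul_inv_eq_iff_eq_mul.mp (by
      calc (h' : G)⁻¹ * h * a * ((h' : G)⁻¹ * h)⁻¹
          = (h' : G)⁻¹ * (h * a * (h : G)⁻¹) * h' := by group
        _ = a := by rw [e']; group))))⟩
  have hKA : K = A := by
    have hd16 : Nat.card K ∣ 2 ^ 4 := by
      have := card_dvd_of_le (inf_le_left : K ≤ A)
      rwa [L.card] at this
    obtain ⟨k, hk, hkc⟩ := (Nat.dvd_prime_pow Nat.prime_two).mp hd16
    rcases Nat.lt_or_ge k 4 with hlt | hge
    · exfalso
      have h1 : 1 < Nat.card K := by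
        by_contra hle
        have hb := eq_bot_of_card_le K (by omega)
        rw [hb, mem_bot] at haK
        exact ha1 haK
      have hiff : ∀ x, g * x * g⁻¹ ∈ K ↔ x ∈ K := fun x => by
        show _ ∧ g * x * g⁻¹ ∈ centralizer ({(h' : G)⁻¹ * h} : Set G) ↔
          _ ∧ x ∈ centralizer ({(h' : G)⁻¹ * h} : Set G)
        refine and_congr (mem_normalizer_iff.mp hg x).symm ?_
        rw [mem_centralizer_singleton_iff, mem_centralizer_singleton_iff]
        constructor
        · intro hx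
          have := Commute.mul_left (Commute.mul_left hgd.inv_left (show Commute _ _ from hx)) hgd
          simpa [mul_assoc, Commute, SemiconjBy] using this
        · intro hx
          exact ((hgd.mul_left (show Commute _ _ from hx)).mul_left hgd.inv_left).eq
      obtain ⟨x, ⟨hx, hx1⟩, hfix⟩ := exists_fix conjP 5
        (show conjP g ^ 5 = 1 by rw [← map_pow, ← hg5, pow_orderOf_eq_one, map_one])
        (fun x => x ∈ K ∧ x ≠ 1)
        (fun x => by
          rw [conjP_apply, hiff]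
          exact and_congr_right fun _ => not_congr conj_eq_one_iff)
        (by
          rw [card_ne_one, hkc]
          rw [hkc] at h1
          interval_cases k <;> (try norm_num at h1) <;> norm_num)
      exact hx1 (eq_one_of_commute_five L hg5 hx.1 (mul_inv_eq_iff_eq_mul.mp hfix))
    · refine eq_of_le_of_card_ge inf_le_left ?_
      rw [L.card, hkc, show k = 4 by omega]
      norm_num
  have hdA : (h' : G)⁻¹ * h ∈ A := L.cent (mem_centralizer_iff.mpr fun w hw =>
    mem_centralizer_singleton_iff.mp ((hKA.symm ▸ hw : w ∈ K)).2)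
  have := eq_one_of_commute_five L hg5 hdA hgd
  exact Subtype.ext (inv_mul_eq_one.mp this).symm

theorem pow_of_three (L : Local A) {g z w : G} (hg : g ∈ normalizer (A : Set G))
    (hz : z ∈ normalizer (A : Set G)) (hg5 : orderOf g = 5) (hz3 : orderOf z = 3)
    (hgz : Commute g z) (hw : w ∈ centN A g) (hw3 : orderOf w = 3) : w = z ∨ w = z⁻¹ := by
  have ho : orderOf (g * z) = 15 := by
    rw [hgz.orderOf_mul_eq_mul_orderOf_of_coprime (by rw [hg5, hz3]; norm_num), hg5, hz3]
  have hle : zpowers (g * z) ≤ centN A g := zpowers_le.mpr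
    ⟨mem_centralizer_singleton_iff.mpr ((Commute.refl g).mul_right hgz).symm.eq, mul_mem hg hz⟩
  have he : zpowers (g * z) = centN A g :=
    eq_of_le_of_card_ge hle (by rw [Nat.card_zpowers, ho]; exact card_centN_le L hg hg5)
  rw [← he] at hw
  obtain ⟨k, hk⟩ := (mem_powers_iff_mem_zpowers).mpr hw
  have hk' : (g * z) ^ k = w := hk
  have h3 : (g * z) ^ (k * 3) = 1 := by rw [pow_mul, hk', ← hw3, pow_orderOf_eq_one]
  have hd := orderOf_dvd_of_pow_eq_one h3
  rw [ho] at hd
  obtain ⟨j, rfl⟩ : 5 ∣ k := by omega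
  have hgj : g ^ (5 * j) = 1 := by rw [pow_mul, ← hg5, pow_orderOf_eq_one, one_pow]
  rw [hgz.mul_pow, hgj, one_mul, ← pow_mod_orderOf, hz3] at hk'
  have hcase : 5 * j % 3 = 0 ∨ 5 * j % 3 = 1 ∨ 5 * j % 3 = 2 := by omega
  rcases hcase with h | h | h <;> rw [h] at hk'
  · rw [pow_zero] at hk'
    rw [← hk', orderOf_one] at hw3
    omega
  · exact Or.inl (by rw [← hk', pow_one])
  · refine Or.inr (eq_inv_of_mul_eq_one_left ?_)
    rw [← hk', ← pow_succ]
    show z ^ 3 = 1
    rw [← hz3, pow_orderOf_eq_one]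

/-- The element of order three moves one of the conjugates fixed by the element of order five. -/
theorem exists_moved (F : Facts G) (L : Local A) {g z : G} (hg : g ∈ normalizer (A : Set G))
    (hz : z ∈ normalizer (A : Set G)) (hg5 : orderOf g = 5) (hz3 : orderOf z = 3)
    (hgz : Commute g z) :
    ∃ B ∈ Conjs A, g ∈ normalizer (B : Set G) ∧ cj z B ≠ B := by
  by_contra hc
  push Not at hc
  obtain ⟨t, c, ht, -, hgt, hgc, hne, hcomm, -, -⟩ := five_struct F hg5
  have key : ∀ s : G, orderOf s = 2 → Commute g s → s * z * s⁻¹ = z⁻¹ := by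
    intro s hs hgs
    have hmem : s * z * s⁻¹ ∈ centN A g := by
      refine ⟨mem_centralizer_singleton_iff.mpr
        ((hgs.mul_right hgz).mul_right hgs.inv_right).symm.eq, ?_⟩
      have hfix := hc _ (cj_mem_conjs (self_mem_conjs A) s⁻¹) (cj_eq_self_iff.mp (by
        rw [cj_cj, hgs.inv_right.eq, ← cj_cj, cj_eq_self_iff.mpr hg]))
      refine cj_eq_self_iff.mp ?_
      rw [← cj_cj (s * z), ← cj_cj s z, hfix, cj_cj_inv]
    rcases pow_of_three L hg hz hg5 hz3 hgz hmem
      (by rw [← MulAut.conj_apply, MulEquiv.orderOf_eq, hz3]) with e | e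
    · exact absurd (mul_inv_eq_iff_eq_mul.mp e)
        (not_commute_two_three F (Or.inl rfl) hg5 hs hz3 hgs hgz)
    · exact e
  have ht1 : orderOf (c * t * c⁻¹) = 2 := by
    rw [← MulAut.conj_apply, MulEquiv.orderOf_eq, ht]
  have hgt1 : Commute g (c * t * c⁻¹) := (hgc.mul_right hgt).mul_right hgc.inv_right
  have k1 := key t ht hgt
  have k2 := key _ ht1 hgt1
  have htt : orderOf (t * (c * t * c⁻¹)) = 2 := by
    refine orderOf_eq_prime ?_ fun h => hne ?_
    · rw [hcomm.mul_pow, ← ht, pow_orderOf_eq_one, one_mul]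
      conv_lhs => rw [ht, ← ht1, pow_orderOf_eq_one]
    · rw [mul_eq_one_iff_eq_inv] at h
      have hinv : (c * t * c⁻¹)⁻¹ = c * t * c⁻¹ := by
        refine inv_eq_of_mul_eq_one_right ?_
        rw [← pow_two, ← ht1, pow_orderOf_eq_one]
      rw [hinv] at h
      exact h.symm
  refine not_commute_two_three F (Or.inl rfl) hg5 htt hz3 (hgt.mul_right hgt1) hgz
    (mul_inv_eq_iff_eq_mul.mp ?_)
  calc t * (c * t * c⁻¹) * z * (t * (c * t * c⁻¹))⁻¹
      = t * ((c * t * c⁻¹) * z * (c * t * c⁻¹)⁻¹) * t⁻¹ := by group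
    _ = (t * z * t⁻¹)⁻¹ := by rw [k2]; group
    _ = z := by rw [k1, inv_inv]

end Cfsg.Agent.Lib.M24Nse65.OrbitsAux
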