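import Cfsg.Agent.Lib.M24Nse65.OrbitsCount
import Cfsg.Agent.Lib.M24Nse65.Seven

/-!
# Elements of order five and seven in the normalizer of an octad subgroup
-/

set_option autoImplicit false

namespace Cfsg.Agent.Lib.M24Nse65.OrbitsAux

open Subgroup
open Cfsg.Agent.Lib.M24Nse2 (Facts)

universe u
variable {G : Type u} [Group G] [Finite G] {A B H : Subgroup G}

/-- The conjugates of `A` normalised by `g`. -/
abbrev Fixed (A : Subgroup G) (g : G) :=
  {B : Subgroup G // B ∈ Conjs A ∧ g ∈ normalizer (B : Set G)}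

theorem exists_seven (L : Local A) : ∃ y ∈ normalizer (A : Set G), orderOf y = 7 := by
  haveI : Fact (Nat.Prime 7) := ⟨by norm_num⟩
  obtain ⟨y, hy⟩ := exists_prime_orderOf_dvd_card' (G := ↥(normalizer (A : Set G))) 7
    (by rw [L.card_norm]; norm_num)
  exact ⟨y, y.2, (Subgroup.orderOf_coe y).trans hy⟩

theorem mem_normalizer_zpowers_self (y : G) :
    y ∈ normalizer ((zpowers y : Subgroup G) : Set G) := le_normalizer (mem_zpowers y)

theorem card_fixed_seven (F : Facts G) (L : Local A) {y : G}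
    (hy : y ∈ normalizer (A : Set G)) (hy7 : orderOf y = 7) : Nat.card (Fixed A y) = 3 := by
  haveI : Fact (Nat.Prime 7) := ⟨by norm_num⟩
  obtain ⟨s, hs, hds⟩ := exists_sylow_count L (p := 7) (m := 46080) (by norm_num) (by norm_num)
    hy hy7
  have hd := card_dvd_of_le (inf_le_left : normalizer ((zpowers y : Subgroup G) : Set G) ⊓
    normalizer (A : Set G) ≤ normalizer ((zpowers y : Subgroup G) : Set G))
  have hmul := card_fixed L (p := 7) (m := 46080) (by norm_num) (by norm_num) hy hy7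
  rw [(cent_seven F hy7).2] at hd hmul
  generalize Nat.card ↥(normalizer ((zpowers y : Subgroup G) : Set G) ⊓
    normalizer (A : Set G)) = d at hd hds hmul
  have hle := Nat.le_of_dvd (by norm_num) hd
  show Nat.card {B : Subgroup G // B ∈ Conjs A ∧ y ∈ normalizer (B : Set G)} = 3
  interval_cases d <;> omega

theorem fix_of_cj {g : G} {B : Subgroup G} (h : cj g B = B) :
    g ∈ normalizer (B : Set G) := cj_eq_self_iff.mp h

/-- An invariant set with fewer than `p` members consists of fixed members. -/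
theorem fixed_of_card_lt {p : ℕ} [Fact p.Prime] {y : G} (hy : orderOf y = p)
    (P : Subgroup G → Prop) (hP : ∀ B, P B → P (cj y B))
    (hc : Nat.card {B : Subgroup G // P B} < p) (hB : P B) :
    y ∈ normalizer (B : Set G) := by
  by_contra hn
  have hpow : ∀ i : ℕ, P (cj (y ^ i) B) := fun i => by
    induction i with
    | zero => rw [pow_zero, cj_one]; exact hB
    | succ i ih => rw [pow_succ', ← cj_cj]; exact hP _ ih
  have hinj : Function.Injective
      (fun i : Fin p => (⟨cj (y ^ (i : ℕ)) B, hpow i⟩ : {B : Subgroup G // P B})) := by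
    intro i j e
    have e' : cj (y ^ (i : ℕ)) B = cj (y ^ (j : ℕ)) B := congrArg Subtype.val e
    have hm : (y ^ (i : ℕ))⁻¹ * y ^ (j : ℕ) ∈ normalizer (B : Set G) ⊓ zpowers y :=
      ⟨cj_eq_self_iff.mp (by rw [← cj_cj, ← e', cj_inv_cj]),
        (zpowers y).mul_mem ((zpowers y).inv_mem (npow_mem_zpowers y _)) (npow_mem_zpowers y _)⟩
    have hd := card_dvd_of_le
      (inf_le_right : normalizer (B : Set G) ⊓ zpowers y ≤ zpowers y)
    rw [Nat.card_zpowers, hy] at hd
    rcases (Nat.dvd_prime (Fact.out : p.Prime)).mp hd with h | h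
    · rw [eq_bot_of_card_eq _ h, mem_bot, inv_mul_eq_one] at hm
      exact Fin.ext (pow_injOn_Iio_orderOf (by rw [hy]; exact i.2) (by rw [hy]; exact j.2) hm)
    · have he : normalizer (B : Set G) ⊓ zpowers y = zpowers y :=
        eq_of_le_of_card_ge inf_le_right (by rw [Nat.card_zpowers, hy, h])
      exact absurd (inf_eq_right.mp he (mem_zpowers y)) hn
  have := Nat.card_le_card_of_injective _ hinj
  rw [Nat.card_fin] at this
  omega

theorem exists_fixed_eight (L : Local A) {y : G} (hy : y ∈ normalizer (A : Set G))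
    (hy7 : orderOf y = 7) : ∃ H : Subgroup G, H ≤ A ∧ Nat.card H = 8 ∧ cj y H = H := by
  haveI : Fact (Nat.Prime 7) := ⟨by norm_num⟩
  obtain ⟨H, hH, he⟩ := exists_fix cjP 7
    (show cjP y ^ 7 = 1 by rw [← map_pow, ← hy7, pow_orderOf_eq_one, map_one])
    (fun H => H ≤ A ∧ Nat.card H = 8)
    (fun H => by
      show cj y H ≤ A ∧ Nat.card ↥(cj y H) = 8 ↔ _
      rw [card_cj]
      refine and_congr_left fun _ => ⟨fun h => ?_, cj_le hy⟩
      rw [← cj_inv_cj (A := H) y]
      exact cj_le (inv_mem hy) h)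
    (by rw [card_eights L]; norm_num)
  exact ⟨H, hH.1, hH.2, he⟩

theorem fixed_of_fibre (F : Facts G) (L : Local A) {y : G} (hy : y ∈ normalizer (A : Set G))
    (hy7 : orderOf y = 7) {k : ℕ} (hH : cj y H = H) (hc : Nat.card (Fibre A k H) < 7)
    (hB : (B ∈ Conjs A ∧ B ≠ A ∧ rk A B = k) ∧ meet A B = H) :
    y ∈ normalizer (B : Set G) := by
  haveI : Fact (Nat.Prime 7) := ⟨by norm_num⟩
  exact fixed_of_card_lt hy7 (fun B => (B ∈ Conjs A ∧ B ≠ A ∧ rk A B = k) ∧ meet A B = H)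
    (fun C h => ⟨Tk_cj h.1 hy, by rw [meet_cj hy, h.2, hH]⟩) hc hB

theorem exists_four (L : Local A) : ∃ U : Subgroup G, U ≤ A ∧ Nat.card U = 4 := by
  obtain ⟨⟨U, hU⟩⟩ := (Nat.card_ne_zero.mp (show Nat.card
    {H : Subgroup G // H ≤ A ∧ Nat.card H = 4} ≠ 0 by rw [card_fours L]; norm_num)).1
  exact ⟨U, hU⟩

theorem card_fixed_ne (L : Local A) {g : G} (hg : g ∈ normalizer (A : Set G)) :
    Nat.card {B : Subgroup G // (B ∈ Conjs A ∧ g ∈ normalizer (B : Set G)) ∧ B ≠ A} =
      Nat.card (Fixed A g) - 1 := by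
  have e : {B : Subgroup G | (B ∈ Conjs A ∧ g ∈ normalizer (B : Set G)) ∧ B ≠ A} =
      {B : Subgroup G | B ∈ Conjs A ∧ g ∈ normalizer (B : Set G)} \ {A} := by
    ext
    simp
  show Nat.card ↥{B : Subgroup G | (B ∈ Conjs A ∧ g ∈ normalizer (B : Set G)) ∧ B ≠ A} =
    Nat.card ↥{B : Subgroup G | B ∈ Conjs A ∧ g ∈ normalizer (B : Set G)} - 1
  simp only [Nat.card_coe_set_eq]
  rw [e, Set.ncard_sdiff_singleton_of_mem (by exact ⟨self_mem_conjs A, hg⟩)]

theorem counts (F : Facts G) (L : Local A) :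
    Nat.card (Tk A 8) = 30 ∧ Nat.card (Tk A 4) = 280 ∧ Nat.card (Tk A 1) = 448 ∧
      ∀ H : Subgroup G, H ≤ A → Nat.card H = 8 → Nat.card (Fibre A 8 H) = 2 := by
  obtain ⟨y, hy, hy7⟩ := exists_seven L
  obtain ⟨H, hH, h8, hfix⟩ := exists_fixed_eight L hy hy7
  obtain ⟨U, hU, hU4⟩ := exists_four L
  obtain ⟨e1, e4, e8, h⟩ := counts_pre F L hH h8 hU hU4
  rcases h with ⟨a, b, c⟩ | ⟨a, -⟩
  · refine ⟨by rw [e8, a], by rw [e4, b], by rw [e1, c], fun H' hH' h8' => ?_⟩
    obtain ⟨n, hn, en⟩ := trans_eight L hH h8 hH' h8'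
    rw [← card_fibre_eq hn en, a]
  · exfalso
    have hle : Nat.card (Fibre A 8 H) ≤
        Nat.card {B : Subgroup G // (B ∈ Conjs A ∧ y ∈ normalizer (B : Set G)) ∧ B ≠ A} :=
      Nat.card_le_card_of_injective
        (fun B => ⟨B.1, ⟨B.2.1.1, fixed_of_fibre F L hy hy7 hfix (by omega) B.2⟩, B.2.1.2.1⟩)
        fun B C e => Subtype.ext (congrArg Subtype.val e :)
    rw [card_fixed_ne L hy, card_fixed_seven F L hy hy7] at hle
    omega

/-- The conjugates other than `A` fixed by an element of order seven form a fibre. -/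
theorem fixed_seven (F : Facts G) (L : Local A) {y : G} (hy : y ∈ normalizer (A : Set G))
    (hy7 : orderOf y = 7) :
    ∃ H : Subgroup G, H ≤ A ∧ Nat.card H = 8 ∧
      ∀ B ∈ Conjs A, B ≠ A → y ∈ normalizer (B : Set G) → rk A B = 8 ∧ meet A B = H := by
  obtain ⟨H, hH, h8, hfix⟩ := exists_fixed_eight L hy hy7
  refine ⟨H, hH, h8, fun B hB hne hyB => ?_⟩
  have h2 := (counts F L).2.2.2 H hH h8
  let f : Fibre A 8 H →
      {B : Subgroup G // (B ∈ Conjs A ∧ y ∈ normalizer (B : Set G)) ∧ B ≠ A} := fun B =>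
    ⟨B.1, ⟨B.2.1.1, fixed_of_fibre F L hy hy7 hfix (by omega) B.2⟩, B.2.1.2.1⟩
  obtain ⟨C, hC⟩ := ((Nat.bijective_iff_injective_and_card f).mpr
    ⟨fun B C e => Subtype.ext (congrArg Subtype.val e :),
      by rw [h2, card_fixed_ne L hy, card_fixed_seven F L hy hy7]⟩).2 ⟨B, ⟨hB, hyB⟩, hne⟩
  have e : C.1 = B := congrArg Subtype.val hC
  have h := C.2
  rw [e] at h
  exact ⟨h.1.2.2, h.2⟩

end Cfsg.Agent.Lib.M24Nse65.OrbitsAux
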