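import Cfsg.Agent.Lib.M24Nse65.OrbitsBasic
import Cfsg.Agent.Lib.SFourFree.Rigid

/-!
# The normalizer of an octad subgroup induces every automorphism on it
-/

set_option autoImplicit false

namespace Cfsg.Agent.Lib.M24Nse65.OrbitsAux

open Subgroup

universe u
variable {G : Type u} [Group G] {A H M : Subgroup G}

/-- Adjoining an element. -/
def adj (H : Subgroup G) (a : G) : Subgroup G := H ⊔ zpowers a

theorem le_adj (H : Subgroup G) (a : G) : H ≤ adj H a := le_sup_left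

theorem mem_adj (H : Subgroup G) (a : G) : a ∈ adj H a :=
  (le_sup_right : zpowers a ≤ adj H a) (mem_zpowers a)

theorem adj_le {a : G} (h : H ≤ M) (ha : a ∈ M) : adj H a ≤ M :=
  sup_le h (zpowers_le.mpr ha)

theorem cj_adj (g : G) (H : Subgroup G) (a : G) :
    cj g (adj H a) = adj (cj g H) (g * a * g⁻¹) := by
  show Subgroup.map _ (H ⊔ zpowers a) = _
  rw [Subgroup.map_sup, MonoidHom.map_zpowers]
  rfl

theorem cj_bot (g : G) : cj g (⊥ : Subgroup G) = ⊥ := Subgroup.map_bot _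

/-- The span of one element. -/
def s1 (a : G) : Subgroup G := adj ⊥ a

/-- The span of two elements. -/
def s2 (a b : G) : Subgroup G := adj (s1 a) b

/-- The span of three elements. -/
def s3 (a b c : G) : Subgroup G := adj (s2 a b) c

theorem cj_s1 (g a : G) : cj g (s1 a) = s1 (g * a * g⁻¹) := by rw [s1, cj_adj, cj_bot]; rfl

theorem cj_s2 (g a b : G) : cj g (s2 a b) = s2 (g * a * g⁻¹) (g * b * g⁻¹) := by
  rw [s2, cj_adj, cj_s1]; rfl

theorem cj_s3 (g a b c : G) :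
    cj g (s3 a b c) = s3 (g * a * g⁻¹) (g * b * g⁻¹) (g * c * g⁻¹) := by
  rw [s3, cj_adj, cj_s2]; rfl

variable [Finite G]

theorem card_adj (L : Local A) (hH : H ≤ A) {a : G} (ha : a ∈ A) (haH : a ∉ H) :
    Nat.card ↥(adj H a) = Nat.card H * 2 := by
  have hn : zpowers a ≤ normalizer (H : Set G) :=
    zpowers_le.mpr (le_normalizer_of_le L hH ha)
  have h2 : Nat.card ↥(zpowers a) = 2 := by
    rw [Nat.card_zpowers, orderOf_eq_two L ha (fun e => haH (e ▸ H.one_mem))]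
  have hmul := SFourFree.card_sup_mul_card_inf hn
  have h1 : Nat.card ↥(H ⊓ zpowers a) = 1 := by
    have hd := card_dvd_of_le (inf_le_right : H ⊓ zpowers a ≤ zpowers a)
    rw [h2] at hd
    rcases (Nat.dvd_prime Nat.prime_two).mp hd with h | h
    · exact h
    · have he : H ⊓ zpowers a = zpowers a := eq_of_le_of_card_ge inf_le_right (by rw [h2, h])
      exact absurd ((inf_eq_right.mp he) (mem_zpowers a)) haH
  rw [h1, mul_one, h2] at hmul
  exact hmul

theorem exists_not_mem {K : Subgroup G} (h : Nat.card H < Nat.card K) : ∃ x ∈ K, x ∉ H := by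
  by_contra hc
  push Not at hc
  have := card_le_of_le (show K ≤ H from fun x hx => hc x hx)
  omega

theorem card_s1 (L : Local A) {a : G} (ha : a ∈ A) (ha1 : a ≠ 1) :
    Nat.card ↥(s1 a) = 2 := by
  rw [s1, card_adj L bot_le ha (by rwa [mem_bot]), card_bot]

omit [Finite G] in
theorem s1_le {a : G} (ha : a ∈ M) : s1 a ≤ M := adj_le bot_le ha

omit [Finite G] in
theorem s2_le {a b : G} (ha : a ∈ M) (hb : b ∈ M) : s2 a b ≤ M := adj_le (s1_le ha) hb

omit [Finite G] in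
theorem s3_le {a b c : G} (ha : a ∈ M) (hb : b ∈ M) (hc : c ∈ M) : s3 a b c ≤ M :=
  adj_le (s2_le ha hb) hc

/-- One nontrivial element of `M`. -/
def IsOne (M : Subgroup G) (a : G) : Prop := a ∈ M ∧ a ≠ 1

/-- Two independent elements of `M`. -/
def IsTwo (M : Subgroup G) (p : G × G) : Prop := IsOne M p.1 ∧ p.2 ∈ M ∧ p.2 ∉ s1 p.1

/-- Three independent elements of `M`. -/
def IsThree (M : Subgroup G) (p : (G × G) × G) : Prop :=
  IsTwo M p.1 ∧ p.2 ∈ M ∧ p.2 ∉ s2 p.1.1 p.1.2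

/-- A frame of `M`: four independent elements. -/
def IsFrame (M : Subgroup G) (p : ((G × G) × G) × G) : Prop :=
  IsThree M p.1 ∧ p.2 ∈ M ∧ p.2 ∉ s3 p.1.1.1 p.1.1.2 p.1.2

theorem card_s2 (L : Local A) (hM : M ≤ A) {p : G × G} (h : IsTwo M p) :
    Nat.card ↥(s2 p.1 p.2) = 4 := by
  obtain ⟨⟨h1, h1'⟩, h2, h2'⟩ := h
  rw [s2, card_adj L (s1_le (hM h1)) (hM h2) h2', card_s1 L (hM h1) h1']

theorem card_s3 (L : Local A) (hM : M ≤ A) {p : (G × G) × G} (h : IsThree M p) :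
    Nat.card ↥(s3 p.1.1 p.1.2 p.2) = 8 := by
  obtain ⟨h1, h2, h2'⟩ := h
  rw [s3, card_adj L (s2_le (hM h1.1.1) (hM h1.2.1)) (hM h2) h2', card_s2 L hM h1]

theorem card_sdiff_of_le (h : H ≤ M) :
    Nat.card {x : G // x ∈ M ∧ x ∉ H} = Nat.card M - Nat.card H := by
  show Nat.card ↥((M : Set G) \ (H : Set G)) = _
  rw [Nat.card_coe_set_eq, Set.ncard_sdiff (show (H : Set G) ⊆ M from h)]
  rfl

/-- Extending a tuple by one element. -/
theorem card_extend {α : Type u} [Finite α] {P : α → Prop} {Q : α → G → Prop} {k : ℕ}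
    (h : ∀ a, P a → Nat.card {x : G // Q a x} = k) :
    Nat.card {p : α × G // P p.1 ∧ Q p.1 p.2} = Nat.card {a : α // P a} * k := by
  refine card_mul_of_fiber (fun p : {p : α × G // P p.1 ∧ Q p.1 p.2} =>
    (⟨p.1.1, p.2.1⟩ : {a : α // P a})) fun a => ?_
  obtain ⟨a, ha⟩ := a
  rw [← h a ha]
  refine Nat.card_congr
    { toFun := fun p => ⟨p.1.1.2, ?_⟩
      invFun := fun x => ⟨⟨(a, x.1), ha, x.2⟩, rfl⟩
      left_inv := ?_
      right_inv := fun x => rfl }
  · have e : p.1.1.1 = a := congrArg Subtype.val p.2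
    have h2 := p.1.2.2
    rw [e] at h2
    exact h2
  · rintro ⟨⟨⟨b, x⟩, hb⟩, e⟩
    have e' : b = a := congrArg Subtype.val e
    subst e'
    rfl

theorem card_isOne (M : Subgroup G) : Nat.card {a : G // IsOne M a} = Nat.card M - 1 :=
  card_ne_one M

theorem card_isTwo (L : Local A) (hM : M ≤ A) :
    Nat.card {p : G × G // IsTwo M p} = (Nat.card M - 1) * (Nat.card M - 2) := by
  rw [← card_isOne M]
  refine card_extend (P := IsOne M) (Q := fun a x => x ∈ M ∧ x ∉ s1 a) fun a ha => ?_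
  rw [card_sdiff_of_le (s1_le ha.1), card_s1 L (hM ha.1) ha.2]

theorem card_isThree (L : Local A) (hM : M ≤ A) :
    Nat.card {p : (G × G) × G // IsThree M p} =
      (Nat.card M - 1) * (Nat.card M - 2) * (Nat.card M - 4) := by
  rw [← card_isTwo L hM]
  refine card_extend (P := IsTwo M) (Q := fun a x => x ∈ M ∧ x ∉ s2 a.1 a.2) fun a ha => ?_
  rw [card_sdiff_of_le (s2_le ha.1.1 ha.2.1), card_s2 L hM ha]

theorem card_frame (L : Local A) :
    Nat.card {p : ((G × G) × G) × G // IsFrame A p} = 20160 := by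
  have h := card_isThree L (le_refl A)
  rw [L.card] at h
  rw [show (20160 : ℕ) = 2520 * 8 from rfl, ← show _ = 2520 from h]
  refine card_extend (P := IsThree A) (Q := fun a x => x ∈ A ∧ x ∉ s3 a.1.1 a.1.2 a.2)
    fun a ha => ?_
  rw [card_sdiff_of_le (s3_le ha.1.1.1 ha.1.2.1 ha.2.1), L.card, card_s3 L le_rfl ha]

omit [Finite G] in
theorem IsFrame.conj {p : ((G × G) × G) × G} (h : IsFrame A p) {n : G}
    (hn : n ∈ normalizer (A : Set G)) :
    IsFrame A (((n * p.1.1.1 * n⁻¹, n * p.1.1.2 * n⁻¹), n * p.1.2 * n⁻¹), n * p.2 * n⁻¹) := by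
  obtain ⟨⟨⟨⟨ha, ha1⟩, hb, hb'⟩, hc, hc'⟩, hd, hd'⟩ := h
  have key : ∀ {K : Subgroup G} {x : G}, x ∉ K → n * x * n⁻¹ ∉ cj n K := fun {K x} hx h' =>
    hx (by have := mem_cj.mp h'; simpa [mul_assoc] using this)
  refine ⟨⟨⟨⟨conj_mem' hn ha, fun e => ha1 (conj_eq_one_iff.mp e)⟩, conj_mem' hn hb, ?_⟩,
    conj_mem' hn hc, ?_⟩, conj_mem' hn hd, ?_⟩
  · rw [← cj_s1]; exact key hb'
  · rw [← cj_s2]; exact key hc'
  · rw [← cj_s3]; exact key hd'

/-- The span of a frame is everything. -/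
theorem frame_span (L : Local A) {p : ((G × G) × G) × G} (h : IsFrame A p) :
    adj (s3 p.1.1.1 p.1.1.2 p.1.2) p.2 = A := by
  have hle := s3_le h.1.1.1.1 h.1.1.2.1 h.1.2.1
  exact eq_of_le_of_card_ge (adj_le hle h.2.1)
    (by rw [card_adj L hle h.2.1 h.2.2, card_s3 L le_rfl h.1, L.card])

theorem mem_of_fix_frame (L : Local A) {p : ((G × G) × G) × G} (h : IsFrame A p) {x : G}
    (ha : Commute x p.1.1.1) (hb : Commute x p.1.1.2) (hc : Commute x p.1.2)
    (hd : Commute x p.2) : x ∈ A := by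
  have hle : A ≤ centralizer ({x} : Set G) := by
    rw [← frame_span L h]
    exact adj_le (s3_le (mem_centralizer_singleton_iff.mpr ha.symm.eq)
      (mem_centralizer_singleton_iff.mpr hb.symm.eq)
      (mem_centralizer_singleton_iff.mpr hc.symm.eq)) (mem_centralizer_singleton_iff.mpr hd.symm.eq)
  exact L.cent (mem_centralizer_iff.mpr fun c hc' => mem_centralizer_singleton_iff.mp (hle hc'))

/-- The normalizer is transitive on frames. -/
theorem frame_trans (L : Local A) {a b c d a' b' c' d' : G} (h : IsFrame A (((a, b), c), d))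
    (h' : IsFrame A (((a', b'), c'), d')) :
    ∃ n ∈ normalizer (A : Set G),
      n * a * n⁻¹ = a' ∧ n * b * n⁻¹ = b' ∧ n * c * n⁻¹ = c' ∧ n * d * n⁻¹ = d' := by
  set N := normalizer (A : Set G) with hN
  let f : N ⧸ A.subgroupOf N → {p : ((G × G) × G) × G // IsFrame A p} := fun q =>
    ⟨_, h.conj q.out.2⟩
  have hf : Function.Injective f := by
    intro q r e
    have e' := congrArg Subtype.val e
    simp only [f, Prod.mk.injEq] at e'
    obtain ⟨⟨⟨ea, eb⟩, ec⟩, ed⟩ := e'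
    rw [← QuotientGroup.out_eq' q, ← QuotientGroup.out_eq' r, QuotientGroup.eq]
    refine mem_subgroupOf.mpr ?_
    show (q.out : G)⁻¹ * r.out ∈ A
    have key : ∀ {x : G}, (q.out : G) * x * (q.out : G)⁻¹ = r.out * x * (r.out : G)⁻¹ →
        Commute ((q.out : G)⁻¹ * r.out) x := by
      intro x hx
      refine mul_inv_eq_iff_eq_mul.mp ?_
      calc (q.out : G)⁻¹ * r.out * x * ((q.out : G)⁻¹ * r.out)⁻¹
          = (q.out : G)⁻¹ * (r.out * x * (r.out : G)⁻¹) * q.out := by group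
        _ = x := by rw [← hx]; group
    exact mem_of_fix_frame L h (key ea) (key eb) (key ec) (key ed)
  have hidx : Nat.card (N ⧸ A.subgroupOf N) = 20160 := by
    have hmul := (A.subgroupOf N).card_mul_index
    rw [Nat.card_congr (subgroupOfEquivOfLe (le_normalizer : A ≤ N)).toEquiv, L.card,
      L.card_norm] at hmul
    rw [← index_eq_card]
    omega
  obtain ⟨q, hq⟩ := ((Nat.bijective_iff_injective_and_card f).mpr
    ⟨hf, by rw [hidx, card_frame L]⟩).2 ⟨_, h'⟩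
  have e' := congrArg Subtype.val hq
  simp only [f, Prod.mk.injEq] at e'
  exact ⟨q.out, q.out.2, e'.1.1.1, e'.1.1.2, e'.1.2, e'.2⟩

theorem exists_frame_eight (L : Local A) (hH : H ≤ A) (h8 : Nat.card H = 8) :
    ∃ a b c d, IsFrame A (((a, b), c), d) ∧ s3 a b c = H := by
  obtain ⟨a, ha, ha1⟩ := exists_ne_one (H := H) (by omega)
  obtain ⟨b, hb, hb'⟩ := exists_not_mem (H := s1 a) (K := H)
    (by rw [card_s1 L (hH ha) ha1, h8]; norm_num)
  obtain ⟨c, hc, hc'⟩ := exists_not_mem (H := s2 a b) (K := H)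
    (by rw [card_s2 L hH (p := (a, b)) ⟨⟨ha, ha1⟩, hb, hb'⟩, h8]; norm_num)
  have h3 : IsThree H ((a, b), c) := ⟨⟨⟨ha, ha1⟩, hb, hb'⟩, hc, hc'⟩
  have he : s3 a b c = H := eq_of_le_of_card_ge (s3_le ha hb hc)
    (by rw [h8, card_s3 L hH h3])
  obtain ⟨d, hd, hd'⟩ := exists_not_mem (H := H) (K := A) (by rw [L.card, h8]; norm_num)
  exact ⟨a, b, c, d, ⟨⟨⟨⟨hH ha, ha1⟩, hH hb, hb'⟩, hH hc, hc'⟩, hd, he.symm ▸ hd'⟩, he⟩

theorem exists_frame_four (L : Local A) (hH : H ≤ A) (h4 : Nat.card H = 4) :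
    ∃ a b c d, IsFrame A (((a, b), c), d) ∧ s2 a b = H := by
  obtain ⟨a, ha, ha1⟩ := exists_ne_one (H := H) (by omega)
  obtain ⟨b, hb, hb'⟩ := exists_not_mem (H := s1 a) (K := H)
    (by rw [card_s1 L (hH ha) ha1, h4]; norm_num)
  have h2 : IsTwo H (a, b) := ⟨⟨ha, ha1⟩, hb, hb'⟩
  have he : s2 a b = H := eq_of_le_of_card_ge (s2_le ha hb)
    (by rw [h4, card_s2 L hH h2])
  obtain ⟨c, hc, hc'⟩ := exists_not_mem (H := s2 a b) (K := A)
    (by rw [L.card, card_s2 L hH h2]; norm_num)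
  have h3 : IsThree A ((a, b), c) := ⟨⟨⟨hH ha, ha1⟩, hH hb, hb'⟩, hc, hc'⟩
  obtain ⟨d, hd, hd'⟩ := exists_not_mem (H := s3 a b c) (K := A)
    (by rw [L.card, card_s3 L le_rfl h3]; norm_num)
  exact ⟨a, b, c, d, ⟨h3, hd, hd'⟩, he⟩

theorem trans_eight (L : Local A) {H' : Subgroup G} (hH : H ≤ A) (h8 : Nat.card H = 8)
    (hH' : H' ≤ A) (h8' : Nat.card H' = 8) :
    ∃ n ∈ normalizer (A : Set G), cj n H = H' := by
  obtain ⟨a, b, c, d, hf, rfl⟩ := exists_frame_eight L hH h8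
  obtain ⟨a', b', c', d', hf', rfl⟩ := exists_frame_eight L hH' h8'
  obtain ⟨n, hn, ea, eb, ec, -⟩ := frame_trans L hf hf'
  exact ⟨n, hn, by rw [cj_s3, ea, eb, ec]⟩

theorem trans_four (L : Local A) {H' : Subgroup G} (hH : H ≤ A) (h4 : Nat.card H = 4)
    (hH' : H' ≤ A) (h4' : Nat.card H' = 4) :
    ∃ n ∈ normalizer (A : Set G), cj n H = H' := by
  obtain ⟨a, b, c, d, hf, rfl⟩ := exists_frame_four L hH h4
  obtain ⟨a', b', c', d', hf', rfl⟩ := exists_frame_four L hH' h4'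
  obtain ⟨n, hn, ea, eb, -, -⟩ := frame_trans L hf hf'
  exact ⟨n, hn, by rw [cj_s2, ea, eb]⟩

theorem card_eights (L : Local A) :
    Nat.card {H : Subgroup G // H ≤ A ∧ Nat.card H = 8} = 15 := by
  have h := card_mul_of_fiber (fun p : {p : (G × G) × G // IsThree A p} =>
    (⟨s3 p.1.1.1 p.1.1.2 p.1.2, s3_le p.2.1.1.1 p.2.1.2.1 p.2.2.1, card_s3 L le_rfl p.2⟩ :
      {H : Subgroup G // H ≤ A ∧ Nat.card H = 8})) (k := 168) fun H => by
    obtain ⟨H, hH, h8⟩ := H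
    have h := card_isThree L hH
    rw [h8] at h
    rw [← show _ = 168 from h]
    refine Nat.card_congr
      { toFun := fun p => ⟨p.1.1, ?_⟩
        invFun := fun p => ⟨⟨p.1, ⟨⟨hH p.2.1.1.1, p.2.1.1.2⟩, hH p.2.1.2.1, p.2.1.2.2⟩,
          hH p.2.2.1, p.2.2.2⟩, Subtype.ext (eq_of_le_of_card_ge
            (s3_le p.2.1.1.1 p.2.1.2.1 p.2.2.1) (by rw [h8, card_s3 L hH p.2]))⟩
        left_inv := fun p => rfl
        right_inv := fun p => rfl }
    have e : s3 p.1.1.1.1 p.1.1.1.2 p.1.1.2 = H := congrArg Subtype.val p.2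
    have m1 : p.1.1.1.1 ∈ H := le_of_eq e (le_adj _ _ (le_adj _ _ (mem_adj _ _)))
    have m2 : p.1.1.1.2 ∈ H := le_of_eq e (le_adj _ _ (mem_adj _ _))
    have m3 : p.1.1.2 ∈ H := le_of_eq e (mem_adj _ _)
    exact ⟨⟨⟨m1, p.1.2.1.1.2⟩, m2, p.1.2.1.2.2⟩, m3, p.1.2.2.2⟩
  have h3 := card_isThree L (le_refl A)
  rw [L.card] at h3
  rw [h3] at h
  omega

theorem card_fours (L : Local A) :
    Nat.card {H : Subgroup G // H ≤ A ∧ Nat.card H = 4} = 35 := by
  have h := card_mul_of_fiber (fun p : {p : G × G // IsTwo A p} =>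
    (⟨s2 p.1.1 p.1.2, s2_le p.2.1.1 p.2.2.1, card_s2 L le_rfl p.2⟩ :
      {H : Subgroup G // H ≤ A ∧ Nat.card H = 4})) (k := 6) fun H => by
    obtain ⟨H, hH, h4⟩ := H
    have h := card_isTwo L hH
    rw [h4] at h
    rw [← show _ = 6 from h]
    refine Nat.card_congr
      { toFun := fun p => ⟨p.1.1, ?_⟩
        invFun := fun p => ⟨⟨p.1, ⟨hH p.2.1.1, p.2.1.2⟩, hH p.2.2.1, p.2.2.2⟩,
          Subtype.ext (eq_of_le_of_card_ge (s2_le p.2.1.1 p.2.2.1)
            (by rw [h4, card_s2 L hH p.2]))⟩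
        left_inv := fun p => rfl
        right_inv := fun p => rfl }
    have e : s2 p.1.1.1 p.1.1.2 = H := congrArg Subtype.val p.2
    have m1 : p.1.1.1 ∈ H := le_of_eq e (le_adj _ _ (mem_adj _ _))
    have m2 : p.1.1.2 ∈ H := le_of_eq e (mem_adj _ _)
    exact ⟨⟨m1, p.1.2.1.2⟩, m2, p.1.2.2.2⟩
  have h2 := card_isTwo L (le_refl A)
  rw [L.card] at h2
  rw [h2] at h
  omega

end Cfsg.Agent.Lib.M24Nse65.OrbitsAux
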