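import Cfsg.Agent.Lib.M24Nse65.OrbitsFrames

/-!
# The possible intersections with the normalizer of another conjugate
-/

set_option autoImplicit false

namespace Cfsg.Agent.Lib.M24Nse65.OrbitsAux

open Subgroup

universe u
variable {G : Type u} [Group G] [Finite G] {A B H : Subgroup G}

/-- The part of `A` normalizing `B`. -/
abbrev meet (A B : Subgroup G) : Subgroup G := A ⊓ normalizer (B : Set G)

omit [Finite G] in
theorem commute_meet (L : Local A) (hB : B ∈ Conjs A) (hne : B ≠ A) {u v : G}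
    (hu : u ∈ meet A B) (hv : v ∈ meet B A) : Commute u v := by
  have h1 : u * v * u⁻¹ * v⁻¹ ∈ B := mul_mem (conj_mem' hu.2 hv.1) (inv_mem hv.1)
  have h2 : u * v * u⁻¹ * v⁻¹ ∈ A := by
    rw [mul_assoc (u * v) u⁻¹, mul_assoc u v, ← mul_assoc v u⁻¹]
    exact mul_mem hu.1 (conj_mem' hv.2 (inv_mem hu.1))
  by_contra hc
  refine hne (eq_of_mem L hB h2 h1 fun h => hc ?_)
  rw [mul_inv_eq_one] at h
  exact mul_inv_eq_iff_eq_mul.mp h

omit [Finite G] in
theorem not_mem_of_meet (L : Local A) (hB : B ∈ Conjs A) (hne : B ≠ A) {v : G}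
    (hv : v ∈ B) (hv1 : v ≠ 1) : v ∉ A := fun h => hne (eq_of_mem L hB h hv hv1)

theorem exists_meet (L : Local A) (hB : B ∈ Conjs A) (h : rk A B ≠ 1) :
    ∃ v ∈ meet B A, v ≠ 1 := by
  haveI : Fact (Nat.Prime 2) := ⟨Nat.prime_two⟩
  have LB := local_of_mem L hB
  obtain ⟨u, hu, hu1⟩ := exists_ne_one (H := meet A B) (by
    show 1 < rk A B
    have : 0 < rk A B := Nat.card_pos
    omega)
  obtain ⟨b, ⟨hb, hb1⟩, he⟩ := exists_fix conjP 2
    (show conjP u ^ 2 = 1 by rw [← map_pow, pow_two, L.sq u hu.1, map_one])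
    (fun x => x ∈ B ∧ x ≠ 1)
    (fun x => by
      rw [conjP_apply, ← mem_normalizer_iff.mp hu.2 x]
      exact and_congr_right fun _ => not_congr conj_eq_one_iff)
    (by rw [card_ne_one, LB.card]; norm_num)
  have hub : Commute u b := mul_inv_eq_iff_eq_mul.mp he
  exact ⟨b, ⟨hb, mem_normalizer_of_commute L hu.1 hu1 hub.symm⟩, hb1⟩

/-- An element of `B` normalizing `A` fixes exactly the part of `A` normalizing `B`. -/
theorem cent_eq_meet (L : Local A) (hB : B ∈ Conjs A) (hne : B ≠ A) {v : G} (hv : v ∈ meet B A)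
    (hv1 : v ≠ 1) : A ⊓ centralizer ({v} : Set G) = meet A B := by
  ext a
  rw [mem_inf, mem_inf, mem_centralizer_singleton_iff]
  refine and_congr_right fun ha => ⟨fun h => ?_, fun h => ?_⟩
  · exact mem_normalizer_of_commute (local_of_mem L hB) hv.1 hv1 h
  · exact (commute_meet L hB hne (u := a) ⟨ha, h⟩ hv).eq

omit [Finite G] in
theorem shift_mem (L : Local A) {x c : G} (hxN : x ∈ normalizer (A : Set G)) (hx2 : x * x = 1)
    (hc : c ∈ A) : x * c * x⁻¹ * c ∈ A ⊓ centralizer ({x} : Set G) := by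
  have hm : x * c * x⁻¹ ∈ A := conj_mem' hxN hc
  refine ⟨mul_mem hm hc, mem_centralizer_singleton_iff.mpr (Commute.symm ?_).eq⟩
  refine mul_inv_eq_iff_eq_mul.mp ?_
  rw [show x * (x * c * x⁻¹ * c) * x⁻¹ = (x * x) * c * (x * x)⁻¹ * (x * c * x⁻¹) by group, hx2,
    one_mul, inv_one, mul_one]
  exact (commute_of_mem L hc hm).eq

theorem card_cent_of_outside (L : Local A) {x : G} (hxN : x ∈ normalizer (A : Set G))
    (hxA : x ∉ A) (hx2 : x * x = 1) :
    Nat.card ↥(A ⊓ centralizer ({x} : Set G)) = 4 ∨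
      Nat.card ↥(A ⊓ centralizer ({x} : Set G)) = 8 := by
  set K := A ⊓ centralizer ({x} : Set G) with hK
  have hd : Nat.card K ∣ 16 := L.card ▸ card_dvd_of_le inf_le_left
  have h16 : Nat.card K ≠ 16 := by
    intro h
    have he : K = A := eq_of_le_of_card_ge inf_le_left (by rw [L.card, h])
    refine hxA (L.cent (mem_centralizer_iff.mpr fun c hc => ?_))
    exact mem_centralizer_singleton_iff.mp (inf_eq_left.mp he hc)
  have hge : 4 ≤ Nat.card K := by
    have hle : Nat.card A ≤ Nat.card K * Nat.card K := by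
      refine card_le_of_fiber (fun c : A => (⟨x * c * x⁻¹ * c, shift_mem L hxN hx2 c.2⟩ : K))
        fun k => ?_
      rcases isEmpty_or_nonempty {c : A // (⟨x * c * x⁻¹ * c, shift_mem L hxN hx2 c.2⟩ : K) = k}
        with he | ⟨c₀, hc₀⟩
      · rw [Nat.card_of_isEmpty]
        exact Nat.zero_le _
      refine Nat.card_le_card_of_injective (fun c => (⟨(c₀ : G) * (c.1 : G), mul_mem c₀.2 c.1.2,
        mem_centralizer_singleton_iff.mpr ?_⟩ : K)) fun c c' e => ?_
      · refine (Commute.eq (Commute.symm (mul_inv_eq_iff_eq_mul.mp ?_)))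
        have e1 : x * c.1 * x⁻¹ * c.1 = x * c₀ * x⁻¹ * c₀ := by
          have := congrArg Subtype.val (c.2.trans hc₀.symm)
          exact this
        have e2 : x * c.1 * x⁻¹ = x * c₀ * x⁻¹ * c₀ * c.1 := by
          rw [← e1, mul_assoc _ (c.1 : G) (c.1 : G), L.sq _ c.1.2, mul_one]
        rw [show x * ((c₀ : G) * c.1) * x⁻¹ = (x * c₀ * x⁻¹) * (x * c.1 * x⁻¹) by group, e2,
          show (x * c₀ * x⁻¹) * (x * c₀ * x⁻¹ * c₀ * c.1) = x * ((c₀ : G) * c₀) * x⁻¹ * (c₀ * c.1)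
            by group, L.sq _ c₀.2, mul_one, mul_inv_cancel, one_mul]
      · exact Subtype.ext (Subtype.ext (mul_left_cancel
          (congrArg (fun z : K => z.1) e)))
    rw [L.card] at hle
    by_contra h
    have := Nat.mul_le_mul (show Nat.card K ≤ 3 by omega) (show Nat.card K ≤ 3 by omega)
    omega
  have hle := Nat.le_of_dvd (by norm_num) hd
  interval_cases h : Nat.card K <;> first | omega | norm_num at hd

theorem rk_mem (L : Local A) (hB : B ∈ Conjs A) (hne : B ≠ A) :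
    rk A B = 1 ∨ rk A B = 4 ∨ rk A B = 8 := by
  by_cases h : rk A B = 1
  · exact Or.inl h
  obtain ⟨v, hv, hv1⟩ := exists_meet L hB h
  rcases card_cent_of_outside L hv.2 (not_mem_of_meet L hB hne hv.1 hv1)
    ((local_of_mem L hB).sq v hv.1) with h' | h' <;> rw [cent_eq_meet L hB hne hv hv1] at h'
  · exact Or.inr (Or.inl h')
  · exact Or.inr (Or.inr h')

theorem rk_le (L : Local A) (hB : B ∈ Conjs A) (hne : B ≠ A) : rk B A ≤ rk A B := by
  obtain ⟨c, hc, hcU⟩ := exists_not_mem (H := meet A B) (K := A) (by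
    rw [L.card]
    show rk A B < 16
    rcases rk_mem L hB hne with h | h | h <;> omega)
  refine Nat.card_le_card_of_injective
    (fun v : ↥(meet B A) => (⟨(v : G) * c * (v : G)⁻¹ * c, ?_⟩ : ↥(meet A B))) fun v w e => ?_
  · rcases eq_or_ne (v : G) 1 with h | h
    · rw [h, inv_one, mul_one, one_mul, L.sq c hc]
      exact one_mem _
    · rw [← cent_eq_meet L hB hne v.2 h]
      exact shift_mem L v.2.2 ((local_of_mem L hB).sq _ v.2.1) hc
  · have e' : (v : G) * c * (v : G)⁻¹ = w * c * (w : G)⁻¹ :=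
      mul_right_cancel (congrArg (fun z : ↥(meet A B) => z.1) e)
    by_contra hne'
    have h1 : (w : G)⁻¹ * v ≠ 1 := fun h => hne' (Subtype.ext (inv_mul_eq_one.mp h).symm)
    have h2 : Commute ((w : G)⁻¹ * v) c := by
      refine mul_inv_eq_iff_eq_mul.mp ?_
      calc (w : G)⁻¹ * v * c * ((w : G)⁻¹ * v)⁻¹ = (w : G)⁻¹ * (v * c * (v : G)⁻¹) * w := by group
        _ = c := by rw [e']; group
    refine hcU ?_
    rw [← cent_eq_meet L hB hne (mul_mem (inv_mem w.2) v.2) h1]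
    exact ⟨hc, mem_centralizer_singleton_iff.mpr h2.symm.eq⟩

theorem rk_symm (L : Local A) (hB : B ∈ Conjs A) (hne : B ≠ A) : rk B A = rk A B :=
  le_antisymm (rk_le L hB hne) (rk_le (local_of_mem L hB) (mem_conjs_symm hB) hne.symm)

omit [Finite G] in
theorem meet_cj {n : G} (hn : n ∈ normalizer (A : Set G)) (B : Subgroup G) :
    meet A (cj n B) = cj n (meet A B) := by
  rw [cj_inf, cj_normalizer, cj_eq_self_iff.mpr hn]

omit [Finite G] in
theorem rk_cj {n : G} (hn : n ∈ normalizer (A : Set G)) (B : Subgroup G) :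
    rk A (cj n B) = rk A B := by
  show Nat.card ↥(meet A (cj n B)) = _
  rw [meet_cj hn, card_cj]
  rfl

/-- Outside involutions of the normalizer with a given fixed group. -/
def AxisInv (A H : Subgroup G) (x : G) : Prop :=
  x ∈ normalizer (A : Set G) ∧ x ∉ A ∧ x * x = 1 ∧ A ⊓ centralizer ({x} : Set G) = H

omit [Finite G] in
theorem axisInv_mem {x₀ x a b : G} (h₀ : AxisInv A H x₀) (h : AxisInv A H x) (hb : b ∈ A)
    (he : x₀ * b * x₀⁻¹ * b = x * b * x⁻¹ * b) (ha : a = b) : Commute (x₀⁻¹ * x) a := by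
  subst ha
  refine mul_inv_eq_iff_eq_mul.mp ?_
  have e := mul_right_cancel he
  calc x₀⁻¹ * x * a * (x₀⁻¹ * x)⁻¹ = x₀⁻¹ * (x * a * x⁻¹) * x₀ := by group
    _ = a := by rw [← e]; group

omit [Finite G] in
theorem axisInv_fixed {x₀ x a : G} (h₀ : AxisInv A H x₀) (h : AxisInv A H x) (ha : a ∈ H) :
    Commute (x₀⁻¹ * x) a := by
  have e1 : a ∈ A ⊓ centralizer ({x₀} : Set G) := h₀.2.2.2.symm ▸ ha
  have e2 : a ∈ A ⊓ centralizer ({x} : Set G) := h.2.2.2.symm ▸ ha
  exact ((show Commute a x₀ from mem_centralizer_singleton_iff.mp e1.2).symm.inv_left).mul_left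
    (show Commute a x from mem_centralizer_singleton_iff.mp e2.2).symm

omit [Finite G] in
theorem axisInv_diff (L : Local A) {x₀ x : G} (h₀ : AxisInv A H x₀) (h : AxisInv A H x)
    (hA : x₀⁻¹ * x ∈ A) : x₀⁻¹ * x ∈ H := by
  have hH : x₀⁻¹ * x ∈ A ⊓ centralizer ({x₀} : Set G) := by
    refine ⟨hA, mem_centralizer_singleton_iff.mpr ?_⟩
    have hi : x₀⁻¹ = x₀ := inv_eq_of_mul_eq_one_right h₀.2.2.1
    have hx : x⁻¹ = x := inv_eq_of_mul_eq_one_right h.2.2.1
    have e := inv_eq_self L hA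
    rw [mul_inv_rev, inv_inv, hx, hi] at e
    rw [hi, ← mul_assoc x₀ x₀ x, h₀.2.2.1, one_mul, ← e, mul_assoc x x₀ x₀, h₀.2.2.1, mul_one]
  rwa [h₀.2.2.2] at hH

theorem card_axisInv_eight (L : Local A) (hH : H ≤ A) (h8 : Nat.card H = 8) :
    Nat.card {x : G // AxisInv A H x} ≤ 56 := by
  obtain ⟨a, b, c, d, hf, hs⟩ := exists_frame_eight L hH h8
  have hd : d ∈ A := hf.2.1
  have hdH : d ∉ H := hs ▸ hf.2.2
  have h7 : Nat.card {e : G // IsOne H e} = 7 := by rw [card_isOne, h8]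
  have hmem : ∀ x : {x : G // AxisInv A H x}, IsOne H (x.1 * d * x.1⁻¹ * d) := fun x => by
    refine ⟨le_of_eq x.2.2.2.2 (shift_mem L x.2.1 x.2.2.2.1 hd), fun h1 => hdH ?_⟩
    refine le_of_eq x.2.2.2.2 ⟨hd, mem_centralizer_singleton_iff.mpr ?_⟩
    rw [mul_eq_one_iff_eq_inv, inv_eq_self L hd] at h1
    exact (mul_inv_eq_iff_eq_mul.mp h1).symm
  let f : {x : G // AxisInv A H x} → {e : G // IsOne H e} := fun x => ⟨_, hmem x⟩
  refine le_trans (card_le_of_fiber (k := 8) f fun e => ?_) (by rw [h7])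
  · rcases isEmpty_or_nonempty {x // f x = e} with he | ⟨⟨x₀, hx₀⟩⟩
    · rw [Nat.card_of_isEmpty]
      norm_num
    rw [← h8]
    refine Nat.card_le_card_of_injective (fun x => (⟨x₀.1⁻¹ * x.1.1, ?_⟩ : H)) fun x y h => ?_
    · refine axisInv_diff L x₀.2 x.1.2 (mem_of_fix_frame L hf ?_ ?_ ?_ ?_)
      · exact axisInv_fixed x₀.2 x.1.2 (le_of_eq hs (le_adj _ _ (le_adj _ _ (mem_adj _ _))))
      · exact axisInv_fixed x₀.2 x.1.2 (le_of_eq hs (le_adj _ _ (mem_adj _ _)))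
      · exact axisInv_fixed x₀.2 x.1.2 (le_of_eq hs (mem_adj _ _))
      · exact axisInv_mem x₀.2 x.1.2 hd (congrArg Subtype.val (hx₀.trans x.2.symm)) rfl
    · exact Subtype.ext (Subtype.ext (mul_left_cancel (congrArg (fun z : H => z.1) h)))

theorem card_axisInv_four (L : Local A) (hH : H ≤ A) (h4 : Nat.card H = 4) :
    Nat.card {x : G // AxisInv A H x} ≤ 24 := by
  obtain ⟨a, b, c, d, hf, hs⟩ := exists_frame_four L hH h4
  have hc : c ∈ A := hf.1.2.1
  have hd : d ∈ A := hf.2.1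
  have hcH : c ∉ H := hs ▸ hf.1.2.2
  have hdH : d ∉ H := fun h => hf.2.2 (le_adj (s2 a b) c (le_of_eq hs.symm h))
  have hcdH : d * c ∉ H := fun h => hf.2.2 (by
    have h' : d * c ∈ s3 a b c := le_adj (s2 a b) c (le_of_eq hs.symm h)
    simpa using mul_mem h' (inv_mem (mem_adj (s2 a b) c)))
  have h6 : Nat.card {e : G × G // IsTwo H e} = 6 := by rw [card_isTwo L hH, h4]
  have hmem : ∀ {x : G}, AxisInv A H x → ∀ {w : G}, w ∈ A → w ∉ H →
      x * w * x⁻¹ * w ∈ H ∧ x * w * x⁻¹ * w ≠ 1 := by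
    intro x hx w hw hwH
    refine ⟨le_of_eq hx.2.2.2 (shift_mem L hx.1 hx.2.2.1 hw), fun h1 => hwH ?_⟩
    refine le_of_eq hx.2.2.2 ⟨hw, mem_centralizer_singleton_iff.mpr ?_⟩
    rw [mul_eq_one_iff_eq_inv, inv_eq_self L hw] at h1
    exact (mul_inv_eq_iff_eq_mul.mp h1).symm
  have htwo : ∀ x : {x : G // AxisInv A H x},
      IsTwo H (x.1 * c * x.1⁻¹ * c, x.1 * d * x.1⁻¹ * d) := by
    intro x
    refine ⟨hmem x.2 hc hcH, (hmem x.2 hd hdH).1, fun h1 => ?_⟩
    have h2 := (hmem x.2 hc hcH)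
    -- the span of one element
    have hle : s1 (x.1 * c * x.1⁻¹ * c) ≤ zpowers (x.1 * c * x.1⁻¹ * c) :=
      adj_le bot_le (mem_zpowers _)
    obtain ⟨i, hi⟩ := mem_zpowers_iff.mp (hle h1)
    have hsq : (x.1 * c * x.1⁻¹ * c) * (x.1 * c * x.1⁻¹ * c) = 1 := L.sq _ (hH h2.1)
    rcases Int.even_or_odd i with ⟨j, hj⟩ | ⟨j, hj⟩
    · rw [hj, ← two_mul, zpow_mul, zpow_two, hsq, one_zpow] at hi
      exact (hmem x.2 hd hdH).2 hi.symm
    · rw [hj, zpow_add, zpow_mul, zpow_two, hsq, one_zpow, one_mul, zpow_one] at hi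
      refine hcdH (le_of_eq x.2.2.2.2 ⟨mul_mem hd hc, mem_centralizer_singleton_iff.mpr ?_⟩)
      refine (Commute.eq (Commute.symm (mul_inv_eq_iff_eq_mul.mp ?_)))
      have e1 : x.1 * d * x.1⁻¹ = x.1 * c * x.1⁻¹ * c * d := by
        rw [hi, mul_assoc _ d d, L.sq d hd, mul_one]
      rw [show x.1 * (d * c) * x.1⁻¹ = (x.1 * d * x.1⁻¹) * (x.1 * c * x.1⁻¹) by group, e1,
        mul_assoc (x.1 * c * x.1⁻¹) c d, (commute_of_mem L hc hd).eq,
        (commute_of_mem L (conj_mem' x.2.1 hc) (mul_mem hd hc)).eq, mul_assoc,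
        ← show x.1 * (c * c) * x.1⁻¹ = x.1 * c * x.1⁻¹ * (x.1 * c * x.1⁻¹) by group,
        L.sq c hc, mul_one, mul_inv_cancel, mul_one]
  let f : {x : G // AxisInv A H x} → {e : G × G // IsTwo H e} := fun x => ⟨_, htwo x⟩
  refine le_trans (card_le_of_fiber (k := 4) f fun e => ?_) (by rw [h6])
  · rcases isEmpty_or_nonempty {x // f x = e} with he | ⟨⟨x₀, hx₀⟩⟩
    · rw [Nat.card_of_isEmpty]
      norm_num
    rw [← h4]
    refine Nat.card_le_card_of_injective (fun x => (⟨x₀.1⁻¹ * x.1.1, ?_⟩ : H)) fun x y h => ?_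
    · have he := congrArg Subtype.val (hx₀.trans x.2.symm)
      refine axisInv_diff L x₀.2 x.1.2 (mem_of_fix_frame L hf ?_ ?_ ?_ ?_)
      · exact axisInv_fixed x₀.2 x.1.2 (le_of_eq hs (le_adj _ _ (mem_adj _ _)))
      · exact axisInv_fixed x₀.2 x.1.2 (le_of_eq hs (mem_adj _ _))
      · exact axisInv_mem x₀.2 x.1.2 hc (congrArg Prod.fst he) rfl
      · exact axisInv_mem x₀.2 x.1.2 hd (congrArg Prod.snd he) rfl
    · exact Subtype.ext (Subtype.ext (mul_left_cancel (congrArg (fun z : H => z.1) h)))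

theorem axisInv_of_meet (L : Local A) (hB : B ∈ Conjs A) (hne : B ≠ A) {v : G}
    (hv : v ∈ meet B A) (hv1 : v ≠ 1) : AxisInv A (meet A B) v :=
  ⟨hv.2, not_mem_of_meet L hB hne hv.1 hv1, (local_of_mem L hB).sq v hv.1,
    cent_eq_meet L hB hne hv hv1⟩

end Cfsg.Agent.Lib.M24Nse65.OrbitsAux
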