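import Cfsg.Agent.Lib.M24Nse65.OrbitsFixed

/-!
# A trio of octad subgroups
-/

set_option autoImplicit false

namespace Cfsg.Agent.Lib.M24Nse65.OrbitsAux

open Subgroup
open Cfsg.Agent.Lib.M24Nse2 (Facts)

universe u
variable {G : Type u} [Group G] [Finite G] {A : Subgroup G}

/-- An element of order three centralizing one of order seven in the normalizer does not
normalize. -/
theorem not_mem_normalizer_of_three (F : Facts G) (L : Local A) {y c : G}
    (hy : y ∈ normalizer (A : Set G)) (hy7 : orderOf y = 7) (hc3 : orderOf c = 3)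
    (hyc : Commute y c) : c ∉ normalizer (A : Set G) := by
  intro hcN
  haveI : Fact (Nat.Prime 7) := ⟨by norm_num⟩
  obtain ⟨a, ⟨ha, ha1⟩, hfix⟩ := exists_fix conjP 7
    (show conjP y ^ 7 = 1 by rw [← map_pow, ← hy7, pow_orderOf_eq_one, map_one])
    (fun x => x ∈ A ∧ x ≠ 1)
    (fun x => by
      rw [conjP_apply, ← mem_normalizer_iff.mp hy x]
      exact and_congr_right fun _ => not_congr conj_eq_one_iff)
    (by rw [card_ne_one, L.card]; norm_num)
  have hya : Commute y a := mul_inv_eq_iff_eq_mul.mp hfix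
  set K := A ⊓ centralizer ({y} : Set G) with hK
  have h16 : Nat.card K ∣ 16 := L.card ▸ card_dvd_of_le inf_le_left
  have h42 : Nat.card K ∣ 42 := by
    rw [← (cent_seven F hy7).1]
    exact card_dvd_of_le inf_le_right
  have h2 : Nat.card K ∣ 2 := by
    have := Nat.dvd_gcd h16 h42
    norm_num at this
    exact this
  have ha' : a ∈ K := ⟨ha, mem_centralizer_singleton_iff.mpr hya.symm.eq⟩
  have hca : c * a * c⁻¹ ∈ K := by
    refine ⟨conj_mem' hcN ha, mem_centralizer_singleton_iff.mpr (Commute.eq ?_)⟩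
    exact ((hyc.mul_right hya).mul_right hyc.inv_right).symm
  have hle := Nat.le_of_dvd (by norm_num) h2
  have h1 := card_ne_one K
  have heq : c * a * c⁻¹ = a := by
    haveI : Subsingleton {x : G // x ∈ K ∧ x ≠ 1} :=
      Finite.card_le_one_iff_subsingleton.mp (by omega)
    exact congrArg Subtype.val
      (Subsingleton.elim (⟨_, hca, fun e => ha1 (conj_eq_one_iff.mp e)⟩ :
        {x : G // x ∈ K ∧ x ≠ 1}) ⟨a, ha', ha1⟩)
  exact not_commute_two_three F (Or.inr rfl) hy7 (orderOf_eq_two L ha ha1) hc3 hya hyc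
    (Commute.symm (mul_inv_eq_iff_eq_mul.mp heq))

theorem exists_trio' (F : Facts G) (L : Local A) :
    ∃ B C : Subgroup G, ∃ y c : G, Trio A B C y c := by
  obtain ⟨y, hy, hy7⟩ := exists_seven L
  obtain ⟨-, c, -, hc3, -, hyc, -, -⟩ := seven_struct F hy7
  have hcN := not_mem_normalizer_of_three F L hy hy7 hc3 hyc
  have hc : c * c * c = 1 := by
    have := pow_orderOf_eq_one c
    rwa [hc3, pow_three, ← mul_assoc] at this
  have hA : cj y A = A := cj_eq_self_iff.mpr hy
  have hB : cj y (cj c A) = cj c A := by rw [cj_cj, hyc.eq, ← cj_cj, hA]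
  have hC : cj y (cj c (cj c A)) = cj c (cj c A) := by rw [cj_cj, hyc.eq, ← cj_cj, hB]
  have hne1 : cj c A ≠ A := fun e => hcN (cj_eq_self_iff.mp e)
  have hC' : cj c (cj c (cj c A)) = A := by rw [cj_cj, cj_cj, hc, cj_one]
  have hne2 : cj c (cj c A) ≠ A := fun e => hne1 (by rw [e] at hC'; exact hC')
  have hBmem := cj_mem_conjs (self_mem_conjs A) c
  have hCmem := cj_mem_conjs hBmem c
  obtain ⟨H, -, -, hfx⟩ := fixed_seven F L hy hy7
  have h1 := hfx _ hBmem hne1 (cj_eq_self_iff.mp hB)
  have h2 := hfx _ hCmem hne2 (cj_eq_self_iff.mp hC)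
  exact ⟨cj c A, cj c (cj c A), y, c,
    { order_y := hy7
      order_c := hc3
      comm := hyc.eq
      mem_B := hBmem
      cj_A := rfl
      cj_B := rfl
      cj_C := hC'
      ne := ⟨hne1, hne2, fun e => hne2 (by
        have h := congrArg (cj c⁻¹) e
        rw [cj_inv_cj, cj_inv_cj] at h
        exact absurd h.symm hne1)⟩
      rk_B := h1.1
      rk_C := h2.1
      same := h1.2.trans h2.2.symm
      fix := ⟨hA, hB, hC⟩ }⟩

end Cfsg.Agent.Lib.M24Nse65.OrbitsAux
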