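import Cfsg.Agent.Lib.M24Nse65.Thirty
import Cfsg.Agent.Lib.M24Nse65.SecondTables

/-!
Vocabulary for the conjugates of rank four.
-/

set_option autoImplicit false

namespace Cfsg.Agent.Lib.M24Nse65.Second

/-- The fixed line of the triple `w`. -/
def lineOf (w : ℕ) : ℕ := tget wLine 6 w

/-- `v` lies on the line `l` (zero included). -/
def inLine (l v : ℕ) : Bool := decide (tget (lineBasis.getD l (0, 0)).2 4 v < 4)

end Cfsg.Agent.Lib.M24Nse65.Second
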