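import Cfsg.Agent.Lib.M24Nse65.SecondCode

/-!
The triple of involutions induced by a conjugate of rank four, and its change under the generators.
-/

set_option autoImplicit false
set_option linter.unusedSectionVars false
set_option maxRecDepth 100000

namespace Cfsg.Agent.Lib.M24Nse65.Second

universe u

/-- The pure fact about commuting involutions with a common fixed line. -/
def TripleFact : Prop :=
  ∀ l T1 T2 T3 : ℕ, l < 35 →
    (∀ T ∈ [T1, T2, T3], isLin T = true ∧ ∀ v, v < 16 →
      app T (app T v) = v ∧ (app T v = v ↔ inLine l v = true)) → T1 ≠ T2 →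
    (∀ v, v < 16 → app T1 (app T2 v) = app T3 v ∧ app T2 (app T1 v) = app T3 v) →
    ∃ w, w < 70 ∧ lineOf w = l ∧ ∀ T ∈ [T1, T2, T3], T ∈ wTables.getD w []

/-- The image of a triple under a generator. -/
def wMap (j w : ℕ) : ℕ := tget (if j = 0 then wPerm0 else if j = 1 then wPerm1 else wPerm2) 7 w

/-- The table of a generator. -/
def genT (j : ℕ) : ℕ := if j = 0 then idT else if j = 1 then tA else tB

theorem w_disjoint : (List.range 70).all (fun w => (List.range 70).all fun w' => decide (w = w') ||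
    (wTables.getD w []).all fun T => !(wTables.getD w' []).contains T) = true := by decide +kernel

theorem w_perm_checks : [0, 1, 2].all (fun j => (List.range 70).all fun w =>
    decide (wMap j w < 70) && (wTables.getD w []).all fun T =>
      (wTables.getD (wMap j w) []).any fun T' => (List.range 16).all fun v =>
        app T' (app (genT j) v) == app (genT j) (app T v)) = true := by decide +kernel

theorem w_lin : (List.range 70).all (fun w => (wTables.getD w []).all fun T => isLin T) = true := by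
  decide +kernel

theorem lin_mem {w T : ℕ} (hw : w < 70) (hT : T ∈ wTables.getD w []) : isLin T = true := by
  have := w_lin
  simp only [List.all_eq_true, List.mem_range] at this
  exact this w hw T hT

theorem line_checks : (List.range 16).all (fun a => (List.range 16).all fun b =>
    decide (a = 0) || decide (b = 0) || decide (a = b) || (List.range 35).any fun l =>
      (List.range 16).all fun v =>
        inLine l v == (decide (v = 0) || decide (v = a) || decide (v = b) || decide (v = a ^^^ b))) =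
    true := by decide +kernel

variable {G : Type u} [Group G] [Finite G] {A : Subgroup G}

theorem Coord.tab_gen (C : Coord A) (L : Local A) (j : ℕ) (hj : j < 3) :
    IsTab C (C.gen j) (genT j) := by
  have hid : ∀ v, v < 16 → app idT v = v := by decide +kernel
  rcases (show j = 0 ∨ j = 1 ∨ j = 2 by omega) with rfl | rfl | rfl
  · refine ⟨isLin_idT, fun v hv => ?_⟩
    simp only [Coord.gen, if_true, genT, hid v hv]
    rw [C.e_swap L (by norm_num) hv]
    group
  · exact ⟨isLin_tA, fun v hv => by simpa [Coord.gen, genT] using C.k_act tA v isLin_tA hv⟩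
  · exact ⟨isLin_tB, fun v hv => by simpa [Coord.gen, genT] using C.k_act tB v isLin_tB hv⟩

/-- A subgroup of `A` of order four is a line. -/
theorem exists_line (C : Coord A) {U : Subgroup G} (hU : U ≤ A)
    (hc : Nat.card U = 4) :
    ∃ l, l < 35 ∧ ∀ v, v < 16 → (C.e v ∈ U ↔ inLine l v = true) := by
  classical
  haveI : Fintype U := Fintype.ofFinite _
  rw [Nat.card_eq_fintype_card] at hc
  obtain ⟨x, hx⟩ : ∃ x : U, x ≠ 1 := Fintype.exists_ne_of_one_lt_card (by omega) 1
  obtain ⟨y, hy1, hyx⟩ : ∃ y : U, y ≠ 1 ∧ y ≠ x := by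
    by_contra hcon
    push Not at hcon
    have : Finset.univ ⊆ ({1, x} : Finset U) := fun z _ => by
      by_cases hz : z = 1 <;> simp [hz]
      exact hcon z hz
    have := Finset.card_le_card this
    rw [Finset.card_univ, hc, Finset.card_pair (Ne.symm hx)] at this
    omega
  obtain ⟨a, ha, hae⟩ := C.surj x.1 (hU x.2)
  obtain ⟨b, hb, hbe⟩ := C.surj y.1 (hU y.2)
  have e0 : C.e 0 = 1 := Coord.e_zero C
  have ha0 : a ≠ 0 := by rintro rfl; exact hx (Subtype.ext (hae.symm.trans e0))
  have hb0 : b ≠ 0 := by rintro rfl; exact hy1 (Subtype.ext (hbe.symm.trans e0))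
  have hab : a ≠ b := by rintro rfl; exact hyx (Subtype.ext (hbe.symm.trans hae))
  have hab0 : a ^^^ b ≠ 0 := fun e => hab (Nat.xor_eq_zero_iff.1 e)
  have habe : C.e (a ^^^ b) ∈ U := by rw [C.mul a b ha hb, hae, hbe]; exact U.mul_mem x.2 y.2
  have hset : ∀ v, v < 16 → (C.e v ∈ U ↔ v = 0 ∨ v = a ∨ v = b ∨ v = a ^^^ b) := by
    intro v hv
    refine ⟨fun hvU => ?_, ?_⟩
    · by_contra hcon
      push Not at hcon
      obtain ⟨n0, na, nb, nab⟩ := hcon
      let S : Finset ℕ := {0, a, b, a ^^^ b, v}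
      have hS : S.card = 5 := by
        have x1 : a ^^^ b ≠ a := fun e => hb0 (by
          have := congrArg (fun z => a ^^^ z) e
          simpa [← Nat.xor_assoc] using this)
        have x2 : a ^^^ b ≠ b := fun e => ha0 (by
          have := congrArg (fun z => z ^^^ b) e
          simpa [Nat.xor_assoc] using this)
        simp only [S]
        rw [Finset.card_insert_of_notMem (by simp [ha0.symm, hb0.symm, hab0.symm, n0.symm]),
          Finset.card_insert_of_notMem (by simp [hab, x1.symm, na.symm]),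
          Finset.card_insert_of_notMem (by simp [x2.symm, nb.symm]),
          Finset.card_insert_of_notMem (by simp [nab.symm]), Finset.card_singleton]
      have hmem : ∀ i ∈ S, i < 16 ∧ C.e i ∈ U := by
        intro i hi
        simp only [S, Finset.mem_insert, Finset.mem_singleton] at hi
        rcases hi with rfl | rfl | rfl | rfl | rfl
        exacts [⟨by norm_num, by rw [e0]; exact U.one_mem⟩, ⟨ha, by rw [hae]; exact x.2⟩,
          ⟨hb, by rw [hbe]; exact y.2⟩, ⟨xor_lt16 ha hb, habe⟩, ⟨hv, hvU⟩]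
      let f : {i // i ∈ S} → U := fun i => ⟨C.e i.1, (hmem i.1 i.2).2⟩
      have hf : Function.Injective f := fun i k e =>
        Subtype.ext (C.inj _ _ (hmem i.1 i.2).1 (hmem k.1 k.2).1 (congrArg Subtype.val e))
      have := Fintype.card_le_of_injective f hf
      rw [Fintype.card_coe, hS, hc] at this
      omega
    · rintro (rfl | rfl | rfl | rfl)
      exacts [by rw [e0]; exact U.one_mem, by rw [hae]; exact x.2, by rw [hbe]; exact y.2, habe]
  have hl := line_checks
  simp only [List.all_eq_true, List.any_eq_true, List.mem_range, Bool.or_eq_true,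
    decide_eq_true_eq, beq_iff_eq] at hl
  rcases hl a ha b hb with ((e | e) | e) | ⟨l, hl', hlv⟩
  · exact absurd e ha0
  · exact absurd e hb0
  · exact absurd e hab
  · refine ⟨l, hl', fun v hv => ?_⟩
    rw [hset v hv, hlv v hv]
    simp [or_assoc]

theorem hasW_unique (L : Local A) (O : Orbits A) (C : Coord A) {Y : Subgroup G} (hY : Rel A 4 A Y)
    {w w' : ℕ} (hw : w < 70) (hw' : w' < 70) (h : HasW C Y w) (h' : HasW C Y w') : w = w' := by
  classical
  have hr := (rel_symm O hY).2.2.2
  haveI : Fintype ↥(Y ⊓ Subgroup.normalizer (A : Set G)) := Fintype.ofFinite _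
  rw [rk, Nat.card_eq_fintype_card] at hr
  obtain ⟨⟨u, hu⟩, hu1⟩ : ∃ x : ↥(Y ⊓ Subgroup.normalizer (A : Set G)), x ≠ 1 :=
    Fintype.exists_ne_of_one_lt_card (by omega) 1
  have hu1' : u ≠ 1 := fun e => hu1 (Subtype.ext e)
  obtain ⟨T, hT⟩ := exists_tab L C (Subgroup.mem_inf.1 hu).2
  have a := h u hu.1 hu.2 hu1' T hT
  have b := h' u hu.1 hu.2 hu1' T hT
  have hd := w_disjoint
  simp only [List.all_eq_true, List.mem_range, Bool.or_eq_true, decide_eq_true_eq,
    Bool.not_eq_true', List.contains_eq_mem, decide_eq_false_iff_not] at hd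
  rcases hd w hw w' hw' with e | e
  · exact e
  · exact absurd b (e T a)

theorem exists_hasW (tri : TripleFact) (L : Local A) (O : Orbits A) (C : Coord A) {Y : Subgroup G}
    (hY : Rel A 4 A Y) {l : ℕ} (hl : l < 35)
    (hline : ∀ v, v < 16 → (C.e v ∈ fixA A Y ↔ inLine l v = true)) :
    ∃ w, w < 70 ∧ lineOf w = l ∧ HasW C Y w := by
  classical
  have hYc := hY.2.1
  have hne := (rel_A.1 hY).2.1
  have hr := (rel_symm O hY).2.2.2
  set V := Y ⊓ Subgroup.normalizer (A : Set G) with hV
  haveI : Fintype V := Fintype.ofFinite _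
  rw [rk, ← hV, Nat.card_eq_fintype_card] at hr
  obtain ⟨x, hx⟩ : ∃ x : V, x ≠ 1 := Fintype.exists_ne_of_one_lt_card (by omega) 1
  obtain ⟨y, hy1, hyx⟩ : ∃ y : V, y ≠ 1 ∧ y ≠ x := by
    by_contra hcon
    push Not at hcon
    have : Finset.univ ⊆ ({1, x} : Finset V) := fun z _ => by
      by_cases hz : z = 1 <;> simp [hz]
      exact hcon z hz
    have := Finset.card_le_card this
    rw [Finset.card_univ, hr, Finset.card_pair (Ne.symm hx)] at this
    omega
  have hsq : ∀ z : V, z * z = 1 := fun z =>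
    Subtype.ext (mul_self_of_mem_conjs L hYc (Subgroup.mem_inf.1 z.2).1)
  have hxy1 : x * y ≠ 1 := fun e => hyx (by
    calc y = x * x * y := by rw [hsq, one_mul]
      _ = x * (x * y) := by rw [mul_assoc]
      _ = x := by rw [e, mul_one])
  have hall : ∀ z : V, z = 1 ∨ z = x ∨ z = y ∨ z = x * y := by
    intro z
    by_contra hcon
    push Not at hcon
    obtain ⟨z1, zx, zy, zxy⟩ := hcon
    have x1 : x * y ≠ x := fun e => hy1 (mul_eq_left.1 e)
    have x2 : x * y ≠ y := fun e => hx (mul_eq_right.1 e)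
    have : ({1, x, y, x * y, z} : Finset V).card = 5 := by
      rw [Finset.card_insert_of_notMem (by simp [hx.symm, hy1.symm, hxy1.symm, z1.symm]),
        Finset.card_insert_of_notMem (by simp [hyx.symm, x1.symm, zx.symm]),
        Finset.card_insert_of_notMem (by simp [x2.symm, zy.symm]),
        Finset.card_insert_of_notMem (by simp [zxy.symm]), Finset.card_singleton]
    have := Finset.card_le_univ ({1, x, y, x * y, z} : Finset V)
    omega
  have tabs : ∀ z : V, z ≠ 1 → ∃ T, IsTab C (z : G) T ∧ isLin T = true ∧ ∀ v, v < 16 →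
      app T (app T v) = v ∧ (app T v = v ↔ inLine l v = true) := by
    intro z hz
    obtain ⟨hzY, hzN⟩ := Subgroup.mem_inf.1 z.2
    have hz1 : (z : G) ≠ 1 := fun e => hz (Subtype.ext e)
    obtain ⟨T, hT⟩ := exists_tab L C hzN
    refine ⟨T, hT, hT.1, fun v hv => ⟨?_, ?_⟩⟩
    · apply C.inj _ _ (app_lt _ _) hv
      rw [← hT.2 _ (app_lt T v), ← hT.2 v hv,
        show (z : G) * ((z : G) * C.e v * (z : G)⁻¹) * (z : G)⁻¹ =
          ((z : G) * z) * C.e v * ((z : G) * z)⁻¹ by group,
        mul_self_of_mem_conjs L hYc hzY]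
      group
    · rw [← hline v hv]
      constructor
      · intro e
        have h := hT.2 v hv
        rw [e, mul_inv_eq_iff_eq_mul] at h
        exact Subgroup.mem_inf.2 ⟨C.mem v hv, cent_le_conjs L hYc hzY hz1 h.symm⟩
      · intro hf
        apply C.inj _ _ (app_lt _ _) hv
        rw [← hT.2 v hv]
        exact comm_cross L hYc hne hzY hzN hf
  obtain ⟨T1, h1, i1, p1⟩ := tabs x hx
  obtain ⟨T2, h2, i2, p2⟩ := tabs y hy1
  obtain ⟨T3, h3, i3, p3⟩ := tabs (x * y) hxy1
  have h12 : T1 ≠ T2 := by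
    rintro rfl
    have hA : (x : G)⁻¹ * y ∈ A := by
      refine L.cent (Subgroup.mem_centralizer_iff.2 fun a ha => ?_)
      obtain ⟨v, hv, rfl⟩ := C.surj a ha
      have a1 := h1.2 v hv
      have a2 := h2.2 v hv
      rw [← a1] at a2
      calc C.e v * ((x : G)⁻¹ * y) = (x : G)⁻¹ * ((x : G) * C.e v * (x : G)⁻¹) * y := by group
        _ = (x : G)⁻¹ * ((y : G) * C.e v * (y : G)⁻¹) * y := by rw [a2]
        _ = (x : G)⁻¹ * y * C.e v := by group
    have hYm : (x : G)⁻¹ * y ∈ Y :=
      Y.mul_mem (Y.inv_mem (Subgroup.mem_inf.1 x.2).1) (Subgroup.mem_inf.1 y.2).1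
    have := disjoint_conjs L hYc self_mem_conjs hne hYm hA
    exact hyx (Subtype.ext (inv_mul_eq_one.1 this).symm)
  have hc : ∀ v, v < 16 → app T1 (app T2 v) = app T3 v ∧ app T2 (app T1 v) = app T3 v := by
    intro v hv
    constructor
    · apply C.inj _ _ (app_lt _ _) (app_lt _ _)
      rw [← h1.2 _ (app_lt T2 v), ← h2.2 v hv, ← h3.2 v hv, Subgroup.coe_mul]
      group
    · apply C.inj _ _ (app_lt _ _) (app_lt _ _)
      rw [← h2.2 _ (app_lt T1 v), ← h1.2 v hv, ← h3.2 v hv, Subgroup.coe_mul,
        comm_of_mem_conjs L hYc (Subgroup.mem_inf.1 x.2).1 (Subgroup.mem_inf.1 y.2).1]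
      group
  obtain ⟨w, hw, hwl, hmem⟩ := tri l T1 T2 T3 hl
    (by
      intro T hT
      simp only [List.mem_cons, List.not_mem_nil, or_false] at hT
      rcases hT with rfl | rfl | rfl
      exacts [⟨i1, p1⟩, ⟨i2, p2⟩, ⟨i3, p3⟩]) h12 hc
  refine ⟨w, hw, hwl, fun z hzY hzN hz T hT => ?_⟩
  rcases hall ⟨z, Subgroup.mem_inf.2 ⟨hzY, hzN⟩⟩ with e | e | e | e
  · exact absurd (congrArg Subtype.val e) hz
  · obtain rfl : z = (x : G) := congrArg Subtype.val e
    rw [tab_unique C hT h1]; exact hmem _ (by simp)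
  · obtain rfl : z = (y : G) := congrArg Subtype.val e
    rw [tab_unique C hT h2]; exact hmem _ (by simp)
  · obtain rfl : z = ((x * y : V) : G) := congrArg Subtype.val e
    rw [tab_unique C hT h3]; exact hmem _ (by simp)

theorem hasW_gen (L : Local A) (C : Coord A) {Y : Subgroup G} {j w : ℕ} (hj : j < 3) (hw : w < 70)
    (h : HasW C Y w) : HasW C (cj (C.gen j) Y) (wMap j w) := by
  intro z hzY hzN hz T hT
  have hn := C.gen_norm j
  set n := C.gen j
  have hz' : n⁻¹ * z * n ∈ Y := mem_cj.1 hzY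
  have hzn : n⁻¹ * z * n ∈ Subgroup.normalizer (A : Set G) :=
    Subgroup.mul_mem _ (Subgroup.mul_mem _ (Subgroup.inv_mem _ hn) hzN) hn
  obtain ⟨S, hS⟩ := exists_tab L C hzn
  have hSm := h _ hz' hzn (fun e => hz (by
    calc z = n * (n⁻¹ * z * n) * n⁻¹ := by group
      _ = 1 := by rw [e]; group)) S hS
  have hc := w_perm_checks
  simp only [List.all_eq_true, List.any_eq_true, List.mem_range, Bool.and_eq_true,
    decide_eq_true_eq, beq_iff_eq] at hc
  have hj' : j ∈ [0, 1, 2] := by
    rcases (show j = 0 ∨ j = 1 ∨ j = 2 by omega) with rfl | rfl | rfl <;> simp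
  obtain ⟨hlt, hb⟩ := hc j hj' w hw
  obtain ⟨T', hT', he⟩ := hb S hSm
  have hg := Coord.tab_gen C L j hj
  have heq : T = T' := by
    refine tab_ext hT.1 (lin_mem hlt hT') fun v hv => ?_
    obtain ⟨x, hx, rfl⟩ := isLin_surj hg.1 hv
    rw [he x hx]
    apply C.inj _ _ (app_lt _ _) (app_lt _ _)
    rw [← hT.2 _ (app_lt _ _), ← hg.2 x hx, ← hg.2 _ (app_lt _ _), ← hS.2 x hx]
    simp only [n]
    group
  exact heq ▸ hT'

end Cfsg.Agent.Lib.M24Nse65.Second
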