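import Cfsg.Agent.Lib.M24Nse65.GraphTables

/-! Tables for the vertices adjacent to the base vertex. -/

set_option autoImplicit false

namespace Cfsg.Agent.Lib.M24Nse65.Thirty

/-- Linear tables moving the first dual vector to each dual vector. -/
def repTab : List ℕ := [18364758544493064720,
  18364758544493064720,
  18282773019571545120,
  16112567834934535200,
  15659555090190288960,
  4066067423308735920,
  13778673066841327680,
  11319144720916269120,
  10494222506500993920,
  12236259894154778160,
  9529565590517545920,
  9520032824706947520,
  6732458459803071360,
  4796044659625012320,
  2398146510454543920,
  1813401767952954240]

/-- Their inverses. -/
def repInv : List ℕ := [18364758544493064720,
  18364758544493064720,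
  17863200012815733120,
  16714764584102298000,
  8931600006407866560,
  7190301088718256720,
  16894123028883036480,
  8855039980955847120,
  13076551101101649120,
  14676544992939611760,
  14317269079835989920,
  13168903745523591120,
  12459267131755275360,
  13569983039165931120,
  6603550811139940320,
  11923346953555488240]

/-- An element of order seven fixing the first dual vector. -/
def g7 : ℕ := 13474262621227602960

/-- An element of order three fixing the first dual vector. -/
def g3 : ℕ := 11159634794182505520

/-- Schreier elements as words in `g7` (false) and `g3` (true). -/
def schreier : List (List Bool) := [[],
  [],
  [],
  [],
  [true, true, false, true, false, true, false, false, false, false, true],
  [],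
  [],
  [false, false, true, true, false, false, false, true, false, false, true],
  [true, true, false, true, true, false, false, false, true, true, false, false, false],
  [],
  [true, true, false, false, false, true, false, true, true, false, true],
  [],
  [],
  [],
  [],
  [true, true, false, false, true, true, false, true, false],
  [],
  [],
  [true, false, true, false, false, false, false, true, false, true, false],
  [true, false, true, false, true, false, false, false, false, false],
  [],
  [],
  [true, false, false, true, false, true],
  [false, true, false, false, true, false, true, false, false, true],
  [],
  [],
  [true, false, false, false, false, true, false, true, false, true, false],
  [false, true, false, true, false, false, false, false, false, true],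
  [false, false, true, false, false, false, false, true, true, false, false, false],
  [false, false, true, false, false, false, true, false, false, true, false, true]]

end Cfsg.Agent.Lib.M24Nse65.Thirty
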