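import Cfsg.Agent.Lib.M24Nse65.Linear
import Cfsg.Agent.Lib.M24Nse65.ThirtyTables

/-!
The thirty conjugates of rank eight: two over each hyperplane of `A`, with an equivariant choice.
-/

set_option autoImplicit false
set_option linter.unusedSectionVars false
set_option maxRecDepth 100000

namespace Cfsg.Agent.Lib.M24Nse65

universe u

/-- The dual vector under a vertex adjacent to the base vertex. -/
def pOf (i : ℕ) : ℕ := (i + 1) / 2

/-- Exchange of the two vertices over each dual vector. -/
def flip30 (i : ℕ) : ℕ := if i = 0 then 0 else if i % 2 = 1 then i + 1 else i - 1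

/-- A numbering of the thirty conjugates of rank eight compatible with the generators. -/
structure Lab30 {G : Type u} [Group G] {A : Subgroup G} (C : Coord A) (lab : ℕ → Subgroup G) :
    Prop where
  base : lab 0 = A
  rel : ∀ i, 1 ≤ i → i ≤ 30 → Rel A 8 A (lab i)
  fix : ∀ i v, 1 ≤ i → i ≤ 30 → v < 16 →
    (C.e v ∈ fixA A (lab i) ↔ dot (pOf i) v = false)
  inj : ∀ i j, i ≤ 30 → j ≤ 30 → lab i = lab j → i = j
  surj : ∀ B, Rel A 8 A B → ∃ i, 1 ≤ i ∧ i ≤ 30 ∧ lab i = B
  equiv : ∀ j i, j < 3 → i ≤ 30 → cj (C.gen j) (lab i) = lab (vmap j i)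

namespace Thirty

variable {G : Type u} [Group G] {A : Subgroup G}

/-- The conjugates of rank eight over the dual vector `p`. -/
def Fib (C : Coord A) (p : ℕ) (B : Subgroup G) : Prop :=
  Rel A 8 A B ∧ ∀ v, v < 16 → (C.e v ∈ fixA A B ↔ dot p v = false)

/-- The dual vector of a translation `v`: some vector on which `p` does not vanish. -/
def tOf (p : ℕ) : ℕ :=
  if p.testBit 0 then 1 else if p.testBit 1 then 2 else if p.testBit 2 then 4 else 8

theorem tOf_spec : (List.range 15).all
    (fun i => decide (tOf (i + 1) < 16) && dot (i + 1) (tOf (i + 1))) = true := by decide +kernel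

theorem dot_sep : (List.range 15).all (fun i => (List.range 15).all fun j => decide (i = j) ||
    (List.range 16).any fun v => dot (i + 1) v != dot (j + 1) v) = true := by decide +kernel

theorem fib_unique {C : Coord A} {p q : ℕ} {B : Subgroup G} (hp : 1 ≤ p) (hp' : p < 16)
    (hq : 1 ≤ q) (hq' : q < 16) (h : Fib C p B) (h' : Fib C q B) : p = q := by
  have := dot_sep
  simp only [List.all_eq_true, List.any_eq_true, List.mem_range, Bool.or_eq_true,
    decide_eq_true_eq] at this
  rcases this (p - 1) (by omega) (q - 1) (by omega) with e | ⟨v, hv, e⟩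
  · omega
  · rw [show p - 1 + 1 = p by omega, show q - 1 + 1 = q by omega] at e
    have h1 := h.2 v hv
    have h2 := h'.2 v hv
    cases hd : dot p v <;> cases hd' : dot q v <;> simp_all

theorem xor_bits : (List.range 16).all (fun v =>
    decide ((if v.testBit 0 then 1 else 0) ^^^ ((if v.testBit 1 then 2 else 0) ^^^
      ((if v.testBit 2 then 4 else 0) ^^^ (if v.testBit 3 then 8 else 0))) = v)) = true := by
  decide +kernel

theorem dot_xor : (List.range 16).all (fun p => (List.range 16).all fun v => (List.range 16).all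
    fun w => dot p (v ^^^ w) == (dot p v != dot p w)) = true := by decide +kernel

theorem dot_add {p v w : ℕ} (hp : p < 16) (hv : v < 16) (hw : w < 16) :
    dot p (v ^^^ w) = (dot p v != dot p w) := by
  have := dot_xor
  simp only [List.all_eq_true, List.mem_range, beq_iff_eq] at this
  exact this p hp v hv w hw

theorem dual_exists : (List.range 16).all (fun m => (List.range 16).any fun p =>
    (dot p 1 == m.testBit 0) && (dot p 2 == m.testBit 1) && (dot p 4 == m.testBit 2) &&
      (dot p 8 == m.testBit 3)) = true := by decide +kernel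

variable [Finite G]

/-- A subgroup of index two is the kernel of a dual vector. -/
theorem exists_kernel (L : Local A) (C : Coord A) (U : Subgroup G) (hU : U ≤ A)
    (hc : Nat.card U = 8) : ∃ p, 1 ≤ p ∧ p < 16 ∧ ∀ v, v < 16 → (C.e v ∈ U ↔ dot p v = false) := by
  classical
  have hidx : (U.subgroupOf A).index = 2 := by
    have h := (U.subgroupOf A).card_mul_index
    rw [Nat.card_congr (Subgroup.subgroupOfEquivOfLe hU).toEquiv, hc, L.card] at h
    omega
  let b : ℕ → Bool := fun v => decide (C.e v ∉ U)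
  have hb : ∀ v w, v < 16 → w < 16 → b (v ^^^ w) = (b v != b w) := by
    intro v w hv hw
    have h := Subgroup.mul_mem_iff_of_index_two hidx (a := ⟨C.e v, C.mem v hv⟩)
      (b := ⟨C.e w, C.mem w hw⟩)
    simp only [Subgroup.mem_subgroupOf, Subgroup.coe_mul] at h
    simp only [b, C.mul v w hv hw]
    by_cases h1 : C.e v ∈ U <;> by_cases h2 : C.e w ∈ U <;> simp_all
  have h0 : b 0 = false := by simp [b, Coord.e_zero C, U.one_mem]
  let m := (if b 1 then 1 else 0) + (if b 2 then 2 else 0) + (if b 4 then 4 else 0) +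
    (if b 8 then 8 else 0)
  have hm : m < 16 := by
    simp only [m]
    split_ifs <;> norm_num
  have hbit : m.testBit 0 = b 1 ∧ m.testBit 1 = b 2 ∧ m.testBit 2 = b 4 ∧ m.testBit 3 = b 8 := by
    simp only [m]
    cases b 1 <;> cases b 2 <;> cases b 4 <;> cases b 8 <;> decide
  have hd := dual_exists
  simp only [List.all_eq_true, List.any_eq_true, List.mem_range, Bool.and_eq_true, beq_iff_eq] at hd
  obtain ⟨p, hp, ⟨⟨p1, p2⟩, p4⟩, p8⟩ := hd m hm
  rw [hbit.1] at p1
  rw [hbit.2.1] at p2
  rw [hbit.2.2.1] at p4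
  rw [hbit.2.2.2] at p8
  have hd0 : dot p 0 = false := by simp [dot]
  have key : ∀ v, v < 16 → b v = dot p v := by
    intro v hv
    have e := xor_bits
    simp only [List.all_eq_true, List.mem_range, decide_eq_true_eq] at e
    have hs : ∀ (c : Bool) (k : ℕ), k < 16 → (if c then k else 0) < 16 := fun c k hk => by
      cases c <;> simp [hk]
    have hk : ∀ (c : Bool) (k : ℕ), dot p k = b k → b (if c then k else 0) =
        dot p (if c then k else 0) := fun c k h => by cases c <;> simp [h, h0, hd0]
    have l1 := hs (v.testBit 0) 1 (by norm_num)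
    have l2 := hs (v.testBit 1) 2 (by norm_num)
    have l4 := hs (v.testBit 2) 4 (by norm_num)
    have l8 := hs (v.testBit 3) 8 (by norm_num)
    rw [← e v hv, hb _ _ l1 (xor_lt16 l2 (xor_lt16 l4 l8)), hb _ _ l2 (xor_lt16 l4 l8), hb _ _ l4 l8,
      dot_add hp l1 (xor_lt16 l2 (xor_lt16 l4 l8)), dot_add hp l2 (xor_lt16 l4 l8),
      dot_add hp l4 l8, hk _ _ p1, hk _ _ p2, hk _ _ p4, hk _ _ p8]
  refine ⟨p, ?_, hp, fun v hv => ?_⟩
  · rcases Nat.eq_zero_or_pos p with rfl | h
    · exfalso
      have hall : A ≤ U := by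
        intro a ha
        obtain ⟨v, hv, rfl⟩ := C.surj a ha
        have := key v hv
        simp [b, dot] at this
        exact this
      have : U = A := le_antisymm hU hall
      rw [this, L.card] at hc
      omega
    · exact h
  · rw [← key v hv]
    simp [b]

theorem exists_fib (L : Local A) (C : Coord A) {B : Subgroup G} (h : Rel A 8 A B) :
    ∃ p, 1 ≤ p ∧ p < 16 ∧ Fib C p B := by
  obtain ⟨p, h1, h2, h3⟩ := exists_kernel L C (fixA A B) inf_le_left h.2.2.2
  exact ⟨p, h1, h2, h, h3⟩

theorem fib_map (C : Coord A) {T p q : ℕ} {B : Subgroup G} (hT : isLin T = true)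
    (hd : ∀ v, v < 16 → dot q (app T v) = dot p v) (h : Fib C p B) :
    Fib C q (cj (C.k T) B) := by
  have hn := C.k_norm T hT
  refine ⟨?_, fun v hv => ?_⟩
  · have := rel_cj (C.k T) h.1
    rwa [norm_cj_A hn] at this
  · obtain ⟨w, hw, rfl⟩ := isLin_surj hT hv
    rw [fixA_cj hn, mem_cj, hd w hw, ← C.k_act T w hT hw]
    rw [show (C.k T)⁻¹ * (C.k T * C.e w * (C.k T)⁻¹) * C.k T = C.e w by group]
    exact h.2 w hw

theorem fib_trans (L : Local A) (C : Coord A) {t p : ℕ} {B : Subgroup G} (ht : t < 16)
    (h : Fib C p B) : Fib C p (cj (C.e t) B) := by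
  refine ⟨?_, fun v hv => ?_⟩
  · have := rel_cj (C.e t) h.1
    rwa [norm_cj_A (C.e_norm ht)] at this
  · rw [fixA_cj (C.e_norm ht), cj_A_fix L (C.mem t ht) (H := fixA A B) inf_le_left]
    exact h.2 v hv

theorem cj_trans_ne (C : Coord A) {t p : ℕ} {B : Subgroup G} (ht : t < 16) (hd : dot p t = true)
    (h : Fib C p B) : cj (C.e t) B ≠ B := by
  intro e
  have := (h.2 t ht).1 ((C.cj_e_fix ht).1 e)
  simp_all

theorem rep_check : (List.range 16).all (fun p => decide (p = 0) ||
    (isLin (repTab.getD p 0) && isLin (repInv.getD p 0) &&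
      (List.range 16).all (fun v =>
        (dot p (app (repTab.getD p 0) v) == dot 1 v) &&
          (dot 1 (app (repInv.getD p 0) v) == dot p v)))) = true := by decide +kernel

theorem rep_spec {p : ℕ} (hp : 1 ≤ p) (hp' : p < 16) :
    isLin (repTab.getD p 0) = true ∧ isLin (repInv.getD p 0) = true ∧
    (∀ v, v < 16 → dot p (app (repTab.getD p 0) v) = dot 1 v) ∧
    (∀ v, v < 16 → dot 1 (app (repInv.getD p 0) v) = dot p v) := by
  have := rep_check
  simp only [List.all_eq_true, List.mem_range, Bool.or_eq_true, decide_eq_true_eq,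
    Bool.and_eq_true, beq_iff_eq] at this
  rcases this p hp' with e | e
  · omega
  · exact ⟨e.1.1, e.1.2, fun v hv => (e.2 v hv).1, fun v hv => (e.2 v hv).2⟩

/-- Each dual vector lies under exactly two conjugates of rank eight. -/
theorem card_fib (L : Local A) (O : Orbits A) (C : Coord A) {p : ℕ} (hp : 1 ≤ p) (hp' : p < 16) :
    Nat.card {B : Subgroup G // Fib C p B} = 2 := by
  classical
  have heq : ∀ q, 1 ≤ q → q < 16 →
      Nat.card {B : Subgroup G // Fib C q B} = Nat.card {B : Subgroup G // Fib C 1 B} := by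
    intro q hq hq'
    obtain ⟨h1, h2, h3, h4⟩ := rep_spec hq hq'
    refine le_antisymm ?_ ?_
    · refine Nat.card_le_card_of_injective
        (fun B => ⟨cj (C.k (repInv.getD q 0)) B.1, fib_map C h2 h4 B.2⟩) fun X Y h => ?_
      exact Subtype.ext (cj_inj (congrArg Subtype.val h))
    · refine Nat.card_le_card_of_injective
        (fun B => ⟨cj (C.k (repTab.getD q 0)) B.1, fib_map C h1 h3 B.2⟩) fun X Y h => ?_
      exact Subtype.ext (cj_inj (congrArg Subtype.val h))
  let f : (Σ i : Fin 15, {B : Subgroup G // Fib C (i.1 + 1) B}) → {B : Subgroup G // Rel A 8 A B} :=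
    fun x => ⟨x.2.1, x.2.2.1⟩
  have hf : Function.Bijective f := by
    constructor
    · rintro ⟨i, B, hB⟩ ⟨j, B', hB'⟩ h
      obtain rfl : B = B' := congrArg Subtype.val h
      have := fib_unique (by omega) (by omega) (by omega) (by omega) hB hB'
      obtain rfl : i = j := Fin.ext (by omega)
      rfl
    · rintro ⟨B, hB⟩
      obtain ⟨q, h1, h2, h3⟩ := exists_fib L C hB
      exact ⟨⟨⟨q - 1, by omega⟩, B, by rw [show q - 1 + 1 = q by omega]; exact h3⟩, rfl⟩
  have hc := Nat.card_congr (Equiv.ofBijective f hf)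
  have h30 : Nat.card {B : Subgroup G // Rel A 8 A B} = 30 := by
    rw [← O.card_eight]
    exact Nat.card_congr (Equiv.subtypeEquivRight fun B => rel_A)
  rw [h30, Nat.card_sigma] at hc
  rw [Finset.sum_congr rfl fun (i : Fin 15) _ => heq (i.1 + 1) (by omega) (by omega)] at hc
  simp at hc
  rw [heq p hp hp']
  omega

theorem fib_other (L : Local A) (O : Orbits A) (C : Coord A) {p : ℕ} (hp : 1 ≤ p) (hp' : p < 16)
    {B B' B'' : Subgroup G} (h : Fib C p B) (h' : Fib C p B') (h'' : Fib C p B'')
    (n : B' ≠ B) (n' : B'' ≠ B) : B' = B'' := by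
  classical
  haveI : Fintype {B : Subgroup G // Fib C p B} := Fintype.ofFinite _
  have hc := card_fib L O C hp hp'
  rw [Nat.card_eq_fintype_card] at hc
  by_contra hne
  have : ({⟨B, h⟩, ⟨B', h'⟩, ⟨B'', h''⟩} : Finset {B : Subgroup G // Fib C p B}).card = 3 :=
    Finset.card_eq_three.2 ⟨_, _, _, fun e => n (congrArg Subtype.val e).symm,
      fun e => n' (congrArg Subtype.val e).symm, fun e => hne (congrArg Subtype.val e), rfl⟩
  have := Finset.card_le_univ ({⟨B, h⟩, ⟨B', h'⟩, ⟨B'', h''⟩} :
    Finset {B : Subgroup G // Fib C p B})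
  omega

/-- An element of odd order fixing the dual vector fixes the conjugates over it. -/
theorem odd_fix (L : Local A) (O : Orbits A) (C : Coord A) {T m : ℕ} {B : Subgroup G}
    (hT : isLin T = true) (hd : ∀ v, v < 16 → dot 1 (app T v) = dot 1 v)
    (hm : C.k T ^ (2 * m + 1) = 1) (h : Fib C 1 B) : cj (C.k T) B = B := by
  by_contra hne
  have h1 := fib_map C hT hd h
  have h2 := fib_map C hT hd h1
  have e : cj (C.k T) (cj (C.k T) B) = B :=
    fib_other L O C le_rfl (by norm_num) h1 h2 h (fun e => hne (cj_inj e)) (Ne.symm hne)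
  rw [cj_cj] at e
  have he : ∀ i, cj ((C.k T * C.k T) ^ i) B = B := by
    intro i
    induction i with
    | zero => rw [pow_zero, cj_one]
    | succ i ih => rw [pow_succ, ← cj_cj, e, ih]
  apply hne
  calc cj (C.k T) B = cj (C.k T * (C.k T * C.k T) ^ m) B := by rw [← cj_cj, he]
    _ = B := by rw [← pow_two, ← pow_mul, ← pow_succ', hm, cj_one]

/-- The table named by a letter. -/
def gT (b : Bool) : ℕ := if b then g3 else g7

/-- The Schreier word of a linear generator at a dual vector. -/
def sWord (j p : ℕ) : List Bool := schreier.getD (15 * (j - 1) + (p - 1)) []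

theorem odd_checks : (decide (foldT (List.replicate 7 g7) = idT) && okT (List.replicate 7 g7) &&
    decide (foldT (List.replicate 3 g3) = idT) && okT (List.replicate 3 g3) &&
    isLin g7 && isLin g3 &&
    (List.range 16).all (fun v =>
      (dot 1 (app g7 v) == dot 1 v) && (dot 1 (app g3 v) == dot 1 v))) = true := by decide +kernel

/-- The image of the first vertex over `p`. -/
def qOf (j p : ℕ) : ℕ := pOf (vmap j (2 * p - 1))

theorem schreier_checks : [1, 2].all (fun j => (List.range 16).all fun p => decide (p = 0) ||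
    (okT [if j = 1 then tA else tB, repTab.getD p 0] &&
      okT (repTab.getD (qOf j p) 0 :: (sWord j p).map gT) &&
      decide (foldT [if j = 1 then tA else tB, repTab.getD p 0] =
        foldT (repTab.getD (qOf j p) 0 :: (sWord j p).map gT)) &&
      decide (1 ≤ qOf j p) && decide (qOf j p < 16) &&
      decide (vmap j (2 * p - 1) = 2 * qOf j p - 1) && decide (vmap j (2 * p) = 2 * qOf j p) &&
      (List.range 16).all (fun v =>
        dot (qOf j p) (app (if j = 1 then tA else tB) v) == dot p v))) = true := by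
  decide +kernel

theorem trans_checks : (List.range 16).all (fun p => decide (p = 0) ||
    (if dot p 1 then decide (vmap 0 (2 * p - 1) = 2 * p) && decide (vmap 0 (2 * p) = 2 * p - 1)
     else decide (vmap 0 (2 * p - 1) = 2 * p - 1) && decide (vmap 0 (2 * p) = 2 * p))) = true := by
  decide +kernel

theorem base_fixed : [0, 1, 2].all (fun j => decide (vmap j 0 = 0)) = true := by decide +kernel

theorem flip_checks : [0, 1, 2].all (fun j => (List.range 31).all fun i =>
    decide (vmap j (flip30 i) = flip30 (vmap j i)) && decide (vmap j i ≤ 30)) = true := by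
  decide +kernel

/-- The conjugate numbered `i`, from a chosen one over the first dual vector. -/
def lab30 (C : Coord A) (B0 : Subgroup G) (i : ℕ) : Subgroup G :=
  if i = 0 then A else if i % 2 = 1 then cj (C.k (repTab.getD (pOf i) 0)) B0
  else cj (C.e (tOf (pOf i))) (cj (C.k (repTab.getD (pOf i) 0)) B0)

theorem lab30_fib (L : Local A) (C : Coord A) {B0 : Subgroup G} (h0 : Fib C 1 B0) {i : ℕ}
    (h1 : 1 ≤ i) (h2 : i ≤ 30) : Fib C (pOf i) (lab30 C B0 i) := by
  have hp : 1 ≤ pOf i ∧ pOf i < 16 := by unfold pOf; omega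
  obtain ⟨hl, -, hd, -⟩ := rep_spec hp.1 hp.2
  have hb := fib_map C hl hd h0
  have hts := tOf_spec
  simp only [List.all_eq_true, List.mem_range, Bool.and_eq_true, decide_eq_true_eq] at hts
  have ht := hts (pOf i - 1) (by omega)
  rw [show pOf i - 1 + 1 = pOf i by omega] at ht
  unfold lab30
  split_ifs with e e'
  · omega
  · exact hb
  · exact fib_trans L C ht.1 hb

theorem lab30_equiv_k (L : Local A) (O : Orbits A) (C : Coord A) {B0 : Subgroup G}
    (h0 : Fib C 1 B0) {j p : ℕ} (hj : j = 1 ∨ j = 2) (hp : 1 ≤ p) (hp' : p < 16) :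
    cj (C.gen j) (lab30 C B0 (2 * p - 1)) = lab30 C B0 (vmap j (2 * p - 1)) ∧
      cj (C.gen j) (lab30 C B0 (2 * p)) = lab30 C B0 (vmap j (2 * p)) := by
  have hs := schreier_checks
  simp only [List.all_eq_true, List.mem_range, Bool.or_eq_true, decide_eq_true_eq,
    Bool.and_eq_true, beq_iff_eq] at hs
  rcases hs j (by rcases hj with rfl | rfl <;> simp) p hp' with e | e
  · omega
  obtain ⟨⟨⟨⟨⟨⟨⟨ok1, ok2⟩, heq⟩, hq1⟩, hq2⟩, hv1⟩, hv2⟩, hdot⟩ := e
  have hgen : C.gen j = C.k (if j = 1 then tA else tB) := by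
    rcases hj with rfl | rfl <;> simp [Coord.gen]
  set t := if j = 1 then tA else tB
  set q := qOf j p
  have ho := odd_checks
  simp only [List.all_eq_true, List.mem_range, decide_eq_true_eq, Bool.and_eq_true,
    beq_iff_eq] at ho
  obtain ⟨⟨⟨⟨⟨⟨f7, o7⟩, f3⟩, o3⟩, l7⟩, l3⟩, hd73⟩ := ho
  have fix : ∀ b, cj (C.k (gT b)) B0 = B0 := by
    intro b
    cases b
    · exact odd_fix L O C (m := 3) l7 (fun v hv => (hd73 v hv).1) (C.k_pow 7 o7 f7) h0
    · exact odd_fix L O C (m := 1) l3 (fun v hv => (hd73 v hv).2) (C.k_pow 3 o3 f3) h0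
  have fixw : ∀ w : List Bool, cj ((w.map gT).map C.k).prod B0 = B0 := by
    intro w
    induction w with
    | nil => simp [cj_one]
    | cons b w ih => simp only [List.map_cons, List.prod_cons]; rw [← cj_cj, ih, fix b]
  have hbase : cj (C.k t) (cj (C.k (repTab.getD p 0)) B0) = cj (C.k (repTab.getD q 0)) B0 := by
    have h1 := C.k_prod ok1
    rw [heq, ← C.k_prod ok2] at h1
    simp only [List.map_cons, List.map_nil, List.prod_cons, List.prod_nil, mul_one] at h1
    rw [cj_cj, h1, ← cj_cj, fixw]
  have hodd : ∀ r, 1 ≤ r → lab30 C B0 (2 * r - 1) = cj (C.k (repTab.getD r 0)) B0 := by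
    intro r hr
    rw [lab30, if_neg (by omega), if_pos (by omega), show pOf (2 * r - 1) = r by unfold pOf; omega]
  have first : cj (C.gen j) (lab30 C B0 (2 * p - 1)) = lab30 C B0 (vmap j (2 * p - 1)) := by
    rw [hgen, hodd p hp, hbase, hv1, hodd q hq1]
  refine ⟨first, ?_⟩
  rw [hv2]
  have hevn : ∀ r, 1 ≤ r → r < 16 → Fib C r (lab30 C B0 (2 * r)) ∧
      lab30 C B0 (2 * r) ≠ lab30 C B0 (2 * r - 1) := by
    intro r hr hr'
    have hf := lab30_fib L C h0 (i := 2 * r - 1) (by omega) (by omega)
    rw [show pOf (2 * r - 1) = r by unfold pOf; omega] at hf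
    have hts := tOf_spec
    simp only [List.all_eq_true, List.mem_range, Bool.and_eq_true, decide_eq_true_eq] at hts
    have ht := hts (r - 1) (by omega)
    rw [show r - 1 + 1 = r by omega] at ht
    have e : lab30 C B0 (2 * r) = cj (C.e (tOf r)) (lab30 C B0 (2 * r - 1)) := by
      rw [hodd r hr, lab30, if_neg (by omega), if_neg (by omega),
        show pOf (2 * r) = r by unfold pOf; omega]
    rw [e]
    exact ⟨fib_trans L C ht.1 hf, cj_trans_ne C ht.1 ht.2 hf⟩
  have hqf := lab30_fib L C h0 (i := 2 * q - 1) (by omega) (by omega)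
  rw [show pOf (2 * q - 1) = q by unfold pOf; omega] at hqf
  have hlin : isLin t = true := by
    simp only [okT, Bool.and_eq_true] at ok1
    exact ok1.1.1
  have himg : Fib C q (cj (C.gen j) (lab30 C B0 (2 * p))) := by
    rw [hgen]; exact fib_map C hlin hdot (hevn p hp hp').1
  refine fib_other L O C hq1 hq2 hqf himg (hevn q hq1 hq2).1 ?_ (hevn q hq1 hq2).2
  rw [← hv1, ← first]
  exact fun e => (hevn p hp hp').2 (cj_inj e)

theorem lab30_equiv_trans (L : Local A) (O : Orbits A) (C : Coord A) {B0 : Subgroup G}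
    (h0 : Fib C 1 B0) {p : ℕ} (hp : 1 ≤ p) (hp' : p < 16) :
    cj (C.gen 0) (lab30 C B0 (2 * p - 1)) = lab30 C B0 (vmap 0 (2 * p - 1)) ∧
      cj (C.gen 0) (lab30 C B0 (2 * p)) = lab30 C B0 (vmap 0 (2 * p)) := by
  have hf := lab30_fib L C h0 (i := 2 * p - 1) (by omega) (by omega)
  have hg := lab30_fib L C h0 (i := 2 * p) (by omega) (by omega)
  rw [show pOf (2 * p - 1) = p by unfold pOf; omega] at hf
  rw [show pOf (2 * p) = p by unfold pOf; omega] at hg
  have hne : lab30 C B0 (2 * p) ≠ lab30 C B0 (2 * p - 1) := by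
    have hts := tOf_spec
    simp only [List.all_eq_true, List.mem_range, Bool.and_eq_true, decide_eq_true_eq] at hts
    have ht := hts (p - 1) (by omega)
    rw [show p - 1 + 1 = p by omega] at ht
    have e : lab30 C B0 (2 * p) = cj (C.e (tOf p)) (lab30 C B0 (2 * p - 1)) := by
      simp only [lab30, if_neg (show ¬(2 * p = 0) by omega), if_neg (show ¬(2 * p % 2 = 1) by omega),
        if_neg (show ¬(2 * p - 1 = 0) by omega), if_pos (show (2 * p - 1) % 2 = 1 by omega),
        show pOf (2 * p) = p by unfold pOf; omega, show pOf (2 * p - 1) = p by unfold pOf; omega]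
    rw [e]
    exact cj_trans_ne C ht.1 ht.2 hf
  have hgen : C.gen 0 = C.e 1 := by simp [Coord.gen]
  have h := trans_checks
  simp only [List.all_eq_true, List.mem_range, Bool.or_eq_true, decide_eq_true_eq] at h
  rcases h p hp' with e | e
  · omega
  rw [hgen]
  cases hd : dot p 1
  · simp only [hd, Bool.false_eq_true, if_false, Bool.and_eq_true, decide_eq_true_eq] at e
    rw [e.1, e.2]
    exact ⟨(C.cj_e_fix (by norm_num)).2 ((hf.2 1 (by norm_num)).2 hd),
      (C.cj_e_fix (by norm_num)).2 ((hg.2 1 (by norm_num)).2 hd)⟩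
  · simp only [hd, if_true, Bool.and_eq_true, decide_eq_true_eq] at e
    rw [e.1, e.2]
    exact ⟨fib_other L O C hp hp' hf (fib_trans L C (by norm_num) hf) hg
        (cj_trans_ne C (by norm_num) hd hf) hne,
      fib_other L O C hp hp' hg (fib_trans L C (by norm_num) hg) hf
        (cj_trans_ne C (by norm_num) hd hg) (Ne.symm hne)⟩

/-- The thirty conjugates of rank eight have a numbering compatible with the generators. -/
theorem exists_lab30 (L : Local A) (O : Orbits A) (C : Coord A) : ∃ lab, Lab30 C lab := by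
  classical
  have hc := card_fib L O C (p := 1) le_rfl (by norm_num)
  haveI : Nonempty {B : Subgroup G // Fib C 1 B} := (Nat.card_pos_iff.1 (by omega)).1
  obtain ⟨⟨B0, h0⟩⟩ := ‹Nonempty {B : Subgroup G // Fib C 1 B}›
  have hfib : ∀ i, 1 ≤ i → i ≤ 30 → Fib C (pOf i) (lab30 C B0 i) :=
    fun i h1 h2 => lab30_fib L C h0 h1 h2
  have hinj : ∀ i j, i ≤ 30 → j ≤ 30 → lab30 C B0 i = lab30 C B0 j → i = j := by
    intro i j hi hj e
    rcases Nat.eq_zero_or_pos i with rfl | hi' <;> rcases Nat.eq_zero_or_pos j with rfl | hj'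
    · rfl
    · exact absurd (show lab30 C B0 j = A by rw [← e]; simp [lab30])
        (Ne.symm (hfib j hj' hj).1.2.2.1)
    · exact absurd (show lab30 C B0 i = A by rw [e]; simp [lab30])
        (Ne.symm (hfib i hi' hi).1.2.2.1)
    have hfi := hfib i hi' hi
    rw [e] at hfi
    have hp := fib_unique (by unfold pOf; omega) (by unfold pOf; omega) (by unfold pOf; omega)
      (by unfold pOf; omega) hfi (hfib j hj' hj)
    by_contra hne
    have hr : 1 ≤ pOf i ∧ pOf i < 16 := by unfold pOf; omega
    have hts := tOf_spec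
    simp only [List.all_eq_true, List.mem_range, Bool.and_eq_true, decide_eq_true_eq] at hts
    have ht := hts (pOf i - 1) (by omega)
    rw [show pOf i - 1 + 1 = pOf i by omega] at ht
    have hfo := hfib (2 * pOf i - 1) (by omega) (by omega)
    rw [show pOf (2 * pOf i - 1) = pOf i by unfold pOf; omega] at hfo
    have hne' : lab30 C B0 (2 * pOf i) ≠ lab30 C B0 (2 * pOf i - 1) := by
      have hh : lab30 C B0 (2 * pOf i) = cj (C.e (tOf (pOf i))) (lab30 C B0 (2 * pOf i - 1)) := by
        simp only [lab30, if_neg (show ¬(2 * pOf i = 0) by omega),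
          if_neg (show ¬(2 * pOf i % 2 = 1) by omega), if_neg (show ¬(2 * pOf i - 1 = 0) by omega),
          if_pos (show (2 * pOf i - 1) % 2 = 1 by omega),
          show pOf (2 * pOf i) = pOf i by unfold pOf; omega,
          show pOf (2 * pOf i - 1) = pOf i by unfold pOf; omega]
      rw [hh]
      exact cj_trans_ne C ht.1 ht.2 hfo
    unfold pOf at hp hr
    rcases Nat.lt_or_ge i j with h | h
    · rw [show 2 * pOf i = j by unfold pOf; omega, show j - 1 = i by omega] at hne'
      exact hne' e.symm
    · rw [show 2 * pOf i = i by unfold pOf; omega, show i - 1 = j by omega] at hne'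
      exact hne' e
  refine ⟨lab30 C B0, ⟨by simp [lab30], fun i h1 h2 => (hfib i h1 h2).1,
    fun i v h1 h2 hv => (hfib i h1 h2).2 v hv, hinj, fun B hB => ?_, fun j i hj hi => ?_⟩⟩
  · obtain ⟨p, h1, h2, hf⟩ := exists_fib L C hB
    by_cases e : B = lab30 C B0 (2 * p - 1)
    · exact ⟨2 * p - 1, by omega, by omega, e.symm⟩
    · have a := hfib (2 * p - 1) (by omega) (by omega)
      have b := hfib (2 * p) (by omega) (by omega)
      rw [show pOf (2 * p - 1) = p by unfold pOf; omega] at a
      rw [show pOf (2 * p) = p by unfold pOf; omega] at b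
      refine ⟨2 * p, by omega, by omega, fib_other L O C h1 h2 a b hf ?_ e⟩
      intro h
      have := hinj _ _ (by omega) (by omega) h
      omega
  · have hb := base_fixed
    simp only [List.all_eq_true, decide_eq_true_eq] at hb
    rcases Nat.eq_zero_or_pos i with rfl | hi'
    · rw [hb j (by interval_cases j <;> simp)]
      simp only [lab30, if_true]
      exact norm_cj_A (C.gen_norm j)
    have hk : j = 0 ∨ j = 1 ∨ j = 2 := by omega
    rcases Nat.even_or_odd i with ⟨r, rfl⟩ | ⟨r, rfl⟩
    · rw [show r + r = 2 * r by omega]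
      rcases hk with rfl | h
      · exact (lab30_equiv_trans L O C h0 (by omega) (by omega)).2
      · exact (lab30_equiv_k L O C h0 h (by omega) (by omega)).2
    · rw [show 2 * r + 1 = 2 * (r + 1) - 1 by omega]
      rcases hk with rfl | h
      · exact (lab30_equiv_trans L O C h0 (by omega) (by omega)).1
      · exact (lab30_equiv_k L O C h0 h (by omega) (by omega)).1

end Thirty

open Thirty in
/-- Exchanging the two conjugates over every dual vector gives another numbering. -/
theorem Lab30.flip {G : Type u} [Group G] {A : Subgroup G} {C : Coord A} {lab : ℕ → Subgroup G}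
    (h : Lab30 C lab) : Lab30 C (fun i => lab (flip30 i)) := by
  have hf := flip_checks
  simp only [List.all_eq_true, List.mem_range, Bool.and_eq_true, decide_eq_true_eq] at hf
  have b : ∀ i, 1 ≤ i → i ≤ 30 →
      1 ≤ flip30 i ∧ flip30 i ≤ 30 ∧ pOf (flip30 i) = pOf i ∧ flip30 (flip30 i) = i := by
    have hb : ∀ i, i < 31 → 1 ≤ i →
        1 ≤ flip30 i ∧ flip30 i ≤ 30 ∧ pOf (flip30 i) = pOf i ∧ flip30 (flip30 i) = i := by
      decide +kernel
    exact fun i h1 h2 => hb i (by omega) h1
  refine ⟨by simpa [flip30] using h.base, fun i h1 h2 => h.rel _ (b i h1 h2).1 (b i h1 h2).2.1,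
    fun i v h1 h2 hv => ?_, fun i j hi hj e => ?_, fun B hB => ?_, fun j i hj hi => ?_⟩
  · rw [← (b i h1 h2).2.2.1]
    exact h.fix _ v (b i h1 h2).1 (b i h1 h2).2.1 hv
  · have := h.inj _ _ (by unfold flip30; split_ifs <;> omega) (by unfold flip30; split_ifs <;> omega) e
    unfold flip30 at this
    split_ifs at this <;> omega
  · obtain ⟨i, h1, h2, rfl⟩ := h.surj B hB
    exact ⟨flip30 i, (b i h1 h2).1, (b i h1 h2).2.1, by rw [(b i h1 h2).2.2.2]⟩
  · have := hf j (by interval_cases j <;> simp) i (by omega)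
    rw [h.equiv j _ hj (by unfold flip30; split_ifs <;> omega), this.1]

end Cfsg.Agent.Lib.M24Nse65
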